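import Mathlib

set_option autoImplicit false

namespace Cfsg.Agent.Helper24

variable {G : Type*} [Group G]

/-- If `z = [h, a]` commutes with `a` and `a ^ m = 1`, then `z ^ m = 1`. -/
theorem comm_pow_eq_one (h a : G) (hza : (h * a * h⁻¹ * a⁻¹) * a = a * (h * a * h⁻¹ * a⁻¹))
    (m : ℕ) (ham : a ^ m = 1) : (h * a * h⁻¹ * a⁻¹) ^ m = 1 := by
  set z := h * a * h⁻¹ * a⁻¹ with hz
  have hpow : ∀ k : ℕ, a ^ k * h⁻¹ = h⁻¹ * z ^ k * a ^ k := by
    intro k
    induction k with
    | zero => simp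
    | succ k ihk =>
      have hzk : z ^ k * a = a * z ^ k := (Commute.pow_left (show Commute z a from hza) k)
      have h1 : a * h⁻¹ = h⁻¹ * z * a := by
        rw [hz]; group
      calc a ^ (k + 1) * h⁻¹ = a * (a ^ k * h⁻¹) := by rw [pow_succ']; group
        _ = a * (h⁻¹ * z ^ k * a ^ k) := by rw [ihk]
        _ = (a * h⁻¹) * z ^ k * a ^ k := by group
        _ = h⁻¹ * z * (a * z ^ k) * a ^ k := by rw [h1]; group
        _ = h⁻¹ * z * (z ^ k * a) * a ^ k := by rw [hzk]
        _ = h⁻¹ * z ^ (k + 1) * a ^ (k + 1) := by rw [pow_succ' z k, pow_succ' a k]; group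
  have := hpow m
  rw [ham] at this
  simpa using this

/-- An element of a finite subgroup `H` killed by a power coprime to `|H|` is trivial. -/
theorem eq_one_of_pow_eq_one_of_coprime [Finite G] (H : Subgroup G) (z : G) (hzH : z ∈ H) (m : ℕ)
    (hzm : z ^ m = 1) (hcop : m.Coprime (Nat.card H)) : z = 1 := by
  have hzH' : z ^ (Nat.card H) = 1 := by
    have h3 : (⟨z, hzH⟩ : H) ^ (Nat.card H) = 1 := pow_card_eq_one'
    have h4 := congrArg (fun x : H => (x : G)) h3
    simpa only [Subgroup.coe_pow, Subgroup.coe_one] using h4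
  have h1 : orderOf z ∣ m := orderOf_dvd_of_pow_eq_one hzm
  have h2 : orderOf z ∣ Nat.card H := orderOf_dvd_of_pow_eq_one hzH'
  have : orderOf z ∣ 1 := by
    have := Nat.dvd_gcd h1 h2
    rwa [hcop] at this
  exact orderOf_eq_one_iff.mp (Nat.dvd_one.mp this)

/-- `a ^ (card A) = 1` in `G` for `a ∈ A`. -/
theorem pow_card_subgroup_eq_one [Finite G] (A : Subgroup G) (a : G) (ha : a ∈ A) :
    a ^ (Nat.card A) = 1 := by
  have h3 : (⟨a, ha⟩ : A) ^ (Nat.card A) = 1 := pow_card_eq_one'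
  have h4 := congrArg (fun x : A => (x : G)) h3
  simpa only [Subgroup.coe_pow, Subgroup.coe_one] using h4

/-- Element version: if `a` normalizes `H` (so `[h,a] ∈ H`), `[h,a]` commutes with `a`
and the order of `a` is coprime to `|H|` then `a` commutes with `h`. -/
theorem commute_of_comm_commute_of_coprime [Finite G] (H : Subgroup G) (h a : G)
    (hzH : h * a * h⁻¹ * a⁻¹ ∈ H)
    (hza : (h * a * h⁻¹ * a⁻¹) * a = a * (h * a * h⁻¹ * a⁻¹))
    (m : ℕ) (ham : a ^ m = 1) (hcop : m.Coprime (Nat.card H)) : h * a = a * h := by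
  have hz1 : h * a * h⁻¹ * a⁻¹ = 1 :=
    eq_one_of_pow_eq_one_of_coprime H _ hzH m (comm_pow_eq_one h a hza m ham) hcop
  calc h * a = (h * a * h⁻¹ * a⁻¹) * a * h := by group
    _ = a * h := by rw [hz1]; group

/-- If `A` normalizes `H`, then `⁅H, A⁆ ≤ H`. -/
theorem commutator_le_of_le_normalizer (H A : Subgroup G)
    (hA : A ≤ Subgroup.normalizer (H : Set G)) : ⁅H, A⁆ ≤ H := by
  rw [Subgroup.commutator_le]
  intro h hh a ha
  have := (Subgroup.mem_normalizer_iff.mp (hA ha) h⁻¹).mp (H.inv_mem hh)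
  rw [commutatorElement_def]
  have h2 : h * a * h⁻¹ * a⁻¹ = h * (a * h⁻¹ * a⁻¹) := by group
  rw [h2]
  exact H.mul_mem hh this

/-- Coprime action: `[[H,A],A] = 1` implies `[H,A] = 1`. -/
theorem commutator_eq_bot_of_coprime [Finite G] (H A : Subgroup G)
    (hA : A ≤ Subgroup.normalizer (H : Set G)) (hcop : (Nat.card A).Coprime (Nat.card H))
    (h2 : ⁅⁅H, A⁆, A⁆ = ⊥) : ⁅H, A⁆ = ⊥ := by
  rw [Subgroup.commutator_eq_bot_iff_le_centralizer] at h2 ⊢
  intro h hh
  rw [Subgroup.mem_centralizer_iff]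
  intro a ha
  have hz : h * a * h⁻¹ * a⁻¹ ∈ ⁅H, A⁆ := Subgroup.commutator_mem_commutator hh ha
  have hza := (Subgroup.mem_centralizer_iff.mp (h2 hz)) a ha
  symm
  exact commute_of_comm_commute_of_coprime H h a (commutator_le_of_le_normalizer H A hA hz) hza.symm
    (Nat.card A) (pow_card_subgroup_eq_one A a ha) hcop

/-- Coprime action: `[[H,A],A] = 1` implies `A ≤ C(H)`. -/
theorem le_centralizer_of_coprime [Finite G] (H A : Subgroup G)
    (hA : A ≤ Subgroup.normalizer (H : Set G)) (hcop : (Nat.card A).Coprime (Nat.card H))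
    (h2 : ⁅⁅H, A⁆, A⁆ = ⊥) : A ≤ Subgroup.centralizer (H : Set G) := by
  have := commutator_eq_bot_of_coprime H A hA hcop h2
  rw [Subgroup.commutator_comm, Subgroup.commutator_eq_bot_iff_le_centralizer] at this
  exact this

end Cfsg.Agent.Helper24
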