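import Mathlib

set_option autoImplicit false

namespace Cfsg.Agent.Helper24

open MulOpposite MulAction Subgroup
open scoped Pointwise

universe u

section abelian

variable {G : Type*} [Group G]

/-- the class of the transversal `K` in `N.QuotientDiff` -/
noncomputable def qdOf (N : Subgroup G) [N.Normal] [IsMulCommutative N] [N.FiniteIndex]
    (K : Subgroup G) (hK : N.IsComplement' K) : N.QuotientDiff :=
  Quotient.mk'' (⟨(K : Set G), hK.symm⟩ : N.LeftTransversal)

/-- A complement `K` of an abelian normal Hall subgroup `N` is the stabilizer of the class of the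
transversal `K` in `N.QuotientDiff`. -/
theorem eq_stabilizer_of_isComplement' [Finite G] (N : Subgroup G) [N.Normal] [IsMulCommutative N]
    (hN : (Nat.card N).Coprime N.index) (K : Subgroup G) (hK : N.IsComplement' K) :
    K = stabilizer G (qdOf N K hK) := by
  have hle : K ≤ stabilizer G (qdOf N K hK) := by
    intro k hk
    rw [mem_stabilizer_iff]
    show Quotient.mk'' (op k⁻¹ • (⟨(K : Set G), hK.symm⟩ : N.LeftTransversal)) = Quotient.mk'' _
    congr 1
    apply Subtype.ext
    show op k⁻¹ • (K : Set G) = (K : Set G)
    exact op_smul_coe_set (K.inv_mem hk)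
  have hc : N.IsComplement' (stabilizer G (qdOf N K hK)) :=
    isComplement'_stabilizer_of_coprime hN
  have h1 := hK.card_mul_card
  have h2 := hc.card_mul_card
  have hpos : 0 < Nat.card N := Nat.card_pos
  have hcard : Nat.card (stabilizer G (qdOf N K hK)) ≤ Nat.card K := by
    have : Nat.card N * Nat.card (stabilizer G (qdOf N K hK)) = Nat.card N * Nat.card K := by
      rw [h1, h2]
    exact le_of_eq (Nat.eq_of_mul_eq_mul_left hpos this)
  exact Subgroup.eq_of_le_of_card_ge hle hcard

/-- Schur-Zassenhaus conjugacy, abelian normal Hall subgroup. -/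
theorem sz_conj_abelian [Finite G] (N : Subgroup G) [N.Normal] [IsMulCommutative N]
    (hN : (Nat.card N).Coprime N.index) (K₁ K₂ : Subgroup G) (h₁ : N.IsComplement' K₁)
    (h₂ : N.IsComplement' K₂) : ∃ n ∈ N, K₂ = K₁.map (MulAut.conj n).toMonoidHom := by
  obtain ⟨n, hn⟩ := Subgroup.exists_smul_eq hN (qdOf N K₁ h₁) (qdOf N K₂ h₂)
  refine ⟨n, n.2, ?_⟩
  rw [eq_stabilizer_of_isComplement' N hN K₂ h₂, ← hn]
  conv_rhs => rw [eq_stabilizer_of_isComplement' N hN K₁ h₁]
  exact stabilizer_smul_eq_stabilizer_map_conj (n : G) _

end abelian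

section transport

variable {G : Type*} [Group G]

/-- a conjugate of a complement of a normal subgroup is a complement -/
theorem isComplement'_map_conj [Finite G] (N : Subgroup G) [N.Normal] (K : Subgroup G)
    (hK : N.IsComplement' K) (g : G) : N.IsComplement' (K.map (MulAut.conj g).toMonoidHom) := by
  have hinj : Function.Injective (MulAut.conj g).toMonoidHom := (MulAut.conj g).injective
  have hcard : Nat.card (K.map (MulAut.conj g).toMonoidHom) = Nat.card K :=
    Subgroup.card_map_of_injective hinj
  apply isComplement'_of_card_mul_and_disjoint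
  · rw [hcard]; exact hK.card_mul_card
  · rw [Subgroup.disjoint_def]
    intro x hxN hxK
    obtain ⟨k, hk, rfl⟩ := hxK
    have hkN : k ∈ N := by
      have := (inferInstance : N.Normal).conj_mem _ hxN g⁻¹
      simpa [mul_assoc] using this
    have : k = 1 := Subgroup.disjoint_def.mp hK.disjoint hkN hk
    subst this
    simp

theorem map_conj_map {G' : Type*} [Group G'] (f : G →* G') (K : Subgroup G) (g : G) :
    (K.map (MulAut.conj g).toMonoidHom).map f = (K.map f).map (MulAut.conj (f g)).toMonoidHom := by
  rw [Subgroup.map_map, Subgroup.map_map]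
  congr 1
  ext x
  simp

theorem map_conj_map_conj (K : Subgroup G) (g h : G) :
    (K.map (MulAut.conj g).toMonoidHom).map (MulAut.conj h).toMonoidHom =
      K.map (MulAut.conj (h * g)).toMonoidHom := by
  rw [Subgroup.map_map]
  congr 1
  ext x
  simp [mul_assoc]

end transport

/-- Schur-Zassenhaus conjugacy for a solvable normal Hall subgroup, by induction on `|G|`. -/
theorem sz_conj_aux (n : ℕ) : ∀ (G : Type u) [Group G] [Finite G], Nat.card G = n →
    ∀ (N : Subgroup G) [N.Normal], Group.IsSolvable N → (Nat.card N).Coprime N.index →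
    ∀ K₁ K₂ : Subgroup G, N.IsComplement' K₁ → N.IsComplement' K₂ →
    ∃ g : G, K₂ = K₁.map (MulAut.conj g).toMonoidHom := by
  induction n using Nat.strong_induction_on with
  | _ n ih =>
  intro G _ _ hcardG N _ hsolv hcop K₁ K₂ h₁ h₂
  set N' : Subgroup G := ⁅N, N⁆ with hN'def
  have hN'N : N' ≤ N := Subgroup.commutator_le_self N
  by_cases hN' : N' = ⊥
  · have : IsMulCommutative N := Subgroup.commutator_self_eq_bot_iff.mp hN'
    obtain ⟨g, _, hg⟩ := sz_conj_abelian N hcop K₁ K₂ h₁ h₂
    exact ⟨g, hg⟩
  · -- the quotient by N'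
    have hNbot : N ≠ ⊥ := by
      rintro rfl
      apply hN'
      rw [hN'def]
      exact Subgroup.commutator_bot_left _
    have : Nontrivial N := (Subgroup.nontrivial_iff_ne_bot N).mpr hNbot
    have hlt : N' < N := by
      have h := Group.IsSolvable.commutator_lt_top_of_nontrivial N
      rw [hN'def, ← Subgroup.map_subtype_commutator]
      have h2 : (commutator N).map N.subtype < (⊤ : Subgroup N).map N.subtype :=
        Subgroup.map_subtype_lt_map_subtype.mpr h
      rwa [← MonoidHom.range_eq_map, Subgroup.range_subtype] at h2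
    set π := QuotientGroup.mk' N' with hπ
    have hπs : Function.Surjective π := QuotientGroup.mk'_surjective N'
    have hker : π.ker = N' := QuotientGroup.ker_mk' N'
    set Nb := N.map π with hNb
    have hNbn : Nb.Normal := Subgroup.Normal.map inferInstance π hπs
    have : IsMulCommutative Nb := by
      apply Subgroup.commutator_self_eq_bot_iff.mp
      rw [hNb, ← Subgroup.map_commutator, ← hN'def]
      exact QuotientGroup.map_mk'_self N'
    have hNbidx : Nb.index = N.index := Subgroup.index_map_eq N hπs (by rw [hker]; exact hN'N)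
    have hNbcard : Nat.card Nb ∣ Nat.card N := Subgroup.card_map_dvd N π
    have hcopb : (Nat.card Nb).Coprime Nb.index := by
      rw [hNbidx]
      exact Nat.Coprime.coprime_dvd_left hNbcard hcop
    -- images of complements are complements
    have hcompl : ∀ K : Subgroup G, N.IsComplement' K → Nb.IsComplement' (K.map π) := by
      intro K hK
      apply isComplement'_of_disjoint_and_mul_eq_univ
      · apply Subgroup.disjoint_of_coprime_natCard
        have h3 : Nat.card (K.map π) ∣ Nat.card K := Subgroup.card_map_dvd K π
        have h4 : N.index = Nat.card K := hK.symm.index_eq_card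
        rw [h4] at hcop
        exact Nat.Coprime.coprime_dvd_left hNbcard (Nat.Coprime.coprime_dvd_right h3 hcop)
      · rw [Set.eq_univ_iff_forall]
        intro q
        obtain ⟨g, rfl⟩ := hπs q
        obtain ⟨⟨a, k⟩, hak⟩ := hK.2 g
        simp only at hak
        rw [← hak, map_mul]
        exact Set.mul_mem_mul (Subgroup.mem_map_of_mem π a.2) (Subgroup.mem_map_of_mem π k.2)
    obtain ⟨nb, hnb, hconjb⟩ := sz_conj_abelian Nb hcopb (K₁.map π) (K₂.map π) (hcompl K₁ h₁)
      (hcompl K₂ h₂)
    obtain ⟨n0, hn0, rfl⟩ := hnb
    set K₁' := K₁.map (MulAut.conj n0).toMonoidHom with hK₁'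
    have h₁' : N.IsComplement' K₁' := isComplement'_map_conj N K₁ h₁ n0
    have hK₁'π : K₁'.map π = K₂.map π := by
      rw [hK₁', map_conj_map, hconjb]
    -- the subgroup M = N' K₂
    set M := (K₂.map π).comap π with hM
    have hK₂M : K₂ ≤ M := Subgroup.le_comap_map π K₂
    have hK₁'M : K₁' ≤ M := by
      rw [hM, ← hK₁'π]; exact Subgroup.le_comap_map π K₁'
    have hN'M : N' ≤ M := by
      have : π.ker ≤ M := Subgroup.ker_le_comap π _
      rwa [hker] at this
    -- complements inside M
    have hcomplM : ∀ K : Subgroup G, N.IsComplement' K → K.map π = K₂.map π →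
        (N'.subgroupOf M).IsComplement' (K.subgroupOf M) := by
      intro K hK hKπ
      apply isComplement'_of_disjoint_and_mul_eq_univ
      · rw [Subgroup.disjoint_def]
        intro x hx1 hx2
        rw [Subgroup.mem_subgroupOf] at hx1 hx2
        have := Subgroup.disjoint_def.mp hK.disjoint (hN'N hx1) hx2
        exact Subtype.ext this
      · rw [Set.eq_univ_iff_forall]
        intro m
        have hm : π (m : G) ∈ K.map π := by
          rw [hKπ]; exact m.2
        obtain ⟨k, hk, hkm⟩ := hm
        have hkM : k ∈ M := by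
          rw [hM, Subgroup.mem_comap, ← hKπ]; exact Subgroup.mem_map_of_mem π hk
        have hmk : (m : G) * k⁻¹ ∈ N' := by
          rw [← hker, MonoidHom.mem_ker, map_mul, map_inv, hkm]
          simp
        refine ⟨⟨(m : G) * k⁻¹, M.mul_mem m.2 (M.inv_mem hkM)⟩, ?_, ⟨k, hkM⟩, ?_, ?_⟩
        · rw [SetLike.mem_coe, Subgroup.mem_subgroupOf]; exact hmk
        · rw [SetLike.mem_coe, Subgroup.mem_subgroupOf]; exact hk
        · apply Subtype.ext; simp
    have hc₂ := hcomplM K₂ h₂ rfl
    have hc₁ := hcomplM K₁' h₁' hK₁'π
    -- cardinalities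
    have hcardN'M : Nat.card (N'.subgroupOf M) = Nat.card N' :=
      Nat.card_congr (Subgroup.subgroupOfEquivOfLe hN'M).toEquiv
    have hcardK₂M : Nat.card (K₂.subgroupOf M) = Nat.card K₂ :=
      Nat.card_congr (Subgroup.subgroupOfEquivOfLe hK₂M).toEquiv
    have hcopM : (Nat.card (N'.subgroupOf M)).Coprime (N'.subgroupOf M).index := by
      rw [hc₂.symm.index_eq_card, hcardN'M, hcardK₂M]
      have h4 : N.index = Nat.card K₂ := h₂.symm.index_eq_card
      rw [← h4]
      exact Nat.Coprime.coprime_dvd_left (Subgroup.card_dvd_of_le hN'N) hcop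
    have hMlt : Nat.card M < n := by
      rw [← hcardG]
      have hne : M ≠ ⊤ := by
        intro hMtop
        have h5 : K₂.map π = ⊤ := by
          have : (K₂.map π).comap π = (⊤ : Subgroup _).comap π := by rw [← hM, hMtop]; rfl
          exact Subgroup.comap_injective hπs this
        have h6 : Nb = ⊥ := by
          have := (hcompl K₂ h₂).disjoint
          rw [h5] at this
          exact disjoint_top.mp this
        have h7 : N ≤ N' := by
          rw [← hker]
          intro x hx
          rw [MonoidHom.mem_ker]
          have : π x ∈ Nb := Subgroup.mem_map_of_mem π hx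
          rw [h6, Subgroup.mem_bot] at this
          exact this
        exact absurd (lt_of_lt_of_le hlt h7) (lt_irrefl _)
      have hle : Nat.card M ≤ Nat.card G := Subgroup.card_le_card_group M
      rcases lt_or_eq_of_le hle with h | h
      · exact h
      · exact absurd ((Subgroup.card_eq_iff_eq_top M).mp h) hne
    have : Group.IsSolvable (N'.subgroupOf M) := by
      let f : (N'.subgroupOf M) →* N :=
        { toFun := fun x => ⟨((x : M) : G), hN'N (Subgroup.mem_subgroupOf.mp x.2)⟩
          map_one' := rfl
          map_mul' := fun _ _ => rfl }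
      have hf : Function.Injective f := by
        intro x y hxy
        have : ((x : M) : G) = ((y : M) : G) := congrArg (fun z : N => (z : G)) hxy
        exact Subtype.ext (Subtype.ext this)
      exact Group.isSolvable_of_isSolvable_injective hf
    obtain ⟨m, hm⟩ := ih (Nat.card M) hMlt M rfl (N'.subgroupOf M) inferInstance hcopM
      (K₁'.subgroupOf M) (K₂.subgroupOf M) hc₁ hc₂
    refine ⟨(m : G) * n0, ?_⟩
    have h8 := congrArg (Subgroup.map M.subtype) hm
    rw [Subgroup.map_subgroupOf_eq_of_le hK₂M, map_conj_map, Subgroup.map_subgroupOf_eq_of_le hK₁'M,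
      hK₁', map_conj_map_conj] at h8
    exact h8

/-- **Schur-Zassenhaus conjugacy**: if `N` is a solvable normal Hall subgroup of the finite
group `G`, then any two complements of `N` are conjugate. -/
theorem sz_conj {G : Type u} [Group G] [Finite G] (N : Subgroup G) [N.Normal]
    (hsolv : Group.IsSolvable N) (hcop : (Nat.card N).Coprime N.index) (K₁ K₂ : Subgroup G)
    (h₁ : N.IsComplement' K₁) (h₂ : N.IsComplement' K₂) :
    ∃ g : G, K₂ = K₁.map (MulAut.conj g).toMonoidHom :=
  sz_conj_aux (Nat.card G) G rfl N hsolv hcop K₁ K₂ h₁ h₂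

end Cfsg.Agent.Helper24
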