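import Mathlib
import Cfsg.Agent.Lib.Helper24.SZConj
import Cfsg.Agent.Lib.Helper24.Coprime

set_option autoImplicit false

namespace Cfsg.Agent.Helper24

open Subgroup
open scoped commutatorElement

universe u

variable {G : Type u} [Group G]

/-- conjugating a subgroup by one of its elements does nothing -/
theorem map_conj_eq_self_of_mem (A : Subgroup G) (a : G) (ha : a ∈ A) :
    A.map (MulAut.conj a).toMonoidHom = A := by
  ext x
  constructor
  · rintro ⟨y, hy, rfl⟩
    exact A.mul_mem (A.mul_mem ha hy) (A.inv_mem ha)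
  · intro hx
    refine ⟨a⁻¹ * x * a, A.mul_mem (A.mul_mem (A.inv_mem ha) hx) ha, ?_⟩
    simp [mul_assoc]

/-- **Schur-Zassenhaus conjugacy, internal form.** Let `N`, `A`, `B` be subgroups of a finite group
with `A` normalizing `N`, `N` solvable, `|N|` coprime to `|A|`, `|B| = |A|` and `B ≤ N A`.
Then `B = n A n⁻¹` for some `n ∈ N`. -/
theorem sz_conj_internal [Finite G] (N A B : Subgroup G)
    (hAN : A ≤ normalizer (N : Set G)) (hsolv : Group.IsSolvable N)
    (hcop : (Nat.card N).Coprime (Nat.card A)) (hcard : Nat.card B = Nat.card A)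
    (hB : B ≤ N ⊔ A) : ∃ n ∈ N, B = A.map (MulAut.conj n).toMonoidHom := by
  set M := N ⊔ A with hM
  have hNM : N ≤ M := le_sup_left
  have hAM : A ≤ M := le_sup_right
  have hMN : M ≤ normalizer (N : Set G) := sup_le le_normalizer hAN
  have hNn : (N.subgroupOf M).Normal := normal_subgroupOf_of_le_normalizer hMN
  have hcN : Nat.card (N.subgroupOf M) = Nat.card N :=
    Nat.card_congr (subgroupOfEquivOfLe hNM).toEquiv
  have hcA : Nat.card (A.subgroupOf M) = Nat.card A :=
    Nat.card_congr (subgroupOfEquivOfLe hAM).toEquiv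
  have hcB : Nat.card (B.subgroupOf M) = Nat.card B :=
    Nat.card_congr (subgroupOfEquivOfLe hB).toEquiv
  have hdisjA : Disjoint (N.subgroupOf M) (A.subgroupOf M) := by
    apply disjoint_of_coprime_natCard
    rw [hcN, hcA]; exact hcop
  have hdisjB : Disjoint (N.subgroupOf M) (B.subgroupOf M) := by
    apply disjoint_of_coprime_natCard
    rw [hcN, hcB, hcard]; exact hcop
  have hcA' : (N.subgroupOf M).IsComplement' (A.subgroupOf M) := by
    apply isComplement'_of_disjoint_and_mul_eq_univ hdisjA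
    rw [Set.eq_univ_iff_forall]
    intro m
    have htop : N.subgroupOf M ⊔ A.subgroupOf M = ⊤ := by
      rw [← subgroupOf_sup hNM hAM, subgroupOf_self]
    have hm : m ∈ N.subgroupOf M ⊔ A.subgroupOf M := by rw [htop]; trivial
    obtain ⟨y, hy, z, hz, hyz⟩ := mem_sup_of_normal_left.mp hm
    exact ⟨y, hy, z, hz, hyz⟩
  have hcB' : (N.subgroupOf M).IsComplement' (B.subgroupOf M) := by
    apply isComplement'_of_card_mul_and_disjoint _ hdisjB
    rw [hcB, hcard, ← hcA]
    exact hcA'.card_mul_card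
  have hsolv' : Group.IsSolvable (N.subgroupOf M) :=
    Group.isSolvable_of_isSolvable_injective (f := (subgroupOfEquivOfLe hNM).toMonoidHom)
      (subgroupOfEquivOfLe hNM).injective
  have hcop' : (Nat.card (N.subgroupOf M)).Coprime (N.subgroupOf M).index := by
    rw [hcA'.symm.index_eq_card, hcN, hcA]; exact hcop
  obtain ⟨m, hm⟩ := sz_conj (N.subgroupOf M) hsolv' hcop' (A.subgroupOf M) (B.subgroupOf M) hcA' hcB'
  -- write m = n * a
  have htop : N.subgroupOf M ⊔ A.subgroupOf M = ⊤ := by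
    rw [← subgroupOf_sup hNM hAM, subgroupOf_self]
  have hmm : m ∈ N.subgroupOf M ⊔ A.subgroupOf M := by rw [htop]; trivial
  obtain ⟨y, hy, z, hz, hyz⟩ := mem_sup_of_normal_left.mp hmm
  refine ⟨(y : G), mem_subgroupOf.mp hy, ?_⟩
  have h8 := congrArg (Subgroup.map M.subtype) hm
  rw [map_subgroupOf_eq_of_le hB, map_conj_map, map_subgroupOf_eq_of_le hAM] at h8
  rw [h8, ← hyz]
  have : M.subtype (y * z) = (y : G) * (z : G) := rfl
  rw [this, ← map_conj_map_conj, map_conj_eq_self_of_mem A (z : G) (mem_subgroupOf.mp hz)]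

/-- **Fixed points lift (coprime action).** `A` normalizes `H ≥ N`, `N` is `A`-invariant and
solvable, `|A|` is coprime to `|H|`. If `h ∈ H` satisfies `[h, a] ∈ N` for all `a ∈ A`, then
`h = n * c` with `n ∈ N` and `c ∈ C_H(A)`. (`N` need not be normal in `H`.) -/
theorem exists_mul_centralizer_of_comm_mem [Finite G] (H N A : Subgroup G) (hNH : N ≤ H)
    (hAH : A ≤ normalizer (H : Set G)) (hAN : A ≤ normalizer (N : Set G))
    (hcop : (Nat.card A).Coprime (Nat.card H)) (hsolv : Group.IsSolvable N)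
    (h : G) (hh : h ∈ H) (hcomm : ∀ a ∈ A, h * a * h⁻¹ * a⁻¹ ∈ N) :
    ∃ n ∈ N, ∃ c ∈ H ⊓ centralizer (A : Set G), h = n * c := by
  set B := A.map (MulAut.conj h).toMonoidHom with hB
  have hcardB : Nat.card B = Nat.card A := card_map_of_injective (MulAut.conj h).injective
  have hBle : B ≤ N ⊔ A := by
    rintro x ⟨a, ha, rfl⟩
    have : (MulAut.conj h).toMonoidHom a = (h * a * h⁻¹ * a⁻¹) * a := by simp
    rw [this]
    exact mul_mem_sup (hcomm a ha) ha
  have hcopN : (Nat.card N).Coprime (Nat.card A) :=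
    (Nat.Coprime.coprime_dvd_right (card_dvd_of_le hNH) hcop).symm
  obtain ⟨n, hn, hBn⟩ := sz_conj_internal N A B hAN hsolv hcopN hcardB hBle
  -- c = n⁻¹ h normalizes A, lies in H, hence centralizes A
  set c := n⁻¹ * h with hc
  have hcH : c ∈ H := H.mul_mem (H.inv_mem (hNH hn)) hh
  have hcA : ∀ a ∈ A, c * a * c⁻¹ ∈ A := by
    intro a ha
    have h1 : h * a * h⁻¹ ∈ B := ⟨a, ha, by simp⟩
    rw [hBn] at h1
    obtain ⟨a', ha', ha'eq⟩ := h1
    have : c * a * c⁻¹ = a' := by
      have h2 : n * a' * n⁻¹ = h * a * h⁻¹ := by simpa using ha'eq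
      rw [hc]
      calc n⁻¹ * h * a * (n⁻¹ * h)⁻¹ = n⁻¹ * (h * a * h⁻¹) * n := by group
        _ = n⁻¹ * (n * a' * n⁻¹) * n := by rw [h2]
        _ = a' := by group
    rw [this]; exact ha'
  refine ⟨n, hn, c, ⟨hcH, ?_⟩, by rw [hc]; group⟩
  show c ∈ centralizer (A : Set G)
  rw [mem_centralizer_iff]
  intro a ha
  -- [c, a] ∈ H ∩ A = 1
  have hdisj : Disjoint A H := disjoint_of_coprime_natCard hcop
  have h1 : c * a * c⁻¹ * a⁻¹ ∈ A := A.mul_mem (hcA a ha) (A.inv_mem ha)
  have h2 : c * a * c⁻¹ * a⁻¹ ∈ H := by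
    have h3 : a * c⁻¹ * a⁻¹ ∈ H := (mem_normalizer_iff.mp (hAH ha) c⁻¹).mp (H.inv_mem hcH)
    have h4 : c * a * c⁻¹ * a⁻¹ = c * (a * c⁻¹ * a⁻¹) := by group
    rw [h4]; exact H.mul_mem hcH h3
  have h5 : c * a * c⁻¹ * a⁻¹ = 1 := disjoint_def.mp hdisj h1 h2
  calc a * c = (c * a * c⁻¹ * a⁻¹)⁻¹ * (c * a) := by group
    _ = c * a := by rw [h5]; group

/-- a subgroup of a solvable subgroup is solvable -/
theorem isSolvable_of_le (N H : Subgroup G) (hNH : N ≤ H) (hH : Group.IsSolvable H) :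
    Group.IsSolvable N :=
  Group.isSolvable_of_isSolvable_injective (f := Subgroup.inclusion hNH)
    (Subgroup.inclusion_injective hNH)

/-- **Coprime action**: `H = [H,A] C_H(A)` (elementwise), `H` solvable. -/
theorem exists_commutator_mul_centralizer [Finite G] (H A : Subgroup G)
    (hAH : A ≤ normalizer (H : Set G)) (hcop : (Nat.card A).Coprime (Nat.card H))
    (hsolv : Group.IsSolvable H) (h : G) (hh : h ∈ H) :
    ∃ n ∈ ⁅H, A⁆, ∃ c ∈ H ⊓ centralizer (A : Set G), h = n * c :=
  exists_mul_centralizer_of_comm_mem H ⁅H, A⁆ A (commutator_le_of_le_normalizer H A hAH) hAH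
    (normalizer_commutator_ge_right H A) hcop
    (isSolvable_of_le _ H (commutator_le_of_le_normalizer H A hAH) hsolv) h hh
    (fun _ ha => commutator_mem_commutator hh ha)

/-- **Coprime action**: `H = [H,A] ⊔ C_H(A)`, `H` solvable. -/
theorem eq_commutator_sup_centralizer [Finite G] (H A : Subgroup G)
    (hAH : A ≤ normalizer (H : Set G)) (hcop : (Nat.card A).Coprime (Nat.card H))
    (hsolv : Group.IsSolvable H) : H = ⁅H, A⁆ ⊔ (H ⊓ centralizer (A : Set G)) := by
  apply le_antisymm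
  · intro h hh
    obtain ⟨n, hn, c, hc, rfl⟩ := exists_commutator_mul_centralizer H A hAH hcop hsolv h hh
    exact mul_mem_sup hn hc
  · exact sup_le (commutator_le_of_le_normalizer H A hAH) inf_le_left

/-- **Coprime action**: `[[H,A],A] = [H,A]`, `H` solvable. -/
theorem commutator_commutator_eq [Finite G] (H A : Subgroup G)
    (hAH : A ≤ normalizer (H : Set G)) (hcop : (Nat.card A).Coprime (Nat.card H))
    (hsolv : Group.IsSolvable H) : ⁅⁅H, A⁆, A⁆ = ⁅H, A⁆ := by
  apply le_antisymm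
  · exact commutator_mono (commutator_le_of_le_normalizer H A hAH) le_rfl
  · rw [commutator_le]
    intro h hh a ha
    obtain ⟨n, hn, c, hc, rfl⟩ := exists_commutator_mul_centralizer H A hAH hcop hsolv h hh
    have hca : a * c = c * a := (mem_centralizer_iff.mp hc.2) a ha
    have : ⁅n * c, a⁆ = ⁅n, a⁆ := by
      rw [commutatorElement_def, commutatorElement_def]
      calc n * c * a * (n * c)⁻¹ * a⁻¹ = n * (c * a) * c⁻¹ * n⁻¹ * a⁻¹ := by group
        _ = n * (a * c) * c⁻¹ * n⁻¹ * a⁻¹ := by rw [hca]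
        _ = n * a * n⁻¹ * a⁻¹ := by group
    rw [this]
    exact commutator_mem_commutator hn ha

end Cfsg.Agent.Helper24
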