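import Mathlib

set_option autoImplicit false

namespace Cfsg.Agent.Helper24

section
variable {H : Type*} [CommGroup H] [Finite H]

/-- `n`-torsion subgroup of a commutative group. -/
def torsionKer (H : Type*) [CommGroup H] (n : ℕ) : Subgroup H := (powMonoidHom n : H →* H).ker

theorem mem_torsionKer {n : ℕ} {x : H} : x ∈ torsionKer H n ↔ x ^ n = 1 := by
  unfold torsionKer
  rw [MonoidHom.mem_ker, powMonoidHom_apply]

theorem card_torsionKer_le_of_prime (h : ∀ p : ℕ, p.Prime → Nat.card (torsionKer H p) ≤ p) :
    ∀ n : ℕ, 0 < n → Nat.card (torsionKer H n) ≤ n := by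
  intro n
  induction n using Nat.strong_induction_on with
  | _ n ih =>
    intro hn
    by_cases h1 : n = 1
    · subst h1
      have : torsionKer H 1 = ⊥ := by
        rw [eq_bot_iff]
        intro x hx
        rw [mem_torsionKer, pow_one] at hx
        exact hx
      rw [this, Subgroup.card_bot]
    · have hp : n.minFac.Prime := Nat.minFac_prime h1
      set p := n.minFac with hpdef
      obtain ⟨m, hm⟩ : p ∣ n := Nat.minFac_dvd n
      have hmpos : 0 < m := by
        rcases Nat.eq_zero_or_pos m with h0 | h0
        · rw [h0, mul_zero] at hm; omega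
        · exact h0
      have hmlt : m < n := by
        rw [hm]
        calc m = 1 * m := (one_mul m).symm
          _ < p * m := Nat.mul_lt_mul_of_pos_right hp.one_lt hmpos
      have ihm := ih m hmlt hmpos
      -- the hom x ↦ x^p on torsionKer n
      let g : ↥(torsionKer H n) →* H := (powMonoidHom p : H →* H).comp (torsionKer H n).subtype
      have hrange : g.range ≤ torsionKer H m := by
        rintro _ ⟨x, rfl⟩
        rw [mem_torsionKer]
        show ((x : H) ^ p) ^ m = 1
        rw [← pow_mul, ← hm]
        exact mem_torsionKer.mp x.2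
      have hker : Nat.card g.ker ≤ Nat.card (torsionKer H p) := by
        apply Nat.card_le_card_of_injective
          (fun x : g.ker => (⟨(x : torsionKer H n), by
            have := x.2
            rw [MonoidHom.mem_ker] at this
            exact mem_torsionKer.mpr this⟩ : torsionKer H p))
        intro x y hxy
        have := congrArg Subtype.val hxy
        exact Subtype.ext (Subtype.ext this)
      have hcard : Nat.card (torsionKer H n) = Nat.card g.ker * Nat.card g.range := by
        rw [mul_comm, ← Nat.card_congr (QuotientGroup.quotientKerEquivRange g).toEquiv]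
        exact Subgroup.card_eq_card_quotient_mul_card_subgroup g.ker
      rw [hcard]
      calc Nat.card g.ker * Nat.card g.range ≤ p * m :=
            Nat.mul_le_mul (hker.trans (h p hp)) ((Subgroup.card_le_of_le hrange).trans ihm)
        _ = n := hm.symm

/-- A finite commutative group which is not cyclic contains `p ^ 2` elements of order dividing `p`
for some prime `p`. -/
theorem exists_prime_sq_le_card_torsionKer (hH : ¬ IsCyclic H) :
    ∃ p : ℕ, p.Prime ∧ p ^ 2 ≤ Nat.card (torsionKer H p) := by
  classical
  by_contra hcon
  push_neg at hcon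
  apply hH
  have hle : ∀ p : ℕ, p.Prime → Nat.card (torsionKer H p) ≤ p := by
    intro p hp
    haveI : Fact p.Prime := ⟨hp⟩
    have hpg : IsPGroup p (torsionKer H p) := by
      intro x
      refine ⟨1, ?_⟩
      rw [pow_one]
      exact Subtype.ext (by simpa using mem_torsionKer.mp x.2)
    obtain ⟨k, hk⟩ := IsPGroup.iff_card.mp hpg
    have hlt := hcon p hp
    rw [hk] at hlt ⊢
    have hk1 : k < 2 := (Nat.pow_lt_pow_iff_right hp.one_lt).mp hlt
    calc p ^ k ≤ p ^ 1 := Nat.pow_le_pow_right hp.pos (by omega)
      _ = p := pow_one p
  have hall := card_torsionKer_le_of_prime hle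
  haveI : Fintype H := Fintype.ofFinite H
  apply isCyclic_of_card_pow_eq_one_le
  intro n hn
  have h1 : (Finset.univ.filter (fun a : H => a ^ n = 1)).card = Nat.card (torsionKer H n) := by
    rw [Nat.card_eq_fintype_card, ← Fintype.card_subtype]
    apply Fintype.card_congr
    exact Equiv.subtypeEquivRight (fun a => mem_torsionKer.symm)
  rw [h1]
  exact hall n hn

end

variable {G : Type*} [Group G]

/-- A finite noncyclic abelian subgroup `A` contains a subgroup `B` of exponent `p` and order at
least `p ^ 2` for some prime `p`. -/
theorem exists_elementary_abelian_le_of_not_isCyclic (A : Subgroup G) [Finite A]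
    [hA : IsMulCommutative A] (hcyc : ¬ IsCyclic A) :
    ∃ (p : ℕ) (B : Subgroup G), p.Prime ∧ B ≤ A ∧ (∀ x ∈ B, x ^ p = 1) ∧ p ^ 2 ≤ Nat.card B := by
  letI : CommGroup A := { (inferInstance : Group A) with mul_comm := hA.is_comm.comm }
  obtain ⟨p, hp, hcard⟩ := exists_prime_sq_le_card_torsionKer (H := A) hcyc
  refine ⟨p, (torsionKer A p).map A.subtype, hp, ?_, ?_, ?_⟩
  · rintro _ ⟨x, _, rfl⟩
    exact x.2
  · rintro _ ⟨x, hx, rfl⟩
    have := mem_torsionKer.mp hx
    have h2 := congrArg Subtype.val this
    simpa using h2
  · rw [Subgroup.card_map_of_injective A.subtype_injective]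
    exact hcard

end Cfsg.Agent.Helper24
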