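import Mathlib
import Cfsg.Prelude.Def_Local
import Cfsg.Agent.Lib.Helper55.Cores

set_option autoImplicit false
open Cfsg

namespace Cfsg.Agent.Helper24

open Subgroup

variable {G : Type*} [Group G]

theorem upperPSeries_one (p : ℕ) :
    (upperPSeries p G 1).1 = (pPrimeCore p (G ⧸ (⊥ : Subgroup G))).comap (QuotientGroup.mk' ⊥) := by
  rfl

theorem upperPSeries_two (p : ℕ) :
    (upperPSeries p G 2).1 = (pCore p (G ⧸ (upperPSeries p G 1).1)).comap (QuotientGroup.mk' _) := by
  rfl

theorem upperPSeries_three (p : ℕ) :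
    (upperPSeries p G 3).1 = (pPrimeCore p (G ⧸ (upperPSeries p G 2).1)).comap (QuotientGroup.mk' _) := by
  rfl

/-- The first term of the upper `p`-series is `O_{p'}(G)`. -/
theorem upperPSeries_one_eq [Finite G] (p : ℕ) : (upperPSeries p G 1).1 = pPrimeCore p G := by
  have hinj : Function.Injective (QuotientGroup.mk' (⊥ : Subgroup G)) := by
    rw [← MonoidHom.ker_eq_bot_iff, QuotientGroup.ker_mk']
  have hsurj : Function.Surjective (QuotientGroup.mk' (⊥ : Subgroup G)) :=
    QuotientGroup.mk'_surjective _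
  apply le_antisymm
  · apply Helper55.le_pPrimeCore inferInstance
    rw [upperPSeries_one]
    exact Nat.Coprime.coprime_dvd_left (card_comap_dvd_of_injective _ _ hinj)
      (Helper55.pPrimeCore_coprime p)
  · rw [upperPSeries_one, ← map_le_iff_le_comap]
    apply Helper55.le_pPrimeCore (Subgroup.Normal.map inferInstance _ hsurj)
    exact Nat.Coprime.coprime_dvd_left (card_map_dvd _ _) (Helper55.pPrimeCore_coprime p)

/-- Structure of a finite group of `p`-length one: with `K = O_{p'}(G)` and `S` a Sylow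
`p`-subgroup, `K S` is normal, contains every `p`-subgroup, and `G = N_G(S) K`. -/
theorem plength_one_structure [Finite G] (p : ℕ) [Fact p.Prime] (hpl : PLengthLE p 1 G)
    (S : Sylow p G) :
    (Nat.card (pPrimeCore p G)).Coprime p ∧ (pPrimeCore p G ⊔ (S : Subgroup G)).Normal ∧
      normalizer ((S : Subgroup G) : Set G) ⊔ pPrimeCore p G = ⊤ ∧
      (∀ Q : Subgroup G, IsPGroup p Q → Q ≤ pPrimeCore p G ⊔ (S : Subgroup G)) ∧
      Disjoint (pPrimeCore p G) (S : Subgroup G) := by
  have hcopK : (Nat.card (pPrimeCore p G)).Coprime p := Helper55.pPrimeCore_coprime p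
  set U1 := (upperPSeries p G 1).1 with hU1
  set U2 := (upperPSeries p G 2).1 with hU2
  have hU1eq : U1 = pPrimeCore p G := upperPSeries_one_eq p
  have hU2def : U2 = (pCore p (G ⧸ U1)).comap (QuotientGroup.mk' U1) := upperPSeries_two p
  have hU3 : (pPrimeCore p (G ⧸ U2)).comap (QuotientGroup.mk' U2) = ⊤ := by
    have := hpl
    unfold PLengthLE at this
    rw [show 2 * 1 + 1 = 3 from rfl, upperPSeries_three] at this
    exact this
  have hU1U2 : U1 ≤ U2 := by
    rw [hU2def]
    have : (QuotientGroup.mk' U1).ker ≤ (pCore p (G ⧸ U1)).comap (QuotientGroup.mk' U1) :=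
      ker_le_comap _ _
    rwa [QuotientGroup.ker_mk'] at this
  -- G / U2 is a p'-group
  have hcopQ : (Nat.card (G ⧸ U2)).Coprime p := by
    have h1 : pPrimeCore p (G ⧸ U2) = ⊤ := by
      apply comap_injective (QuotientGroup.mk'_surjective U2)
      rw [hU3]; rfl
    have h2 := Helper55.pPrimeCore_coprime (G := G ⧸ U2) p
    rw [h1, card_top] at h2
    exact h2
  -- every p-subgroup lies in U2
  have hpU2 : ∀ Q : Subgroup G, IsPGroup p Q → Q ≤ U2 := by
    intro Q hQ q hq
    obtain ⟨k, hk⟩ := hQ ⟨q, hq⟩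
    have hk' : q ^ (p ^ k) = 1 := by
      have := congrArg (fun x : Q => (x : G)) hk
      simpa using this
    have h1 : (QuotientGroup.mk' U2 q) ^ (p ^ k) = 1 := by
      rw [← map_pow, hk', map_one]
    have h2 : (QuotientGroup.mk' U2 q) ^ (Nat.card (G ⧸ U2)) = 1 := pow_card_eq_one'
    have h3 : orderOf (QuotientGroup.mk' U2 q) ∣ 1 := by
      have h4 := Nat.dvd_gcd (orderOf_dvd_of_pow_eq_one h1) (orderOf_dvd_of_pow_eq_one h2)
      have h5 : (p ^ k).Coprime (Nat.card (G ⧸ U2)) := (Nat.Coprime.pow_left k hcopQ.symm)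
      rwa [h5] at h4
    have h6 : QuotientGroup.mk' U2 q = 1 := orderOf_eq_one_iff.mp (Nat.dvd_one.mp h3)
    exact (QuotientGroup.eq_one_iff q).mp h6
  have hSU2 : (S : Subgroup G) ≤ U2 := hpU2 _ S.isPGroup'
  -- U2 ≤ U1 ⊔ S
  have hU2le : U2 ≤ U1 ⊔ (S : Subgroup G) := by
    have hsurj := QuotientGroup.mk'_surjective U1
    have h1 : pCore p (G ⧸ U1) ≤ (S : Subgroup G).map (QuotientGroup.mk' U1) := by
      have := Helper55.pCore_le_sylow (S.mapSurjective hsurj)
      rwa [Sylow.coe_mapSurjective] at this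
    rw [hU2def]
    have h2 := comap_mono (f := QuotientGroup.mk' U1) h1
    rw [comap_map_eq, QuotientGroup.ker_mk', sup_comm] at h2
    exact h2
  have hU2eq : U2 = U1 ⊔ (S : Subgroup G) := le_antisymm hU2le (sup_le hU1U2 hSU2)
  have hU2n : U2.Normal := upperPSeries_normal p G 2
  refine ⟨hcopK, ?_, ?_, ?_, ?_⟩
  · rw [← hU1eq, ← hU2eq]; exact hU2n
  · have h1 : normalizer ((S : Subgroup G) : Set G) ⊔ U2 = ⊤ := Sylow.normalizer_sup_eq_top' S hSU2
    rw [← hU1eq]
    rw [hU2eq, sup_comm U1, ← sup_assoc] at h1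
    have h2 : normalizer ((S : Subgroup G) : Set G) ⊔ (S : Subgroup G) =
        normalizer ((S : Subgroup G) : Set G) := sup_of_le_left le_normalizer
    rwa [h2] at h1
  · intro Q hQ
    rw [← hU1eq, ← hU2eq]; exact hpU2 Q hQ
  · apply disjoint_of_coprime_natCard
    obtain ⟨n, hn⟩ := IsPGroup.iff_card.mp S.isPGroup'
    rw [hn]
    exact Nat.Coprime.pow_right n hcopK

end Cfsg.Agent.Helper24
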