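import Mathlib
import Cfsg.Prelude.Def_Local
import Cfsg.Agent.Lib.Helper22.Components
import Cfsg.Agent.Lib.Helper70.Fitting

set_option autoImplicit false
open Cfsg

namespace Cfsg.Agent.Helper24

variable {G : Type*} [Group G]

/-- If `C_G(F(G)) ≤ F(G)` then `G` has no components. -/
theorem layer_eq_bot_of_centralizer_fitting_le [Finite G]
    (h : Subgroup.centralizer (Cfsg.fittingSubgroup G : Set G) ≤ Cfsg.fittingSubgroup G) :
    Cfsg.layer G = ⊥ := by
  unfold Cfsg.layer
  rw [eq_bot_iff]
  refine sSup_le ?_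
  intro K hK
  exfalso
  have hFn : (Cfsg.fittingSubgroup G).Normal := Cfsg.Agent.Helper70.fittingSubgroup_normal G
  have hFnil : Group.IsNilpotent (Cfsg.fittingSubgroup G) :=
    Cfsg.Agent.Helper70.fittingSubgroup_isNilpotent G
  have hFsol : Group.IsSolvable (Cfsg.fittingSubgroup G) := inferInstance
  have hsub : (Cfsg.fittingSubgroup G).IsSubnormal := Subgroup.Normal.isSubnormal hFn
  have h1 := Cfsg.Agent.Helper22.component_commutator_solvable_subnormal hK hsub hFsol
  rw [Subgroup.commutator_eq_bot_iff_le_centralizer] at h1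
  exact Cfsg.Agent.Helper22.IsComponent.not_le_of_isSolvable hK hFsol (h1.trans h)

/-- If `G` has no components then `F*(G) = F(G)`. -/
theorem generalizedFitting_eq_fitting_of_layer_eq_bot (h : Cfsg.layer G = ⊥) :
    Cfsg.generalizedFittingSubgroup G = Cfsg.fittingSubgroup G := by
  unfold Cfsg.generalizedFittingSubgroup
  rw [h, bot_sup_eq]

end Cfsg.Agent.Helper24
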