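import Mathlib

set_option autoImplicit false

namespace Cfsg.Agent.Helper24

variable {G : Type*} [Group G]

/-- Coprime fixed points on a coset: a `p`-subgroup `Q` normalizing a finite subgroup `N` of order
prime to `p` and stabilizing the coset `x N` centralizes some element of `x N`. -/
theorem exists_mul_mem_centralizer_of_isPGroup {p : ℕ} [hp : Fact p.Prime] (Q N : Subgroup G)
    [Finite N] (hQ : IsPGroup p Q) (hN : ¬ p ∣ Nat.card N)
    (hQN : Q ≤ Subgroup.normalizer (N : Set G)) (x : G)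
    (hx : ∀ q ∈ Q, x⁻¹ * (q * x * q⁻¹) ∈ N) :
    ∃ n ∈ N, x * n ∈ Subgroup.centralizer (Q : Set G) := by
  classical
  have hmem : ∀ q : Q, ∀ n : N, x⁻¹ * ((q : G) * (x * n) * (q : G)⁻¹) ∈ N := by
    intro q n
    have h1 : (q : G) * (n : G) * (q : G)⁻¹ ∈ N :=
      (Subgroup.mem_normalizer_iff.mp (hQN q.2) n).mp n.2
    have : x⁻¹ * ((q : G) * (x * n) * (q : G)⁻¹)
        = (x⁻¹ * ((q : G) * x * (q : G)⁻¹)) * ((q : G) * (n : G) * (q : G)⁻¹) := by group
    rw [this]
    exact N.mul_mem (hx q q.2) h1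
  letI : MulAction Q N :=
    { smul := fun q n => ⟨x⁻¹ * ((q : G) * (x * n) * (q : G)⁻¹), hmem q n⟩
      one_smul := by
        intro n
        apply Subtype.ext
        show x⁻¹ * (((1 : Q) : G) * (x * n) * ((1 : Q) : G)⁻¹) = n
        simp
      mul_smul := by
        intro q1 q2 n
        apply Subtype.ext
        show x⁻¹ * (((q1 * q2 : Q) : G) * (x * n) * ((q1 * q2 : Q) : G)⁻¹)
          = x⁻¹ * ((q1 : G) * (x * (x⁻¹ * ((q2 : G) * (x * n) * (q2 : G)⁻¹))) * (q1 : G)⁻¹)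
        simp only [Subgroup.coe_mul]
        group }
  have hsmul : ∀ (q : Q) (n : N), ((q • n : N) : G) = x⁻¹ * ((q : G) * (x * n) * (q : G)⁻¹) :=
    fun _ _ => rfl
  have hne : (MulAction.fixedPoints Q N).Nonempty :=
    hQ.nonempty_fixed_point_of_prime_not_dvd_card N hN
  obtain ⟨n, hn⟩ := hne
  refine ⟨n, n.2, ?_⟩
  rw [Subgroup.mem_centralizer_iff]
  intro q hq
  have h1 := hn ⟨q, hq⟩
  have h2 : ((⟨q, hq⟩ : Q) • n : N) = n := h1
  have h3 := congrArg (fun m : N => (m : G)) h2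
  simp only [hsmul] at h3
  -- h3 : x⁻¹ * (q * (x * n) * q⁻¹) = n
  have h4 : q * (x * n) * q⁻¹ = x * n := by
    have := congrArg (fun y => x * y) h3
    simpa [mul_assoc] using this
  calc q * (x * ↑n) = (q * (x * n) * q⁻¹) * q := by group
    _ = x * n * q := by rw [h4]

end Cfsg.Agent.Helper24
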