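import Mathlib
import Cfsg.Prelude.Def_Local
import Cfsg.Agent.Lib.Helper24.FixedLift
import Cfsg.Agent.Lib.Helper24.FStar
import Cfsg.Agent.Lib.Helper55.Cores
import Cfsg.Agent.Lib.Helper21.PGen

set_option autoImplicit false
open Cfsg

namespace Cfsg.Agent.Helper24

variable {G : Type*} [Group G]

/-- Fixed points of a `p`-subgroup lift modulo a normal `p'`-subgroup:
`C_{G/N}(QN/N) = C_G(Q)N/N`. -/
theorem centralizer_map_mk_of_isPGroup {p : ℕ} [hp : Fact p.Prime] (N Q : Subgroup G) [N.Normal]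
    [Finite N] (hQ : IsPGroup p Q) (hN : ¬ p ∣ Nat.card N) :
    Subgroup.centralizer ((Q.map (QuotientGroup.mk' N) : Subgroup (G ⧸ N)) : Set (G ⧸ N))
      = (Subgroup.centralizer (Q : Set G)).map (QuotientGroup.mk' N) := by
  apply le_antisymm
  · intro y hy
    obtain ⟨x, rfl⟩ := QuotientGroup.mk'_surjective N y
    have hx : ∀ q ∈ Q, x⁻¹ * (q * x * q⁻¹) ∈ N := by
      intro q hq
      have h1 : (QuotientGroup.mk' N q) * (QuotientGroup.mk' N x)
          = (QuotientGroup.mk' N x) * (QuotientGroup.mk' N q) :=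
        (Subgroup.mem_centralizer_iff.mp hy _ (Subgroup.mem_map_of_mem _ hq))
      rw [← QuotientGroup.eq_one_iff]
      have : ((x⁻¹ * (q * x * q⁻¹) : G) : G ⧸ N)
          = (QuotientGroup.mk' N x)⁻¹ * ((QuotientGroup.mk' N q) * (QuotientGroup.mk' N x)
            * (QuotientGroup.mk' N q)⁻¹) := by
        simp
      rw [this, h1]
      group
    have hQN : Q ≤ Subgroup.normalizer (N : Set G) := by
      rw [Subgroup.normalizer_eq_top]; exact le_top
    obtain ⟨n, hn, hc⟩ := exists_mul_mem_centralizer_of_isPGroup Q N hQ hN hQN x hx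
    refine ⟨x * n, hc, ?_⟩
    rw [map_mul]
    have : QuotientGroup.mk' N n = 1 := by
      rw [QuotientGroup.mk'_apply]; exact (QuotientGroup.eq_one_iff n).mpr hn
    rw [this, mul_one]
  · rw [Subgroup.map_le_iff_le_comap]
    intro x hx
    rw [Subgroup.mem_comap, Subgroup.mem_centralizer_iff]
    rintro _ ⟨q, hq, rfl⟩
    rw [← map_mul, ← map_mul, Subgroup.mem_centralizer_iff.mp hx q hq]

end Cfsg.Agent.Helper24

namespace Cfsg.Agent.Helper24

variable {G : Type*} [Group G]

/-- A Sylow `p`-subgroup of `O_{p',p}(G)` maps onto `O_p(G / O_{p'}(G))`. -/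
theorem sylow_pPrimePCore_map_eq [Finite G] {p : ℕ} [hp : Fact p.Prime]
    (P : Sylow p ↥(pPrimePCore p G)) :
    (((P : Subgroup ↥(pPrimePCore p G)).map (pPrimePCore p G).subtype : Subgroup G)).map
      (QuotientGroup.mk' (pPrimeCore p G)) = pCore p (G ⧸ pPrimeCore p G) := by
  set N := pPrimeCore p G with hNdef
  set π := QuotientGroup.mk' N with hπ
  set C := pCore p (G ⧸ N) with hC
  have hM : pPrimePCore p G = C.comap π := rfl
  apply le_antisymm
  · rintro _ ⟨x, ⟨m, _, rfl⟩, rfl⟩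
    have h1 : (m : G) ∈ C.comap π := m.2
    exact h1
  · intro y hy
    -- the surjection M → C
    let f : ↥(C.comap π) →* ↥C := π.subgroupComap C
    have hf : Function.Surjective f :=
      MonoidHom.subgroupComap_surjective_of_surjective π C (QuotientGroup.mk'_surjective N)
    let P' : Sylow p ↥(C.comap π) := P
    have hCp : IsPGroup p C := Cfsg.Agent.Helper55.isPGroup_pCore
    have htop : ((P'.mapSurjective hf : Sylow p ↥C) : Subgroup ↥C) = ⊤ := by
      have h1 : IsPGroup p (⊤ : Subgroup ↥C) := hCp.to_subgroup ⊤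
      exact ((P'.mapSurjective hf).is_maximal' h1 le_top).symm
    have hy' : (⟨y, hy⟩ : ↥C) ∈ ((P'.mapSurjective hf : Sylow p ↥C) : Subgroup ↥C) := by
      rw [htop]; exact Subgroup.mem_top _
    rw [Sylow.coe_mapSurjective] at hy'
    obtain ⟨m, hm, hmy⟩ := hy'
    refine ⟨(m : G), ⟨m, hm, rfl⟩, ?_⟩
    have := congrArg Subtype.val hmy
    exact this

/-- `G` is `p`-constrained iff `O_p(G/O_{p'}(G))` contains its centralizer in `G/O_{p'}(G)`. -/
theorem isPConstrained_iff_quotient [Finite G] {p : ℕ} [hp : Fact p.Prime] :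
    IsPConstrained p G ↔
      Subgroup.centralizer ((pCore p (G ⧸ pPrimeCore p G) : Subgroup (G ⧸ pPrimeCore p G)) :
        Set (G ⧸ pPrimeCore p G)) ≤ pCore p (G ⧸ pPrimeCore p G) := by
  have hNcop : ¬ p ∣ Nat.card (pPrimeCore p G) := by
    have := Cfsg.Agent.Helper55.pPrimeCore_coprime (G := G) p
    intro hdvd
    have h1 : p ∣ Nat.gcd (Nat.card (pPrimeCore p G)) p := Nat.dvd_gcd hdvd dvd_rfl
    rw [Nat.Coprime] at this
    rw [this] at h1
    exact hp.out.one_lt.ne' (Nat.dvd_one.mp h1)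
  constructor
  · intro h
    have P : Sylow p ↥(pPrimePCore p G) := Classical.arbitrary _
    have hP := h P
    have hmap := sylow_pPrimePCore_map_eq P
    have hPp : IsPGroup p (((P : Subgroup ↥(pPrimePCore p G)).map (pPrimePCore p G).subtype :
        Subgroup G)) := P.isPGroup'.map _
    rw [← hmap, centralizer_map_mk_of_isPGroup (pPrimeCore p G) _ hPp hNcop]
    rw [hmap]
    rw [Subgroup.map_le_iff_le_comap]
    exact hP
  · intro h P
    have hmap := sylow_pPrimePCore_map_eq P
    intro x hx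
    show x ∈ (pCore p (G ⧸ pPrimeCore p G)).comap (QuotientGroup.mk' (pPrimeCore p G))
    rw [Subgroup.mem_comap]
    apply h
    rw [← hmap, Subgroup.mem_centralizer_iff]
    rintro _ ⟨q, hq, rfl⟩
    rw [← map_mul, ← map_mul, Subgroup.mem_centralizer_iff.mp hx q hq]

/-- If `O_{p'}(H) = 1` then `F(H) = O_p(H)`. -/
theorem fitting_eq_pCore_of_pPrimeCore_eq_bot {H : Type*} [Group H] [Finite H] {p : ℕ}
    [hp : Fact p.Prime] (h : pPrimeCore p H = ⊥) : fittingSubgroup H = pCore p H := by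
  apply le_antisymm
  · rw [Cfsg.Agent.Helper70.fittingSubgroup_eq_coreJoin]
    unfold Cfsg.Agent.Helper70.coreJoin
    refine iSup_le ?_
    intro q
    have hq : Fact (q : ℕ).Prime := ⟨Nat.prime_of_mem_primeFactors q.2⟩
    by_cases hqp : (q : ℕ) = p
    · rw [hqp]
    · have hqg : IsPGroup (q : ℕ) (pCore (q : ℕ) H) := Cfsg.Agent.Helper55.isPGroup_pCore
      obtain ⟨k, hk⟩ := IsPGroup.iff_card.mp hqg
      have hcop : (Nat.card (pCore (q : ℕ) H)).Coprime p := by
        rw [hk]
        apply Nat.Coprime.pow_left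
        exact (Nat.coprime_primes hq.out hp.out).mpr hqp
      have := Cfsg.Agent.Helper55.le_pPrimeCore (Cfsg.pCore_normal (q : ℕ) H) hcop
      rw [h] at this
      exact this.trans bot_le
  · exact Cfsg.Agent.Helper70.pCore_le_fittingSubgroup

/-- The `p`-layer is trivial iff `G/O_{p'}(G)` has trivial layer. -/
theorem pLayer_eq_bot_iff [Finite G] {p : ℕ} [hp : Fact p.Prime] :
    pLayer p G = ⊥ ↔ layer (G ⧸ pPrimeCore p G) = ⊥ := by
  constructor
  · intro h
    unfold layer
    rw [eq_bot_iff]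
    refine sSup_le ?_
    intro Kbar hK
    exfalso
    have h1 := Cfsg.Agent.Helper21.isPComponent_pGen_comap p Kbar hK
    have h2 : Cfsg.Agent.Helper21.pGen p (Kbar.comap (QuotientGroup.mk' (pPrimeCore p G))) ≤ pLayer p G :=
      le_sSup h1
    rw [h] at h2
    have h3 := Cfsg.Agent.Helper21.map_pGen_comap_eq p Kbar hK
    rw [le_bot_iff.mp h2, Subgroup.map_bot] at h3
    exact Cfsg.Agent.Helper22.IsQuasisimple.ne_bot hK.2 h3.symm
  · intro h
    unfold pLayer
    rw [eq_bot_iff]
    refine sSup_le ?_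
    intro K hK
    exfalso
    have h1 : K.map (QuotientGroup.mk' (pPrimeCore p G)) ≤ layer (G ⧸ pPrimeCore p G) :=
      le_sSup hK.2.1
    rw [h] at h1
    exact Cfsg.Agent.Helper22.IsQuasisimple.ne_bot hK.2.1.2 (le_bot_iff.mp h1)

end Cfsg.Agent.Helper24
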