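import Mathlib

set_option autoImplicit false

namespace Cfsg.Agent.Helper24.GL2Odd

open Matrix
open scoped commutatorElement

variable {F : Type*} [Field F]

/-- a `2 × 2` matrix is non-scalar -/
def NonScalar (n : Matrix (Fin 2) (Fin 2) F) : Prop :=
  n 0 1 ≠ 0 ∨ n 1 0 ≠ 0 ∨ n 0 0 ≠ n 1 1

theorem mul_entries (m n : Matrix (Fin 2) (Fin 2) F) :
    (m * n) 0 0 = m 0 0 * n 0 0 + m 0 1 * n 1 0 ∧ (m * n) 0 1 = m 0 0 * n 0 1 + m 0 1 * n 1 1 ∧
    (m * n) 1 0 = m 1 0 * n 0 0 + m 1 1 * n 1 0 ∧ (m * n) 1 1 = m 1 0 * n 0 1 + m 1 1 * n 1 1 := by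
  simp [Matrix.mul_apply, Fin.sum_univ_two]

omit [Field F] in
theorem ext2 {m n : Matrix (Fin 2) (Fin 2) F} (h00 : m 0 0 = n 0 0) (h01 : m 0 1 = n 0 1)
    (h10 : m 1 0 = n 1 0) (h11 : m 1 1 = n 1 1) : m = n := by
  ext i j
  fin_cases i <;> fin_cases j
  · exact h00
  · exact h01
  · exact h10
  · exact h11

theorem lin_entries (x y : F) (n : Matrix (Fin 2) (Fin 2) F) :
    (x • (1 : Matrix (Fin 2) (Fin 2) F) + y • n) 0 0 = x + y * n 0 0 ∧
    (x • (1 : Matrix (Fin 2) (Fin 2) F) + y • n) 0 1 = y * n 0 1 ∧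
    (x • (1 : Matrix (Fin 2) (Fin 2) F) + y • n) 1 0 = y * n 1 0 ∧
    (x • (1 : Matrix (Fin 2) (Fin 2) F) + y • n) 1 1 = x + y * n 1 1 := by
  simp

/-- the centralizer of a non-scalar `2 × 2` matrix `n` is `F[n]` -/
theorem centralizer_form (n m : Matrix (Fin 2) (Fin 2) F) (hn : NonScalar n)
    (hc : m * n = n * m) : ∃ x y : F, m = x • (1 : Matrix (Fin 2) (Fin 2) F) + y • n := by
  obtain ⟨l00, l01, l10, l11⟩ := mul_entries m n
  obtain ⟨r00, r01, r10, r11⟩ := mul_entries n m
  have h00 : m 0 0 * n 0 0 + m 0 1 * n 1 0 = n 0 0 * m 0 0 + n 0 1 * m 1 0 := by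
    rw [← l00, ← r00, hc]
  have h01 : m 0 0 * n 0 1 + m 0 1 * n 1 1 = n 0 0 * m 0 1 + n 0 1 * m 1 1 := by
    rw [← l01, ← r01, hc]
  have h10 : m 1 0 * n 0 0 + m 1 1 * n 1 0 = n 1 0 * m 0 0 + n 1 1 * m 1 0 := by
    rw [← l10, ← r10, hc]
  by_cases hb : n 0 1 = 0
  · by_cases hcz : n 1 0 = 0
    · have had : n 0 0 ≠ n 1 1 := by
        rcases hn with h | h | h
        · exact absurd hb h
        · exact absurd hcz h
        · exact h
      have had' : n 0 0 - n 1 1 ≠ 0 := sub_ne_zero.mpr had
      have hf : m 0 1 = 0 := by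
        have : m 0 1 * (n 0 0 - n 1 1) = 0 := by
          rw [hb] at h01; linear_combination -h01
        rcases mul_eq_zero.mp this with h | h
        · exact h
        · exact absurd h had'
      have hg : m 1 0 = 0 := by
        have : m 1 0 * (n 0 0 - n 1 1) = 0 := by
          rw [hcz] at h10; linear_combination h10
        rcases mul_eq_zero.mp this with h | h
        · exact h
        · exact absurd h had'
      refine ⟨m 0 0 - (m 0 0 - m 1 1) / (n 0 0 - n 1 1) * n 0 0,
        (m 0 0 - m 1 1) / (n 0 0 - n 1 1), ?_⟩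
      obtain ⟨e00, e01, e10, e11⟩ := lin_entries
        (m 0 0 - (m 0 0 - m 1 1) / (n 0 0 - n 1 1) * n 0 0) ((m 0 0 - m 1 1) / (n 0 0 - n 1 1)) n
      apply ext2
      · rw [e00]; ring
      · rw [e01, hb, hf]; ring
      · rw [e10, hcz, hg]; ring
      · rw [e11]; field_simp; ring
    · have hf : m 0 1 = 0 := by
        have : m 0 1 * n 1 0 = 0 := by
          rw [hb] at h00; linear_combination h00
        rcases mul_eq_zero.mp this with h | h
        · exact h
        · exact absurd h hcz
      refine ⟨m 0 0 - m 1 0 / n 1 0 * n 0 0, m 1 0 / n 1 0, ?_⟩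
      obtain ⟨e00, e01, e10, e11⟩ := lin_entries
        (m 0 0 - m 1 0 / n 1 0 * n 0 0) (m 1 0 / n 1 0) n
      apply ext2
      · rw [e00]; ring
      · rw [e01, hb, hf]; ring
      · rw [e10]; field_simp
      · rw [e11]; field_simp; linear_combination h10
  · refine ⟨m 0 0 - m 0 1 / n 0 1 * n 0 0, m 0 1 / n 0 1, ?_⟩
    obtain ⟨e00, e01, e10, e11⟩ := lin_entries
      (m 0 0 - m 0 1 / n 0 1 * n 0 0) (m 0 1 / n 0 1) n
    apply ext2
    · rw [e00]; ring
    · rw [e01]; field_simp
    · rw [e10]; field_simp; linear_combination -h00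
    · rw [e11]; field_simp; linear_combination -h01


/-- Cayley–Hamilton for `2 × 2` matrices -/
theorem cayley2 (n : Matrix (Fin 2) (Fin 2) F) :
    n * n = n.trace • n - n.det • (1 : Matrix (Fin 2) (Fin 2) F) := by
  obtain ⟨l00, l01, l10, l11⟩ := mul_entries n n
  apply ext2
  · rw [l00]; simp [Matrix.trace_fin_two, Matrix.det_fin_two]; ring
  · rw [l01]; simp [Matrix.trace_fin_two, Matrix.det_fin_two]; ring
  · rw [l10]; simp [Matrix.trace_fin_two, Matrix.det_fin_two]; ring
  · rw [l11]; simp [Matrix.trace_fin_two, Matrix.det_fin_two]; ring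

theorem trace_lin (x y : F) (n : Matrix (Fin 2) (Fin 2) F) :
    (x • (1 : Matrix (Fin 2) (Fin 2) F) + y • n).trace = 2 * x + y * n.trace := by
  obtain ⟨e00, e01, e10, e11⟩ := lin_entries x y n
  rw [Matrix.trace_fin_two, Matrix.trace_fin_two, e00, e11]; ring

theorem det_lin (x y : F) (n : Matrix (Fin 2) (Fin 2) F) :
    (x • (1 : Matrix (Fin 2) (Fin 2) F) + y • n).det = x ^ 2 + x * y * n.trace + y ^ 2 * n.det := by
  obtain ⟨e00, e01, e10, e11⟩ := lin_entries x y n
  rw [Matrix.det_fin_two, Matrix.det_fin_two, Matrix.trace_fin_two, e00, e01, e10, e11]; ring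

/-- a matrix in `F[n]` with the same trace and determinant as `n` (non-zero discriminant) is `n`
or its conjugate `tr n - n` -/
theorem conj_cases (h2 : (2 : F) ≠ 0) (n m : Matrix (Fin 2) (Fin 2) F) (x y : F)
    (hm : m = x • (1 : Matrix (Fin 2) (Fin 2) F) + y • n)
    (htr : m.trace = n.trace) (hdet : m.det = n.det) (hdisc : n.trace ^ 2 ≠ 4 * n.det) :
    m = n ∨ m = n.trace • (1 : Matrix (Fin 2) (Fin 2) F) - n := by
  rw [hm, trace_lin] at htr
  rw [hm, det_lin] at hdet
  have hkey : (1 - y ^ 2) * (n.trace ^ 2 - 4 * n.det) = 0 := by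
    linear_combination 4 * hdet - (2 * x + y * n.trace + n.trace) * htr
  have hd : n.trace ^ 2 - 4 * n.det ≠ 0 := sub_ne_zero.mpr hdisc
  have hy : (1 - y) * (1 + y) = 0 := by
    rcases mul_eq_zero.mp hkey with h | h
    · linear_combination h
    · exact absurd h hd
  rcases mul_eq_zero.mp hy with h | h
  · left
    have hy1 : y = 1 := by linear_combination -h
    have hx : x = 0 := by
      have : 2 * x = 0 := by rw [hy1] at htr; linear_combination htr
      rcases mul_eq_zero.mp this with h' | h'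
      · exact absurd h' h2
      · exact h'
    rw [hm, hx, hy1]; simp
  · right
    have hy1 : y = -1 := by linear_combination h
    have hx : x = n.trace := by
      have : 2 * (x - n.trace) = 0 := by rw [hy1] at htr; linear_combination htr
      rcases mul_eq_zero.mp this with h' | h'
      · exact absurd h' h2
      · exact sub_eq_zero.mp h'
    rw [hm, hx, hy1]; simp [sub_eq_add_neg]

/-- matrices in `F[n]` commute -/
theorem lin_commute (n : Matrix (Fin 2) (Fin 2) F) (x y x' y' : F) :
    (x • (1 : Matrix (Fin 2) (Fin 2) F) + y • n) * (x' • (1 : Matrix (Fin 2) (Fin 2) F) + y' • n) =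
    (x' • (1 : Matrix (Fin 2) (Fin 2) F) + y' • n) * (x • (1 : Matrix (Fin 2) (Fin 2) F) + y • n) := by
  simp only [add_mul, mul_add, smul_mul_assoc, mul_smul_comm, one_mul, mul_one, smul_add,
    smul_smul]
  rw [mul_comm x x', mul_comm y y', mul_comm x y', mul_comm y x']
  abel


section GroupPart

variable {p : ℕ} [hpF : Fact p.Prime] {X : Type*} [Group X]

/-- the matrix of `ρ x` -/
def mat (ρ : X →* GL (Fin 2) (ZMod p)) (x : X) : Matrix (Fin 2) (Fin 2) (ZMod p) :=
  ((ρ x : GL (Fin 2) (ZMod p)) : Matrix (Fin 2) (Fin 2) (ZMod p))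

theorem mat_mul (ρ : X →* GL (Fin 2) (ZMod p)) (x y : X) : mat ρ (x * y) = mat ρ x * mat ρ y := by
  unfold mat; rw [map_mul]; rfl

theorem mat_one (ρ : X →* GL (Fin 2) (ZMod p)) : mat ρ 1 = 1 := by
  unfold mat; rw [map_one]; rfl

theorem mat_inv_mul (ρ : X →* GL (Fin 2) (ZMod p)) (x : X) : mat ρ x⁻¹ * mat ρ x = 1 := by
  rw [← mat_mul, inv_mul_cancel, mat_one]

theorem mat_mul_inv (ρ : X →* GL (Fin 2) (ZMod p)) (x : X) : mat ρ x * mat ρ x⁻¹ = 1 := by
  rw [← mat_mul, mul_inv_cancel, mat_one]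

theorem mat_pow (ρ : X →* GL (Fin 2) (ZMod p)) (x : X) (k : ℕ) : mat ρ (x ^ k) = mat ρ x ^ k := by
  induction k with
  | zero => rw [pow_zero, pow_zero, mat_one]
  | succ k ih => rw [pow_succ, pow_succ, mat_mul, ih]

theorem mat_injective (ρ : X →* GL (Fin 2) (ZMod p)) (hρ : Function.Injective ρ) {x y : X}
    (h : mat ρ x = mat ρ y) : x = y := hρ (Units.ext h)

theorem mat_conj (ρ : X →* GL (Fin 2) (ZMod p)) (h c : X) :
    mat ρ (h * c * h⁻¹) = mat ρ h * mat ρ c * mat ρ h⁻¹ := by
  rw [mat_mul, mat_mul]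

theorem trace_conj (ρ : X →* GL (Fin 2) (ZMod p)) (h c : X) :
    (mat ρ (h * c * h⁻¹)).trace = (mat ρ c).trace := by
  rw [mat_conj, Matrix.trace_mul_cycle, mat_inv_mul, one_mul]

theorem det_mat_mul (ρ : X →* GL (Fin 2) (ZMod p)) (x y : X) :
    (mat ρ (x * y)).det = (mat ρ x).det * (mat ρ y).det := by
  rw [mat_mul, Matrix.det_mul]

theorem det_mat_inv (ρ : X →* GL (Fin 2) (ZMod p)) (x : X) :
    (mat ρ x⁻¹).det * (mat ρ x).det = 1 := by
  rw [← Matrix.det_mul, mat_inv_mul, Matrix.det_one]

theorem det_conj (ρ : X →* GL (Fin 2) (ZMod p)) (h c : X) :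
    (mat ρ (h * c * h⁻¹)).det = (mat ρ c).det := by
  rw [det_mat_mul, det_mat_mul]
  have := det_mat_inv ρ h
  calc (mat ρ h).det * (mat ρ c).det * (mat ρ h⁻¹).det
      = (mat ρ c).det * ((mat ρ h⁻¹).det * (mat ρ h).det) := by ring
    _ = (mat ρ c).det := by rw [this, mul_one]

theorem det_commutator (ρ : X →* GL (Fin 2) (ZMod p)) (a b : X) :
    (mat ρ ⁅a, b⁆).det = 1 := by
  rw [commutatorElement_def, det_mat_mul, det_mat_mul, det_mat_mul]
  have ha := det_mat_inv ρ a
  have hb := det_mat_inv ρ b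
  calc (mat ρ a).det * (mat ρ b).det * (mat ρ a⁻¹).det * (mat ρ b⁻¹).det
      = ((mat ρ a⁻¹).det * (mat ρ a).det) * ((mat ρ b⁻¹).det * (mat ρ b).det) := by ring
    _ = 1 := by rw [ha, hb, mul_one]

/-- an element of odd order with `x ^ 2 = 1` is trivial -/
theorem eq_one_of_sq_of_odd [Finite X] (hodd : Odd (Nat.card X)) (x : X) (hx : x * x = 1) :
    x = 1 := by
  have h1 : orderOf x ∣ 2 := orderOf_dvd_of_pow_eq_one (by rw [pow_two]; exact hx)
  have h2 : orderOf x ∣ Nat.card X := orderOf_dvd_natCard x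
  have h3 : (orderOf x).Coprime 2 :=
    Nat.Coprime.coprime_dvd_left h2 (Nat.coprime_two_right.mpr hodd)
  have h4 : orderOf x = 1 := Nat.Coprime.eq_one_of_dvd h3 h1
  exact orderOf_eq_one_iff.mp h4


theorem scale_mul (ε g h : Matrix (Fin 2) (Fin 2) (ZMod p)) (y z : ZMod p)
    (hg : g * ε = y • (ε * g)) (hh : h * ε = z • (ε * h)) :
    (g * h) * ε = (y * z) • (ε * (g * h)) := by
  calc g * h * ε = g * (h * ε) := by rw [mul_assoc]
    _ = z • ((g * ε) * h) := by rw [hh, Matrix.mul_smul, mul_assoc]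
    _ = (y * z) • (ε * (g * h)) := by
      rw [hg, Matrix.smul_mul, smul_smul, mul_assoc, mul_comm z y]

theorem scale_inv (ε g g' : Matrix (Fin 2) (Fin 2) (ZMod p)) (y : ZMod p)
    (hgg' : g * g' = 1) (hg'g : g' * g = 1) (hg : g * ε = y • (ε * g)) (hy : y ≠ 0) :
    g' * ε = y⁻¹ • (ε * g') := by
  have h1 : ε * g' = y • (g' * ε) := by
    calc ε * g' = (g' * g) * ε * g' := by rw [hg'g, one_mul]
      _ = g' * (g * ε) * g' := by simp only [mul_assoc]
      _ = y • (g' * ε * (g * g')) := by
        rw [hg]; simp only [Matrix.mul_smul, Matrix.smul_mul, mul_assoc]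
      _ = y • (g' * ε) := by rw [hgg', mul_one]
  rw [h1, smul_smul, inv_mul_cancel₀ hy, one_smul]

/-- if the image of `X` normalizes the line of a square-zero matrix `ε`, the derived subgroup has
exponent `p` -/
theorem unipotent_case [Finite X] (ρ : X →* GL (Fin 2) (ZMod p)) (hρ : Function.Injective ρ)
    (hodd : Odd (Nat.card X)) (ε : Matrix (Fin 2) (Fin 2) (ZMod p)) (hε : NonScalar ε)
    (hε2 : ε * ε = 0)
    (hnorm : ∀ h : X, ∃ y : ZMod p, mat ρ h * ε = y • (ε * mat ρ h)) :
    ∀ g ∈ commutator X, g ^ p = 1 := by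
  have hp : p.Prime := hpF.out
  have hε0 : ε ≠ 0 := by
    rintro rfl
    rcases hε with h | h | h <;> simp at h
  have hy0 : ∀ (h : X) (y : ZMod p), mat ρ h * ε = y • (ε * mat ρ h) → y ≠ 0 := by
    intro h y hy hy0
    rw [hy0, zero_smul] at hy
    apply hε0
    calc ε = mat ρ h⁻¹ * (mat ρ h * ε) := by rw [← mul_assoc, mat_inv_mul, one_mul]
      _ = 0 := by rw [hy, mul_zero]
  have hcomm : ∀ a b : X, mat ρ ⁅a, b⁆ * ε = ε * mat ρ ⁅a, b⁆ := by
    intro a b
    obtain ⟨y, hy⟩ := hnorm a
    obtain ⟨z, hz⟩ := hnorm b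
    have hyne := hy0 a y hy
    have hzne := hy0 b z hz
    have hy' := scale_inv ε (mat ρ a) (mat ρ a⁻¹) y (mat_mul_inv ρ a) (mat_inv_mul ρ a) hy hyne
    have hz' := scale_inv ε (mat ρ b) (mat ρ b⁻¹) z (mat_mul_inv ρ b) (mat_inv_mul ρ b) hz hzne
    have h1 := scale_mul ε _ _ _ _ (scale_mul ε _ _ _ _ (scale_mul ε _ _ _ _ hy hz) hy') hz'
    rw [commutatorElement_def, mat_mul, mat_mul, mat_mul, h1]
    have : y * z * y⁻¹ * z⁻¹ = 1 := by field_simp
    rw [this, one_smul]
  have hkey : ∀ g : X, mat ρ g * ε = ε * mat ρ g → (mat ρ g).det = 1 → g ^ (2 * p) = 1 := by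
    intro g hg hdet
    obtain ⟨x, y, hxy⟩ := centralizer_form ε (mat ρ g) hε hg
    have hpow : mat ρ g ^ p = x • (1 : Matrix (Fin 2) (Fin 2) (ZMod p)) := by
      rw [hxy]
      have hc : Commute (x • (1 : Matrix (Fin 2) (Fin 2) (ZMod p))) (y • ε) := by
        apply Commute.smul_left
        apply Commute.smul_right
        exact Commute.one_left _
      rw [add_pow_char_of_commute p hc, smul_pow, smul_pow, one_pow, ZMod.pow_card]
      have : ε ^ p = 0 := by
        have hk : ε ^ p = ε ^ 2 * ε ^ (p - 2) := by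
          rw [← pow_add]; congr 1; have := hp.two_le; omega
        rw [hk, pow_two, hε2, zero_mul]
      rw [this, smul_zero, add_zero]
    have hx2 : x ^ 2 = 1 := by
      have h1 : (mat ρ g ^ p).det = 1 := by rw [Matrix.det_pow, hdet, one_pow]
      rw [hpow, Matrix.det_smul, Matrix.det_one, mul_one, Fintype.card_fin] at h1
      exact h1
    apply mat_injective ρ hρ
    rw [mat_pow, mat_one, mul_comm, pow_mul, hpow, smul_pow, one_pow, hx2, one_smul]
  let W : Subgroup X :=
    { carrier := {g | mat ρ g * ε = ε * mat ρ g ∧ (mat ρ g).det = 1}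
      one_mem' := ⟨by rw [mat_one, one_mul, mul_one], by rw [mat_one, Matrix.det_one]⟩
      mul_mem' := by
        rintro a b ⟨ha, ha'⟩ ⟨hb, hb'⟩
        refine ⟨?_, ?_⟩
        · rw [mat_mul, mul_assoc, hb, ← mul_assoc, ha, mul_assoc]
        · rw [det_mat_mul, ha', hb', one_mul]
      inv_mem' := by
        rintro a ⟨ha, ha'⟩
        refine ⟨?_, ?_⟩
        · calc mat ρ a⁻¹ * ε = mat ρ a⁻¹ * ε * (mat ρ a * mat ρ a⁻¹) := by
                rw [mat_mul_inv, mul_one]
            _ = mat ρ a⁻¹ * (ε * mat ρ a) * mat ρ a⁻¹ := by simp only [mul_assoc]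
            _ = mat ρ a⁻¹ * (mat ρ a * ε) * mat ρ a⁻¹ := by rw [ha]
            _ = (mat ρ a⁻¹ * mat ρ a) * ε * mat ρ a⁻¹ := by simp only [mul_assoc]
            _ = ε * mat ρ a⁻¹ := by rw [mat_inv_mul, one_mul]
        · have := det_mat_inv ρ a
          rw [ha', mul_one] at this
          exact this }
  have hW : commutator X ≤ W := by
    rw [commutator_def, Subgroup.commutator_le]
    intro a _ b _
    exact ⟨hcomm a b, det_commutator ρ a b⟩
  intro g hg
  obtain ⟨h1, h2⟩ := hW hg
  have h2p := hkey g h1 h2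
  have hd1 : orderOf g ∣ 2 * p := orderOf_dvd_of_pow_eq_one h2p
  have hd2 : orderOf g ∣ Nat.card X := orderOf_dvd_natCard g
  have hc2 : (orderOf g).Coprime 2 :=
    Nat.Coprime.coprime_dvd_left hd2 (Nat.coprime_two_right.mpr hodd)
  have hd3 : orderOf g ∣ p := hc2.dvd_of_dvd_mul_left hd1
  exact orderOf_dvd_iff_pow_eq_one.mp hd3


theorem two_smul_sub_entries (N : Matrix (Fin 2) (Fin 2) (ZMod p)) (t : ZMod p) :
    ((2 : ZMod p) • N - t • (1 : Matrix (Fin 2) (Fin 2) (ZMod p))) 0 0 = 2 * N 0 0 - t ∧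
    ((2 : ZMod p) • N - t • (1 : Matrix (Fin 2) (Fin 2) (ZMod p))) 0 1 = 2 * N 0 1 ∧
    ((2 : ZMod p) • N - t • (1 : Matrix (Fin 2) (Fin 2) (ZMod p))) 1 0 = 2 * N 1 0 ∧
    ((2 : ZMod p) • N - t • (1 : Matrix (Fin 2) (Fin 2) (ZMod p))) 1 1 = 2 * N 1 1 - t := by
  simp

/-- **Odd-order solvable subgroups of `GL₂(p)` have a `p`-group as derived subgroup.** -/
theorem isPGroup_commutator [Finite X] (hp2 : p ≠ 2) (ρ : X →* GL (Fin 2) (ZMod p))
    (hρ : Function.Injective ρ) (hodd : Odd (Nat.card X)) (hsolv : Group.IsSolvable X) :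
    IsPGroup p (commutator X) := by
  classical
  have hp : p.Prime := hpF.out
  have h2 : (2 : ZMod p) ≠ 0 := by
    intro h
    have h' : ((2 : ℕ) : ZMod p) = 0 := by exact_mod_cast h
    have hd : p ∣ 2 := (ZMod.natCast_eq_zero_iff 2 p).mp h'
    exact hp2 ((Nat.prime_dvd_prime_iff_eq hp Nat.prime_two).mp hd)
  by_cases hab : ∀ a b : X, a * b = b * a
  · have : commutator X = ⊥ := by
      rw [eq_bot_iff, commutator_def, Subgroup.commutator_le]
      intro a _ b _
      rw [Subgroup.mem_bot, commutatorElement_eq_one_iff_mul_comm]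
      exact hab a b
    rw [this]
    exact IsPGroup.of_bot
  · have hex : ∃ n, derivedSeries X n = ⊥ := (Group.isSolvable_def X).mp hsolv
    have hk := Nat.find_spec hex
    have hmin : ∀ m, m < Nat.find hex → derivedSeries X m ≠ ⊥ := fun m hm => Nat.find_min hex hm
    have hk2 : 2 ≤ Nat.find hex := by
      by_contra hlt
      have hle : Nat.find hex ≤ 1 := by omega
      have h1 : derivedSeries X 1 = ⊥ := by
        rw [eq_bot_iff, ← hk]
        exact derivedSeries_antitone X hle
      apply hab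
      intro a b
      have : ⁅a, b⁆ ∈ derivedSeries X 1 := by
        rw [derivedSeries_succ, derivedSeries_zero]
        exact Subgroup.commutator_mem_commutator (Subgroup.mem_top a) (Subgroup.mem_top b)
      rw [h1, Subgroup.mem_bot, commutatorElement_eq_one_iff_mul_comm] at this
      exact this
    obtain ⟨j, hj⟩ : ∃ j, Nat.find hex = j + 2 := ⟨Nat.find hex - 2, by omega⟩
    have hT : derivedSeries X (j + 1) ≠ ⊥ := hmin (j + 1) (by omega)
    have hTT : ⁅derivedSeries X (j + 1), derivedSeries X (j + 1)⁆ = ⊥ := by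
      rw [← derivedSeries_succ]
      rw [hj] at hk
      exact hk
    have hTn : (derivedSeries X (j + 1)).Normal := derivedSeries_normal X (j + 1)
    have hTab : ∀ u ∈ derivedSeries X (j + 1), ∀ v ∈ derivedSeries X (j + 1), u * v = v * u := by
      intro u hu v hv
      have : ⁅u, v⁆ ∈ ⁅derivedSeries X (j + 1), derivedSeries X (j + 1)⁆ :=
        Subgroup.commutator_mem_commutator hu hv
      rw [hTT, Subgroup.mem_bot, commutatorElement_eq_one_iff_mul_comm] at this
      exact this
    obtain ⟨a, ha, b, hb, hcne⟩ : ∃ a ∈ derivedSeries X j, ∃ b ∈ derivedSeries X j,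
        ⁅a, b⁆ ≠ 1 := by
      by_contra hall
      push Not at hall
      apply hT
      rw [eq_bot_iff, derivedSeries_succ, Subgroup.commutator_le]
      intro a ha b hb
      rw [Subgroup.mem_bot]
      exact hall a ha b hb
    have hcT : ⁅a, b⁆ ∈ derivedSeries X (j + 1) := by
      rw [derivedSeries_succ]
      exact Subgroup.commutator_mem_commutator ha hb
    obtain ⟨c, hc⟩ : ∃ c, c = ⁅a, b⁆ := ⟨_, rfl⟩
    rw [← hc] at hcT hcne
    have hcdet : (mat ρ c).det = 1 := by rw [hc]; exact det_commutator ρ a b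
    obtain ⟨N, hN⟩ : ∃ N, N = mat ρ c := ⟨_, rfl⟩
    -- c is non-scalar
    have hcns : NonScalar N := by
      by_contra hns
      unfold NonScalar at hns
      push Not at hns
      obtain ⟨h01, h10, h00⟩ := hns
      have hdet := hcdet
      rw [← hN, Matrix.det_fin_two, h01, h10, h00] at hdet
      have hsq : mat ρ (c * c) = mat ρ 1 := by
        rw [mat_mul, mat_one, ← hN]
        obtain ⟨l00, l01, l10, l11⟩ := mul_entries N N
        apply ext2
        · rw [l00, h01, h10, h00, Matrix.one_apply_eq]; linear_combination hdet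
        · rw [l01, h01, Matrix.one_apply_ne (by decide)]; ring
        · rw [l10, h10, Matrix.one_apply_ne (by decide)]; ring
        · rw [l11, h01, h10, Matrix.one_apply_eq]; linear_combination hdet
      exact hcne (eq_one_of_sq_of_odd hodd c (mat_injective ρ hρ hsq))
    -- conjugates of c lie in F[N]
    have hform : ∀ h : X, ∃ x y : ZMod p,
        mat ρ (h * c * h⁻¹) = x • (1 : Matrix (Fin 2) (Fin 2) (ZMod p)) + y • N := by
      intro h
      have hmem : h * c * h⁻¹ ∈ derivedSeries X (j + 1) := hTn.conj_mem c hcT h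
      have hcm : mat ρ (h * c * h⁻¹) * N = N * mat ρ (h * c * h⁻¹) := by
        rw [hN, ← mat_mul, ← mat_mul, hTab _ hmem _ hcT]
      exact centralizer_form N _ hcns hcm
    by_cases hdisc : N.trace ^ 2 = 4 * N.det
    · -- unipotent-like case
      obtain ⟨ε, hε⟩ : ∃ ε, ε = (2 : ZMod p) • N - N.trace • (1 : Matrix (Fin 2) (Fin 2) (ZMod p)) :=
        ⟨_, rfl⟩
      obtain ⟨e00, e01, e10, e11⟩ := two_smul_sub_entries N N.trace
      rw [← hε] at e00 e01 e10 e11
      have htr : N.trace = N 0 0 + N 1 1 := Matrix.trace_fin_two N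
      have hdisc' : (N 0 0 + N 1 1) ^ 2 = 4 * (N 0 0 * N 1 1 - N 0 1 * N 1 0) := by
        rw [← htr, ← Matrix.det_fin_two]; exact hdisc
      have hεns : NonScalar ε := by
        unfold NonScalar
        rw [e00, e01, e10, e11]
        rcases hcns with h | h | h
        · left; exact mul_ne_zero h2 h
        · right; left; exact mul_ne_zero h2 h
        · right; right
          intro heq
          apply h
          have : 2 * (N 0 0 - N 1 1) = 0 := by linear_combination heq
          rcases mul_eq_zero.mp this with h' | h'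
          · exact absurd h' h2
          · exact sub_eq_zero.mp h'
      have hε2 : ε * ε = 0 := by
        obtain ⟨l00, l01, l10, l11⟩ := mul_entries ε ε
        apply ext2
        · rw [l00, e00, e01, e10, htr, Matrix.zero_apply]; linear_combination hdisc'
        · rw [l01, e00, e01, e11, htr, Matrix.zero_apply]; ring
        · rw [l10, e00, e10, e11, htr, Matrix.zero_apply]; ring
        · rw [l11, e01, e10, e11, htr, Matrix.zero_apply]; linear_combination hdisc'
      have hnorm : ∀ h : X, ∃ y : ZMod p, mat ρ h * ε = y • (ε * mat ρ h) := by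
        intro h
        obtain ⟨x, y, hxy⟩ := hform h
        have htrh : 2 * x + y * N.trace = N.trace := by
          have := trace_conj ρ h c
          rw [hxy, trace_lin, ← hN] at this
          exact this
        refine ⟨y, ?_⟩
        have hconj : mat ρ h * ε * mat ρ h⁻¹ = y • ε := by
          have e1 : mat ρ h * ε * mat ρ h⁻¹ =
              (2 : ZMod p) • (mat ρ h * N * mat ρ h⁻¹) - N.trace • (1 : Matrix (Fin 2) (Fin 2) (ZMod p)) := by
            rw [hε]
            simp only [mul_sub, sub_mul, Matrix.mul_smul, Matrix.smul_mul, mul_one, mat_mul_inv]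
          rw [e1, hN, ← mat_conj, hxy, ← hN, hε]
          obtain ⟨f00, f01, f10, f11⟩ := lin_entries x y N
          apply ext2
          · simp only [Matrix.sub_apply, Matrix.smul_apply, f00, Matrix.one_apply_eq, smul_eq_mul]
            linear_combination htrh
          · simp only [Matrix.sub_apply, Matrix.smul_apply, f01, smul_eq_mul,
              Matrix.one_apply_ne (show (0 : Fin 2) ≠ 1 by decide)]
            ring
          · simp only [Matrix.sub_apply, Matrix.smul_apply, f10, smul_eq_mul,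
              Matrix.one_apply_ne (show (1 : Fin 2) ≠ 0 by decide)]
            ring
          · simp only [Matrix.sub_apply, Matrix.smul_apply, f11, Matrix.one_apply_eq, smul_eq_mul]
            linear_combination htrh
        calc mat ρ h * ε = mat ρ h * ε * (mat ρ h⁻¹ * mat ρ h) := by rw [mat_inv_mul, mul_one]
          _ = (mat ρ h * ε * mat ρ h⁻¹) * mat ρ h := by simp only [mul_assoc]
          _ = y • (ε * mat ρ h) := by rw [hconj, Matrix.smul_mul]
      have hexp := unipotent_case ρ hρ hodd ε hεns hε2 hnorm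
      intro g
      refine ⟨1, ?_⟩
      rw [pow_one]
      apply Subtype.ext
      rw [Subgroup.coe_pow]
      exact hexp g.1 g.2
    · -- semisimple case: X is abelian, contradiction
      exfalso
      apply hab
      have hstep : ∀ g : X, mat ρ (g * g) * N = N * mat ρ (g * g) := by
        intro g
        obtain ⟨x, y, hxy⟩ := hform g
        have htr' : (mat ρ (g * c * g⁻¹)).trace = N.trace := by rw [hN]; exact trace_conj ρ g c
        have hdet' : (mat ρ (g * c * g⁻¹)).det = N.det := by rw [hN]; exact det_conj ρ g c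
        have hgen : ∀ M : Matrix (Fin 2) (Fin 2) (ZMod p), mat ρ (g * c * g⁻¹) = M →
            mat ρ g * N = M * mat ρ g := by
          intro M hM
          calc mat ρ g * N = mat ρ g * N * (mat ρ g⁻¹ * mat ρ g) := by rw [mat_inv_mul, mul_one]
            _ = (mat ρ g * N * mat ρ g⁻¹) * mat ρ g := by simp only [mul_assoc]
            _ = M * mat ρ g := by rw [hN, ← mat_conj, hM]
        rcases conj_cases h2 N (mat ρ (g * c * g⁻¹)) x y hxy htr' hdet' hdisc with hm | hm
        · have hgN := hgen N hm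
          rw [mat_mul, mul_assoc, hgN, ← mul_assoc, hgN, mul_assoc]
        · have hgN := hgen _ hm
          rw [mat_mul]
          calc mat ρ g * mat ρ g * N = mat ρ g * (mat ρ g * N) := by rw [mul_assoc]
            _ = mat ρ g * ((N.trace • (1 : Matrix (Fin 2) (Fin 2) (ZMod p)) - N) * mat ρ g) := by
              rw [hgN]
            _ = (N.trace • mat ρ g - mat ρ g * N) * mat ρ g := by
              simp only [mul_sub, sub_mul, Matrix.mul_smul, Matrix.smul_mul, one_mul,
                mul_assoc]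
            _ = (N.trace • mat ρ g - (N.trace • (1 : Matrix (Fin 2) (Fin 2) (ZMod p)) - N) *
                  mat ρ g) * mat ρ g := by rw [hgN]
            _ = N * (mat ρ g * mat ρ g) := by
              simp only [sub_mul, Matrix.smul_mul, one_mul, sub_sub_cancel, mul_assoc]
      have hcent : ∀ h : X, mat ρ h * N = N * mat ρ h := by
        intro h
        have hoddh : Odd (orderOf h) := by
          have hd : orderOf h ∣ Nat.card X := orderOf_dvd_natCard h
          exact Odd.of_dvd_nat hodd hd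
        obtain ⟨k, hk⟩ := hoddh
        have hh : h = (h * h) ^ (k + 1) := by
          rw [← pow_two, ← pow_mul]
          have : 2 * (k + 1) = orderOf h + 1 := by omega
          rw [this, pow_succ, pow_orderOf_eq_one, one_mul]
        rw [hh, mat_pow]
        exact (Commute.pow_left (hstep h) (k + 1))
      intro u v
      obtain ⟨x, y, hu⟩ := centralizer_form N (mat ρ u) hcns (hcent u)
      obtain ⟨x', y', hv⟩ := centralizer_form N (mat ρ v) hcns (hcent v)
      apply mat_injective ρ hρ
      rw [mat_mul, mat_mul, hu, hv]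
      exact lin_commute N x y x' y'

end GroupPart

end Cfsg.Agent.Helper24.GL2Odd
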