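import Mathlib
import Cfsg.Agent.Lib.Helper24.GL2Odd

set_option autoImplicit false

namespace Cfsg.Agent.Helper24.AutElemAb

open scoped commutatorElement

variable {p : ℕ} [hpF : Fact p.Prime]

/-- odd-order solvable groups of linear automorphisms of a plane over `F_p` have a `p`-group as
derived subgroup -/
theorem isPGroup_commutator_linear (hp2 : p ≠ 2) {W : Type*} [AddCommGroup W] [Module (ZMod p) W]
    [Finite W] (hW : Nat.card W = p ^ 2) {X : Type*} [Group X] [Finite X]
    (f : X →* (W ≃ₗ[ZMod p] W)) (hf : Function.Injective f)
    (hodd : Odd (Nat.card X)) (hsolv : Group.IsSolvable X) : IsPGroup p (commutator X) := by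
  have hp : p.Prime := hpF.out
  have hfr : Module.finrank (ZMod p) W = 2 := by
    have h1 : Nat.card W = p ^ Module.finrank (ZMod p) W := by
      rw [Module.natCard_eq_pow_finrank (K := ZMod p), Nat.card_zmod]
    rw [hW] at h1
    exact (Nat.pow_right_injective hp.two_le h1).symm
  let b := Module.finBasisOfFinrankEq (ZMod p) W hfr
  let e : GL (Fin 2) (ZMod p) ≃* (W ≃ₗ[ZMod p] W) :=
    (Units.mapEquiv (MulEquivClass.toMulEquiv (LinearMap.toMatrixAlgEquiv b).symm)).trans
      (LinearMap.GeneralLinearGroup.generalLinearEquiv (ZMod p) W)
  exact GL2Odd.isPGroup_commutator hp2 (e.symm.toMonoidHom.comp f)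
    (e.symm.injective.comp hf) hodd hsolv

omit hpF in
/-- a group with an injective homomorphism into a commutative-multiplication group has trivial
derived subgroup -/
theorem isPGroup_commutator_of_comm {X : Type*} [Group X] {Y : Type*} [Group Y] (f : X →* Y)
    (hf : Function.Injective f) (hY : ∀ a b : Y, a * b = b * a) : IsPGroup p (commutator X) := by
  have : commutator X = ⊥ := by
    rw [eq_bot_iff, commutator_def, Subgroup.commutator_le]
    intro a _ b _
    rw [Subgroup.mem_bot, commutatorElement_eq_one_iff_mul_comm]
    apply hf
    rw [map_mul, map_mul]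
    exact hY _ _
  rw [this]
  exact IsPGroup.of_bot

/-- odd-order solvable groups of automorphisms of an elementary abelian group of order at most
`p ^ 2` have a `p`-group as derived subgroup -/
theorem isPGroup_commutator_mulAut (hp2 : p ≠ 2) {V : Type*} [Group V] [Finite V]
    (hcomm : ∀ a b : V, a * b = b * a) (hexp : ∀ a : V, a ^ p = 1) (d : ℕ) (hd : d ≤ 2)
    (hV : Nat.card V = p ^ d) {X : Type*} [Group X] [Finite X]
    (f : X →* MulAut V) (hf : Function.Injective f)
    (hodd : Odd (Nat.card X)) (hsolv : Group.IsSolvable X) : IsPGroup p (commutator X) := by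
  have hp : p.Prime := hpF.out
  by_cases hd2 : d = 2
  · subst hd2
    let iC : CommGroup V := { (inferInstance : Group V) with mul_comm := hcomm }
    let iM : Module (ZMod p) (Additive V) :=
      AddCommGroup.zmodModule (n := p) (fun w => congrArg Additive.ofMul (hexp w.toMul))
    let g : MulAut V →* (Additive V ≃ₗ[ZMod p] Additive V) :=
      { toFun := fun α => (MulEquiv.toAdditive α).toLinearEquiv
          (fun c x => ZMod.map_smul (MulEquiv.toAdditive α) c x)
        map_one' := by ext w; rfl
        map_mul' := fun α β => by ext w; rfl }
    have hg : Function.Injective g := by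
      intro α β h
      ext v
      have := LinearEquiv.congr_fun h (Additive.ofMul v)
      exact this
    have hW : Nat.card (Additive V) = p ^ 2 := hV
    exact isPGroup_commutator_linear hp2 hW (g.comp f) (hg.comp hf) hodd hsolv
  · have hd1 : d ≤ 1 := by omega
    have hcyc : IsCyclic V := by
      interval_cases d
      · rw [pow_zero] at hV
        have : Subsingleton V := (Nat.card_eq_one_iff_unique.mp hV).1
        exact isCyclic_of_subsingleton
      · rw [pow_one] at hV
        exact isCyclic_of_prime_card hV
    apply isPGroup_commutator_of_comm f hf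
    intro a b
    have e := IsCyclic.mulAutMulEquiv V
    apply e.injective
    rw [map_mul, map_mul, mul_comm]

end Cfsg.Agent.Helper24.AutElemAb
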