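import Mathlib

set_option autoImplicit false

namespace Cfsg.Agent.Helper24

variable {G : Type*} [Group G]

/-- With `c = z x z⁻¹ x⁻¹` commuting with `z`:  `z^n x = c^n x z^n`. -/
theorem pow_mul_eq_of_commutator_commute (x z : G)
    (hcz : Commute (z * x * z⁻¹ * x⁻¹) z) (n : ℕ) :
    z ^ n * x = (z * x * z⁻¹ * x⁻¹) ^ n * x * z ^ n := by
  set c := z * x * z⁻¹ * x⁻¹ with hc
  have hzx : z * x = c * x * z := by rw [hc]; group
  induction n with
  | zero => simp
  | succ n ih =>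
    have h1 : z * c ^ n = c ^ n * z := ((hcz.pow_left n).eq).symm
    calc z ^ (n + 1) * x = z * (z ^ n * x) := by rw [pow_succ']; group
      _ = z * (c ^ n * x * z ^ n) := by rw [ih]
      _ = (z * c ^ n) * x * z ^ n := by group
      _ = c ^ n * (z * x) * z ^ n := by rw [h1]; group
      _ = c ^ n * (c * x * z) * z ^ n := by rw [hzx]
      _ = c ^ (n + 1) * x * z ^ (n + 1) := by rw [pow_succ c n, pow_succ' z n]; group

/-- In class two: `[z^n, x] = [z, x]^n`. -/
theorem commutator_pow_left_of_commute (x z : G)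
    (hcz : Commute (z * x * z⁻¹ * x⁻¹) z) (n : ℕ) :
    z ^ n * x * (z ^ n)⁻¹ * x⁻¹ = (z * x * z⁻¹ * x⁻¹) ^ n := by
  rw [pow_mul_eq_of_commutator_commute x z hcz n]
  group

/-- In class two: `(x z)^n = x^n z^n [z,x]^(n choose 2)`. -/
theorem mul_pow_of_commutator_commute (x z : G)
    (hcx : Commute (z * x * z⁻¹ * x⁻¹) x) (hcz : Commute (z * x * z⁻¹ * x⁻¹) z) (n : ℕ) :
    (x * z) ^ n = x ^ n * z ^ n * (z * x * z⁻¹ * x⁻¹) ^ (n.choose 2) := by
  set c := z * x * z⁻¹ * x⁻¹ with hc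
  induction n with
  | zero => simp
  | succ n ih =>
    have h1 : z ^ n * x = c ^ n * x * z ^ n := pow_mul_eq_of_commutator_commute x z hcz n
    have hch : (n + 1).choose 2 = n + n.choose 2 := by
      rw [Nat.choose_succ_succ, Nat.choose_one_right]
    have hcx' : ∀ k m : ℕ, c ^ k * x ^ m = x ^ m * c ^ k := fun k m =>
      ((hcx.pow_left k).pow_right m).eq
    have hcz' : ∀ k m : ℕ, c ^ k * z ^ m = z ^ m * c ^ k := fun k m =>
      ((hcz.pow_left k).pow_right m).eq
    calc (x * z) ^ (n + 1) = (x * z) ^ n * (x * z) := pow_succ _ _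
      _ = x ^ n * z ^ n * c ^ (n.choose 2) * (x * z) := by rw [ih]
      _ = x ^ n * z ^ n * (c ^ (n.choose 2) * x ^ 1) * z := by rw [pow_one]; group
      _ = x ^ n * z ^ n * (x ^ 1 * c ^ (n.choose 2)) * z := by rw [hcx']
      _ = x ^ n * (z ^ n * x) * (c ^ (n.choose 2) * z ^ 1) := by rw [pow_one, pow_one]; group
      _ = x ^ n * (c ^ n * x * z ^ n) * (z ^ 1 * c ^ (n.choose 2)) := by rw [h1, hcz']
      _ = (x ^ n * c ^ n) * x * z ^ n * z * c ^ (n.choose 2) := by rw [pow_one]; group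
      _ = (c ^ n * x ^ n) * x * z ^ n * z * c ^ (n.choose 2) := by rw [hcx']
      _ = c ^ n * (x ^ (n + 1) * z ^ (n + 1)) * c ^ (n.choose 2) := by
          rw [pow_succ x n, pow_succ z n]; group
      _ = x ^ (n + 1) * z ^ (n + 1) * c ^ n * c ^ (n.choose 2) := by
          have : c ^ n * (x ^ (n + 1) * z ^ (n + 1)) = (x ^ (n + 1) * z ^ (n + 1)) * c ^ n := by
            rw [← mul_assoc, hcx', mul_assoc, hcz', ← mul_assoc]
          rw [this]
      _ = x ^ (n + 1) * z ^ (n + 1) * c ^ ((n + 1).choose 2) := by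
          rw [hch, pow_add]; group

end Cfsg.Agent.Helper24
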