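import Mathlib
import Cfsg.Agent.S1949
import Cfsg.Agent.S0640
import Cfsg.Agent.S4208
import Cfsg.Agent.Lib.Helper24.AutElemAb

set_option autoImplicit false

namespace Cfsg.Agent.Helper24.RankTwoAut

open Cfsg
open scoped commutatorElement

/-- **Odd-order solvable groups of automorphisms of a `p`-group of rank at most 2 (`p` odd) have a
`p`-group as derived subgroup.** -/
theorem isPGroup_commutator_of_rank_two {P : Type*} [Group P] [Finite P] {p : ℕ} [Fact p.Prime]
    (hp2 : p ≠ 2) (hP : IsPGroup p P) (hrk : PRankLE p 2 P) {X : Type*} [Group X] [Finite X]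
    (f : X →* MulAut P) (hf : Function.Injective f) (hodd : Odd (Nat.card X))
    (hsolv : Group.IsSolvable X) : IsPGroup p (commutator X) := by
  classical
  have hp : p.Prime := Fact.out
  obtain ⟨D, hDinv, -, hDexp, hDcomm, hDfaith, -⟩ :=
    Cfsg.Agent.S1949.result hP (⊤ : Subgroup (MulAut P)) le_top
  have hexp : ∀ d ∈ D, d ^ p = 1 := by
    intro d hd
    rcases hDexp d hd with h | ⟨h, -⟩
    · exact h
    · exact absurd h hp2
  have hDchar : D.Characteristic :=
    Subgroup.characteristic_iff_map_eq.mpr (fun α => hDinv α (Subgroup.mem_top α))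
  obtain ⟨d, hd2, hd⟩ := Cfsg.Agent.S0640.frattini_index_le hP hrk D hexp hDcomm
  have hDp : IsPGroup p ↥D := hP.to_subgroup D
  obtain ⟨hVcomm, hVexp⟩ := Cfsg.Agent.S4208.frattini_quot_props hDp
  have hVcard : Nat.card (↥D ⧸ frattini ↥D) = p ^ d := by
    rw [← hd]; exact (Subgroup.index_eq_card _).symm
  let κ : MulAut P →* MulAut (↥D ⧸ frattini ↥D) :=
    (Cfsg.Agent.S4208.quotAut (frattini ↥D)).comp (MulAut.characteristic D)
  -- kernel of κ is a p-group
  have hker : ∀ α : MulAut P, κ α = 1 → ∃ j, α ^ (p ^ j) = 1 := by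
    intro α hα
    have hβ : MulAut.characteristic D α ∈ (Cfsg.Agent.S4208.quotAut (frattini ↥D)).ker := by
      rw [MonoidHom.mem_ker]; exact hα
    obtain ⟨n, hn⟩ := hDp.exists_card_eq
    have hcardK : Nat.card (Cfsg.Agent.S4208.quotAut (frattini ↥D)).ker ∣ p ^ (d * (n - d)) :=
      Cfsg.Agent.S4207.result hn hd _
        (fun σ hσ x => Cfsg.Agent.S4208.mem_ker_quotAut _ σ hσ x)
    obtain ⟨m, -, hm⟩ := (Nat.dvd_prime_pow hp).mp hcardK
    have hKp : IsPGroup p (Cfsg.Agent.S4208.quotAut (frattini ↥D)).ker := IsPGroup.of_card hm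
    obtain ⟨k, hk⟩ := hKp ⟨MulAut.characteristic D α, hβ⟩
    have hk' : (MulAut.characteristic D α) ^ (p ^ k) = 1 := by
      have := congrArg Subtype.val hk
      rw [Subgroup.coe_pow] at this
      exact this
    have hγ : ∀ x ∈ D, (α ^ (p ^ k)) x = x := by
      intro x hx
      have h1 : MulAut.characteristic D (α ^ (p ^ k)) = 1 := by rw [map_pow]; exact hk'
      have h2 := congrArg (fun σ : MulAut ↥D => ((σ ⟨x, hx⟩ : ↥D) : P)) h1
      exact h2
    have hγ0 : orderOf (α ^ (p ^ k)) ≠ 0 := (orderOf_pos _).ne'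
    obtain ⟨e, n', hn', hen⟩ := Nat.exists_eq_pow_mul_and_not_dvd hγ0 p hp.ne_one
    have hδord : orderOf ((α ^ (p ^ k)) ^ (p ^ e)) = n' := by
      rw [orderOf_pow_of_dvd (pow_ne_zero e hp.ne_zero) (Dvd.intro _ hen.symm), hen,
        Nat.mul_div_cancel_left _ (pow_pos hp.pos e)]
    have hδfix : ∀ x ∈ D, ((α ^ (p ^ k)) ^ (p ^ e)) x = x := fun x hx =>
      Cfsg.Agent.S1949.pow_apply_fix _ x (hγ x hx) _
    have hcop : (orderOf ((α ^ (p ^ k)) ^ (p ^ e))).Coprime p := by
      rw [hδord]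
      exact ((Nat.Prime.coprime_iff_not_dvd hp).mpr hn').symm
    have hδ1 := hDfaith _ (Subgroup.mem_top _) hcop hδfix
    refine ⟨k + e, ?_⟩
    rw [pow_add, pow_mul]
    exact hδ1
  -- the image
  have hoddY : Odd (Nat.card ↥(κ.comp f).range) :=
    Odd.of_dvd_nat hodd (Subgroup.card_range_dvd (κ.comp f))
  have hsolvY : Group.IsSolvable ↥(κ.comp f).range :=
    Group.isSolvable_of_surjective (f := (κ.comp f).rangeRestrict)
      (κ.comp f).rangeRestrict_surjective
  have hY : IsPGroup p (commutator ↥(κ.comp f).range) :=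
    AutElemAb.isPGroup_commutator_mulAut hp2 hVcomm hVexp d hd2 hVcard
      ((κ.comp f).range.subtype) Subtype.val_injective hoddY hsolvY
  have hle : commutator X ≤ (commutator ↥(κ.comp f).range).comap (κ.comp f).rangeRestrict := by
    rw [commutator_def, Subgroup.commutator_le]
    intro a _ b _
    rw [Subgroup.mem_comap, map_commutatorElement, commutator_def]
    exact Subgroup.commutator_mem_commutator (Subgroup.mem_top _) (Subgroup.mem_top _)
  intro g
  obtain ⟨k, hk⟩ := hY ⟨(κ.comp f).rangeRestrict g.1, hle g.2⟩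
  have hk1 : κ (f (g.1 ^ (p ^ k))) = 1 := by
    have h1 := congrArg Subtype.val hk
    rw [Subgroup.coe_pow] at h1
    have h2 := congrArg Subtype.val h1
    rw [Subgroup.coe_pow] at h2
    rw [map_pow, map_pow]
    exact h2
  obtain ⟨j, hj⟩ := hker _ hk1
  refine ⟨k + j, ?_⟩
  apply Subtype.ext
  rw [Subgroup.coe_pow]
  apply hf
  rw [Subgroup.coe_one, map_one, pow_add, pow_mul, map_pow]
  exact hj

end Cfsg.Agent.Helper24.RankTwoAut
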