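import Mathlib
import Cfsg.Agent.Lib.Helper24.RankTwoAut
import Cfsg.Agent.Lib.Helper24.PConstrained
import Cfsg.Agent.Lib.Helper54.PConstrained
import Cfsg.Agent.Lib.Helper55.Cores

set_option autoImplicit false

namespace Cfsg.Agent.Helper24.RankTwoSolv

open Cfsg
open scoped commutatorElement

/-- `p`-rank passes to subgroups -/
theorem pRankLE_subgroup {p k : ℕ} {G : Type*} [Group G] (h : PRankLE p k G) (Y : Subgroup G) :
    PRankLE p k ↥Y := by
  intro A hA hexp
  have h1 := h (A.map Y.subtype) inferInstance (by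
    rintro _ ⟨a, ha, rfl⟩
    have := hexp a ha
    rw [← map_pow, this, map_one])
  rwa [Subgroup.card_map_of_injective Y.subtype_injective] at h1

/-- `p`-rank passes to quotients by normal `p'`-subgroups -/
theorem pRankLE_quotient_coprime {p k : ℕ} [Fact p.Prime] {G : Type*} [Group G] [Finite G]
    (N : Subgroup G) [N.Normal] (hN : (Nat.card N).Coprime p) (h : PRankLE p k G) :
    PRankLE p k (G ⧸ N) := by
  intro E hEc hEexp
  have hEp : IsPGroup p E := by
    intro g
    refine ⟨1, ?_⟩
    rw [pow_one]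
    apply Subtype.ext
    rw [Subgroup.coe_pow]
    exact hEexp g.1 g.2
  obtain ⟨P⟩ : Nonempty (Sylow p ↥(E.comap (QuotientGroup.mk' N))) := inferInstance
  obtain ⟨E₀, hE₀⟩ : ∃ E₀ : Subgroup G,
      E₀ = (P : Subgroup ↥(E.comap (QuotientGroup.mk' N))).map (E.comap (QuotientGroup.mk' N)).subtype :=
    ⟨_, rfl⟩
  have hmap : E₀.map (QuotientGroup.mk' N) = E := by
    rw [hE₀]
    exact Cfsg.Agent.Helper54.map_sylow_comap (QuotientGroup.mk' N)
      (QuotientGroup.mk'_surjective N) E hEp P
  have hE₀p : IsPGroup p E₀ := by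
    rw [hE₀]; exact P.isPGroup'.map _
  have hinf : N ⊓ E₀ = ⊥ := Cfsg.Agent.Helper54.inf_eq_bot_of_isPGroup_of_coprime N E₀ hN hE₀p
  have himg : ∀ a ∈ E₀, QuotientGroup.mk' N a ∈ E := by
    intro a ha
    rw [← hmap]
    exact Subgroup.mem_map_of_mem _ ha
  have htriv : ∀ x ∈ E₀, QuotientGroup.mk' N x = 1 → x = 1 := by
    intro x hx h1
    have hxN : x ∈ N := by
      rw [QuotientGroup.mk'_apply, QuotientGroup.eq_one_iff] at h1
      exact h1
    have : x ∈ N ⊓ E₀ := Subgroup.mem_inf.mpr ⟨hxN, hx⟩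
    rw [hinf, Subgroup.mem_bot] at this
    exact this
  have hcomm : IsMulCommutative ↥E₀ := by
    refine ⟨⟨fun a b => Subtype.ext ?_⟩⟩
    have hmem : ⁅(a : G), (b : G)⁆ ∈ E₀ := by
      rw [commutatorElement_def]
      exact E₀.mul_mem (E₀.mul_mem (E₀.mul_mem a.2 b.2) (E₀.inv_mem a.2)) (E₀.inv_mem b.2)
    have h1 : ⁅(a : G), (b : G)⁆ = 1 := by
      apply htriv _ hmem
      rw [map_commutatorElement, commutatorElement_eq_one_iff_mul_comm]
      have := hEc.is_comm.comm ⟨_, himg a a.2⟩ ⟨_, himg b b.2⟩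
      exact congrArg Subtype.val this
    exact commutatorElement_eq_one_iff_mul_comm.mp h1
  have hexp : ∀ a ∈ E₀, a ^ p = 1 := by
    intro a ha
    apply htriv _ (E₀.pow_mem ha p)
    rw [map_pow]
    exact hEexp _ (himg a ha)
  have h1 := h E₀ hcomm hexp
  calc Nat.card E = Nat.card (E₀.map (QuotientGroup.mk' N)) := by rw [hmap]
    _ ≤ Nat.card E₀ := Nat.le_of_dvd Nat.card_pos (Subgroup.card_map_dvd _ _)
    _ ≤ p ^ k := h1


/-- **Core lemma.** A finite solvable group `H` of odd order whose `p`-core `Q` is self-centralizing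
of `p`-rank at most 2: `H' ≤ Q`, `|H : Q|` is prime to `p` and all prime divisors of `|H|` are
at most `p`. -/
theorem core {H : Type*} [Group H] [Finite H] (hsolv : Group.IsSolvable H)
    (hodd : Odd (Nat.card H)) {p : ℕ} [Fact p.Prime] (hp2 : p ≠ 2)
    (hcent : Subgroup.centralizer ((pCore p H : Subgroup H) : Set H) ≤ pCore p H)
    (hrk : PRankLE p 2 ↥(pCore p H)) :
    commutator H ≤ pCore p H ∧ ((pCore p H).index).Coprime p ∧
      ∀ q : ℕ, q.Prime → q ∣ Nat.card H → q ≤ p := by
  classical
  have hp : p.Prime := Fact.out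
  have hQp : IsPGroup p (pCore p H) := Cfsg.Agent.Helper55.isPGroup_pCore
  let φ : H →* MulAut ↥(pCore p H) := MulAut.conjNormal
  have hker : ∀ g : H, φ g = 1 → g ∈ pCore p H := by
    intro g hg
    apply hcent
    rw [Subgroup.mem_centralizer_iff]
    intro x hx
    have h1 : φ g ⟨x, hx⟩ = ⟨x, hx⟩ := by rw [hg]; rfl
    have h2 := congrArg Subtype.val h1
    rw [MulAut.conjNormal_apply] at h2
    have h3 : g * x * g⁻¹ = x := h2
    calc x * g = (g * x * g⁻¹) * g := by rw [h3]
      _ = g * x := by group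
  have hoddX : Odd (Nat.card ↥φ.range) := Odd.of_dvd_nat hodd (Subgroup.card_range_dvd φ)
  have hsolvX : Group.IsSolvable ↥φ.range :=
    Group.isSolvable_of_surjective (f := φ.rangeRestrict) φ.rangeRestrict_surjective
  have hX : IsPGroup p (commutator ↥φ.range) :=
    RankTwoAut.isPGroup_commutator_of_rank_two hp2 hQp hrk φ.range.subtype
      Subtype.val_injective hoddX hsolvX
  have hle : commutator H ≤ (commutator ↥φ.range).comap φ.rangeRestrict := by
    rw [commutator_def, Subgroup.commutator_le]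
    intro a _ b _
    rw [Subgroup.mem_comap, map_commutatorElement, commutator_def]
    exact Subgroup.commutator_mem_commutator (Subgroup.mem_top _) (Subgroup.mem_top _)
  have hcommP : IsPGroup p (commutator H) := by
    intro g
    obtain ⟨k, hk⟩ := hX ⟨φ.rangeRestrict g.1, hle g.2⟩
    have hk1 : φ (g.1 ^ (p ^ k)) = 1 := by
      have h1 := congrArg Subtype.val hk
      rw [Subgroup.coe_pow] at h1
      have h2 := congrArg Subtype.val h1
      rw [Subgroup.coe_pow] at h2
      rw [map_pow]
      exact h2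
    have hmem := hker _ hk1
    obtain ⟨j, hj⟩ := hQp ⟨_, hmem⟩
    refine ⟨k + j, ?_⟩
    apply Subtype.ext
    rw [Subgroup.coe_pow, Subgroup.coe_one, pow_add, pow_mul]
    have h3 := congrArg Subtype.val hj
    rw [Subgroup.coe_pow] at h3
    exact h3
  have h1 : commutator H ≤ pCore p H := Cfsg.Agent.Helper55.le_pCore inferInstance hcommP
  refine ⟨h1, ?_, ?_⟩
  · obtain ⟨S⟩ : Nonempty (Sylow p H) := inferInstance
    have hQS : pCore p H ≤ S := Cfsg.Agent.Helper55.pCore_le_sylow S
    have hSn : (S : Subgroup H).Normal := by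
      constructor
      intro s hs g
      have : g * s * g⁻¹ = ⁅g, s⁆ * s := by rw [commutatorElement_def]; group
      rw [this]
      refine Subgroup.mul_mem _ (hQS (h1 ?_)) hs
      rw [commutator_def]
      exact Subgroup.commutator_mem_commutator (Subgroup.mem_top g) (Subgroup.mem_top s)
    have hSQ : (S : Subgroup H) ≤ pCore p H := Cfsg.Agent.Helper55.le_pCore hSn S.isPGroup'
    have heq : pCore p H = S := le_antisymm hQS hSQ
    rw [heq]
    exact ((Nat.Prime.coprime_iff_not_dvd hp).mpr S.not_dvd_index).symm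
  · intro q hq hqd
    by_cases hqp : q = p
    · exact hqp.le
    · have hcard : Nat.card φ.ker * Nat.card φ.range = Nat.card H := by
        rw [← Subgroup.index_ker]; exact Subgroup.card_mul_index _
      have hkerle : φ.ker ≤ pCore p H := fun g hg => hker g (MonoidHom.mem_ker.mp hg)
      obtain ⟨m, hm⟩ := hQp.exists_card_eq
      have hkd : Nat.card φ.ker ∣ p ^ m := hm ▸ Subgroup.card_dvd_of_le hkerle
      have hcop : q.Coprime (Nat.card φ.ker) :=
        Nat.Coprime.coprime_dvd_right hkd (((Nat.coprime_primes hq hp).mpr hqp).pow_right m)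
      have hqr : q ∣ Nat.card φ.range := by
        rw [← hcard] at hqd; exact hcop.dvd_of_dvd_mul_left hqd
      have hqa : q ∣ Nat.card (MulAut ↥(pCore p H)) :=
        hqr.trans (Subgroup.card_subgroup_dvd_card _)
      exact (Cfsg.Agent.S0640.result hp2 hQp hrk q hq hqp hqa).2.le

end Cfsg.Agent.Helper24.RankTwoSolv
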