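import Mathlib
import Cfsg.Prelude.Def_CaseTheorems
import Cfsg.Prelude.Def_Transfer
import Cfsg.Agent.S0100
import Cfsg.Agent.S0015
import Cfsg.Agent.Lib.Helper76.AbelianNormal
import Cfsg.Agent.Lib.Helper24.ClassTwo

set_option autoImplicit false

namespace Cfsg.Agent.Helper24.RankThree

open Cfsg

variable {R : Type*} [Group R]

/-- the join of two commuting elementary abelian subgroups is elementary abelian -/
theorem elemAb_sup {p : ℕ} {H K : Subgroup R} (hH : IsElementaryAbelian p H)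
    (hK : IsElementaryAbelian p K) (hHK : H ≤ Subgroup.centralizer (K : Set R)) :
    IsElementaryAbelian p (H ⊔ K) := by
  have hHc : H ≤ Subgroup.centralizer (H : Set R) :=
    Subgroup.le_centralizer_iff_isMulCommutative.mpr hH.1
  have hKc : K ≤ Subgroup.centralizer (K : Set R) :=
    Subgroup.le_centralizer_iff_isMulCommutative.mpr hK.1
  have hKH : K ≤ Subgroup.centralizer (H : Set R) := Subgroup.le_centralizer_iff.mp hHK
  have c1 : H ≤ Subgroup.centralizer ((H ⊔ K : Subgroup R) : Set R) :=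
    Subgroup.le_centralizer_iff.mpr (sup_le hHc hKH)
  have c2 : K ≤ Subgroup.centralizer ((H ⊔ K : Subgroup R) : Set R) :=
    Subgroup.le_centralizer_iff.mpr (sup_le hHK hKc)
  have hcomm : H ⊔ K ≤ Subgroup.centralizer ((H ⊔ K : Subgroup R) : Set R) := sup_le c1 c2
  refine ⟨Subgroup.le_centralizer_iff_isMulCommutative.mp hcomm, ?_⟩
  let T : Subgroup R :=
    { carrier := {x | x ∈ H ⊔ K ∧ x ^ p = 1}
      one_mem' := ⟨one_mem _, one_pow _⟩
      mul_mem' := by
        rintro a b ⟨ha, ha'⟩ ⟨hb, hb'⟩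
        refine ⟨mul_mem ha hb, ?_⟩
        have hab : Commute a b := (hcomm hb a ha)
        rw [hab.mul_pow, ha', hb', one_mul]
      inv_mem' := by
        rintro a ⟨ha, ha'⟩
        exact ⟨inv_mem ha, by rw [inv_pow, ha', inv_one]⟩ }
  have hT : H ⊔ K ≤ T :=
    sup_le (fun x hx => ⟨Subgroup.mem_sup_left hx, hH.2 x hx⟩)
      (fun x hx => ⟨Subgroup.mem_sup_right hx, hK.2 x hx⟩)
  intro a ha
  exact (hT ha).2

/-- commutation with a fixed element, as a homomorphism into a central subgroup -/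
def commHomC (H Zc : Subgroup R) (x : R) (hZ : Zc ≤ Subgroup.center R)
    (hx : ∀ h ∈ H, h * x * h⁻¹ * x⁻¹ ∈ Zc) : H →* Zc where
  toFun h := ⟨(h : R) * x * (h : R)⁻¹ * x⁻¹, hx h h.2⟩
  map_one' := by ext; simp
  map_mul' a b := by
    ext
    simp only [Subgroup.coe_mul, mul_inv_rev]
    have hb := hZ (hx b b.2)
    rw [Subgroup.mem_center_iff] at hb
    calc (a : R) * (b : R) * x * ((b : R)⁻¹ * (a : R)⁻¹) * x⁻¹
        = ((a : R) * ((b : R) * x * (b : R)⁻¹ * x⁻¹)) * x * (a : R)⁻¹ * x⁻¹ := by group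
      _ = (((b : R) * x * (b : R)⁻¹ * x⁻¹) * (a : R)) * x * (a : R)⁻¹ * x⁻¹ := by rw [hb (a : R)]
      _ = ((b : R) * x * (b : R)⁻¹ * x⁻¹) * ((a : R) * x * (a : R)⁻¹ * x⁻¹) := by group
      _ = ((a : R) * x * (a : R)⁻¹ * x⁻¹) * ((b : R) * x * (b : R)⁻¹ * x⁻¹) := by rw [hb _]

theorem mem_ker_commHomC (H Zc : Subgroup R) (x : R) (hZ : Zc ≤ Subgroup.center R)
    (hx : ∀ h ∈ H, h * x * h⁻¹ * x⁻¹ ∈ Zc) (h : H) :
    h ∈ (commHomC H Zc x hZ hx).ker ↔ (h : R) * x = x * (h : R) := by
  rw [MonoidHom.mem_ker, Subtype.ext_iff]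
  change (h : R) * x * (h : R)⁻¹ * x⁻¹ = 1 ↔ _
  rw [mul_inv_eq_one, mul_inv_eq_iff_eq_mul]

theorem card_eq_of_commHomC [Finite R] (H Zc : Subgroup R) (x : R)
    (hZ : Zc ≤ Subgroup.center R) (hx : ∀ h ∈ H, h * x * h⁻¹ * x⁻¹ ∈ Zc) :
    ∃ k, k ∣ Nat.card Zc ∧
      Nat.card H = Nat.card (H ⊓ Subgroup.centralizer {x} : Subgroup R) * k := by
  refine ⟨Nat.card (commHomC H Zc x hZ hx).range, Subgroup.card_subgroup_dvd_card _, ?_⟩
  have h1 := Subgroup.card_mul_index (commHomC H Zc x hZ hx).ker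
  rw [Subgroup.index_ker] at h1
  rw [← h1]
  congr 1
  symm
  apply Nat.card_congr
  refine ⟨fun y => ⟨⟨(y : R), (Subgroup.mem_inf.mp y.2).1⟩, ?_⟩,
    fun y => ⟨((y : H) : R), Subgroup.mem_inf.mpr ⟨(y : H).2, ?_⟩⟩, ?_, ?_⟩
  · rw [mem_ker_commHomC]
    have := (Subgroup.mem_inf.mp y.2).2
    rw [Subgroup.mem_centralizer_singleton_iff] at this
    exact this
  · rw [Subgroup.mem_centralizer_singleton_iff]
    exact (mem_ker_commHomC H Zc x hZ hx y).mp y.2
  · intro y; rfl
  · intro y; rfl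

/-- a normal subgroup of a nilpotent group not inside `Z_i` has an element in `Z_{i+1} ∖ Z_i` -/
theorem exists_mem_ucs_succ_not_mem [hR : Group.IsNilpotent R] (H : Subgroup R) [hHn : H.Normal]
    (i : ℕ) (hH : ¬ H ≤ Subgroup.upperCentralSeries R i) :
    ∃ x ∈ H, x ∈ Subgroup.upperCentralSeries R (i + 1) ∧ x ∉ Subgroup.upperCentralSeries R i := by
  classical
  obtain ⟨c, hc⟩ := hR.nilpotent'
  have hex : ∃ n, ¬ (H ⊓ Subgroup.upperCentralSeries R n ≤ Subgroup.upperCentralSeries R i) :=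
    ⟨c, by rw [hc, inf_top_eq]; exact hH⟩
  have hspec := Nat.find_spec hex
  have hmin := fun m => Nat.find_min hex (m := m)
  have hni : i < Nat.find hex := by
    by_contra hle
    push_neg at hle
    exact hspec (le_trans inf_le_right (Subgroup.upperCentralSeries_mono R hle))
  obtain ⟨m, hnm⟩ : ∃ m, Nat.find hex = m + 1 := ⟨Nat.find hex - 1, by omega⟩
  have hm : H ⊓ Subgroup.upperCentralSeries R m ≤ Subgroup.upperCentralSeries R i := by
    have := hmin m (by omega)
    push_neg at this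
    exact this
  rw [hnm] at hspec
  rw [SetLike.not_le_iff_exists] at hspec
  obtain ⟨x, hx, hxi⟩ := hspec
  obtain ⟨hxH, hxm⟩ := Subgroup.mem_inf.mp hx
  refine ⟨x, hxH, ?_, hxi⟩
  rw [Subgroup.mem_upperCentralSeries_succ_iff]
  intro g
  apply hm
  refine Subgroup.mem_inf.mpr ⟨?_, ?_⟩
  · have : x * g * x⁻¹ * g⁻¹ = x * (g * x⁻¹ * g⁻¹) := by group
    rw [commutatorElement_def, this]
    exact H.mul_mem hxH (hHn.conj_mem _ (H.inv_mem hxH) g)
  · exact (Subgroup.mem_upperCentralSeries_succ_iff.mp hxm) g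

/-- consequence of S0100: rank at least three gives a normal elementary abelian subgroup of
order `p^3` -/
theorem exists_normal_cube [Finite R] {p : ℕ} [Fact p.Prime] (hp : p ≠ 2) (hR : IsPGroup p R)
    (hr : ¬ PRankLE p 2 R) :
    ∃ A : Subgroup R, A.Normal ∧ IsElementaryAbelian p A ∧ Nat.card A = p ^ 3 := by
  by_contra hcon
  push_neg at hcon
  apply hr
  intro B hB hBe
  exact Cfsg.Agent.S0100.result hp hR (fun A hn hc he => hcon A hn ⟨hc, he⟩) B hB hBe

/-- a normal elementary abelian subgroup of order `p^2` in a `p`-group with a normal elementary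
abelian subgroup of order `p^3` lies in a larger normal elementary abelian subgroup -/
theorem exists_big_elemAb [Finite R] {p : ℕ} [hp : Fact p.Prime] (hR : IsPGroup p R)
    (E : Subgroup R) [hEn : E.Normal] (hE : IsElementaryAbelian p E) (hE2 : Nat.card E = p ^ 2)
    (A₀ : Subgroup R) [hAn : A₀.Normal] (hA : IsElementaryAbelian p A₀)
    (hA3 : Nat.card A₀ = p ^ 3) :
    ∃ F : Subgroup R, F.Normal ∧ IsElementaryAbelian p F ∧ E ≤ F ∧ p ^ 2 < Nat.card F := by
  classical
  have hpp := hp.out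
  have : Group.IsNilpotent R := hR.isNilpotent
  by_cases hEA : E ≤ A₀
  · exact ⟨A₀, hAn, hA, hEA, by rw [hA3]; exact Nat.pow_lt_pow_right hpp.one_lt (by norm_num)⟩
  by_cases hEZ : E ≤ Subgroup.center R
  · refine ⟨A₀ ⊔ E, inferInstance, elemAb_sup hA hE ?_, le_sup_right, ?_⟩
    · exact Subgroup.le_centralizer_iff.mp (le_trans hEZ (Subgroup.center_le_centralizer _))
    · have : Nat.card A₀ ≤ Nat.card (A₀ ⊔ E : Subgroup R) :=
        Subgroup.card_le_of_le le_sup_left
      rw [hA3] at this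
      exact lt_of_lt_of_le (Nat.pow_lt_pow_right hpp.one_lt (by norm_num)) this
  -- the general case
  have hAE : Nat.card (A₀ ⊓ E : Subgroup R) ≤ p := by
    have hd : Nat.card (A₀ ⊓ E : Subgroup R) ∣ p ^ 2 := by
      rw [← hE2]; exact Subgroup.card_dvd_of_le inf_le_right
    obtain ⟨k, hk, hk'⟩ := (Nat.dvd_prime_pow hpp).mp hd
    interval_cases k
    · rw [hk']; simpa using hpp.one_lt.le
    · rw [hk']; simp
    · exfalso
      apply hEA
      have : (A₀ ⊓ E : Subgroup R) = E :=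
        Subgroup.eq_of_le_of_card_ge inf_le_right (by rw [hk', hE2])
      rw [← this]; exact inf_le_left
  -- choose e ∈ E outside the centre
  rw [SetLike.not_le_iff_exists] at hEZ
  obtain ⟨e, heE, heZ⟩ := hEZ
  set Z₀ := E ⊓ Subgroup.center R with hZ₀
  have hZ₀ne : Z₀ ≠ ⊥ := Cfsg.Agent.S0015.normal_inf_center_ne_bot E (by
    intro h
    rw [h, Subgroup.card_bot] at hE2
    have := Nat.one_lt_pow (n := 2) (by norm_num) hpp.one_lt
    omega)
  have heZ₀ : e ∉ Z₀ := fun h => heZ (Subgroup.mem_inf.mp h).2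
  have hgen : Z₀ ⊔ Subgroup.zpowers e = E := by
    have hle : Z₀ ⊔ Subgroup.zpowers e ≤ E :=
      sup_le inf_le_left (by rw [Subgroup.zpowers_le]; exact heE)
    apply Subgroup.eq_of_le_of_card_ge hle
    have hd : Nat.card (Z₀ ⊔ Subgroup.zpowers e : Subgroup R) ∣ p ^ 2 := by
      rw [← hE2]; exact Subgroup.card_dvd_of_le hle
    obtain ⟨k, hk, hk'⟩ := (Nat.dvd_prime_pow hpp).mp hd
    have hd0 : Nat.card Z₀ ∣ p ^ 2 := by
      rw [← hE2]; exact Subgroup.card_dvd_of_le inf_le_left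
    obtain ⟨k0, hk0, hk0'⟩ := (Nat.dvd_prime_pow hpp).mp hd0
    have hk0pos : k0 ≠ 0 := by
      rintro rfl
      apply hZ₀ne
      rw [pow_zero] at hk0'
      exact Subgroup.card_eq_one.mp hk0'
    have hlt : Z₀ < Z₀ ⊔ Subgroup.zpowers e := by
      apply lt_of_le_of_ne le_sup_left
      intro h
      apply heZ₀
      rw [h]
      exact Subgroup.mem_sup_right (Subgroup.mem_zpowers e)
    have hclt : Nat.card Z₀ < Nat.card (Z₀ ⊔ Subgroup.zpowers e : Subgroup R) := by
      by_contra hge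
      push_neg at hge
      exact absurd (Subgroup.eq_of_le_of_card_ge hlt.le hge) (ne_of_lt hlt)
    rw [hk', hk0'] at hclt
    have hkk : k0 < k := (Nat.pow_lt_pow_iff_right hpp.one_lt).mp hclt
    have : k = 2 := by omega
    rw [hE2, hk', this]
  -- B = C_{A₀}(e) = C_{A₀}(E)
  have hAcomm : ∀ a ∈ A₀, ∀ a' ∈ A₀, a * a' = a' * a := by
    intro a ha a' ha'
    exact (Subgroup.le_centralizer_iff_isMulCommutative.mpr hA.1 ha' a ha).symm ▸ rfl
  have hBeq : A₀ ⊓ Subgroup.centralizer {e} = A₀ ⊓ Subgroup.centralizer (E : Set R) := by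
    apply le_antisymm
    · intro a ha
      obtain ⟨haA, hae⟩ := Subgroup.mem_inf.mp ha
      refine Subgroup.mem_inf.mpr ⟨haA, ?_⟩
      have : E ≤ Subgroup.centralizer {a} := by
        rw [← hgen]
        apply sup_le
        · exact le_trans inf_le_right (Subgroup.center_le_centralizer _)
        · rw [Subgroup.zpowers_le, Subgroup.mem_centralizer_singleton_iff]
          rw [Subgroup.mem_centralizer_singleton_iff] at hae
          exact hae.symm
      rw [Subgroup.mem_centralizer_iff]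
      intro y hy
      have := this hy
      rw [Subgroup.mem_centralizer_singleton_iff] at this
      exact this
    · exact inf_le_inf_left _ (Subgroup.centralizer_le (by simpa using heE))
  obtain ⟨B, hB⟩ : ∃ B : Subgroup R, B = A₀ ⊓ Subgroup.centralizer (E : Set R) := ⟨_, rfl⟩
  have hBn : B.Normal := by rw [hB]; infer_instance
  have hBcard : p ^ 2 ≤ Nat.card B := by
    -- |A₀| = |ker| * |range|, |range| ≤ |A₀ ⊓ E| ≤ p
    set φ := Cfsg.Agent.Helper76.commHom A₀ hAn hAcomm e with hφ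
    have h1 := Subgroup.card_mul_index φ.ker
    rw [Subgroup.index_ker, hA3] at h1
    have hker : Nat.card φ.ker ≤ Nat.card B := by
      rw [hB, ← hBeq]
      apply Nat.card_le_card_of_injective
        (fun y : φ.ker => (⟨((y : A₀) : R), Subgroup.mem_inf.mpr ⟨(y : A₀).2, by
          rw [Subgroup.mem_centralizer_singleton_iff]
          exact (Cfsg.Agent.Helper76.mem_ker_commHom A₀ hAn hAcomm e y).mp y.2⟩⟩ :
            (A₀ ⊓ Subgroup.centralizer {e} : Subgroup R)))
      intro y y' hyy'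
      apply Subtype.ext; apply Subtype.ext
      have h := congrArg Subtype.val hyy'
      exact h
    have hrange : Nat.card φ.range ≤ p := by
      refine le_trans ?_ hAE
      apply Nat.card_le_card_of_injective
        (fun y : φ.range => (⟨((y : A₀) : R), Subgroup.mem_inf.mpr ⟨(y : A₀).2, by
          obtain ⟨a, ha⟩ := y.2
          rw [← ha, Cfsg.Agent.Helper76.commHom_apply_coe]
          have : (a : R) * (e * (a : R)⁻¹ * e⁻¹) = ((a : R) * e * (a : R)⁻¹) * e⁻¹ := by group
          rw [this]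
          exact E.mul_mem (hEn.conj_mem e heE _) (E.inv_mem heE)⟩⟩ :
            (A₀ ⊓ E : Subgroup R)))
      intro y y' hyy'
      apply Subtype.ext; apply Subtype.ext
      have h := congrArg Subtype.val hyy'
      exact h
    by_contra hlt
    push_neg at hlt
    have hkpos : 0 < Nat.card φ.ker := Nat.card_pos
    have : Nat.card φ.ker * Nat.card φ.range < p ^ 2 * p := by
      calc Nat.card φ.ker * Nat.card φ.range ≤ Nat.card φ.ker * p := Nat.mul_le_mul_left _ hrange
        _ < p ^ 2 * p := Nat.mul_lt_mul_of_pos_right (lt_of_le_of_lt hker hlt) hpp.pos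
    rw [h1] at this
    have h3 : p ^ 3 = p ^ 2 * p := by ring
    omega
  have hBle : B ≤ Subgroup.centralizer (E : Set R) := by rw [hB]; exact inf_le_right
  have hBA : B ≤ A₀ := by rw [hB]; exact inf_le_left
  have hBel : IsElementaryAbelian p B := by
    refine ⟨?_, fun a ha => hA.2 a (hBA ha)⟩
    apply Subgroup.le_centralizer_iff_isMulCommutative.mp
    intro a ha b hb
    exact Subgroup.le_centralizer_iff_isMulCommutative.mpr hA.1 (hBA ha) b (hBA hb)
  refine ⟨B ⊔ E, inferInstance, elemAb_sup hBel hE hBle, le_sup_right, ?_⟩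
  by_contra hle
  push_neg at hle
  have hFE : (B ⊔ E : Subgroup R) = E :=
    (Subgroup.eq_of_le_of_card_ge le_sup_right (by rw [hE2]; exact hle)).symm
  have hBE : B ≤ A₀ ⊓ E := le_inf hBA (by rw [← hFE]; exact le_sup_left)
  have := le_trans hBcard (le_trans (Subgroup.card_le_of_le hBE) hAE)
  have h2 : p < p ^ 2 := by
    calc p = p ^ 1 := (pow_one p).symm
      _ < p ^ 2 := Nat.pow_lt_pow_right hpp.one_lt (by norm_num)
  omega

end Cfsg.Agent.Helper24.RankThree
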