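import Mathlib
import Cfsg.Agent.S1949
import Cfsg.Agent.S1453
import Cfsg.Agent.Lib.Helper87.ChainAut
import Cfsg.Agent.Lib.Helper24.RankThree

set_option autoImplicit false

/-!
# Automorphisms of narrow `p`-groups of rank at least 3

If `P` is a `p`-group (`p` odd) of rank at least 3 having a maximal elementary abelian subgroup of
order `p ^ 2`, then `Aut P` has a normal Sylow `p`-subgroup with abelian quotient of exponent
dividing `p - 1`.
-/

namespace Cfsg.Agent.Helper24.NarrowAut

open Cfsg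
open Cfsg.Agent.Helper87

section counting

variable {R : Type*} [Group R]

/-- if `[M, x] ⊆ L` then `|M| ≤ |L| * |C_M(x)|` -/
theorem card_le_mul_card_inf_centralizer [Finite R] (M L : Subgroup R) (x : R)
    (h : ∀ m ∈ M, m * x * m⁻¹ * x⁻¹ ∈ L) :
    Nat.card M ≤ Nat.card L * Nat.card (M ⊓ Subgroup.centralizer {x} : Subgroup R) := by
  classical
  set K : Subgroup M := (M ⊓ Subgroup.centralizer {x}).subgroupOf M with hK
  have h1 : Nat.card M = Nat.card (M ⧸ K) * Nat.card K :=
    Subgroup.card_eq_card_quotient_mul_card_subgroup K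
  have h2 : Nat.card K = Nat.card (M ⊓ Subgroup.centralizer {x} : Subgroup R) :=
    Nat.card_congr (Subgroup.subgroupOfEquivOfLe inf_le_left).toEquiv
  let f : M → L := fun m => ⟨m.1 * x * m.1⁻¹ * x⁻¹, h m.1 m.2⟩
  have hf : ∀ a b : M, (QuotientGroup.leftRel K) a b → f a = f b := by
    intro a b hab
    rw [QuotientGroup.leftRel_apply, hK, Subgroup.mem_subgroupOf, Subgroup.mem_inf] at hab
    have hc := hab.2
    rw [Subgroup.mem_centralizer_iff] at hc
    have hc' := hc x (Set.mem_singleton x)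
    simp only [Subgroup.coe_mul, Subgroup.coe_inv] at hc'
    apply Subtype.ext
    show a.1 * x * a.1⁻¹ * x⁻¹ = b.1 * x * b.1⁻¹ * x⁻¹
    congr 1
    calc a.1 * x * a.1⁻¹ = a.1 * (x * (a.1⁻¹ * b.1)) * b.1⁻¹ := by group
      _ = a.1 * ((a.1⁻¹ * b.1) * x) * b.1⁻¹ := by rw [hc']
      _ = b.1 * x * b.1⁻¹ := by group
  have hinj : Function.Injective (Quotient.lift (s := QuotientGroup.leftRel K) f hf) := by
    intro q1 q2
    induction q1 using Quotient.inductionOn with
    | _ a =>
      induction q2 using Quotient.inductionOn with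
      | _ b =>
        intro heq
        apply Quotient.sound
        show (QuotientGroup.leftRel K) a b
        rw [QuotientGroup.leftRel_apply, hK, Subgroup.mem_subgroupOf, Subgroup.mem_inf]
        have h3 : a.1 * x * a.1⁻¹ * x⁻¹ = b.1 * x * b.1⁻¹ * x⁻¹ := congrArg Subtype.val heq
        have h4 : a.1 * x * a.1⁻¹ = b.1 * x * b.1⁻¹ := mul_right_cancel h3
        refine ⟨(a⁻¹ * b).2, ?_⟩
        rw [Subgroup.mem_centralizer_iff]
        intro y hy
        rw [Set.mem_singleton_iff] at hy
        subst hy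
        simp only [Subgroup.coe_mul, Subgroup.coe_inv]
        calc y * (a.1⁻¹ * b.1) = a.1⁻¹ * (a.1 * y * a.1⁻¹) * b.1 := by group
          _ = a.1⁻¹ * (b.1 * y * b.1⁻¹) * b.1 := by rw [h4]
          _ = a.1⁻¹ * b.1 * y := by group
  have h3 : Nat.card (M ⧸ K) ≤ Nat.card L := Nat.card_le_card_of_injective _ hinj
  rw [h1, h2]
  exact Nat.mul_le_mul_right _ h3

end counting

section step

variable {G : Type*} [Group G]

/-- a step of index at most `p` in a `p`-group is a cyclic step -/
theorem cyclicStep_of_card_le [Finite G] {p : ℕ} [Fact p.Prime] (hG : IsPGroup p G)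
    (L U : Subgroup G) [L.Normal] (hLU : L ≤ U) (hc : Nat.card U ≤ Nat.card L * p) :
    CyclicStep L U := by
  have hp : p.Prime := Fact.out
  by_cases hUL : U ≤ L
  · exact ⟨1, one_mem _, fun x hx => ⟨0, by simpa using hUL hx⟩⟩
  · obtain ⟨y, hyU, hyL⟩ := SetLike.not_le_iff_exists.mp hUL
    refine ⟨y, hyU, ?_⟩
    have hle : Subgroup.zpowers y ⊔ L ≤ U := sup_le (by rwa [Subgroup.zpowers_le]) hLU
    have hsup : Subgroup.zpowers y ⊔ L = U := by
      apply Subgroup.eq_of_le_of_card_ge hle
      obtain ⟨a, ha⟩ := (hG.to_subgroup L).exists_card_eq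
      obtain ⟨b, hb⟩ := (hG.to_subgroup (Subgroup.zpowers y ⊔ L)).exists_card_eq
      have hlt : Nat.card L < Nat.card (Subgroup.zpowers y ⊔ L : Subgroup G) := by
        by_contra hge
        push Not at hge
        have := Subgroup.eq_of_le_of_card_ge (le_sup_right : L ≤ Subgroup.zpowers y ⊔ L) hge
        apply hyL
        rw [this]
        exact Subgroup.mem_sup_left (Subgroup.mem_zpowers y)
      rw [ha, hb] at hlt
      have hab : a < b := (Nat.pow_lt_pow_iff_right hp.one_lt).mp hlt
      calc Nat.card U ≤ Nat.card L * p := hc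
        _ = p ^ (a + 1) := by rw [ha, pow_succ]
        _ ≤ p ^ b := Nat.pow_le_pow_right hp.pos hab
        _ = Nat.card (Subgroup.zpowers y ⊔ L : Subgroup G) := hb.symm
    intro x hx
    rw [← hsup] at hx
    have hx' : x ∈ ((Subgroup.zpowers y ⊔ L : Subgroup G) : Set G) := hx
    rw [Subgroup.mul_normal] at hx'
    obtain ⟨a, ha, b, hb, rfl⟩ := Set.mem_mul.mp hx'
    obtain ⟨k, rfl⟩ := Subgroup.mem_zpowers_iff.mp ha
    exact ⟨k, by simpa using hb⟩

end step

section main

variable {P : Type*} [Group P]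

theorem char_mem_iff (H : Subgroup P) [hH : H.Characteristic] (α : MulAut P) (x : P) :
    α x ∈ H ↔ x ∈ H := by
  have h1 := Subgroup.characteristic_iff_comap_eq.mp hH α
  constructor
  · intro h
    rw [← h1]
    exact h
  · intro h
    rw [← h1] at h
    exact h

theorem exists_pow_eq_one_of_fixes [Finite P] {p : ℕ} [Fact p.Prime] (D : Subgroup P)
    (hDfaith : ∀ α : MulAut P, (orderOf α).Coprime p → (∀ d ∈ D, α d = d) → α = 1)
    (γ : MulAut P) (hγ : ∀ x ∈ D, γ x = x) : ∃ e, γ ^ (p ^ e) = 1 := by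
  have hp : p.Prime := Fact.out
  have hγ0 : orderOf γ ≠ 0 := (orderOf_pos _).ne'
  obtain ⟨e, n', hn', hen⟩ := Nat.exists_eq_pow_mul_and_not_dvd hγ0 p hp.ne_one
  have hδord : orderOf (γ ^ (p ^ e)) = n' := by
    rw [orderOf_pow_of_dvd (pow_ne_zero e hp.ne_zero) (Dvd.intro _ hen.symm), hen,
      Nat.mul_div_cancel_left _ (pow_pos hp.pos e)]
  have hδfix : ∀ x ∈ D, (γ ^ (p ^ e)) x = x := fun x hx =>
    Cfsg.Agent.S1949.pow_apply_fix _ x (hγ x hx) _
  have hcop : (orderOf (γ ^ (p ^ e))).Coprime p := by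
    rw [hδord]
    exact ((Nat.Prime.coprime_iff_not_dvd hp).mpr hn').symm
  exact ⟨e, hDfaith _ hcop hδfix⟩

/-- **Automorphisms of narrow `p`-groups of rank at least 3.** -/
theorem main [Finite P] {p : ℕ} [Fact p.Prime] (hp2 : p ≠ 2) (hP : IsPGroup p P)
    (hr : ¬ PRankLE p 2 P) (E : Subgroup P) (hE : IsElementaryAbelian p E)
    (hE2 : Nat.card E = p ^ 2)
    (hEmax : ∀ B : Subgroup P, IsElementaryAbelian p B → E ≤ B → B = E) :
    ∃ S : Subgroup (MulAut P), IsPGroup p S ∧ (∀ α β : MulAut P, α * β * α⁻¹ * β⁻¹ ∈ S) ∧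
      ∀ α : MulAut P, (orderOf α).Coprime p → α ^ (p - 1) = 1 := by
  classical
  have hp : p.Prime := Fact.out
  obtain ⟨hET, hZcard, -, hTchar, hTidx⟩ :=
    Cfsg.Agent.S1453.result p hp2 hP hr E hE hE2 hEmax
  obtain ⟨T, hT⟩ : ∃ T : Subgroup P, T = Subgroup.centralizer
    ((Subgroup.closure {x : P | x ∈ Subgroup.upperCentralSeries P 2 ∧ x ^ p = 1} :
      Subgroup P) : Set P) := ⟨_, rfl⟩
  obtain ⟨Z, hZ⟩ : ∃ Z : Subgroup P,
    Z = Subgroup.closure {x : P | x ∈ Subgroup.center P ∧ x ^ p = 1} := ⟨_, rfl⟩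
  rw [← hT] at hET hTchar hTidx
  rw [← hZ] at hZcard
  -- facts on Z
  have hZ1 : ∀ x ∈ Z, x ∈ Subgroup.center P ∧ x ^ p = 1 := by
    intro x hx
    rw [hZ] at hx
    induction hx using Subgroup.closure_induction with
    | mem x hx => exact hx
    | one => exact ⟨one_mem _, one_pow _⟩
    | mul x y _ _ hx hy =>
      refine ⟨mul_mem hx.1 hy.1, ?_⟩
      have hc : Commute x y := ((Subgroup.mem_center_iff.mp hx.1) y).symm
      rw [hc.mul_pow, hx.2, hy.2, one_mul]
    | inv x _ hx => exact ⟨inv_mem hx.1, by rw [inv_pow, hx.2, inv_one]⟩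
  have hZcenter : Z ≤ Subgroup.center P := fun x hx => (hZ1 x hx).1
  have hZT : Z ≤ T := by
    rw [hT]
    exact hZcenter.trans (Subgroup.center_le_centralizer _)
  -- maximality of E
  have hkey : ∀ u : P, u ^ p = 1 → (∀ y ∈ E, y * u = u * y) → u ∈ E := by
    intro u hu huE
    have hK : IsElementaryAbelian p (Subgroup.zpowers u) := by
      refine ⟨inferInstance, ?_⟩
      intro a ha
      obtain ⟨k, rfl⟩ := Subgroup.mem_zpowers_iff.mp ha
      rw [← zpow_natCast, ← zpow_mul, mul_comm, zpow_mul, zpow_natCast, hu, one_zpow]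
    have hEK : E ≤ Subgroup.centralizer ((Subgroup.zpowers u : Subgroup P) : Set P) := by
      rw [Subgroup.le_centralizer_iff, Subgroup.zpowers_le, Subgroup.mem_centralizer_iff]
      intro y hy
      exact huE y hy
    have h1 := Cfsg.Agent.Helper24.RankThree.elemAb_sup hE hK hEK
    have h2 := hEmax _ h1 le_sup_left
    rw [← h2]
    exact Subgroup.mem_sup_right (Subgroup.mem_zpowers u)
  have hZE : Z ≤ E := by
    intro z hz
    apply hkey z (hZ1 z hz).2
    intro y _
    exact (Subgroup.mem_center_iff.mp (hZ1 z hz).1) y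
  have hZne : Z ≠ ⊥ := by
    intro h
    rw [h, Subgroup.card_bot] at hZcard
    exact hp.one_lt.ne hZcard
  have hETZ : E ⊓ T = Z := by
    have h1 : Nat.card (E ⊓ T : Subgroup P) = p := by
      apply Cfsg.Agent.S1453.card_eq_prime_of_between hp (inf_le_left : E ⊓ T ≤ E) hE2
      · intro h
        apply hZne
        rw [eq_bot_iff, ← h]
        exact le_inf hZE hZT
      · intro h
        apply hET
        rw [← h]
        exact inf_le_right
    exact (Subgroup.eq_of_le_of_card_ge (le_inf hZE hZT) (by rw [h1, hZcard])).symm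
  obtain ⟨x, hxE, hxT⟩ := SetLike.not_le_iff_exists.mp hET
  have hxZ : x ∉ Z := fun h => hxT (hZT h)
  have hEsup : Z ⊔ Subgroup.zpowers x = E :=
    Cfsg.Agent.S1453.sup_zpowers_eq hp hZE hZcard hE2 hxE hxZ
  -- small centralizer of x in T
  have hsmall : ∀ u : P, u ^ p = 1 → u * x = x * u → u ∈ T → u ∈ Z := by
    intro u hu hux huT
    have h1 : u ∈ E := by
      apply hkey u hu
      intro y hy
      rw [← hEsup] at hy
      have hle : Z ⊔ Subgroup.zpowers x ≤ Subgroup.centralizer {u} := by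
        apply sup_le
        · intro z hz
          rw [Subgroup.mem_centralizer_iff]
          intro w hw
          rw [Set.mem_singleton_iff] at hw
          subst hw
          exact ((Subgroup.mem_center_iff.mp (hZ1 z hz).1) w)
        · rw [Subgroup.zpowers_le, Subgroup.mem_centralizer_iff]
          intro w hw
          rw [Set.mem_singleton_iff] at hw
          subst hw
          exact hux
      have := hle hy
      rw [Subgroup.mem_centralizer_iff] at this
      exact (this u (Set.mem_singleton u)).symm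
    rw [← hETZ]
    exact ⟨h1, huT⟩
  -- the subgroup D
  obtain ⟨D, hDinv, -, hDexp, hDcomm, hDfaith, -⟩ :=
    Cfsg.Agent.S1949.result hP (⊤ : Subgroup (MulAut P)) le_top
  have hexp : ∀ d ∈ D, d ^ p = 1 := by
    intro d hd
    rcases hDexp d hd with h | ⟨h, -⟩
    · exact h
    · exact absurd h hp2
  have hDchar : D.Characteristic :=
    Subgroup.characteristic_iff_map_eq.mpr (fun α => hDinv α (Subgroup.mem_top α))
  have hDp : IsPGroup p ↥D := hP.to_subgroup D
  have hfaith : ∀ α : MulAut P, (orderOf α).Coprime p → (∀ d ∈ D, α d = d) → α = 1 :=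
    fun α h1 h2 => hDfaith α (Subgroup.mem_top α) h1 h2
  obtain ⟨c, hc⟩ := (hP.isNilpotent).nilpotent
  -- the chain
  let Hn : ℕ → Subgroup P := fun i =>
    if i ≤ c then D ⊓ T ⊓ Subgroup.upperCentralSeries P i else D
  have hHnchar : ∀ i, (Hn i).Characteristic := by
    intro i
    show (if i ≤ c then D ⊓ T ⊓ Subgroup.upperCentralSeries P i else D).Characteristic
    split_ifs
    · infer_instance
    · exact hDchar
  have hHnD : ∀ i, Hn i ≤ D := by
    intro i
    show (if i ≤ c then D ⊓ T ⊓ Subgroup.upperCentralSeries P i else D) ≤ D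
    split_ifs
    · exact inf_le_left.trans inf_le_left
    · exact le_rfl
  have hHn_le : ∀ i, i ≤ c → Hn i = D ⊓ T ⊓ Subgroup.upperCentralSeries P i := by
    intro i hi
    show (if i ≤ c then D ⊓ T ⊓ Subgroup.upperCentralSeries P i else D) = _
    rw [if_pos hi]
  have hHn_gt : ∀ i, ¬ i ≤ c → Hn i = D := by
    intro i hi
    show (if i ≤ c then D ⊓ T ⊓ Subgroup.upperCentralSeries P i else D) = _
    rw [if_neg hi]
  -- cardinality steps
  have hstepcard : ∀ i, i ≤ c → Hn i ≤ Hn (i + 1) ∧ Nat.card (Hn (i + 1)) ≤ Nat.card (Hn i) * p := by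
    intro i hi
    by_cases hi' : i + 1 ≤ c
    · rw [hHn_le i hi, hHn_le (i + 1) hi']
      refine ⟨inf_le_inf_left _ (Subgroup.upperCentralSeries_mono P (Nat.le_succ i)), ?_⟩
      have hDTn : (D ⊓ T).Normal := inferInstance
      have h1 := card_le_mul_card_inf_centralizer
        (D ⊓ T ⊓ Subgroup.upperCentralSeries P (i + 1))
        (D ⊓ T ⊓ Subgroup.upperCentralSeries P i) x (by
          intro m hm
          refine ⟨?_, ?_⟩
          · have h2 : x * m⁻¹ * x⁻¹ ∈ D ⊓ T := hDTn.conj_mem _ (inv_mem hm.1) x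
            have h3 := mul_mem hm.1 h2
            have h4 : m * x * m⁻¹ * x⁻¹ = m * (x * m⁻¹ * x⁻¹) := by group
            rw [h4]
            exact h3
          · exact (Subgroup.mem_upperCentralSeries_succ_iff.mp hm.2) x)
      have h2 : Nat.card (D ⊓ T ⊓ Subgroup.upperCentralSeries P (i + 1) ⊓
          Subgroup.centralizer {x} : Subgroup P) ≤ p := by
        rw [← hZcard]
        apply Subgroup.card_le_of_le
        intro u hu
        rw [Subgroup.mem_inf, Subgroup.mem_inf] at hu
        have hu1 : u ∈ D ⊓ T := hu.1.1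
        have hux := hu.2
        rw [Subgroup.mem_centralizer_iff] at hux
        exact hsmall u (hexp u hu1.1) (hux x (Set.mem_singleton x)).symm hu1.2
      exact h1.trans (Nat.mul_le_mul_left _ h2)
    · have hic : i = c := by omega
      rw [hHn_le i hi, hHn_gt (i + 1) hi', hic, hc, inf_top_eq]
      refine ⟨inf_le_left, ?_⟩
      have h1 : Nat.card (D ⊓ T : Subgroup P) * (D ⊓ T).relIndex D = Nat.card D := by
        have := Subgroup.relIndex_mul_relIndex (⊥ : Subgroup P) (D ⊓ T) D bot_le inf_le_left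
        rwa [Subgroup.relIndex_bot_left, Subgroup.relIndex_bot_left] at this
      have h2 : (D ⊓ T).relIndex D ∣ p := by
        rw [inf_comm, Subgroup.inf_relIndex_right, ← hTidx]
        have : T.Normal := inferInstance
        exact Subgroup.relIndex_dvd_index_of_normal T D
      rw [← h1]
      exact Nat.mul_le_mul_left _ (Nat.le_of_dvd hp.pos h2)
  -- the chain in D
  let N : Fin (c + 1 + 1) → Subgroup ↥D := fun i => (Hn i).subgroupOf D
  have h0 : N 0 = ⊥ := by
    show (Hn 0).subgroupOf D = ⊥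
    rw [hHn_le 0 (Nat.zero_le c), Subgroup.upperCentralSeries_zero, inf_bot_eq,
      Subgroup.bot_subgroupOf]
  have hlast : N (Fin.last (c + 1)) = ⊤ := by
    show (Hn (c + 1)).subgroupOf D = ⊤
    rw [hHn_gt (c + 1) (by omega), Subgroup.subgroupOf_self]
  have hnorm : ∀ i, (N i).Normal := by
    intro i
    have : (Hn i).Normal := by
      have := hHnchar i
      infer_instance
    show ((Hn i).subgroupOf D).Normal
    infer_instance
  have hcardN : ∀ i, Nat.card ((Hn i).subgroupOf D) = Nat.card (Hn i) := fun i =>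
    Nat.card_congr (Subgroup.subgroupOfEquivOfLe (hHnD i)).toEquiv
  have hcyc : ∀ i : Fin (c + 1), CyclicStep (N i.castSucc) (N i.succ) := by
    intro i
    have hi : (i : ℕ) ≤ c := Nat.lt_succ_iff.mp i.2
    obtain ⟨hle, hcard⟩ := hstepcard i hi
    have := hnorm i.castSucc
    apply cyclicStep_of_card_le hDp
    · show (Hn (i.castSucc : ℕ)).subgroupOf D ≤ (Hn (i.succ : ℕ)).subgroupOf D
      rw [Fin.val_castSucc, Fin.val_succ]
      intro d hd
      rw [Subgroup.mem_subgroupOf] at hd ⊢
      exact hle hd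
    · show Nat.card ((Hn (i.succ : ℕ)).subgroupOf D) ≤
        Nat.card ((Hn (i.castSucc : ℕ)).subgroupOf D) * p
      rw [Fin.val_castSucc, Fin.val_succ, hcardN, hcardN]
      exact hcard
  -- restriction to D
  have hpres : ∀ α : MulAut P, MulAut.characteristic D α ∈ chainPres N := by
    intro α
    refine Subgroup.mem_iInf.2 (fun i => ?_)
    rw [mem_presSub]
    intro d
    show (MulAut.characteristic D α d) ∈ (Hn i).subgroupOf D ↔ d ∈ (Hn i).subgroupOf D
    rw [Subgroup.mem_subgroupOf, Subgroup.mem_subgroupOf]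
    have := hHnchar i
    exact char_mem_iff (Hn i) α d.1
  obtain ⟨n, hn⟩ := IsPGroup.iff_card.1 hDp
  -- the p-subgroup S
  have hSp : IsPGroup p ((chainStab N).comap (MulAut.characteristic D)) := by
    intro g
    have hg : MulAut.characteristic D g.1 ∈ chainStab N := g.2
    have h1 := chainStab_pow_eq_one h0 hlast hg
    rw [hn, ← pow_mul, ← map_pow] at h1
    have hfix : ∀ d ∈ D, (g.1 ^ (p ^ (n * (c + 1)))) d = d := by
      intro d hd
      have h2 := congrArg (fun σ : MulAut ↥D => ((σ ⟨d, hd⟩ : ↥D) : P)) h1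
      exact h2
    obtain ⟨e, he⟩ := exists_pow_eq_one_of_fixes D hfaith _ hfix
    refine ⟨n * (c + 1) + e, ?_⟩
    apply Subtype.ext
    rw [Subgroup.coe_pow, Subgroup.coe_one, pow_add, pow_mul]
    exact he
  refine ⟨(chainStab N).comap (MulAut.characteristic D), hSp, ?_, ?_⟩
  · intro α β
    rw [Subgroup.mem_comap, map_mul, map_mul, map_mul, map_inv, map_inv]
    exact commutator_mem_chainStab hnorm hcyc (hpres α) (hpres β)
  · intro α hα
    have h1 : α ^ ((p - 1) * Nat.card ↥D) ∈ (chainStab N).comap (MulAut.characteristic D) := by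
      rw [Subgroup.mem_comap, map_pow]
      exact pow_mem_chainStab hDp hnorm hcyc (hpres α)
    obtain ⟨j, hj⟩ := hSp ⟨_, h1⟩
    have h2 : (α ^ ((p - 1) * Nat.card ↥D)) ^ (p ^ j) = 1 := by
      have := congrArg Subtype.val hj
      rwa [Subgroup.coe_pow, Subgroup.coe_one] at this
    rw [hn, ← pow_mul, mul_assoc, ← pow_add] at h2
    have h3 : orderOf α ∣ (p - 1) * p ^ (n + j) := orderOf_dvd_of_pow_eq_one h2
    have h4 : orderOf α ∣ p - 1 :=
      Nat.Coprime.dvd_of_dvd_mul_right (Nat.Coprime.pow_right _ hα) h3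
    exact orderOf_dvd_iff_pow_eq_one.mp h4

/-- derived subgroups of groups of automorphisms of narrow `p`-groups of rank at least 3 are
`p`-groups -/
theorem isPGroup_commutator [Finite P] {p : ℕ} [Fact p.Prime] (hp2 : p ≠ 2) (hP : IsPGroup p P)
    (hr : ¬ PRankLE p 2 P) (E : Subgroup P) (hE : IsElementaryAbelian p E)
    (hE2 : Nat.card E = p ^ 2)
    (hEmax : ∀ B : Subgroup P, IsElementaryAbelian p B → E ≤ B → B = E)
    {X : Type*} [Group X] (f : X →* MulAut P) (hf : Function.Injective f) :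
    IsPGroup p (commutator X) := by
  obtain ⟨S, hS, hcomm, -⟩ := main hp2 hP hr E hE hE2 hEmax
  have hle : commutator X ≤ S.comap f := by
    rw [commutator_def, Subgroup.commutator_le]
    intro a _ b _
    rw [Subgroup.mem_comap, map_commutatorElement, commutatorElement_def]
    exact hcomm (f a) (f b)
  intro g
  obtain ⟨k, hk⟩ := hS ⟨f g.1, hle g.2⟩
  refine ⟨k, ?_⟩
  apply Subtype.ext
  rw [Subgroup.coe_pow, Subgroup.coe_one]
  apply hf
  rw [map_pow, map_one]
  have := congrArg Subtype.val hk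
  rwa [Subgroup.coe_pow, Subgroup.coe_one] at this

/-- `p'`-automorphisms of narrow `p`-groups of rank at least 3 have order dividing `p - 1` -/
theorem pow_eq_one_of_coprime [Finite P] {p : ℕ} [Fact p.Prime] (hp2 : p ≠ 2) (hP : IsPGroup p P)
    (hr : ¬ PRankLE p 2 P) (E : Subgroup P) (hE : IsElementaryAbelian p E)
    (hE2 : Nat.card E = p ^ 2)
    (hEmax : ∀ B : Subgroup P, IsElementaryAbelian p B → E ≤ B → B = E)
    {X : Type*} [Group X] (f : X →* MulAut P) (hf : Function.Injective f) (a : X)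
    (ha : (orderOf a).Coprime p) : a ^ (p - 1) = 1 := by
  obtain ⟨S, -, -, hexp⟩ := main hp2 hP hr E hE hE2 hEmax
  apply hf
  rw [map_pow, map_one]
  apply hexp
  rwa [orderOf_injective f hf a]

/-- in a `p`-group of rank at least 3, every elementary abelian subgroup lies in a maximal
elementary abelian subgroup of order at least `p ^ 2` -/
theorem exists_max_elemAb [Finite P] {p : ℕ} [Fact p.Prime] (hP : IsPGroup p P)
    (hr : ¬ PRankLE p 2 P) (E₀ : Subgroup P) (hE₀ : IsElementaryAbelian p E₀) :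
    ∃ E₁ : Subgroup P, E₀ ≤ E₁ ∧ IsElementaryAbelian p E₁ ∧
      (∀ B : Subgroup P, IsElementaryAbelian p B → E₁ ≤ B → B = E₁) ∧ p ^ 2 ≤ Nat.card E₁ := by
  classical
  have hp : p.Prime := Fact.out
  have hne : Nonempty {B : Subgroup P // IsElementaryAbelian p B ∧ E₀ ≤ B} :=
    ⟨⟨E₀, hE₀, le_rfl⟩⟩
  obtain ⟨⟨E₁, hE₁, hE₀₁⟩, hmax⟩ := Finite.exists_max
    (fun B : {B : Subgroup P // IsElementaryAbelian p B ∧ E₀ ≤ B} => Nat.card B.1)
  have hEmax : ∀ B : Subgroup P, IsElementaryAbelian p B → E₁ ≤ B → B = E₁ := by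
    intro B hB hle
    have := hmax ⟨B, hB, hE₀₁.trans hle⟩
    exact (Subgroup.eq_of_le_of_card_ge hle this).symm
  refine ⟨E₁, hE₀₁, hE₁, hEmax, ?_⟩
  by_contra hlt
  push Not at hlt
  apply hr
  -- a central element of order p
  have hPnt : Nontrivial P := by
    by_contra hnt
    rw [not_nontrivial_iff_subsingleton] at hnt
    apply hr
    intro A _ _
    have : Nat.card A = 1 := Nat.card_unique
    rw [this]
    exact Nat.one_le_pow _ _ hp.pos
  have hcnt : Nontrivial (Subgroup.center P) := hP.center_nontrivial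
  have hcp : IsPGroup p (Subgroup.center P) := hP.to_subgroup _
  obtain ⟨n, hn⟩ := hcp.exists_card_eq
  have hn0 : n ≠ 0 := by
    rintro rfl
    rw [pow_zero] at hn
    have := Finite.one_lt_card_iff_nontrivial.mpr hcnt
    omega
  have hpd : p ∣ Nat.card (Subgroup.center P) := by
    rw [hn]; exact dvd_pow_self p hn0
  obtain ⟨z, hz⟩ := exists_prime_orderOf_dvd_card' p hpd
  have hzp : (z : P) ^ p = 1 := by
    have := pow_orderOf_eq_one z
    rw [hz] at this
    have h2 := congrArg Subtype.val this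
    rwa [Subgroup.coe_pow, Subgroup.coe_one] at h2
  have hzc : (z : P) ∈ Subgroup.center P := z.2
  have hzord : orderOf (z : P) = p := by rw [Subgroup.orderOf_coe]; exact hz
  have hzelem : IsElementaryAbelian p (Subgroup.zpowers (z : P)) := by
    refine ⟨inferInstance, ?_⟩
    intro a ha
    obtain ⟨k, rfl⟩ := Subgroup.mem_zpowers_iff.mp ha
    rw [← zpow_natCast, ← zpow_mul, mul_comm, zpow_mul, zpow_natCast, hzp, one_zpow]
  have hzcent : ∀ (K : Subgroup P), K ≤ Subgroup.centralizer ((Subgroup.zpowers (z : P) : Subgroup P) : Set P) := by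
    intro K k _
    rw [Subgroup.mem_centralizer_iff]
    intro w hw
    obtain ⟨j, rfl⟩ := Subgroup.mem_zpowers_iff.mp hw
    have : (z : P) ^ j ∈ Subgroup.center P := Subgroup.zpow_mem _ hzc j
    exact ((Subgroup.mem_center_iff.mp this) k).symm
  have hzE : Subgroup.zpowers (z : P) ≤ E₁ := by
    have h1 := Cfsg.Agent.Helper24.RankThree.elemAb_sup hE₁ hzelem (hzcent E₁)
    have h2 := hEmax _ h1 le_sup_left
    rw [← h2]
    exact le_sup_right
  have hcardz : Nat.card (Subgroup.zpowers (z : P)) = p := by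
    rw [Nat.card_zpowers, hzord]
  have hE₁p : IsPGroup p E₁ := hP.to_subgroup _
  obtain ⟨m, hm⟩ := hE₁p.exists_card_eq
  have hm1 : m ≤ 1 := by
    rw [hm] at hlt
    have := (Nat.pow_lt_pow_iff_right hp.one_lt).mp hlt
    omega
  have hEz : E₁ = Subgroup.zpowers (z : P) := by
    apply (Subgroup.eq_of_le_of_card_ge hzE _).symm
    rw [hcardz, hm]
    calc p ^ m ≤ p ^ 1 := Nat.pow_le_pow_right hp.pos hm1
      _ = p := pow_one p
  intro B hBc hBe
  have hB : IsElementaryAbelian p B := ⟨hBc, hBe⟩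
  have h1 := Cfsg.Agent.Helper24.RankThree.elemAb_sup hE₁ hB (by
    rw [hEz]
    intro k hk
    rw [Subgroup.mem_centralizer_iff]
    intro b _
    obtain ⟨j, rfl⟩ := Subgroup.mem_zpowers_iff.mp hk
    have : (z : P) ^ j ∈ Subgroup.center P := Subgroup.zpow_mem _ hzc j
    exact ((Subgroup.mem_center_iff.mp this) b))
  have h2 := hEmax _ h1 le_sup_left
  have hBE : B ≤ E₁ := by rw [← h2]; exact le_sup_right
  calc Nat.card B ≤ Nat.card E₁ := Subgroup.card_le_of_le hBE
    _ = p := by rw [hEz, hcardz]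
    _ ≤ p ^ 2 := by nlinarith [hp.two_le]

end main

end Cfsg.Agent.Helper24.NarrowAut
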