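import Cfsg.Agent.Lib.Helper1.CD3.Defs
import Cfsg.Agent.S0173
import Mathlib

/-!
Piece (P5) `p_central` of helper1's lemma server "CD3B" (row S4460), delivered by helper24.
-/

set_option autoImplicit false

namespace Cfsg.Agent.Helper24.CD3B

open Cfsg Cfsg.Agent.Helper81 Cfsg.Agent.Helper1.CD3

universe u

/-- A finite group is not covered by the conjugates of a proper subgroup (Burnside's lemma on the cosets). -/
theorem h24_no_cover {R : Type*} [Group R] [Finite R] (C : Subgroup R)
    (h : ∀ r : R, ∃ g : R, g⁻¹ * r * g ∈ C) : C = ⊤ := by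
  classical
  have := Fintype.ofFinite R
  have := Fintype.ofFinite (R ⧸ C)
  have : Fintype (Quotient (MulAction.orbitRel R (R ⧸ C))) := Fintype.ofFinite _
  have hB := MulAction.sum_card_fixedBy_eq_card_orbits_mul_card_group R (R ⧸ C)
  have horb : Fintype.card (Quotient (MulAction.orbitRel R (R ⧸ C))) = 1 := by
    rw [Fintype.card_eq_one_iff]
    refine ⟨Quotient.mk'' ((1 : R) : R ⧸ C), ?_⟩
    intro q
    induction q using Quotient.inductionOn' with
    | h a =>
      apply Quotient.sound'
      rw [MulAction.orbitRel_apply]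
      obtain ⟨g, hg⟩ := MulAction.exists_smul_eq R ((1 : R) : R ⧸ C) a
      exact ⟨g, hg⟩
  rw [horb, one_mul] at hB
  have hge : ∀ r : R, 1 ≤ Fintype.card (MulAction.fixedBy (R ⧸ C) r) := by
    intro r
    obtain ⟨g, hg⟩ := h r
    apply Fintype.card_pos_iff.2
    refine ⟨⟨(g : R ⧸ C), ?_⟩⟩
    rw [MulAction.mem_fixedBy, MulAction.Quotient.smul_mk, QuotientGroup.eq, smul_eq_mul]
    have h1 : (r * g)⁻¹ * g = (g⁻¹ * r * g)⁻¹ := by group
    rw [h1]
    exact C.inv_mem hg
  have h1fix : Fintype.card (MulAction.fixedBy (R ⧸ C) (1 : R)) = Fintype.card (R ⧸ C) := by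
    apply Fintype.card_congr
    exact (Equiv.subtypeUnivEquiv (fun a => by rw [MulAction.mem_fixedBy, one_smul]))
  have hsum : ∑ r : R, Fintype.card (MulAction.fixedBy (R ⧸ C) r)
      ≥ (Fintype.card R - 1) + Fintype.card (R ⧸ C) := by
    rw [← Finset.add_sum_erase Finset.univ _ (Finset.mem_univ (1 : R)), h1fix, add_comm]
    apply Nat.add_le_add_right
    calc Fintype.card R - 1 = ∑ _r ∈ Finset.univ.erase (1 : R), 1 := by
          rw [Finset.sum_const, Finset.card_erase_of_mem (Finset.mem_univ _), Finset.card_univ,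
            smul_eq_mul, mul_one]
      _ ≤ _ := Finset.sum_le_sum (fun r _ => hge r)
  have hidx : Fintype.card (R ⧸ C) ≤ 1 := by
    have hpos : 0 < Fintype.card R := Fintype.card_pos
    omega
  rw [← Subgroup.index_eq_one, Subgroup.index_eq_card, Nat.card_eq_fintype_card]
  have hpos : 0 < Fintype.card (R ⧸ C) := Fintype.card_pos
  omega

theorem p_central {Φ : Type u} [Group Φ] [Finite Φ] (p : ℕ) [Fact p.Prime]
    (R : Subgroup Φ) (hR : R.Normal) (hRc : (Nat.card R).Coprime p)
    (x : Φ) (hx : ∃ k : ℕ, orderOf x = p ^ k)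
    (hfix : ∀ ρ : R → ℂ, IsIrrCharacter R ρ → conjFun R hR ρ x = ρ) :
    ∀ r ∈ R, x * r = r * x := by
  classical
  have := hR
  obtain ⟨k, hk⟩ := hx
  set α : R ≃* R := MulAut.conjNormal x with hα
  have hαa : ∀ n : R, ((α n : R) : Φ) = x * n * x⁻¹ := fun n => by
    rw [hα, MulAut.conjNormal_apply]
  have hconj : ∀ ρ : R → ℂ, conjFun R hR ρ x = ρ ∘ α := by
    intro ρ
    funext n
    rw [conjFun_apply, Function.comp_apply]
    congr 1
  -- all irreducible characters are fixed, hence all classes
  have h1 := Cfsg.Agent.S0173.result α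
  have h2 := Cfsg.Agent.S0173.result (MulEquiv.refl R)
  have h3 : Nat.card {χ : IrrCharacter R // (χ : R → ℂ) ∘ α = (χ : R → ℂ)}
      = Nat.card {χ : IrrCharacter R // (χ : R → ℂ) ∘ (MulEquiv.refl R) = (χ : R → ℂ)} := by
    apply Nat.card_congr
    apply Equiv.subtypeEquivRight
    intro χ
    constructor
    · intro _; rfl
    · intro _; rw [← hconj]; exact hfix _ χ.2
  have h4 : Nat.card {C : ConjClasses R // ConjClasses.map (MulEquiv.refl R).toMonoidHom C = C}
      = Nat.card (ConjClasses R) := by
    apply Nat.card_congr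
    apply Equiv.subtypeUnivEquiv
    intro C
    obtain ⟨a, rfl⟩ := ConjClasses.mk_surjective C
    rfl
  have hall : ∀ C : ConjClasses R, ConjClasses.map α.toMonoidHom C = C := by
    by_contra hne
    push Not at hne
    obtain ⟨C₀, hC₀⟩ := hne
    have := Fintype.ofFinite (ConjClasses R)
    have hlt := Fintype.card_subtype_lt (p := fun C : ConjClasses R =>
      ConjClasses.map α.toMonoidHom C = C) hC₀
    rw [← Nat.card_eq_fintype_card, ← Nat.card_eq_fintype_card, h1, h3, ← h2, h4] at hlt
    exact lt_irrefl _ hlt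
  -- the subgroup of R centralised by x
  let C : Subgroup R :=
    { carrier := {r | x * (r : Φ) = r * x}
      one_mem' := by simp
      mul_mem' := by
        intro a b ha hb
        simp only [Set.mem_ofPred_eq, Subgroup.coe_mul] at ha hb ⊢
        rw [← mul_assoc, ha, mul_assoc, hb, mul_assoc]
      inv_mem' := by
        intro a ha
        simp only [Set.mem_ofPred_eq, Subgroup.coe_inv] at ha ⊢
        have : (a : Φ)⁻¹ * (x * a) * (a : Φ)⁻¹ = (a : Φ)⁻¹ * (a * x) * (a : Φ)⁻¹ := by rw [ha]
        simpa [mul_assoc] using this.symm }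
  have hαpow : ∀ (n : ℕ) (r : R), (((α ^ n) r : R) : Φ) = x ^ n * r * (x ^ n)⁻¹ := by
    intro n
    induction n with
    | zero => intro r; simp
    | succ n ih =>
      intro r
      rw [pow_succ', MulAut.mul_apply, hαa, ih, pow_succ']
      group
  have hxpk : x ^ p ^ k = 1 := by rw [← hk]; exact pow_orderOf_eq_one x
  have hcover : ∀ r : R, ∃ g : R, g⁻¹ * r * g ∈ C := by
    intro r
    set K := ConjClasses.mk r with hK
    have hKfix := hall K
    -- α preserves the carrier of K
    have hmem : ∀ y : R, y ∈ K.carrier ↔ α y ∈ K.carrier := by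
      intro y
      rw [ConjClasses.mem_carrier_iff_mk_eq, ConjClasses.mem_carrier_iff_mk_eq]
      constructor
      · intro hy
        have : ConjClasses.map α.toMonoidHom (ConjClasses.mk y) = ConjClasses.mk (α y) := rfl
        rw [← this, hy, hKfix]
      · intro hy
        have h5 : ConjClasses.map α.toMonoidHom (ConjClasses.mk y) = ConjClasses.mk (α y) := rfl
        have h6 : ConjClasses.map α.toMonoidHom (ConjClasses.mk y)
            = ConjClasses.map α.toMonoidHom K := by rw [h5, hy, hKfix]
        -- injectivity of map α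
        have hinj : Function.Injective (ConjClasses.map α.toMonoidHom) := by
          intro A B hAB
          have h7 : ConjClasses.map α.symm.toMonoidHom (ConjClasses.map α.toMonoidHom A)
              = ConjClasses.map α.symm.toMonoidHom (ConjClasses.map α.toMonoidHom B) := by rw [hAB]
          obtain ⟨a, rfl⟩ := ConjClasses.mk_surjective A
          obtain ⟨b, rfl⟩ := ConjClasses.mk_surjective B
          have e1 : ConjClasses.map α.symm.toMonoidHom (ConjClasses.map α.toMonoidHom
              (ConjClasses.mk a)) = ConjClasses.mk (α.symm (α a)) := rfl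
          have e2 : ConjClasses.map α.symm.toMonoidHom (ConjClasses.map α.toMonoidHom
              (ConjClasses.mk b)) = ConjClasses.mk (α.symm (α b)) := rfl
          rw [e1, e2, MulEquiv.symm_apply_apply, MulEquiv.symm_apply_apply] at h7
          exact h7
        exact hinj h6
    let σ : Equiv.Perm K.carrier := Equiv.subtypeEquiv α.toEquiv hmem
    have hσpow : ∀ (n : ℕ) (y : K.carrier), (((σ ^ n) y : K.carrier) : R) = (α ^ n) (y : R) := by
      intro n
      induction n with
      | zero => intro y; simp
      | succ n ih =>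
        intro y
        rw [pow_succ', Equiv.Perm.mul_apply, pow_succ', MulAut.mul_apply, ← ih]
        rfl
    have hσ : σ ^ p ^ k = 1 := by
      ext y
      rw [hσpow, Equiv.Perm.one_apply, hαpow, hxpk]
      simp
    have := Fintype.ofFinite K.carrier
    have hcardK : ¬ p ∣ Fintype.card K.carrier := by
      intro hdvd
      have h5 : Fintype.card K.carrier ∣ Nat.card R := by
        rw [← Nat.card_eq_fintype_card, hK, Nat.card_coe_set_eq,
          ← ConjAct.orbit_eq_carrier_conjClasses, ← MulAction.index_stabilizer]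
        have h6 := Subgroup.index_dvd_card (MulAction.stabilizer (ConjAct R) r)
        have h7 : Nat.card (ConjAct R) = Nat.card R := rfl
        rwa [h7] at h6
      have h8 : p ∣ Nat.card R := dvd_trans hdvd h5
      have h9 := Nat.Coprime.eq_one_of_dvd hRc.symm h8
      exact (Fact.out : p.Prime).one_lt.ne' h9
    obtain ⟨y, hy⟩ := Equiv.Perm.exists_fixed_point_of_prime hcardK hσ
    -- y is a conjugate of r fixed by α
    have hyK : ConjClasses.mk (y : R) = ConjClasses.mk r := by
      have h5 : (y : R) ∈ K.carrier := y.2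
      rw [ConjClasses.mem_carrier_iff_mk_eq] at h5
      rw [h5]
    rw [ConjClasses.mk_eq_mk_iff_isConj, isConj_iff] at hyK
    obtain ⟨c, hc⟩ := hyK
    -- c * y * c⁻¹ = r
    refine ⟨c, ?_⟩
    have h10 : c⁻¹ * r * c = (y : R) := by rw [← hc]; group
    rw [h10]
    change x * ((y : R) : Φ) = ((y : R) : Φ) * x
    have h11 : ((σ y : K.carrier) : R) = α (y : R) := rfl
    have h12 : (α (y : R) : R) = (y : R) := by rw [← h11, hy]
    have h13 := hαa (y : R)
    rw [h12] at h13
    calc x * ((y : R) : Φ) = (x * ((y : R) : Φ) * x⁻¹) * x := by group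
      _ = ((y : R) : Φ) * x := by rw [← h13]
  have hCtop := h24_no_cover C hcover
  intro r hr
  have : (⟨r, hr⟩ : R) ∈ C := by rw [hCtop]; trivial
  exact this

end Cfsg.Agent.Helper24.CD3B
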