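import Mathlib
import Cfsg.Agent.Lib.Helper24.Coprime

set_option autoImplicit false

namespace Cfsg.Agent.Helper24

open Subgroup
open scoped commutatorElement

variable {G : Type*} [Group G]

/-- If `G` is solvable, `N` is normal and `G = G' N`, then `N = G`. -/
theorem eq_top_of_commutator_sup_eq_top [Group.IsSolvable G] (N : Subgroup G) [N.Normal]
    (h : commutator G ⊔ N = ⊤) : N = ⊤ := by
  by_contra hne
  have hnt : Nontrivial (G ⧸ N) := by
    by_contra hnn
    rw [not_nontrivial_iff_subsingleton] at hnn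
    exact hne (QuotientGroup.subgroup_eq_top_of_subsingleton N hnn)
  have hlt := Group.IsSolvable.commutator_lt_top_of_nontrivial (G ⧸ N)
  have hsurj := QuotientGroup.mk'_surjective N
  have h1 : (commutator G).map (QuotientGroup.mk' N) = commutator (G ⧸ N) := by
    rw [map_commutator_eq, MonoidHom.range_eq_top.mpr hsurj, commutator_def]
  have h2 : (commutator G ⊔ N).map (QuotientGroup.mk' N) = ⊤ := by
    rw [h, ← MonoidHom.range_eq_map, MonoidHom.range_eq_top.mpr hsurj]
  rw [Subgroup.map_sup, QuotientGroup.map_mk'_self, sup_bot_eq, h1] at h2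
  exact (ne_of_lt hlt) h2

/-- **Averaging argument.** If `K` normalizes `H` and `|H|`, `|K|` are coprime then
`C_H(K) ∩ [H,K] ≤ H'`. -/
theorem inf_centralizer_inf_commutator_le [Finite G] (H K : Subgroup G)
    (hK : K ≤ normalizer (H : Set G)) (hcop : (Nat.card H).Coprime (Nat.card K)) :
    H ⊓ centralizer (K : Set G) ⊓ ⁅H, K⁆ ≤ ⁅H, H⁆ := by
  classical
  have : Fintype K := Fintype.ofFinite K
  let φ : K → (H →* H) := fun k => (H.normalizerMonoidHom ⟨k, hK k.2⟩).toMonoidHom
  let α : K → (Abelianization H →* Abelianization H) := fun k => Abelianization.map (φ k)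
  let θ : Abelianization H →* Abelianization H := ∏ k : K, α k
  have hφ : ∀ (k : K) (x : H), ((φ k x : H) : G) = k * x * (k : G)⁻¹ := fun k x => rfl
  have hθ : ∀ x : H, θ (Abelianization.of x) = ∏ k : K, Abelianization.of (φ k x) := by
    intro x
    simp only [θ, α, MonoidHom.finsetProd_apply, Abelianization.map_of]
  have hφmul : ∀ (k k0 : K) (x : H), φ k (φ k0 x) = φ (k * k0) x := by
    intro k k0 x
    apply Subtype.ext
    rw [hφ, hφ, hφ]
    simp [mul_assoc]
  -- P3
  have hP3 : ∀ (k0 : K) (x : H), θ (Abelianization.of (φ k0 x)) = θ (Abelianization.of x) := by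
    intro k0 x
    rw [hθ, hθ]
    simp only [hφmul]
    exact Fintype.prod_equiv (Equiv.mulRight k0) _ _ (fun _ => rfl)
  -- P4
  have hcomm_le : ⁅H, K⁆ ≤ H := commutator_le_of_le_normalizer H K hK
  have hP4' : ∀ x, x ∈ Subgroup.closure {g | ∃ g₁ ∈ H, ∃ g₂ ∈ K, ⁅g₁, g₂⁆ = g} →
      ∀ hxH : x ∈ H, θ (Abelianization.of ⟨x, hxH⟩) = 1 := by
    intro x hx
    induction hx using Subgroup.closure_induction with
    | mem y hy =>
      intro hyH
      obtain ⟨h, hh, k, hk, rfl⟩ := hy
      have : (⟨⁅h, k⁆, hyH⟩ : H) = ⟨h, hh⟩ * (φ ⟨k, hk⟩ ⟨h, hh⟩)⁻¹ := by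
        apply Subtype.ext
        simp only [Subgroup.coe_mul, Subgroup.coe_inv, hφ, commutatorElement_def]
        group
      rw [this, map_mul, map_mul, map_inv, map_inv, hP3, mul_inv_cancel]
    | one =>
      intro h1
      have : (⟨1, h1⟩ : H) = 1 := rfl
      rw [this, map_one, map_one]
    | mul y z hy hz ihy ihz =>
      intro hyz
      have hyH : y ∈ H := hcomm_le (by rw [Subgroup.commutator_def]; exact hy)
      have hzH : z ∈ H := hcomm_le (by rw [Subgroup.commutator_def]; exact hz)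
      have : (⟨y * z, hyz⟩ : H) = ⟨y, hyH⟩ * ⟨z, hzH⟩ := rfl
      rw [this, map_mul, map_mul, ihy hyH, ihz hzH, one_mul]
    | inv y hy ihy =>
      intro hyi
      have hyH : y ∈ H := hcomm_le (by rw [Subgroup.commutator_def]; exact hy)
      have : (⟨y⁻¹, hyi⟩ : H) = (⟨y, hyH⟩ : H)⁻¹ := rfl
      rw [this, map_inv, map_inv, ihy hyH, inv_one]
  have hP4 : ∀ x (hx : x ∈ ⁅H, K⁆), θ (Abelianization.of ⟨x, hcomm_le hx⟩) = 1 := by
    intro x hx
    exact hP4' x (by rw [← Subgroup.commutator_def]; exact hx) _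
  rintro c ⟨⟨hcH, hcK⟩, hcHK⟩
  -- P2
  have hP2 : θ (Abelianization.of ⟨c, hcH⟩) = (Abelianization.of ⟨c, hcH⟩) ^ (Nat.card K) := by
    rw [hθ]
    have : ∀ k : K, φ k ⟨c, hcH⟩ = ⟨c, hcH⟩ := by
      intro k
      apply Subtype.ext
      rw [hφ]
      have := (mem_centralizer_iff.mp hcK) k k.2
      simp only
      rw [this]; group
    simp only [this, Finset.prod_const, Finset.card_univ, Nat.card_eq_fintype_card]
  have h1 : (Abelianization.of (⟨c, hcH⟩ : H)) ^ (Nat.card K) = 1 := by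
    rw [← hP2]; exact hP4 c hcHK
  have h2 : (Abelianization.of (⟨c, hcH⟩ : H)) ^ (Nat.card H) = 1 := by
    rw [← map_pow]
    have : (⟨c, hcH⟩ : H) ^ (Nat.card H) = 1 := pow_card_eq_one'
    rw [this, map_one]
  have h3 : Abelianization.of (⟨c, hcH⟩ : H) = 1 := by
    have ho1 := orderOf_dvd_of_pow_eq_one h1
    have ho2 := orderOf_dvd_of_pow_eq_one h2
    have : orderOf (Abelianization.of (⟨c, hcH⟩ : H)) ∣ 1 := by
      have := Nat.dvd_gcd ho2 ho1
      rwa [hcop] at this
    exact orderOf_eq_one_iff.mp (Nat.dvd_one.mp this)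
  have h4 : (⟨c, hcH⟩ : H) ∈ commutator H := by
    rw [← Abelianization.ker_of]; exact h3
  rw [← map_subtype_commutator]
  exact ⟨⟨c, hcH⟩, h4, rfl⟩

end Cfsg.Agent.Helper24
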