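import Mathlib

set_option autoImplicit false

namespace Cfsg.Agent.Helper24

variable {G : Type*} [Group G]

/-- The normalizer of `P` normalizes (the image of) every characteristic subgroup of `P`. -/
theorem normalizer_le_normalizer_map_subtype_of_characteristic (P : Subgroup G) (K : Subgroup P)
    [hK : K.Characteristic] :
    Subgroup.normalizer (P : Set G) ≤ Subgroup.normalizer ((K.map P.subtype : Subgroup G) : Set G) := by
  intro b hb
  have key : ∀ c : G, c ∈ Subgroup.normalizer (P : Set G) → ∀ k ∈ K.map P.subtype,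
      c * k * c⁻¹ ∈ K.map P.subtype := by
    intro c hc k hk
    obtain ⟨k', hk', rfl⟩ := hk
    let φ : MulAut P := P.normalizerMonoidHom ⟨c, hc⟩
    have h1 : φ k' ∈ K := by
      have := hK.fixed φ
      have h2 : k' ∈ K.comap φ.toMonoidHom ↔ k' ∈ K := by rw [this]
      exact h2.mpr hk'
    exact ⟨φ k', h1, rfl⟩
  rw [Subgroup.mem_normalizer_iff]
  intro k
  constructor
  · exact key b hb k
  · intro h
    have := key b⁻¹ (Subgroup.inv_mem _ hb) _ h
    simpa [mul_assoc] using this

/-- If `b` normalizes `H` and `K` then `b` normalizes `⁅H, K⁆`. -/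
theorem mem_normalizer_commutator_of_mem {H K : Subgroup G} {b : G}
    (hH : b ∈ Subgroup.normalizer (H : Set G)) (hK : b ∈ Subgroup.normalizer (K : Set G)) :
    b ∈ Subgroup.normalizer ((⁅H, K⁆ : Subgroup G) : Set G) := by
  rw [Subgroup.mem_normalizer_iff_map_conj_eq] at hH hK ⊢
  rw [Subgroup.map_commutator, hH, hK]

theorem le_normalizer_commutator_of_le {B H K : Subgroup G}
    (hH : B ≤ Subgroup.normalizer (H : Set G)) (hK : B ≤ Subgroup.normalizer (K : Set G)) :
    B ≤ Subgroup.normalizer ((⁅H, K⁆ : Subgroup G) : Set G) :=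
  fun _ hb => mem_normalizer_commutator_of_mem (hH hb) (hK hb)

end Cfsg.Agent.Helper24
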