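import Mathlib
import Cfsg.Prelude.Def_Local
import Cfsg.Agent.Lib.Helper24.SZInternal
import Cfsg.Agent.Lib.Helper24.CharSub
import Cfsg.Agent.Lib.Helper55.Cores
import Cfsg.Agent.Lib.Helper76.PSolvable

set_option autoImplicit false
open Cfsg

namespace Cfsg.Agent.Helper24

open scoped commutatorElement

variable {G : Type*} [Group G]

/-- Burnside: a `p'`-group `B` normalizing the `p`-group `P` with `[P, B] ≤ Φ(P)` centralizes `P`. -/
theorem le_centralizer_of_commutator_le_frattini [Finite G] {p : ℕ} [hp : Fact p.Prime]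
    (P B : Subgroup G) (hP : IsPGroup p P) (hB : (Nat.card B).Coprime p)
    (hBP : B ≤ Subgroup.normalizer (P : Set G))
    (hcomm : ⁅P, B⁆ ≤ (frattini ↥P).map P.subtype) :
    P ≤ Subgroup.centralizer (B : Set G) := by
  have hcop : (Nat.card B).Coprime (Nat.card P) := by
    obtain ⟨k, hk⟩ := IsPGroup.iff_card.mp hP
    rw [hk]
    exact Nat.Coprime.pow_right k hB
  have hnil : Group.IsNilpotent P := hP.isNilpotent
  have hsolv : Group.IsSolvable P := inferInstance
  have hdec := eq_commutator_sup_centralizer P B hBP hcop hsolv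
  set D := P ⊓ Subgroup.centralizer (B : Set G) with hD
  have hDP : D ≤ P := inf_le_left
  have hΦP : (frattini ↥P).map P.subtype ≤ P := Subgroup.map_subtype_le _
  have h1 : P ≤ D ⊔ (frattini ↥P).map P.subtype := by
    calc P = ⁅P, B⁆ ⊔ D := hdec
      _ ≤ (frattini ↥P).map P.subtype ⊔ D := sup_le_sup_right hcomm D
      _ = D ⊔ (frattini ↥P).map P.subtype := sup_comm _ _
  have h2 : D.subgroupOf P ⊔ frattini ↥P = ⊤ := by
    rw [eq_top_iff]
    intro x _
    have hx := h1 x.2
    have h3 : (D ⊔ (frattini ↥P).map P.subtype).subgroupOf P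
        = D.subgroupOf P ⊔ ((frattini ↥P).map P.subtype).subgroupOf P :=
      Subgroup.subgroupOf_sup hDP hΦP
    have h4 : ((frattini ↥P).map P.subtype).subgroupOf P = frattini ↥P :=
      Subgroup.comap_map_eq_self_of_injective P.subtype_injective _
    rw [h4] at h3
    rw [← h3]
    exact Subgroup.mem_subgroupOf.mpr hx
  have h5 : D.subgroupOf P = ⊤ := frattini_nongenerating h2
  intro x hx
  have : (⟨x, hx⟩ : ↥P) ∈ D.subgroupOf P := by rw [h5]; exact Subgroup.mem_top _
  exact (Subgroup.mem_subgroupOf.mp this).2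

/-- **Hall–Higman Lemma 1.2.5** (core form): in a finite `p`-solvable group `H` with `O_{p'}(H) = 1`,
an element acting trivially on `O_p(H)/Φ(O_p(H))` lies in `O_p(H)`. -/
theorem mem_pCore_of_commutator_mem_frattini [Finite G] {p : ℕ} [hp : Fact p.Prime]
    (hG : IsPSolvable p G) (hcore : pPrimeCore p G = ⊥) (h : G)
    (hh : ∀ x ∈ pCore p G, h * x * h⁻¹ * x⁻¹ ∈ (frattini ↥(pCore p G)).map (pCore p G).subtype) :
    h ∈ pCore p G := by
  classical
  have hpp : p.Prime := hp.out
  set P := pCore p G with hPdef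
  have hPn : P.Normal := Cfsg.pCore_normal p G
  have hPp : IsPGroup p P := Cfsg.Agent.Helper55.isPGroup_pCore
  set Φ := (frattini ↥P).map P.subtype with hΦdef
  have hΦn : Φ.Normal := by
    rw [← Subgroup.normalizer_eq_top_iff, eq_top_iff]
    have h1 := normalizer_le_normalizer_map_subtype_of_characteristic P (frattini ↥P)
    rw [Subgroup.normalizer_eq_top_iff.mpr hPn] at h1
    exact h1
  -- the kernel of the action on P/Φ
  let C : Subgroup G :=
    { carrier := {c | ∀ x ∈ P, c * x * c⁻¹ * x⁻¹ ∈ Φ}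
      one_mem' := by
        intro x _
        simp only [one_mul, inv_one, mul_one, mul_inv_cancel]
        exact Φ.one_mem
      mul_mem' := by
        intro a b ha hb x hx
        have h1 : a * (b * x * b⁻¹ * x⁻¹) * a⁻¹ ∈ Φ := hΦn.conj_mem _ (hb x hx) a
        have h2 := ha x hx
        have : a * b * x * (a * b)⁻¹ * x⁻¹ = (a * (b * x * b⁻¹ * x⁻¹) * a⁻¹) * (a * x * a⁻¹ * x⁻¹) := by
          group
        rw [this]
        exact Φ.mul_mem h1 h2
      inv_mem' := by
        intro a ha x hx
        have hy : a⁻¹ * x * a ∈ P := by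
          have := hPn.conj_mem x hx a⁻¹
          simpa using this
        have h1 := ha _ hy
        have : a⁻¹ * x * a⁻¹⁻¹ * x⁻¹ = (a * (a⁻¹ * x * a) * a⁻¹ * (a⁻¹ * x * a)⁻¹)⁻¹ := by group
        rw [this]
        exact Φ.inv_mem h1 }
  have hCmem : ∀ c : G, c ∈ C ↔ ∀ x ∈ P, c * x * c⁻¹ * x⁻¹ ∈ Φ := fun _ => Iff.rfl
  have hCn : C.Normal := by
    refine ⟨fun c hc k => ?_⟩
    rw [hCmem] at hc ⊢
    intro x hx
    have hy : k⁻¹ * x * k ∈ P := by
      have := hPn.conj_mem x hx k⁻¹
      simpa using this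
    have h1 := hΦn.conj_mem _ (hc _ hy) k
    have : k * c * k⁻¹ * x * (k * c * k⁻¹)⁻¹ * x⁻¹
        = k * (c * (k⁻¹ * x * k) * c⁻¹ * (k⁻¹ * x * k)⁻¹) * k⁻¹ := by group
    rw [this]
    exact h1
  have hCP : Subgroup.centralizer (P : Set G) ≤ P :=
    Cfsg.Agent.Helper76.centralizer_pCore_le hG hcore
  have hCp : IsPGroup p C := by
    intro c
    have hn : orderOf (c : G) ≠ 0 := (orderOf_pos (c : G)).ne'
    obtain ⟨e, m, hm, hnm⟩ := Nat.exists_eq_pow_mul_and_not_dvd hn p hpp.ne_one
    refine ⟨e, ?_⟩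
    set c' : G := (c : G) ^ (p ^ e) with hc'
    have hc'C : c' ∈ C := C.pow_mem c.2 _
    have hc'm : c' ^ m = 1 := by
      rw [hc', ← pow_mul, ← hnm]
      exact pow_orderOf_eq_one _
    set B := Subgroup.zpowers c' with hBdef
    have hBcard : Nat.card B ∣ m := by
      rw [Nat.card_zpowers]
      exact orderOf_dvd_of_pow_eq_one hc'm
    have hmcop : m.Coprime p := (Nat.Prime.coprime_iff_not_dvd hpp).mpr hm |>.symm
    have hBcop : (Nat.card B).Coprime p := Nat.Coprime.coprime_dvd_left hBcard hmcop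
    have hBC : B ≤ C := by
      rw [hBdef, Subgroup.zpowers_le]
      exact hc'C
    have hBP : B ≤ Subgroup.normalizer (P : Set G) := by
      rw [Subgroup.normalizer_eq_top_iff.mpr hPn]
      exact le_top
    have hcomm : ⁅P, B⁆ ≤ Φ := by
      rw [Subgroup.commutator_le]
      intro x hx b hb
      have h1 := (hCmem b).mp (hBC hb) x hx
      have : ⁅x, b⁆ = (b * x * b⁻¹ * x⁻¹)⁻¹ := by
        rw [commutatorElement_def]; group
      rw [this]
      exact Φ.inv_mem h1
    have hcent := le_centralizer_of_commutator_le_frattini P B hPp hBcop hBP hcomm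
    have hc'cent : c' ∈ Subgroup.centralizer (P : Set G) := by
      rw [Subgroup.mem_centralizer_iff]
      intro x hx
      have := Subgroup.mem_centralizer_iff.mp (hcent hx) c' (Subgroup.mem_zpowers c')
      exact this.symm
    have hc'P : c' ∈ P := hCP hc'cent
    have hc'1 : c' = 1 :=
      Cfsg.Agent.Helper76.eq_one_of_pow_eq_one_of_isPGroup hPp hc'P hmcop hc'm
    apply Subtype.ext
    simpa [hc'] using hc'1
  have hCleP : C ≤ P := Cfsg.Agent.Helper55.le_pCore hCn hCp
  exact hCleP ((hCmem h).mpr hh)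

end Cfsg.Agent.Helper24
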