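import Mathlib
import Cfsg.Prelude.Def_Transfer

/-!
Definitions for the lemma server "CYC" (helper24), row S4016: a finite group with a cyclic Sylow `p`-subgroup all of
whose `p'`-subgroups are abelian has a normal `p`-complement or a normal Sylow `p`-subgroup.
-/

set_option autoImplicit false

namespace Cfsg.Agent.Helper24.CYC

universe u

open Subgroup

/-- Hypotheses of S4016 (for all Sylow `p`-subgroups). -/
def Hyp (p : ℕ) (G : Type u) [Group G] : Prop :=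
  (∀ P : Sylow p G, IsCyclic P) ∧ ∀ H : Subgroup G, ¬ p ∣ Nat.card H → IsMulCommutative H

/-- Conclusion of S4016 (for all Sylow `p`-subgroups). -/
def Concl (p : ℕ) (G : Type u) [Group G] : Prop :=
  Cfsg.HasNormalPComplement p G ∨ ∀ P : Sylow p G, (P : Subgroup G).Normal

variable {G : Type u} [Group G]

/-- `N_G(H)` for a subgroup `H`. -/
abbrev nrm (H : Subgroup G) : Subgroup G := Subgroup.normalizer (H : Set G)

/-- `C_G(H)` for a subgroup `H`. -/
abbrev ctr (H : Subgroup G) : Subgroup G := Subgroup.centralizer (H : Set G)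

/-- `N_G(P)`. -/
abbrev NP {p : ℕ} (P : Sylow p G) : Subgroup G := Subgroup.normalizer ((P : Subgroup G) : Set G)

/-- `C_G(P)`. -/
abbrev CP {p : ℕ} (P : Sylow p G) : Subgroup G := Subgroup.centralizer ((P : Subgroup G) : Set G)

/-- The involutions of `N_G(P)` that do not centralise `P`. -/
def Ivs {p : ℕ} (P : Sylow p G) : Set G := {s | s * s = 1 ∧ s ∈ NP P ∧ s ∉ CP P}

/-- `H ≤ G` has a normal `p`-complement `T` (stated inside `G`, elementwise). -/
def PNilp (p : ℕ) (H : Subgroup G) : Prop :=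
  ∃ T : Subgroup G, T ≤ H ∧ H ≤ nrm T ∧ ¬ p ∣ Nat.card T ∧
    ∀ x ∈ H, (orderOf x).Coprime p → x ∈ T

/-- `H ≤ G` has a normal Sylow `p`-subgroup `Q` (stated inside `G`, elementwise). -/
def PClosed (p : ℕ) (H : Subgroup G) : Prop :=
  ∃ Q : Subgroup G, Q ≤ H ∧ H ≤ nrm Q ∧ IsPGroup p Q ∧
    ∀ x ∈ H, (∃ n : ℕ, orderOf x = p ^ n) → x ∈ Q

/-- The minimal configuration: `G` is a nonabelian simple group of order divisible by `p`, with cyclic Sylow
`p`-subgroups and abelian `p'`-subgroups, all of whose proper subgroups are `p`-nilpotent or `p`-closed. -/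
structure Min (p : ℕ) (G : Type u) [Group G] : Prop where
  simple : IsSimpleGroup G
  nonab : ∃ a b : G, a * b ≠ b * a
  pdvd : p ∣ Nat.card G
  cyc : ∀ P : Sylow p G, IsCyclic P
  ab : ∀ H : Subgroup G, ¬ p ∣ Nat.card H → ∀ a ∈ H, ∀ b ∈ H, a * b = b * a
  sub : ∀ H : Subgroup G, H ≠ ⊤ → PNilp p H ∨ PClosed p H

/-- First batch of consequences of `Min`. -/
structure Core1 (p : ℕ) (G : Type u) [Group G] : Prop where
  min : Min p G
  /-- `p` is odd -/
  podd : p ≠ 2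
  /-- `Z(G) = 1` -/
  center : ∀ z : G, (∀ g : G, g * z = z * g) → z = 1
  /-- Burnside: no nontrivial Sylow subgroup is central in its normaliser -/
  burn : ∀ (r : ℕ) [Fact r.Prime] (R : Sylow r G), (R : Subgroup G) ≠ ⊥ →
    ¬ nrm (R : Subgroup G) ≤ ctr (R : Subgroup G)
  /-- `p'`-elements normalising a `p'`-subgroup centralise it -/
  pcent : ∀ R : Subgroup G, ¬ p ∣ Nat.card R → ∀ y ∈ nrm R, (orderOf y).Coprime p → y ∈ ctr R
  /-- a `p'`-element of `N_G(P)` outside `C_G(P)` -/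
  nc : ∀ P : Sylow p G, ∃ x ∈ NP P, (orderOf x).Coprime p ∧ x ∉ CP P
  /-- `N_G(P)` is a maximal subgroup -/
  max : ∀ (P : Sylow p G) (H : Subgroup G), NP P ≤ H → H ≠ ⊤ → H = NP P
  /-- `N_G(Q) = N_G(P)` for `1 ≠ Q ≤ P` -/
  nq : ∀ (P : Sylow p G) (Q : Subgroup G), Q ≤ P → Q ≠ ⊥ → nrm Q = NP P
  /-- the Sylow `p`-subgroups are TI -/
  ti : ∀ (P Q : Sylow p G) (a : G), a ∈ P → a ∈ Q → a ≠ 1 → P = Q
  /-- `C_G(a) ≤ N_G(P)` for `1 ≠ a ∈ P` -/
  centp : ∀ (P : Sylow p G) (a : G), a ∈ P → a ≠ 1 → Subgroup.centralizer {a} ≤ NP P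
  /-- a `p'`-element of `N_G(P)` centralising some `1 ≠ a ∈ P` centralises `P` -/
  fpf : ∀ (P : Sylow p G) (x a : G), x ∈ NP P → (orderOf x).Coprime p → a ∈ P → a ≠ 1 →
    x * a = a * x → x ∈ CP P
  /-- a complement `K` to `P` in `N_G(P)`; it contains all `p'`-elements of `C_G(P)` -/
  compl : ∀ P : Sylow p G, ∃ K : Subgroup G, K ≤ NP P ∧ ¬ p ∣ Nat.card K ∧
    Nat.card K * Nat.card P = Nat.card (NP P) ∧ ∀ t ∈ CP P, (orderOf t).Coprime p → t ∈ K

/-- All the general consequences of `Min` used in the odd and even cases. -/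
structure Core (p : ℕ) (G : Type u) [Group G] : Prop where
  c1 : Core1 p G
  /-- KEY: a nontrivial `p'`-element `t` commuting with some `1 ≠ a ∈ P` has `C_G(t) = N_G(P)` -/
  key : ∀ (P : Sylow p G) (a t : G), a ∈ P → a ≠ 1 → t ≠ 1 → (orderOf t).Coprime p → a * t = t * a →
    Subgroup.centralizer {t} = NP P
  /-- `|N_G(P) : C_G(P)|` divides `p - 1` -/
  ediv : ∀ P : Sylow p G, ∃ e : ℕ, e ∣ p - 1 ∧ Nat.card (NP P) = e * Nat.card (CP P)
  /-- `N_G(P) / C_G(P)` is cyclic -/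
  cycq : ∀ P : Sylow p G, ∃ y ∈ NP P, ∀ x ∈ NP P, ∃ n : ℕ, x⁻¹ * y ^ n ∈ CP P
  /-- involutions of `N_G(P)` outside `C_G(P)` invert `P` -/
  invert : ∀ (P : Sylow p G) (s : G), s ∈ Ivs P → ∀ b ∈ P, s * b * s⁻¹ = b⁻¹

end Cfsg.Agent.Helper24.CYC
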