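import Mathlib
import Cfsg.Agent.Lib.Helper24.NarrowAut
import Cfsg.Agent.Lib.Helper55.Cores
import Cfsg.Agent.Lib.Helper19.PRank

set_option autoImplicit false

/-!
# Narrow `p`-groups: maximal elementary abelian subgroups and solvable groups
-/

namespace Cfsg.Agent.Helper24.NarrowSolv

open Cfsg
open scoped commutatorElement

/-- a narrow `p`-group of rank at least 3 has a maximal elementary abelian subgroup of order
`p ^ 2` -/
theorem exists_max_elemAb_sq_of_isNarrow {R : Type*} [Group R] [Finite R] {p : ℕ} [Fact p.Prime]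
    (hR : IsPGroup p R) (hn : IsNarrow p R) (hr : ¬ PRankLE p 2 R) :
    ∃ E : Subgroup R, IsElementaryAbelian p E ∧ Nat.card E = p ^ 2 ∧
      ∀ B : Subgroup R, IsElementaryAbelian p B → E ≤ B → B = E := by
  classical
  have hp : p.Prime := Fact.out
  rcases hn with h | ⟨R₀, R₁, hc0, hcyc, hinf, hcomm, hsup⟩
  · exact absurd h hr
  have hcyc0 : IsCyclic R₀ := isCyclic_of_prime_card hc0
  have hexp0 : ∀ a ∈ R₀, a ^ p = 1 := by
    intro a ha
    have h1 : (⟨a, ha⟩ : R₀) ^ Nat.card R₀ = 1 := pow_card_eq_one'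
    rw [hc0] at h1
    have h2 := congrArg Subtype.val h1
    rwa [Subgroup.coe_pow, Subgroup.coe_one] at h2
  have hR₀ : IsElementaryAbelian p R₀ := ⟨⟨inferInstance⟩, hexp0⟩
  obtain ⟨E₁, h01, hE₁, hmax, hge⟩ :=
    Cfsg.Agent.Helper24.NarrowAut.exists_max_elemAb hR hr R₀ hR₀
  refine ⟨E₁, hE₁, le_antisymm ?_ hge, hmax⟩
  -- E₁ lies in the centralizer of R₀
  have hcent : E₁ ≤ R₀ ⊔ R₁ := by
    rw [hsup]
    intro e he
    rw [Subgroup.mem_centralizer_iff]
    intro a ha
    have h1 := hE₁.1.is_comm.comm (⟨a, h01 ha⟩ : E₁) ⟨e, he⟩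
    exact congrArg Subtype.val h1
  have hcomm' : ∀ (m : R₀) (n : R₁), Commute (R₀.subtype m) (R₁.subtype n) :=
    fun a b => hcomm a.1 a.2 b.1 b.2
  let ψ : R₀ × R₁ →* R := MonoidHom.noncommCoprod R₀.subtype R₁.subtype hcomm'
  have hψr : ψ.range = R₀ ⊔ R₁ := by
    show (MonoidHom.noncommCoprod R₀.subtype R₁.subtype hcomm').range = _
    rw [MonoidHom.noncommCoprod_range, Subgroup.range_subtype, Subgroup.range_subtype]
  have hex : ∀ e : E₁, ∃ ab : R₀ × R₁, ψ ab = e.1 := by
    intro e
    have := hcent e.2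
    rw [← hψr] at this
    exact this
  choose g hg using hex
  have hg' : ∀ e : E₁, ((g e).1 : R) * ((g e).2 : R) = e.1 := fun e => hg e
  have hb : ∀ e : E₁, (g e).2 ^ p = 1 := by
    intro e
    have h1 : (e.1 : R) ^ p = 1 := hE₁.2 e.1 e.2
    rw [← hg' e, (show Commute ((g e).1 : R) ((g e).2 : R) from
      hcomm _ (g e).1.2 _ (g e).2.2).mul_pow, hexp0 _ (g e).1.2, one_mul] at h1
    apply Subtype.ext
    rw [Subgroup.coe_pow, Subgroup.coe_one]
    exact h1
  let F : E₁ → R₀ × {b : R₁ // b ^ p = 1} := fun e => ((g e).1, ⟨(g e).2, hb e⟩)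
  have hF : Function.Injective F := by
    intro e e' h
    have h1 : (g e).1 = (g e').1 := by
      have := congrArg Prod.fst h
      exact this
    have h2 : (g e).2 = (g e').2 := by
      have := congrArg (fun x => (x.2 : R₁)) h
      exact this
    apply Subtype.ext
    rw [← hg' e, ← hg' e', h1, h2]
  have h1 : Nat.card E₁ ≤ Nat.card (R₀ × {b : R₁ // b ^ p = 1}) :=
    Nat.card_le_card_of_injective F hF
  have h2 : Nat.card {b : R₁ // b ^ p = 1} ≤ p := by
    have : Fintype R₁ := Fintype.ofFinite _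
    rw [Nat.card_eq_fintype_card, Fintype.card_subtype]
    exact IsCyclic.card_pow_eq_one_le hp.pos
  rw [Nat.card_prod, hc0] at h1
  calc Nat.card E₁ ≤ p * Nat.card {b : R₁ // b ^ p = 1} := h1
    _ ≤ p * p := Nat.mul_le_mul_left _ h2
    _ = p ^ 2 := (sq p).symm

/-- the `p`-rank of a group is that of its Sylow `p`-subgroups -/
theorem prankLE_of_sylow {G : Type*} [Group G] [Finite G] {p k : ℕ} [Fact p.Prime] (S : Sylow p G)
    (h : PRankLE p k ↥(S : Subgroup G)) : PRankLE p k G := by
  intro A hAc hAe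
  have hAp : IsPGroup p A := by
    intro a
    refine ⟨1, ?_⟩
    rw [pow_one]
    apply Subtype.ext
    rw [Subgroup.coe_pow, Subgroup.coe_one]
    exact hAe a.1 a.2
  obtain ⟨Q, hQ⟩ := hAp.exists_le_sylow
  obtain ⟨g, hg⟩ := MulAction.exists_smul_eq G Q S
  have hle : A.map (MulAut.conj g).toMonoidHom ≤ (S : Subgroup G) := by
    rintro _ ⟨a, ha, rfl⟩
    rw [← hg, Sylow.coe_subgroup_smul]
    exact Subgroup.smul_mem_pointwise_smul _ _ _ (hQ ha)
  have h1 := (Cfsg.Agent.Helper19.prankLE_subgroup_iff p k (S : Subgroup G)).mp h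
    (A.map (MulAut.conj g).toMonoidHom) hle (by
      rintro _ ⟨a, ha, rfl⟩ _ ⟨b, hb, rfl⟩
      have h2 := hAc.is_comm.comm (⟨a, ha⟩ : A) ⟨b, hb⟩
      have h3 : a * b = b * a := congrArg Subtype.val h2
      simp only [MulEquiv.coe_toMonoidHom, MulAut.conj_apply]
      calc g * a * g⁻¹ * (g * b * g⁻¹) = g * (a * b) * g⁻¹ := by group
        _ = g * (b * a) * g⁻¹ := by rw [h3]
        _ = g * b * g⁻¹ * (g * a * g⁻¹) := by group) (by
      rintro _ ⟨a, ha, rfl⟩
      rw [← map_pow, hAe a ha, map_one])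
  rwa [Cfsg.Agent.Helper19.card_map_conj] at h1

/-- **Solvable-type consequences for narrow `O_p`.** If `C_H(O_p(H)) ≤ O_p(H)` and `O_p(H)` is
(isomorphic to) a `p`-group of rank at least 3 with a maximal elementary abelian subgroup of order
`p ^ 2`, then `H' ≤ O_p(H)`, `O_p(H)` is a Sylow `p`-subgroup, and all primes dividing `|H|` are at
most `p`. -/
theorem core {H : Type*} [Group H] [Finite H] {p : ℕ} [Fact p.Prime] (hp2 : p ≠ 2)
    (hcent : Subgroup.centralizer ((pCore p H : Subgroup H) : Set H) ≤ pCore p H)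
    {P : Type*} [Group P] (e : ↥(pCore p H) ≃* P) (hr : ¬ PRankLE p 2 P) (E : Subgroup P)
    (hE : IsElementaryAbelian p E) (hE2 : Nat.card E = p ^ 2)
    (hEmax : ∀ B : Subgroup P, IsElementaryAbelian p B → E ≤ B → B = E) :
    commutator H ≤ pCore p H ∧ ((pCore p H).index).Coprime p ∧
      ∀ q : ℕ, q.Prime → q ∣ Nat.card H → q ≤ p := by
  classical
  have hp : p.Prime := Fact.out
  have hQp : IsPGroup p (pCore p H) := Cfsg.Agent.Helper55.isPGroup_pCore
  have hPfin : Finite P := Finite.of_equiv _ e.toEquiv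
  have hPp : IsPGroup p P := hQp.of_surjective e.toMonoidHom e.surjective
  let φ : H →* MulAut ↥(pCore p H) := MulAut.conjNormal
  have hker : ∀ g : H, φ g = 1 → g ∈ pCore p H := by
    intro g hg
    apply hcent
    rw [Subgroup.mem_centralizer_iff]
    intro x hx
    have h1 : φ g ⟨x, hx⟩ = ⟨x, hx⟩ := by rw [hg]; rfl
    have h2 := congrArg Subtype.val h1
    rw [MulAut.conjNormal_apply] at h2
    have h3 : g * x * g⁻¹ = x := h2
    calc x * g = (g * x * g⁻¹) * g := by rw [h3]
      _ = g * x := by group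
  let f : ↥φ.range →* MulAut P := (MulAut.congr e).toMonoidHom.comp φ.range.subtype
  have hf : Function.Injective f := (MulAut.congr e).injective.comp Subtype.val_injective
  have hX : IsPGroup p (commutator ↥φ.range) :=
    Cfsg.Agent.Helper24.NarrowAut.isPGroup_commutator hp2 hPp hr E hE hE2 hEmax f hf
  have hle : commutator H ≤ (commutator ↥φ.range).comap φ.rangeRestrict := by
    rw [commutator_def, Subgroup.commutator_le]
    intro a _ b _
    rw [Subgroup.mem_comap, map_commutatorElement, commutator_def]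
    exact Subgroup.commutator_mem_commutator (Subgroup.mem_top _) (Subgroup.mem_top _)
  have hcommP : IsPGroup p (commutator H) := by
    intro g
    obtain ⟨k, hk⟩ := hX ⟨φ.rangeRestrict g.1, hle g.2⟩
    have hk1 : φ (g.1 ^ (p ^ k)) = 1 := by
      have h1 := congrArg Subtype.val hk
      rw [Subgroup.coe_pow] at h1
      have h2 := congrArg Subtype.val h1
      rw [Subgroup.coe_pow] at h2
      rw [map_pow]
      exact h2
    have hmem := hker _ hk1
    obtain ⟨j, hj⟩ := hQp ⟨_, hmem⟩
    refine ⟨k + j, ?_⟩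
    apply Subtype.ext
    rw [Subgroup.coe_pow, Subgroup.coe_one, pow_add, pow_mul]
    have h3 := congrArg Subtype.val hj
    rw [Subgroup.coe_pow] at h3
    exact h3
  have h1 : commutator H ≤ pCore p H := Cfsg.Agent.Helper55.le_pCore inferInstance hcommP
  refine ⟨h1, ?_, ?_⟩
  · obtain ⟨S⟩ : Nonempty (Sylow p H) := inferInstance
    have hQS : pCore p H ≤ S := Cfsg.Agent.Helper55.pCore_le_sylow S
    have hSn : (S : Subgroup H).Normal := by
      constructor
      intro s hs g
      have : g * s * g⁻¹ = ⁅g, s⁆ * s := by rw [commutatorElement_def]; group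
      rw [this]
      refine Subgroup.mul_mem _ (hQS (h1 ?_)) hs
      rw [commutator_def]
      exact Subgroup.commutator_mem_commutator (Subgroup.mem_top g) (Subgroup.mem_top s)
    have hSQ : (S : Subgroup H) ≤ pCore p H := Cfsg.Agent.Helper55.le_pCore hSn S.isPGroup'
    have heq : pCore p H = S := le_antisymm hQS hSQ
    rw [heq]
    exact ((Nat.Prime.coprime_iff_not_dvd hp).mpr S.not_dvd_index).symm
  · intro q hq hqd
    by_cases hqp : q = p
    · exact hqp.le
    · have hqF : Fact q.Prime := ⟨hq⟩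
      obtain ⟨a, ha⟩ := exists_prime_orderOf_dvd_card' q hqd
      have hcopq : (orderOf (φ.rangeRestrict a)).Coprime p := by
        have h2 : orderOf (φ.rangeRestrict a) ∣ q := by
          rw [← ha]; exact orderOf_map_dvd _ a
        exact Nat.Coprime.coprime_dvd_left h2 ((Nat.coprime_primes hq hp).mpr hqp)
      have h3 := Cfsg.Agent.Helper24.NarrowAut.pow_eq_one_of_coprime hp2 hPp hr E hE hE2 hEmax
        f hf (φ.rangeRestrict a) hcopq
      have h4 : φ (a ^ (p - 1)) = 1 := by
        have h5 := congrArg Subtype.val h3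
        rw [Subgroup.coe_pow] at h5
        rw [map_pow]
        exact h5
      have h5 := hker _ h4
      obtain ⟨j, hj⟩ := hQp ⟨_, h5⟩
      have h6 : a ^ ((p - 1) * p ^ j) = 1 := by
        have h7 := congrArg Subtype.val hj
        rw [Subgroup.coe_pow] at h7
        rw [pow_mul]
        exact h7
      have h7 : q ∣ (p - 1) * p ^ j := by rw [← ha]; exact orderOf_dvd_of_pow_eq_one h6
      have h8 : q ∣ p - 1 :=
        (Nat.Coprime.dvd_of_dvd_mul_right
          (((Nat.coprime_primes hq hp).mpr hqp).pow_right j)) h7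
      have h9 : q ≤ p - 1 := Nat.le_of_dvd (by have := hp.two_le; omega) h8
      omega

end Cfsg.Agent.Helper24.NarrowSolv
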