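import Mathlib
import Cfsg.Prelude.Def_CaseTheorems
import Cfsg.Prelude.Def_Transfer
import Cfsg.Prelude.Def_OddOrderLocal
import Cfsg.Agent.S0636
import Cfsg.Agent.S1453
import Cfsg.Agent.Lib.Helper24.ClassTwo
import Cfsg.Agent.Lib.Helper24.RankThree
import Cfsg.Agent.Lib.Helper32.PGroupCenter
import Cfsg.Agent.Lib.Helper49.UniqueOrderP
import Cfsg.Agent.Lib.Helper50.SubnormalSylow

set_option autoImplicit false

/-!
# Basic lemmas for Blackburn's classification of `p`-groups of rank at most two (helper24)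
-/

namespace Cfsg.Agent.Helper24.Blk

open Cfsg
open Cfsg.Agent.Helper24.RankThree

variable {G : Type*} [Group G]

/-- `p`-th power of a product when the commutator commutes with both factors and has order `p`. -/
theorem mul_pow_p {p : ℕ} (hp : p.Prime) (hp2 : p ≠ 2) (x z : G)
    (hcx : Commute (z * x * z⁻¹ * x⁻¹) x) (hcz : Commute (z * x * z⁻¹ * x⁻¹) z)
    (hc : (z * x * z⁻¹ * x⁻¹) ^ p = 1) : (x * z) ^ p = x ^ p * z ^ p := by
  rw [Cfsg.Agent.Helper24.mul_pow_of_commutator_commute x z hcx hcz p]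
  have h2 : 2 < p := lt_of_le_of_ne hp.two_le (Ne.symm hp2)
  obtain ⟨d, hd⟩ := hp.dvd_choose_self (k := 2) (by norm_num) h2
  rw [hd, pow_mul, hc, one_pow, mul_one]

theorem elemAb_zpowers {p : ℕ} (u : G) (hu : u ^ p = 1) :
    IsElementaryAbelian p (Subgroup.zpowers u) := by
  refine ⟨inferInstance, ?_⟩
  intro a ha
  obtain ⟨k, rfl⟩ := Subgroup.mem_zpowers_iff.mp ha
  rw [← zpow_natCast, ← zpow_mul, mul_comm, zpow_mul, zpow_natCast, hu, one_zpow]

/-- an element of order `p` centralizing a maximal elementary abelian subgroup lies in it. -/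
theorem mem_of_centralizes [Finite G] {p : ℕ} [Fact p.Prime] (hrk : PRankLE p 2 G)
    (N : Subgroup G) (hN : IsElementaryAbelian p N) (hNc : Nat.card N = p ^ 2) (x : G)
    (hx : x ^ p = 1) (hxN : ∀ n ∈ N, x * n = n * x) : x ∈ N := by
  have h1 : IsElementaryAbelian p (N ⊔ Subgroup.zpowers x) := by
    refine elemAb_sup hN (elemAb_zpowers x hx) ?_
    intro n hn
    rw [Subgroup.mem_centralizer_iff]
    intro y hy
    obtain ⟨k, rfl⟩ := Subgroup.mem_zpowers_iff.mp hy
    exact (Commute.zpow_left (show Commute x n from hxN n hn) k).eq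
  have h2 : Nat.card (N ⊔ Subgroup.zpowers x : Subgroup G) ≤ p ^ 2 := hrk _ h1.1 h1.2
  have h3 : N = N ⊔ Subgroup.zpowers x :=
    Subgroup.eq_of_le_of_card_ge le_sup_left (by rw [hNc]; exact h2)
  rw [h3]
  exact Subgroup.mem_sup_right (Subgroup.mem_zpowers x)

/-- adjoining an element of order `p` normalizing `H`. -/
theorem card_sup_zpowers [Finite G] {p : ℕ} [hp : Fact p.Prime] (H : Subgroup G) (u : G)
    (hu : u ∈ Subgroup.normalizer (H : Set G)) (huH : u ∉ H) (hup : u ^ p = 1) :
    Nat.card (H ⊔ Subgroup.zpowers u : Subgroup G) = p * Nat.card H := by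
  have hpp : p.Prime := hp.out
  have hle : Subgroup.zpowers u ≤ Subgroup.normalizer (H : Set G) := by
    rw [Subgroup.zpowers_le]; exact hu
  have h1 := Cfsg.Agent.Helper50.card_sup_mul_card_inf_of_le_normalizer H (Subgroup.zpowers u) hle
  have hu1 : u ≠ 1 := fun h => huH (h ▸ H.one_mem)
  have hou : orderOf u = p := orderOf_eq_prime hup hu1
  have hcz : Nat.card (Subgroup.zpowers u) = p := by rw [Nat.card_zpowers, hou]
  have hinf : H ⊓ Subgroup.zpowers u = ⊥ := by
    have h2 : Nat.card (H ⊓ Subgroup.zpowers u : Subgroup G) ∣ p := by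
      rw [← hcz]; exact Subgroup.card_dvd_of_le inf_le_right
    rcases (Nat.dvd_prime hpp).mp h2 with h | h
    · exact Subgroup.card_eq_one.mp h
    · exfalso
      have h3 : H ⊓ Subgroup.zpowers u = Subgroup.zpowers u :=
        Subgroup.eq_of_le_of_card_ge inf_le_right (by rw [h, hcz])
      apply huH
      have : u ∈ H ⊓ Subgroup.zpowers u := by rw [h3]; exact Subgroup.mem_zpowers u
      exact this.1
  rw [hinf, Subgroup.card_bot, mul_one, hcz] at h1
  rw [h1, mul_comm]

/-- a normal subgroup of order `p` of a `p`-group is central. -/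
theorem normal_prime_le_center [Finite G] {p : ℕ} [hp : Fact p.Prime] (hG : IsPGroup p G)
    (K : Subgroup G) [K.Normal] (hK : Nat.card K = p) : K ≤ Subgroup.center G := by
  have hKne : K ≠ ⊥ := by
    intro h
    rw [h, Subgroup.card_bot] at hK
    exact hp.out.one_lt.ne hK
  obtain ⟨z, hzK, hz1, hzc⟩ := Cfsg.Agent.Helper32.exists_ne_one_mem_center_of_normal hG K hKne
  intro x hx
  have hz1' : (⟨z, hzK⟩ : K) ≠ 1 := fun h => hz1 (congrArg Subtype.val h)
  have h1 : (⟨x, hx⟩ : K) ∈ Subgroup.zpowers (⟨z, hzK⟩ : K) := mem_zpowers_of_prime_card hK hz1'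
  obtain ⟨k, hk⟩ := Subgroup.mem_zpowers_iff.mp h1
  have h2 : z ^ k = x := by
    have := congrArg Subtype.val hk
    simpa using this
  rw [← h2]
  exact Subgroup.zpow_mem _ hzc k

end Cfsg.Agent.Helper24.Blk
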