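import Mathlib
import Cfsg.Agent.Lib.Helper24.BlkBasic
import Cfsg.Agent.Lib.Helper64.Huppert3

set_option autoImplicit false

/-!
# Basic lemmas for Blackburn's classification, part 2 (helper24)

Normal subgroups of order `p ^ 2`, their centralizers, groups of exponent `p` and rank `≤ 2`.
-/

namespace Cfsg.Agent.Helper24.Blk

open Cfsg
open Cfsg.Agent.Helper24.RankThree

variable {G : Type*} [Group G]

/-- a normal subgroup `N` of order `p ^ 2` of a `p`-group contains a central subgroup `Z` of order `p`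
with `[N, G] ≤ Z`. -/
theorem exists_central_sub [Finite G] {p : ℕ} [hp : Fact p.Prime] (hG : IsPGroup p G)
    (N : Subgroup G) [hNn : N.Normal] (hNc : Nat.card N = p ^ 2) :
    ∃ Z : Subgroup G, Z ≤ N ∧ Z ≤ Subgroup.center G ∧ Nat.card Z = p ∧
      ∀ n ∈ N, ∀ g : G, g * n * g⁻¹ * n⁻¹ ∈ Z := by
  have hpp : p.Prime := hp.out
  have hNne : N ≠ ⊥ := by
    intro h
    rw [h, Subgroup.card_bot] at hNc
    have : 1 < p ^ 2 := Nat.one_lt_pow (by norm_num) hpp.one_lt
    omega
  obtain ⟨z0, hz0N, hz01, hz0c⟩ :=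
    Cfsg.Agent.Helper32.exists_ne_one_mem_center_of_normal hG N hNne
  obtain ⟨k, hk⟩ := IsPGroup.iff_orderOf.1 hG z0
  have hk0 : k ≠ 0 := by
    rintro rfl
    rw [pow_zero, orderOf_eq_one_iff] at hk
    exact hz01 hk
  have hdvd : p ∣ orderOf z0 := by rw [hk]; exact dvd_pow_self p hk0
  set z := z0 ^ (orderOf z0 / p) with hz
  have hoz : orderOf z = p := orderOf_pow_orderOf_div (orderOf_pos z0).ne' hdvd
  have hzc : z ∈ Subgroup.center G := Subgroup.pow_mem _ hz0c _
  have hzN : z ∈ N := Subgroup.pow_mem _ hz0N _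
  have hZn : (Subgroup.zpowers z).Normal :=
    Cfsg.Agent.Helper64.Huppert.zpowers_normal_of_mem_center hzc
  have hZc : Nat.card (Subgroup.zpowers z) = p := by rw [Nat.card_zpowers, hoz]
  have hZN : Subgroup.zpowers z ≤ N := by rw [Subgroup.zpowers_le]; exact hzN
  have hZcen : Subgroup.zpowers z ≤ Subgroup.center G := by rw [Subgroup.zpowers_le]; exact hzc
  refine ⟨Subgroup.zpowers z, hZN, hZcen, hZc, ?_⟩
  -- the image of N in the quotient has order p
  set Nb : Subgroup (G ⧸ Subgroup.zpowers z) := N.map (QuotientGroup.mk' (Subgroup.zpowers z))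
    with hNb
  have hNbn : Nb.Normal :=
    Subgroup.Normal.map hNn _ (QuotientGroup.mk'_surjective (Subgroup.zpowers z))
  have hcomap : Nb.comap (QuotientGroup.mk' (Subgroup.zpowers z)) = N := by
    rw [hNb, Subgroup.comap_map_eq, QuotientGroup.ker_mk']
    exact sup_eq_left.mpr hZN
  have hcard := Cfsg.Agent.Helper64.Huppert.card_comap_mk' (Subgroup.zpowers z) Nb
  rw [hcomap, hNc, hZc] at hcard
  have hNbc : Nat.card Nb = p := by
    have h1 : p * p = p * Nat.card Nb := by rw [← hcard]; ring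
    exact (Nat.eq_of_mul_eq_mul_left hpp.pos h1).symm
  have hQ : IsPGroup p (G ⧸ Subgroup.zpowers z) := hG.to_quotient _
  have hNbcen : Nb ≤ Subgroup.center (G ⧸ Subgroup.zpowers z) :=
    normal_prime_le_center hQ Nb hNbc
  intro n hn g
  have h1 : QuotientGroup.mk' (Subgroup.zpowers z) n ∈ Nb := Subgroup.mem_map_of_mem _ hn
  have h2 := Subgroup.mem_center_iff.mp (hNbcen h1) (QuotientGroup.mk' (Subgroup.zpowers z) g)
  have h3 : QuotientGroup.mk' (Subgroup.zpowers z) (g * n * g⁻¹ * n⁻¹) = 1 := by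
    rw [map_mul, map_mul, map_mul, map_inv, map_inv, h2]
    group
  exact (QuotientGroup.eq_one_iff _).mp h3

/-- the centralizer of a normal subgroup of order `p ^ 2` of a `p`-group has index `1` or `p`. -/
theorem index_centralizer_dvd [Finite G] {p : ℕ} [hp : Fact p.Prime] (hG : IsPGroup p G)
    (N : Subgroup G) [hNn : N.Normal] (hNc : Nat.card N = p ^ 2) :
    (Subgroup.centralizer (N : Set G)).index ∣ p := by
  have hpp : p.Prime := hp.out
  obtain ⟨Z, hZN, hZcen, hZc, hcomm⟩ := exists_central_sub hG N hNc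
  -- an element of N outside Z
  obtain ⟨w, hwN, hwZ⟩ : ∃ w ∈ N, w ∉ Z := by
    by_contra hno
    push Not at hno
    have hle : N ≤ Z := fun x hx => hno x hx
    have := Subgroup.card_le_of_le hle
    rw [hNc, hZc] at this
    have : p < p ^ 2 := by nlinarith [hpp.two_le]
    omega
  have hsup := Cfsg.Agent.S1453.sup_zpowers_eq hpp hZN hZc hNc hwN hwZ
  have hCeq : Subgroup.centralizer (N : Set G) = Subgroup.centralizer {w} := by
    apply le_antisymm
    · exact Subgroup.centralizer_le (by simpa using hwN)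
    · intro g hg
      rw [Subgroup.mem_centralizer_singleton_iff] at hg
      have hle : Z ⊔ Subgroup.zpowers w ≤ Subgroup.centralizer {g} := by
        refine sup_le ?_ ?_
        · intro x hx
          rw [Subgroup.mem_centralizer_singleton_iff]
          exact (Subgroup.mem_center_iff.mp (hZcen hx) g).symm
        · rw [Subgroup.zpowers_le, Subgroup.mem_centralizer_singleton_iff]
          exact hg.symm
      rw [hsup] at hle
      rw [Subgroup.mem_centralizer_iff]
      intro n hn
      have := hle hn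
      rw [Subgroup.mem_centralizer_singleton_iff] at this
      exact this
  obtain ⟨k, hk, hcard⟩ := card_eq_of_commHomC (⊤ : Subgroup G) Z w hZcen
    (fun h _ => hcomm w hwN h)
  rw [top_inf_eq, Subgroup.card_top, ← hCeq] at hcard
  have h1 := Subgroup.card_mul_index (Subgroup.centralizer (N : Set G))
  have hpos : 0 < Nat.card (Subgroup.centralizer (N : Set G)) := Nat.card_pos
  have h2 : (Subgroup.centralizer (N : Set G)).index = k := by
    apply Nat.eq_of_mul_eq_mul_left hpos
    rw [h1, hcard]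
  rw [h2, ← hZc]
  exact hk

/-- every element of `N ⟨g⟩` has order dividing `p` (`N` normal elementary abelian of order `p ^ 2`,
`g ^ p = 1`, `p` odd). -/
theorem exponent_sup_zpowers [Finite G] {p : ℕ} [hp : Fact p.Prime] (hp2 : p ≠ 2)
    (hG : IsPGroup p G) (N : Subgroup G) [hNn : N.Normal] (hN : IsElementaryAbelian p N)
    (hNc : Nat.card N = p ^ 2) (g : G) (hg : g ^ p = 1) :
    ∀ x ∈ N ⊔ Subgroup.zpowers g, x ^ p = 1 := by
  have hpp : p.Prime := hp.out
  obtain ⟨Z, hZN, hZcen, hZc, hcomm⟩ := exists_central_sub hG N hNc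
  intro x hx
  obtain ⟨n, hn, y, hy, rfl⟩ := Subgroup.mem_sup_of_normal_left.mp hx
  have hcZ := hcomm n hn y
  have hcc := Subgroup.mem_center_iff.mp (hZcen hcZ)
  have hyp : y ^ p = 1 := (elemAb_zpowers g hg).2 y hy
  rw [mul_pow_p hpp hp2 n y (hcc n).symm (hcc y).symm (hN.2 _ (hZN hcZ)), hN.2 n hn, hyp, one_mul]

end Cfsg.Agent.Helper24.Blk
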