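import Mathlib
import Cfsg.Agent.Lib.Helper24.BlkBasic2
import Cfsg.Agent.Lib.Helper19.PRank
import Cfsg.Agent.Lib.Helper63.PGroup

set_option autoImplicit false

/-!
# Basic lemmas for Blackburn's classification, part 3 (helper24)
-/

namespace Cfsg.Agent.Helper24.Blk

open Cfsg
open scoped commutatorElement

universe u

/-- a `p`-group (`p` odd) of rank at most `2` and exponent `p` has order at most `p ^ 3`. -/
theorem card_le_cube_of_exponent {P : Type u} [Group P] [Finite P] {p : ℕ} [hp : Fact p.Prime]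
    (hp2 : p ≠ 2) (hP : IsPGroup p P) (hrk : PRankLE p 2 P) (hexp : ∀ x : P, x ^ p = 1) :
    Nat.card P ≤ p ^ 3 := by
  have hpp : p.Prime := hp.out
  by_cases hc : IsCyclic (⊤ : Subgroup P)
  · have h1 : IsMulCommutative (⊤ : Subgroup P) := IsCyclic.isMulCommutative
    have h2 := hrk ⊤ h1 (fun a _ => hexp a)
    rw [Subgroup.card_top] at h2
    exact h2.trans (Nat.pow_le_pow_right hpp.pos (by norm_num))
  · obtain ⟨A, -, hAn, hAea, hAc⟩ := Cfsg.Agent.S0636.result hp2 hP (⊤ : Subgroup P) hc
    have hle : Subgroup.centralizer (A : Set P) ≤ A := by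
      intro x hx
      exact mem_of_centralizes hrk A hAea hAc x (hexp x)
        (fun n hn => ((Subgroup.mem_centralizer_iff.mp hx) n hn).symm)
    have h1 := Subgroup.card_mul_index (Subgroup.centralizer (A : Set P))
    have h2 := index_centralizer_dvd hP A hAc
    have h3 : (Subgroup.centralizer (A : Set P)).index ≤ p := Nat.le_of_dvd hpp.pos h2
    have h4 := Subgroup.card_le_of_le hle
    rw [hAc] at h4
    calc Nat.card P = Nat.card (Subgroup.centralizer (A : Set P)) *
          (Subgroup.centralizer (A : Set P)).index := h1.symm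
      _ ≤ p ^ 2 * p := Nat.mul_le_mul h4 h3
      _ = p ^ 3 := by ring

variable {G : Type u} [Group G]

theorem prankLE_subgroup {p : ℕ} (hrk : PRankLE p 2 G) (H : Subgroup G) : PRankLE p 2 ↥H := by
  rw [Cfsg.Agent.Helper19.prankLE_subgroup_iff]
  intro X _ hXc hXe
  exact hrk X ⟨⟨fun a b => Subtype.ext (hXc a a.2 b b.2)⟩⟩ hXe

/-- subgroup version. -/
theorem card_le_cube_of_exponent_sub [Finite G] {p : ℕ} [hp : Fact p.Prime]
    (hp2 : p ≠ 2) (hG : IsPGroup p G) (hrk : PRankLE p 2 G) (H : Subgroup G)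
    (hexp : ∀ x ∈ H, x ^ p = 1) : Nat.card H ≤ p ^ 3 := by
  refine card_le_cube_of_exponent hp2 (hG.to_subgroup H) (prankLE_subgroup hrk H) ?_
  intro x
  apply Subtype.ext
  have := hexp x x.2
  simpa using this

/-- a subgroup all of whose elements of order `p` lie in a fixed subgroup of order `p` is cyclic. -/
theorem isCyclic_of_order_p_in [Finite G] {p : ℕ} [hp : Fact p.Prime] (hp2 : p ≠ 2)
    (hG : IsPGroup p G) (D Zs : Subgroup G) (hZs : Nat.card Zs = p)
    (h : ∀ x ∈ D, x ^ p = 1 → x ∈ Zs) : IsCyclic D := by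
  have hpp : p.Prime := hp.out
  have hDp : IsPGroup p D := hG.to_subgroup _
  have hUK : ∀ y z : D, orderOf y = p → orderOf z = p → z ∈ Subgroup.zpowers y := by
    intro y z hy hz
    have hyp : (y : G) ^ p = 1 := by
      have := pow_orderOf_eq_one y
      rw [hy] at this
      have h2 := congrArg Subtype.val this
      rwa [Subgroup.coe_pow, Subgroup.coe_one] at h2
    have hzp : (z : G) ^ p = 1 := by
      have := pow_orderOf_eq_one z
      rw [hz] at this
      have h2 := congrArg Subtype.val this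
      rwa [Subgroup.coe_pow, Subgroup.coe_one] at h2
    have hyZ := h _ y.2 hyp
    have hzZ := h _ z.2 hzp
    have hy1 : (⟨(y : G), hyZ⟩ : Zs) ≠ 1 := by
      intro h'
      have h2 : (y : G) = 1 := congrArg Subtype.val h'
      have h3 : y = 1 := Subtype.ext h2
      rw [h3, orderOf_one] at hy
      exact hpp.one_lt.ne hy
    have h1 : (⟨(z : G), hzZ⟩ : Zs) ∈ Subgroup.zpowers (⟨(y : G), hyZ⟩ : Zs) :=
      mem_zpowers_of_prime_card hZs hy1
    obtain ⟨k, hk⟩ := Subgroup.mem_zpowers_iff.mp h1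
    rw [Subgroup.mem_zpowers_iff]
    refine ⟨k, ?_⟩
    apply Subtype.ext
    have h2 := congrArg Subtype.val hk
    rw [Subgroup.coe_zpow] at h2 ⊢
    exact h2
  have h1 := Cfsg.Agent.Helper49.isCyclic_of_unique_order_p hp2 hUK ⊤ (hDp.to_subgroup _)
  exact isCyclic_of_surjective (Subgroup.topEquiv : (⊤ : Subgroup D) ≃* _)
    Subgroup.topEquiv.surjective

/-- a normal subgroup of order `p ^ 2` lies in the second centre. -/
theorem normal_sq_le_ucs_two [Finite G] {p : ℕ} [hp : Fact p.Prime] (hG : IsPGroup p G)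
    (K : Subgroup G) [K.Normal] (hK : Nat.card K = p ^ 2) :
    K ≤ Subgroup.upperCentralSeries G 2 := by
  obtain ⟨Z, -, hZcen, -, hcomm⟩ := exists_central_sub hG K hK
  intro n hn
  rw [Subgroup.mem_upperCentralSeries_succ_iff]
  intro y
  rw [Subgroup.upperCentralSeries_one]
  apply hZcen
  have h1 := Z.inv_mem (hcomm n hn y)
  have h2 : (y * n * y⁻¹ * n⁻¹)⁻¹ = ⁅n, y⁆ := by rw [commutatorElement_def]; group
  rwa [h2] at h1

/-- a group of order `p ^ 3` is metacyclic or of exponent `p`. -/
theorem metacyclic_or_exponent_of_card_cube {P : Type u} [Group P] [Finite P] {p : ℕ}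
    [hp : Fact p.Prime] (hP : Nat.card P = p ^ 3) : IsMetacyclic P ∨ ∀ x : P, x ^ p = 1 := by
  have hpp : p.Prime := hp.out
  have hPp : IsPGroup p P := IsPGroup.of_card hP
  by_cases h : ∀ x : P, x ^ p = 1
  · exact Or.inr h
  left
  push Not at h
  obtain ⟨x, hx⟩ := h
  obtain ⟨k, hk⟩ := IsPGroup.iff_orderOf.1 hPp x
  have hk2 : 2 ≤ k := by
    by_contra hlt
    push Not at hlt
    apply hx
    have : orderOf x ∣ p := by
      rw [hk]
      interval_cases k
      · simp
      · simp
    exact orderOf_dvd_iff_pow_eq_one.mp this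
  have hcz : Nat.card (Subgroup.zpowers x) = p ^ k := by rw [Nat.card_zpowers, hk]
  have hk3 : k ≤ 3 := by
    have h1 : p ^ k ∣ p ^ 3 := by rw [← hcz, ← hP]; exact Subgroup.card_subgroup_dvd_card _
    exact (Nat.pow_dvd_pow_iff_le_right hpp.one_lt).mp h1
  have hidx : (Subgroup.zpowers x).index = p ^ (3 - k) := by
    have h1 := Subgroup.card_mul_index (Subgroup.zpowers x)
    rw [hcz, hP] at h1
    have h2 : p ^ 3 = p ^ k * p ^ (3 - k) := by rw [← pow_add]; congr 1; omega
    rw [h2] at h1
    exact Nat.eq_of_mul_eq_mul_left (pow_pos hpp.pos k) h1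
  have hn : (Subgroup.zpowers x).Normal := by
    have hk' : k = 2 ∨ k = 3 := by omega
    rcases hk' with rfl | rfl
    · exact Cfsg.Agent.Helper63.normal_of_index_eq_prime hPp _ (by rw [hidx]; simp)
    · have : Subgroup.zpowers x = ⊤ := by
        rw [← Subgroup.index_eq_one, hidx]; simp
      rw [this]; infer_instance
  refine ⟨Subgroup.zpowers x, hn, inferInstance, ?_⟩
  have hcq : Nat.card (P ⧸ Subgroup.zpowers x) = p ^ (3 - k) := by
    rw [← hidx]; exact (Subgroup.index_eq_card _).symm
  have hk' : k = 2 ∨ k = 3 := by omega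
  rcases hk' with rfl | rfl
  · exact isCyclic_of_prime_card (p := p) (by rw [hcq]; simp)
  · have h1 : Nat.card (P ⧸ Subgroup.zpowers x) = 1 := by rw [hcq]; simp
    have : Subsingleton (P ⧸ Subgroup.zpowers x) := (Nat.card_eq_one_iff_unique.mp h1).1
    exact isCyclic_of_subsingleton

end Cfsg.Agent.Helper24.Blk
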