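import Mathlib
import Cfsg.Agent.Lib.Helper24.Coprime
import Cfsg.Agent.Lib.Helper24.ClassTwo

set_option autoImplicit false

namespace Cfsg.Agent.Helper24

open Subgroup
open scoped commutatorElement

variable {G : Type*} [Group G]

/-- A nontrivial finite `p`-subgroup `C` has a proper subgroup `M` containing all commutators
and all `p`-th powers of elements of `C`. -/
theorem exists_proper_frattini_like [Finite G] (p : ℕ) [hp : Fact p.Prime] (C : Subgroup G)
    (hC : IsPGroup p C) (hne : C ≠ ⊥) :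
    ∃ M : Subgroup G, M ≤ C ∧ M ≠ C ∧ (∀ x ∈ C, ∀ y ∈ C, ⁅x, y⁆ ∈ M) ∧ ∀ x ∈ C, x ^ p ∈ M := by
  obtain ⟨n, hn⟩ := IsPGroup.iff_card.mp hC
  have hn0 : n ≠ 0 := by
    rintro rfl
    rw [pow_zero] at hn
    exact hne ((Subgroup.card_eq_one).mp hn)
  obtain ⟨m, rfl⟩ := Nat.exists_eq_succ_of_ne_zero hn0
  have hdvd : p ^ m ∣ Nat.card C := by rw [hn]; exact pow_dvd_pow p (Nat.le_succ m)
  obtain ⟨K, hK⟩ := Sylow.exists_subgroup_card_pow_prime p hdvd
  have hidx : K.index = p := by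
    have h1 := K.card_mul_index
    rw [hK, hn, pow_succ] at h1
    exact Nat.eq_of_mul_eq_mul_left (pow_pos hp.out.pos m) h1
  have hKn : K.Normal := by
    apply Subgroup.normal_of_index_eq_minFac_card
    rw [hidx, hn, Nat.Prime.pow_minFac hp.out (Nat.succ_ne_zero m)]
  have hcardQ : Nat.card (C ⧸ K) = p := by rw [← hidx]; rfl
  have hcyc : IsCyclic (C ⧸ K) := isCyclic_of_prime_card hcardQ
  have hcommQ : IsMulCommutative (C ⧸ K) := ⟨⟨IsCyclic.commGroup.mul_comm⟩⟩
  have hcomm : commutator C ≤ K := Subgroup.Normal.quotient_commutative_iff_commutator_le.mp hcommQ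
  refine ⟨K.map C.subtype, map_subtype_le K, ?_, ?_, ?_⟩
  · intro h
    have h2 : Nat.card (K.map C.subtype) = Nat.card K := card_map_of_injective C.subtype_injective
    rw [h, hK, hn] at h2
    have : m + 1 = m := Nat.pow_right_injective hp.out.two_le h2
    omega
  · intro x hx y hy
    refine ⟨⁅(⟨x, hx⟩ : C), ⟨y, hy⟩⁆, hcomm ?_, rfl⟩
    rw [_root_.commutator_def]
    exact commutator_mem_commutator (mem_top _) (mem_top _)
  · intro x hx
    refine ⟨(⟨x, hx⟩ : C) ^ p, ?_, rfl⟩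
    have h3 : ((QuotientGroup.mk' K) (⟨x, hx⟩ : C)) ^ p = 1 := by
      rw [← hcardQ]; exact pow_card_eq_one'
    rw [← map_pow] at h3
    exact (QuotientGroup.eq_one_iff _).mp h3

/-- **Ω₁-lemma.** Let `p` be odd, `C` a `p`-subgroup of the finite group `G` and `A` a subgroup of order
prime to `p` normalizing `C`. If `A` centralizes every `x ∈ C` with `x ^ p = 1`, then `A` centralizes
`C`. -/
theorem le_centralizer_of_centralizes_omega_one [Finite G] (p : ℕ) [hp : Fact p.Prime] (hp2 : p ≠ 2)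
    (A : Subgroup G) (hcop : (Nat.card A).Coprime p) :
    ∀ (n : ℕ) (C : Subgroup G), Nat.card C = n → IsPGroup p C → A ≤ normalizer (C : Set G) →
      (∀ x ∈ C, x ^ p = 1 → ∀ a ∈ A, a * x = x * a) → A ≤ centralizer (C : Set G) := by
  intro n
  induction n using Nat.strong_induction_on with
  | _ n ih =>
  intro C hcard hC hAC hfix
  have hcopC : ∀ C₁ : Subgroup G, C₁ ≤ C → (Nat.card A).Coprime (Nat.card C₁) := by
    intro C₁ h1
    obtain ⟨k, hk⟩ := IsPGroup.iff_card.mp (hC.to_le h1)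
    rw [hk]; exact Nat.Coprime.pow_right k hcop
  -- (*) A centralizes proper A-invariant subgroups
  have hstar : ∀ C₁ : Subgroup G, C₁ ≤ C → C₁ ≠ C → A ≤ normalizer (C₁ : Set G) →
      A ≤ centralizer (C₁ : Set G) := by
    intro C₁ h1 h2 h3
    have hlt : Nat.card C₁ < n := by
      rw [← hcard]
      rcases lt_or_eq_of_le (card_le_of_le h1) with h | h
      · exact h
      · exact absurd (eq_of_le_of_card_ge h1 (le_of_eq h.symm)) h2
    exact ih _ hlt C₁ rfl (hC.to_le h1) h3 (fun x hx => hfix x (h1 hx))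
  have hCA : ⁅C, A⁆ ≤ C := commutator_le_of_le_normalizer C A hAC
  by_cases h1 : ⁅C, A⁆ = C
  swap
  · have h2 := hstar ⁅C, A⁆ hCA h1 (normalizer_commutator_ge_right C A)
    have h3 : ⁅⁅C, A⁆, A⁆ = ⊥ :=
      commutator_eq_bot_iff_le_centralizer.mpr (le_centralizer_iff.mp h2)
    exact le_centralizer_of_coprime C A hAC (hcopC C le_rfl) h3
  -- now C = [C, A]
  by_cases hbot : C = ⊥
  · rw [hbot]
    intro a _
    rw [mem_centralizer_iff]
    intro h hh
    rw [SetLike.mem_coe, mem_bot] at hh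
    rw [hh]; simp
  -- Step 2
  have hstep2 : ∀ N : Subgroup G, N ≤ C → N ≠ C → C ≤ normalizer (N : Set G) →
      A ≤ normalizer (N : Set G) → N ≤ centralizer (C : Set G) := by
    intro N hN1 hN2 hN3 hN4
    have hAN := hstar N hN1 hN2 hN4
    have hAN' : ⁅A, N⁆ = ⊥ := commutator_eq_bot_iff_le_centralizer.mpr hAN
    have hNA : ⁅N, A⁆ = ⊥ := by rw [commutator_comm]; exact hAN'
    have h2 : ⁅⁅A, N⁆, C⁆ = ⊥ := by rw [hAN']; exact commutator_bot_left C
    have h3 : ⁅⁅N, C⁆, A⁆ = ⊥ := by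
      rw [eq_bot_iff, ← hNA]
      exact commutator_mono (commutator_le_of_le_normalizer N C hN3) le_rfl
    have h4 : ⁅⁅C, A⁆, N⁆ = ⊥ := commutator_commutator_eq_bot_of_rotate h2 h3
    rw [h1] at h4
    exact le_centralizer_iff.mp (commutator_eq_bot_iff_le_centralizer.mp h4)
  -- Step 3
  obtain ⟨M, hMC, hMne, hMcomm, hMpow⟩ := exists_proper_frattini_like p C hC hbot
  set S : Set G := {g | (∃ x ∈ C, x ^ p = g) ∨ ∃ x ∈ C, ∃ y ∈ C, ⁅x, y⁆ = g} with hS
  set Φ := closure S with hΦ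
  have hΦM : Φ ≤ M := by
    rw [hΦ, closure_le]
    rintro g (⟨x, hx, rfl⟩ | ⟨x, hx, y, hy, rfl⟩)
    · exact hMpow x hx
    · exact hMcomm x hx y hy
  have hΦC : Φ ≤ C := hΦM.trans hMC
  have hΦne : Φ ≠ C := by
    intro h
    apply hMne
    exact le_antisymm hMC (h ▸ hΦM)
  -- invariance of Φ under anything normalizing C
  have hinv : ∀ B : Subgroup G, B ≤ normalizer (C : Set G) → B ≤ normalizer (Φ : Set G) := by
    intro B hB
    rw [hΦ, le_normalizer_closure_iff]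
    intro b hb g hg
    have hbC : ∀ x ∈ C, b * x * b⁻¹ ∈ C := fun x hx => (mem_normalizer_iff.mp (hB hb) x).mp hx
    rcases hg with ⟨x, hx, rfl⟩ | ⟨x, hx, y, hy, rfl⟩
    · apply Subgroup.subset_closure
      left
      refine ⟨b * x * b⁻¹, hbC x hx, ?_⟩
      rw [conj_pow]
    · apply Subgroup.subset_closure
      right
      refine ⟨b * x * b⁻¹, hbC x hx, b * y * b⁻¹, hbC y hy, ?_⟩
      rw [conjugate_commutatorElement]
  have hΦcent : Φ ≤ centralizer (C : Set G) :=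
    hstep2 Φ hΦC hΦne (hinv C le_normalizer) (hinv A hAC)
  have hAΦ : A ≤ centralizer (Φ : Set G) := hstar Φ hΦC hΦne (hinv A hAC)
  have hpowΦ : ∀ x ∈ C, x ^ p ∈ Φ := fun x hx => Subgroup.subset_closure (Or.inl ⟨x, hx, rfl⟩)
  have hcommΦ : ∀ x ∈ C, ∀ y ∈ C, ⁅x, y⁆ ∈ Φ := fun x hx y hy =>
    Subgroup.subset_closure (Or.inr ⟨x, hx, y, hy, rfl⟩)
  -- Step 4: for x ∈ C, a ∈ A, z = x⁻¹ a x a⁻¹ has z^p = 1
  have hz : ∀ x ∈ C, ∀ a ∈ A, (x⁻¹ * (a * x * a⁻¹)) ^ p = 1 := by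
    intro x hx a ha
    set y := a * x * a⁻¹ with hy
    have hyC : y ∈ C := (mem_normalizer_iff.mp (hAC ha) x).mp hx
    set z := x⁻¹ * y with hzdef
    have hzC : z ∈ C := C.mul_mem (C.inv_mem hx) hyC
    set c := z * x * z⁻¹ * x⁻¹ with hc
    have hcΦ : c ∈ Φ := hcommΦ z hzC x hx
    have hcx : Commute c x := ((mem_centralizer_iff.mp (hΦcent hcΦ)) x hx).symm
    have hcz : Commute c z := ((mem_centralizer_iff.mp (hΦcent hcΦ)) z hzC).symm
    -- c^p = 1
    have hcp : c ^ p = 1 := by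
      rw [hc, ← commutator_pow_left_of_commute x z hcz p]
      have h3 : z ^ p ∈ Φ := hpowΦ z hzC
      have h4 := (mem_centralizer_iff.mp (hΦcent h3)) x hx
      rw [← h4]; group
    have hpch : p ∣ p.choose 2 := by
      apply Nat.Prime.dvd_choose_self hp.out (by norm_num)
      have := hp.out.two_le
      omega
    have hcch : c ^ (p.choose 2) = 1 := by
      obtain ⟨k, hk⟩ := hpch
      rw [hk, pow_mul, hcp, one_pow]
    have h5 : (x * z) ^ p = x ^ p * z ^ p * c ^ (p.choose 2) :=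
      mul_pow_of_commutator_commute x z hcx hcz p
    have h6 : x * z = y := by rw [hzdef]; group
    have h7 : y ^ p = x ^ p := by
      rw [hy, conj_pow]
      have h8 := (mem_centralizer_iff.mp (hAΦ ha)) (x ^ p) (hpowΦ x hx)
      rw [← h8]; group
    rw [h6, h7, hcch, mul_one] at h5
    have : x ^ p * z ^ p = x ^ p * 1 := by rw [← h5, mul_one]
    exact mul_left_cancel this
  -- Step 5
  have h5 : ⁅C, A⁆ ≤ centralizer (A : Set G) := by
    rw [commutator_le]
    intro x hx a ha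
    rw [mem_centralizer_iff]
    intro a' ha'
    have h6 : ⁅x, a⁆ = x⁻¹⁻¹ * (a * x⁻¹ * a⁻¹) := by rw [commutatorElement_def]; group
    rw [h6]
    have h7 : x⁻¹⁻¹ * (a * x⁻¹ * a⁻¹) ∈ C := by
      apply C.mul_mem (C.inv_mem (C.inv_mem hx))
      exact (mem_normalizer_iff.mp (hAC ha) x⁻¹).mp (C.inv_mem hx)
    exact hfix _ h7 (hz x⁻¹ (C.inv_mem hx) a ha) a' ha'
  have h6 : ⁅⁅C, A⁆, A⁆ = ⊥ := commutator_eq_bot_iff_le_centralizer.mpr h5
  exact le_centralizer_of_coprime C A hAC (hcopC C le_rfl) h6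

end Cfsg.Agent.Helper24
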