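import Mathlib

/-!
Auxiliary lemmas for piece (PERM) `perm_fixed_le` of helper97's lemma server "FX" (row S3818), by helper24:
an automorphism of order `p` of a finite abelian group has at most `|T| / p` fixed points, and the same
for a regular abelian normal subgroup of a permutation group.
-/

set_option autoImplicit false

namespace Cfsg.Agent.Helper24.FX

/-- `ξ` normalises the finite abelian subgroup `T`, `ξ ^ p = 1`, `ξ` does not centralise `T`:
then `p * |C_T(ξ)| ≤ |T|`. -/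
theorem h24_ab_fixed_le {H : Type*} [Group H] (T : Subgroup H) [Finite T]
    (hab : ∀ s ∈ T, ∀ t ∈ T, s * t = t * s) (ξ : H) (hξT : ∀ t ∈ T, ξ * t * ξ⁻¹ ∈ T)
    {p : ℕ} (hp : p.Prime) (hξp : ξ ^ p = 1) (hne : ∃ t ∈ T, ξ * t * ξ⁻¹ ≠ t) :
    p * Nat.card {t : T // ξ * (t : H) * ξ⁻¹ = t} ≤ Nat.card T := by
  classical
  -- the homomorphism t ↦ t⁻¹ * ξ t ξ⁻¹
  let φ : T →* T :=
    { toFun := fun t => ⟨(t : H)⁻¹ * (ξ * t * ξ⁻¹), T.mul_mem (T.inv_mem t.2) (hξT t t.2)⟩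
      map_one' := by
        apply Subtype.ext
        simp
      map_mul' := by
        intro s t
        apply Subtype.ext
        simp only [Subgroup.coe_mul]
        have h1 : ξ * ((s : H) * t) * ξ⁻¹ = (ξ * s * ξ⁻¹) * (ξ * t * ξ⁻¹) := by group
        rw [h1, mul_inv_rev]
        have h2 := hab _ (hξT s s.2) _ (T.inv_mem t.2)
        calc (t : H)⁻¹ * (s : H)⁻¹ * (ξ * s * ξ⁻¹ * (ξ * t * ξ⁻¹))
            = (s : H)⁻¹ * ((t : H)⁻¹ * (ξ * s * ξ⁻¹)) * (ξ * t * ξ⁻¹) := by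
              rw [hab _ (T.inv_mem t.2) _ (T.inv_mem s.2)]; group
          _ = (s : H)⁻¹ * ((ξ * s * ξ⁻¹) * (t : H)⁻¹) * (ξ * t * ξ⁻¹) := by rw [h2]
          _ = _ := by group }
  have hφ : ∀ t : T, ((φ t : T) : H) = (t : H)⁻¹ * (ξ * t * ξ⁻¹) := fun t => rfl
  have hconj : ∀ t : T, ξ * (t : H) * ξ⁻¹ = (t : H) * (φ t : T) := by
    intro t; rw [hφ]; group
  have hker : ∀ t : T, t ∈ φ.ker ↔ ξ * (t : H) * ξ⁻¹ = t := by
    intro t
    rw [MonoidHom.mem_ker, Subtype.ext_iff, hφ, Subgroup.coe_one, inv_mul_eq_one, eq_comm]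
  have hcardker : Nat.card {t : T // ξ * (t : H) * ξ⁻¹ = t} = Nat.card φ.ker :=
    Nat.card_congr (Equiv.subtypeEquivRight (fun t => (hker t).symm))
  have hsplit : Nat.card φ.ker * Nat.card φ.range = Nat.card T := by
    rw [← Subgroup.index_ker, Subgroup.card_mul_index]
  suffices hge : p ≤ Nat.card φ.range by
    rw [hcardker, ← hsplit, mul_comm]
    exact Nat.mul_le_mul_left _ hge
  obtain ⟨t₀, ht₀, hne₀⟩ := hne
  by_cases hcase : ∀ t : T, ξ * ((φ t : T) : H) * ξ⁻¹ = (φ t : T)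
  · -- ξ centralises the image: the image has exponent p
    have hpow : ∀ (t : T) (k : ℕ), ξ ^ k * (t : H) * (ξ ^ k)⁻¹ = (t : H) * ((φ t : T) : H) ^ k := by
      intro t k
      induction k with
      | zero => simp
      | succ k ih =>
        have h1 : ξ ^ (k + 1) * (t : H) * (ξ ^ (k + 1))⁻¹ = ξ * (ξ ^ k * t * (ξ ^ k)⁻¹) * ξ⁻¹ := by
          rw [pow_succ']; group
        rw [h1, ih]
        have h2 : ξ * ((t : H) * ((φ t : T) : H) ^ k) * ξ⁻¹
            = (ξ * t * ξ⁻¹) * (ξ * ((φ t : T) : H) * ξ⁻¹) ^ k := by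
          rw [conj_pow]; group
        rw [h2, hcase t, hconj t, pow_succ']
        group
    have hp1 : ((φ ⟨t₀, ht₀⟩ : T) : H) ^ p = 1 := by
      have h1 := hpow ⟨t₀, ht₀⟩ p
      rw [hξp] at h1
      simpa using h1.symm
    have hne1 : φ ⟨t₀, ht₀⟩ ≠ 1 := by
      intro h1
      have h2 := (hker ⟨t₀, ht₀⟩).1 (MonoidHom.mem_ker.2 h1)
      exact hne₀ h2
    set i : φ.range := ⟨φ ⟨t₀, ht₀⟩, MonoidHom.mem_range.2 ⟨_, rfl⟩⟩ with hi
    have hip : i ^ p = 1 := by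
      apply Subtype.ext
      apply Subtype.ext
      simpa using hp1
    have hi1 : i ≠ 1 := by
      intro h1
      apply hne1
      have := congrArg Subtype.val h1
      simpa [hi] using this
    have : Fact p.Prime := ⟨hp⟩
    have hord : orderOf i = p := orderOf_eq_prime hip hi1
    have hdvd : p ∣ Nat.card φ.range := hord ▸ orderOf_dvd_natCard i
    exact Nat.le_of_dvd Nat.card_pos hdvd
  · -- some image element is moved: its orbit has p elements
    push Not at hcase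
    obtain ⟨t, ht⟩ := hcase
    set i : H := ((φ t : T) : H) with hi
    have hiT : i ∈ T := (φ t).2
    have hξ1 : orderOf ξ = p := by
      have hd : orderOf ξ ∣ p := orderOf_dvd_of_pow_eq_one hξp
      rcases (Nat.dvd_prime hp).1 hd with h1 | h1
      · exfalso
        rw [orderOf_eq_one_iff] at h1
        apply ht
        rw [h1]; simp
      · exact h1
    -- conjugation commutes with φ
    have hconjφ : ∀ (k : ℕ) (s : T), ∃ s' : T, ((φ s' : T) : H) = ξ ^ k * ((φ s : T) : H) * (ξ ^ k)⁻¹ := by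
      intro k
      induction k with
      | zero => intro s; exact ⟨s, by simp⟩
      | succ k ih =>
        intro s
        obtain ⟨s', hs'⟩ := ih s
        refine ⟨⟨ξ * s' * ξ⁻¹, hξT s' s'.2⟩, ?_⟩
        rw [hφ, pow_succ']
        have h1 : ξ * ξ ^ k * ((φ s : T) : H) * (ξ * ξ ^ k)⁻¹
            = ξ * (ξ ^ k * ((φ s : T) : H) * (ξ ^ k)⁻¹) * ξ⁻¹ := by group
        rw [h1, ← hs', hφ]
        group
    let f : Fin p → φ.range := fun k =>
      ⟨φ (Classical.choose (hconjφ k t)), MonoidHom.mem_range.2 ⟨_, rfl⟩⟩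
    have hf : ∀ k : Fin p, (((f k : φ.range) : T) : H) = ξ ^ (k : ℕ) * i * (ξ ^ (k : ℕ))⁻¹ :=
      fun k => Classical.choose_spec (hconjφ k t)
    have hcomm_of : ∀ d : ℕ, 0 < d → d < p → ξ ^ d * i = i * ξ ^ d → False := by
      intro d hd0 hdp hc
      have hcop : Nat.Coprime d (orderOf ξ) := by
        rw [hξ1]
        exact (Nat.Coprime.symm ((Nat.Prime.coprime_iff_not_dvd hp).2
          (fun hdv => absurd (Nat.le_of_dvd hd0 hdv) (by omega))))
      obtain ⟨m, hm⟩ := exists_pow_eq_self_of_coprime hcop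
      have h1 : Commute (ξ ^ d) i := hc
      have h2 : Commute ((ξ ^ d) ^ m) i := h1.pow_left m
      rw [hm] at h2
      apply ht
      rw [h2.eq, mul_inv_cancel_right]
    have hinj : Function.Injective f := by
      have key : ∀ j k : Fin p, (j : ℕ) < k → f j ≠ f k := by
        intro j k hjk heq
        have h1 : ξ ^ (j : ℕ) * i * (ξ ^ (j : ℕ))⁻¹ = ξ ^ (k : ℕ) * i * (ξ ^ (k : ℕ))⁻¹ := by
          rw [← hf j, ← hf k, heq]
        obtain ⟨d, hd⟩ := Nat.exists_eq_add_of_lt hjk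
        have hk : (k : ℕ) = j + (d + 1) := by omega
        rw [hk, pow_add] at h1
        apply hcomm_of (d + 1) (by omega) (by have := k.2; omega)
        have h1' : ξ ^ (j : ℕ) * i * (ξ ^ (j : ℕ))⁻¹
            = ξ ^ (j : ℕ) * (ξ ^ (d + 1) * i * (ξ ^ (d + 1))⁻¹) * (ξ ^ (j : ℕ))⁻¹ := by
          rw [h1]; group
        have h2 : i = ξ ^ (d + 1) * i * (ξ ^ (d + 1))⁻¹ := mul_left_cancel (mul_right_cancel h1')
        calc ξ ^ (d + 1) * i = (ξ ^ (d + 1) * i * (ξ ^ (d + 1))⁻¹) * ξ ^ (d + 1) := by group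
          _ = i * ξ ^ (d + 1) := by rw [← h2]
      intro j k hjk
      by_contra hne'
      rcases lt_or_gt_of_ne (fun h => hne' (Fin.ext h)) with h1 | h1
      · exact key j k h1 hjk
      · exact key k j h1 hjk.symm
    have h1 := Nat.card_le_card_of_injective f hinj
    simpa using h1

/-- A permutation `ξ ≠ 1` with `ξ ^ p = 1` normalising a transitive abelian group `T` of permutations
of `Ω` has at most `|Ω| / p` fixed points. -/
theorem h24_regular_fixed_le {Ω : Type*} [Finite Ω] (T : Subgroup (Equiv.Perm Ω))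
    (hab : ∀ s ∈ T, ∀ t ∈ T, s * t = t * s) (htr : ∀ ω ω' : Ω, ∃ t ∈ T, t ω = ω')
    (ξ : Equiv.Perm Ω) (hξT : ∀ t ∈ T, ξ * t * ξ⁻¹ ∈ T) {p : ℕ} (hp : p.Prime) (hξp : ξ ^ p = 1)
    (hξ1 : ∃ ω, ξ ω ≠ ω) :
    p * Nat.card {ω : Ω // ξ ω = ω} ≤ Nat.card Ω := by
  classical
  by_cases hfix : ∃ ω₀, ξ ω₀ = ω₀
  swap
  · have : IsEmpty {ω : Ω // ξ ω = ω} := ⟨fun ω => hfix ⟨ω.1, ω.2⟩⟩
    simp
  obtain ⟨ω₀, hω₀⟩ := hfix
  -- regularity
  have hreg : ∀ s ∈ T, ∀ t ∈ T, s ω₀ = t ω₀ → s = t := by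
    intro s hs t ht hst
    ext ω
    obtain ⟨r, hr, rfl⟩ := htr ω₀ ω
    have h1 : s (r ω₀) = (s * r) ω₀ := rfl
    have h2 : t (r ω₀) = (t * r) ω₀ := rfl
    rw [h1, h2, hab s hs r hr, hab t ht r hr]
    change r (s ω₀) = r (t ω₀)
    rw [hst]
  have hinj : Function.Injective (fun t : T => (t : Equiv.Perm Ω) ω₀) := by
    intro s t hst
    exact Subtype.ext (hreg s s.2 t t.2 hst)
  have hTΩ : Nat.card T ≤ Nat.card Ω := Nat.card_le_card_of_injective _ hinj
  have hξinv : ξ⁻¹ ω₀ = ω₀ := by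
    rw [Equiv.Perm.inv_eq_iff_eq]; exact hω₀.symm
  have hsurj : Function.Surjective
      (fun t : {t : T // ξ * (t : Equiv.Perm Ω) * ξ⁻¹ = t} =>
        (⟨((t : T) : Equiv.Perm Ω) ω₀, by
          have h1 := t.2
          have h2 : ξ (((t : T) : Equiv.Perm Ω) ω₀) = (ξ * ((t : T) : Equiv.Perm Ω) * ξ⁻¹) ω₀ := by
            simp only [Equiv.Perm.coe_mul, Function.comp_apply, hξinv]
          rw [h2, h1]⟩ : {ω : Ω // ξ ω = ω})) := by
    rintro ⟨ω, hω⟩
    obtain ⟨t, ht, rfl⟩ := htr ω₀ ω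
    have h1 : ξ * t * ξ⁻¹ = t := by
      apply hreg _ (hξT t ht) t ht
      simp only [Equiv.Perm.coe_mul, Function.comp_apply, hξinv]
      exact hω
    exact ⟨⟨⟨t, ht⟩, h1⟩, rfl⟩
  have hFC : Nat.card {ω : Ω // ξ ω = ω} ≤ Nat.card {t : T // ξ * (t : Equiv.Perm Ω) * ξ⁻¹ = t} :=
    Nat.card_le_card_of_surjective _ hsurj
  have hne : ∃ t ∈ T, ξ * t * ξ⁻¹ ≠ t := by
    by_contra hall
    push Not at hall
    obtain ⟨ω, hω⟩ := hξ1
    apply hω
    obtain ⟨t, ht, rfl⟩ := htr ω₀ ω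
    have h1 := hall t ht
    have h2 : ξ (t ω₀) = (ξ * t * ξ⁻¹) ω₀ := by
      simp only [Equiv.Perm.coe_mul, Function.comp_apply, hξinv]
    rw [h2, h1]
  have hAB := h24_ab_fixed_le T hab ξ hξT hp hξp hne
  calc p * Nat.card {ω : Ω // ξ ω = ω}
      ≤ p * Nat.card {t : T // ξ * (t : Equiv.Perm Ω) * ξ⁻¹ = t} := Nat.mul_le_mul_left _ hFC
    _ ≤ Nat.card T := hAB
    _ ≤ Nat.card Ω := hTΩ

end Cfsg.Agent.Helper24.FX
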