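import Mathlib
import Cfsg.Agent.Lib.Helper24.FXPERMa

/-!
Piece (PERM) `perm_fixed_le` of helper97's lemma server "FX" (row S3818), delivered by helper24.
-/

set_option autoImplicit false

namespace Cfsg.Agent.Helper24.FX

universe u

open scoped commutatorElement

section quot
variable {G : Type*} [Group G] {Ω : Type u} [MulAction G Ω]

/-- the action of `G` on the orbits of a normal subgroup -/
@[reducible] def h24_quotAct (A : Subgroup G) [hA : A.Normal] :
    MulAction G (MulAction.orbitRel.Quotient A Ω) where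
  smul g := Quotient.map' (fun ω => g • ω) (by
    intro ω₁ ω₂ h
    rw [MulAction.orbitRel_apply] at h ⊢
    obtain ⟨a, rfl⟩ := h
    refine ⟨⟨g * a * g⁻¹, hA.conj_mem a a.2 g⟩, ?_⟩
    simp [Subgroup.smul_def, mul_smul])
  one_smul := by
    intro σ
    induction σ using Quotient.inductionOn' with
    | h ω =>
      change Quotient.mk'' ((1 : G) • ω) = Quotient.mk'' ω
      rw [one_smul]
  mul_smul := by
    intro g h σ
    induction σ using Quotient.inductionOn' with
    | h ω =>
      change Quotient.mk'' ((g * h) • ω) = Quotient.mk'' (g • h • ω)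
      rw [mul_smul]

end quot

theorem perm_fixed_le {G : Type*} [Group G] [Finite G] [Group.IsSolvable G] (x : G) {p : ℕ}
    (hp : p.Prime) (hxp : x ^ p = 1) (hgen : Subgroup.normalClosure ({x} : Set G) = ⊤) :
    ∀ (n : ℕ) (Ω : Type u) [Finite Ω] [MulAction G Ω] [MulAction.IsPretransitive G Ω],
      Nat.card Ω = n → 2 ≤ n → p * Nat.card (MulAction.fixedBy Ω x) ≤ Nat.card Ω := by
  classical
  intro n
  induction n using Nat.strong_induction_on with
  | _ n ih =>
  intro Ω _ _ _ hn h2
  have hΩnt : Nontrivial Ω := by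
    rw [← Finite.one_lt_card_iff_nontrivial]; omega
  have hnontriv : ∃ g : G, ∃ ω : Ω, g • ω ≠ ω := by
    obtain ⟨ω₁, ω₂, h12⟩ := exists_pair_ne Ω
    obtain ⟨g, hg⟩ := MulAction.exists_smul_eq G ω₁ ω₂
    exact ⟨g, ω₁, by rw [hg]; exact h12.symm⟩
  set θ := MulAction.toPermHom G Ω with hθ
  have hθa : ∀ (g : G) (ω : Ω), θ g ω = g • ω := fun g ω => rfl
  -- x acts nontrivially
  have hxnt : ∃ ω : Ω, x • ω ≠ ω := by
    by_contra hall
    push Not at hall
    have hxk : x ∈ θ.ker := by
      rw [MonoidHom.mem_ker]; ext ω; rw [hθa]; simpa using hall ω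
    have hle : Subgroup.normalClosure ({x} : Set G) ≤ θ.ker :=
      Subgroup.normalClosure_le_normal (Set.singleton_subset_iff.2 hxk)
    rw [hgen] at hle
    obtain ⟨g, ω, hgω⟩ := hnontriv
    apply hgω
    have h3 := hle (Subgroup.mem_top g)
    rw [MonoidHom.mem_ker] at h3
    have h4 := congrArg (fun σ => σ ω) h3
    simpa [hθa] using h4
  -- a minimal normal subgroup acting nontrivially
  let S : Set (Subgroup G) := {A | A.Normal ∧ ∃ a ∈ A, ∃ ω : Ω, a • ω ≠ ω}
  have hS : S.Nonempty := by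
    obtain ⟨g, ω, h⟩ := hnontriv
    exact ⟨⊤, inferInstance, g, Subgroup.mem_top g, ω, h⟩
  obtain ⟨A, ⟨hAn, hAnt⟩, hAmin⟩ := (wellFounded_lt (α := Subgroup G)).has_min S hS
  have hmin : ∀ B : Subgroup G, B.Normal → B < A → ∀ b ∈ B, ∀ ω : Ω, b • ω = ω := by
    intro B hBn hBA b hb ω
    by_contra hne
    exact hAmin B ⟨hBn, b, hb, ω, hne⟩ hBA
  let _ : MulAction G (MulAction.orbitRel.Quotient A Ω) := h24_quotAct A
  let π : Ω → MulAction.orbitRel.Quotient A Ω := Quotient.mk''
  have hπ : ∀ (g : G) (ω : Ω), g • π ω = π (g • ω) := fun g ω => rfl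
  have hπsurj : Function.Surjective π := Quotient.mk''_surjective
  have hQtr : MulAction.IsPretransitive G (MulAction.orbitRel.Quotient A Ω) := ⟨by
    intro σ τ
    obtain ⟨ω, rfl⟩ := hπsurj σ
    obtain ⟨ω', rfl⟩ := hπsurj τ
    obtain ⟨g, hg⟩ := MulAction.exists_smul_eq G ω ω'
    exact ⟨g, by rw [hπ, hg]⟩⟩
  have hQfin : Finite (MulAction.orbitRel.Quotient A Ω) := Finite.of_surjective π hπsurj
  have hlt : Nat.card (MulAction.orbitRel.Quotient A Ω) < n := by
    rw [← hn]
    have := Fintype.ofFinite Ω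
    have := Fintype.ofFinite (MulAction.orbitRel.Quotient A Ω)
    rw [Nat.card_eq_fintype_card, Nat.card_eq_fintype_card]
    apply Fintype.card_lt_of_surjective_not_injective π hπsurj
    intro hinj
    obtain ⟨a, ha, ω, haω⟩ := hAnt
    apply haω
    apply hinj
    apply Quotient.sound'
    rw [MulAction.orbitRel_apply]
    exact ⟨⟨a, ha⟩, rfl⟩
  by_cases hQ2 : 2 ≤ Nat.card (MulAction.orbitRel.Quotient A Ω)
  · -- intransitive case: induction
    have hih := ih _ hlt (MulAction.orbitRel.Quotient A Ω) rfl hQ2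
    obtain ⟨ω₀⟩ : Nonempty Ω := inferInstance
    set s := Nat.card {ω : Ω // π ω = π ω₀} with hs
    have hfib : ∀ σ : MulAction.orbitRel.Quotient A Ω, Nat.card {ω : Ω // π ω = σ} = s := by
      intro σ
      obtain ⟨g, hg⟩ := MulAction.exists_smul_eq G (π ω₀) σ
      apply Nat.card_congr
      exact
        { toFun := fun ω => ⟨g⁻¹ • ω.1, by rw [← hπ, ω.2, ← hg, inv_smul_smul]⟩
          invFun := fun ω => ⟨g • ω.1, by rw [← hπ, ω.2, hg]⟩
          left_inv := fun ω => Subtype.ext (smul_inv_smul g ω.1)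
          right_inv := fun ω => Subtype.ext (inv_smul_smul g ω.1) }
    have hcardΩ : Nat.card Ω = Nat.card (MulAction.orbitRel.Quotient A Ω) * s := by
      have := Fintype.ofFinite (MulAction.orbitRel.Quotient A Ω)
      rw [← Nat.card_congr (Equiv.sigmaFiberEquiv π), Nat.card_sigma]
      simp only [hfib, Finset.sum_const, Finset.card_univ, smul_eq_mul, Nat.card_eq_fintype_card]
    have hfix : Nat.card (MulAction.fixedBy Ω x)
        ≤ Nat.card (MulAction.fixedBy (MulAction.orbitRel.Quotient A Ω) x) * s := by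
      have := Fintype.ofFinite (MulAction.fixedBy (MulAction.orbitRel.Quotient A Ω) x)
      let f : MulAction.fixedBy Ω x →
          Σ σ : MulAction.fixedBy (MulAction.orbitRel.Quotient A Ω) x, {ω : Ω // π ω = σ.1} :=
        fun ω => ⟨⟨π ω.1, by
          rw [MulAction.mem_fixedBy, hπ, MulAction.mem_fixedBy.1 ω.2]⟩, ⟨ω.1, rfl⟩⟩
      have hf : Function.Injective f := by
        intro ω ω' h
        have h1 := congrArg (fun z => (z.2 : Ω)) h
        exact Subtype.ext h1
      have h1 := Nat.card_le_card_of_injective f hf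
      rw [Nat.card_sigma] at h1
      simpa only [hfib, Finset.sum_const, Finset.card_univ, smul_eq_mul,
        Nat.card_eq_fintype_card] using h1
    calc p * Nat.card (MulAction.fixedBy Ω x)
        ≤ p * (Nat.card (MulAction.fixedBy (MulAction.orbitRel.Quotient A Ω) x) * s) :=
          Nat.mul_le_mul_left _ hfix
      _ = (p * Nat.card (MulAction.fixedBy (MulAction.orbitRel.Quotient A Ω) x)) * s := by ring
      _ ≤ Nat.card (MulAction.orbitRel.Quotient A Ω) * s := Nat.mul_le_mul_right _ hih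
      _ = Nat.card Ω := hcardΩ.symm
  · -- transitive case
    have hsub : Subsingleton (MulAction.orbitRel.Quotient A Ω) := by
      rw [← Finite.card_le_one_iff_subsingleton]; omega
    have hAtr : ∀ ω ω' : Ω, ∃ a ∈ A, a • ω = ω' := by
      intro ω ω'
      have h1 : π ω' = π ω := Subsingleton.elim _ _
      have h2 := Quotient.exact' h1
      rw [MulAction.orbitRel_apply] at h2
      obtain ⟨a, ha⟩ := h2
      exact ⟨a.1, a.2, ha⟩
    have hder : ⁅A, A⁆ < A := by
      have hle : ⁅A, A⁆ ≤ A := Subgroup.commutator_le_right A A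
      refine lt_of_le_of_ne hle ?_
      intro heq
      have hk : ∀ k, A ≤ derivedSeries G k := by
        intro k
        induction k with
        | zero => simp
        | succ k ih' =>
          rw [derivedSeries_succ]
          calc A = ⁅A, A⁆ := heq.symm
            _ ≤ ⁅derivedSeries G k, derivedSeries G k⁆ := Subgroup.commutator_mono ih' ih'
      obtain ⟨k, hk0⟩ := Group.IsSolvable.solvable (G := G)
      have hA0 : A = ⊥ := le_bot_iff.1 (hk0 ▸ hk k)
      obtain ⟨a, ha, ω, haω⟩ := hAnt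
      rw [hA0, Subgroup.mem_bot] at ha
      exact haω (by rw [ha, one_smul])
    have hT_ab : ∀ s ∈ A.map θ, ∀ t ∈ A.map θ, s * t = t * s := by
      rintro _ ⟨a, ha, rfl⟩ _ ⟨b, hb, rfl⟩
      have hc : ⁅a, b⁆ ∈ ⁅A, A⁆ := Subgroup.commutator_mem_commutator ha hb
      have h1 : θ ⁅a, b⁆ = 1 := by
        ext ω
        rw [hθa]
        simpa using hmin ⁅A, A⁆ inferInstance hder _ hc ω
      rw [map_commutatorElement, commutatorElement_eq_one_iff_mul_comm] at h1
      exact h1
    have hT_tr : ∀ ω ω' : Ω, ∃ t ∈ A.map θ, t ω = ω' := by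
      intro ω ω'
      obtain ⟨a, ha, h⟩ := hAtr ω ω'
      exact ⟨θ a, Subgroup.mem_map_of_mem θ ha, h⟩
    have hξT : ∀ t ∈ A.map θ, θ x * t * (θ x)⁻¹ ∈ A.map θ := by
      rintro _ ⟨a, ha, rfl⟩
      refine ⟨x * a * x⁻¹, hAn.conj_mem a ha x, ?_⟩
      simp [map_mul, map_inv]
    have hξp : θ x ^ p = 1 := by rw [← map_pow, hxp, map_one]
    have hfinal := h24_regular_fixed_le (A.map θ) hT_ab hT_tr (θ x) hξT hp hξp hxnt
    exact hfinal

end Cfsg.Agent.Helper24.FX
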