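import Mathlib

/-!
Auxiliary lemmas for piece (TRANSV) `transv_bound` of helper97's lemma server "FX" (row S3818), by helper24.
-/

set_option autoImplicit false

namespace Cfsg.Agent.Helper24.FX

open Module

section dims
variable {K : Type*} [Field K] {V : Type*} [AddCommGroup V] [Module K V] [FiniteDimensional K V]

/-- the dimension of a finite sup is at most the sum of the dimensions -/
theorem h24_finrank_sup_le_sum {ι : Type*} (s : Finset ι) (S : ι → Submodule K V) :
    finrank K ↥(s.sup S) ≤ ∑ i ∈ s, finrank K (S i) := by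
  classical
  induction s using Finset.induction_on with
  | empty => simp
  | insert i s hi ih =>
    rw [Finset.sup_insert, Finset.sum_insert hi]
    exact le_trans (Submodule.finrank_add_le_finrank_add_finrank _ _) (Nat.add_le_add_left ih _)

/-- for an independent family the dimension of a finite sup is the sum of the dimensions -/
theorem h24_finrank_sup_eq_sum {ι : Type*} (S : ι → Submodule K V) (hS : iSupIndep S)
    (s : Finset ι) : finrank K ↥(s.sup S) = ∑ i ∈ s, finrank K (S i) := by
  classical
  induction s using Finset.induction_on with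
  | empty => simp
  | insert i s hi ih =>
    rw [Finset.sup_insert, Finset.sum_insert hi, ← ih]
    have hdis : Disjoint (S i) (s.sup S) := by
      rw [Finset.sup_eq_iSup]
      exact hS.disjoint_biSup (y := (s : Set ι)) (by simpa using hi)
    have h1 := Submodule.finrank_sup_add_finrank_inf_eq (S i) (s.sup S)
    rw [hdis.eq_bot, finrank_bot, add_zero] at h1
    exact h1

/-- independent submodules inside `B`: the dimensions add up to at most `dim B` -/
theorem h24_sum_finrank_le {ι : Type*} (S : ι → Submodule K V) (hS : iSupIndep S)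
    (s : Finset ι) (B : Submodule K V) (hB : ∀ i ∈ s, S i ≤ B) :
    ∑ i ∈ s, finrank K (S i) ≤ finrank K B := by
  rw [← h24_finrank_sup_eq_sum S hS s]
  exact Submodule.finrank_mono (Finset.sup_le hB)

/-- an injective linear map sending `S₁` into `S₂` -/
theorem h24_finrank_le_of_maps {S₁ S₂ : Submodule K V} (f : Module.End K V)
    (hf : Function.Injective f) (h : ∀ v ∈ S₁, f v ∈ S₂) : finrank K S₁ ≤ finrank K S₂ := by
  apply LinearMap.finrank_le_finrank_of_injective (f := f.restrict h)
  intro a b hab
  apply Subtype.ext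
  apply hf
  exact congrArg Subtype.val hab

end dims

/-- number theory: `λ` a primitive `p`-th root of unity; for `u ≠ v` below `p`, if
`λ ^ (∑ i < u, i) = λ ^ (∑ i < v, i)` then `p ∣ u + v - 1`. -/
theorem h24_tri_collision {K : Type*} [Field K] {p : ℕ} (hp : p.Prime) (l : K)
    (hl1 : l ≠ 1) (hlp : l ^ p = 1) {u v : ℕ} (hu : u < p) (hv : v < p) (huv : u ≠ v)
    (h : l ^ (∑ i ∈ Finset.range u, i) = l ^ (∑ i ∈ Finset.range v, i)) :
    (p : ℤ) ∣ (u : ℤ) + v - 1 := by
  have : Fact p.Prime := ⟨hp⟩
  have hl0 : l ≠ 0 := by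
    intro h0
    rw [h0, zero_pow hp.ne_zero] at hlp
    exact zero_ne_one hlp
  have hord : orderOf (Units.mk0 l hl0) = p := by
    apply orderOf_eq_prime
    · apply Units.ext; simpa using hlp
    · intro h1; apply hl1
      have := congrArg Units.val h1
      simpa using this
  have h' : (Units.mk0 l hl0) ^ (∑ i ∈ Finset.range u, i)
      = (Units.mk0 l hl0) ^ (∑ i ∈ Finset.range v, i) := by
    apply Units.ext; simpa using h
  rw [pow_eq_pow_iff_modEq, hord] at h'
  replace h := h'
  have h2 : (∑ i ∈ Finset.range u, i) * 2 ≡ (∑ i ∈ Finset.range v, i) * 2 [MOD p] := h.mul_right 2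
  rw [Finset.sum_range_id_mul_two, Finset.sum_range_id_mul_two] at h2
  have h3 : ((u * (u - 1) : ℕ) : ℤ) ≡ ((v * (v - 1) : ℕ) : ℤ) [ZMOD p] :=
    (Int.natCast_modEq_iff).2 h2
  have hu' : ((u * (u - 1) : ℕ) : ℤ) = (u : ℤ) * (u : ℤ) - u := by
    rcases u with _ | u
    · simp
    · push_cast; ring
  have hv' : ((v * (v - 1) : ℕ) : ℤ) = (v : ℤ) * (v : ℤ) - v := by
    rcases v with _ | v
    · simp
    · push_cast; ring
  rw [hu', hv'] at h3
  have h4 : (p : ℤ) ∣ ((u : ℤ) * u - u) - ((v : ℤ) * v - v) := (Int.modEq_iff_dvd.1 h3.symm)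
  have h5 : ((u : ℤ) * u - u) - ((v : ℤ) * v - v) = ((u : ℤ) - v) * ((u : ℤ) + v - 1) := by ring
  rw [h5] at h4
  have hpZ : Prime (p : ℤ) := Nat.prime_iff_prime_int.1 hp
  rcases hpZ.dvd_or_dvd h4 with h6 | h6
  · exfalso
    have h7 : ((u : ℤ) - v) ≠ 0 := by
      intro h0; apply huv; omega
    apply h7
    apply Int.eq_zero_of_abs_lt_dvd h6
    rw [abs_lt]
    constructor <;> omega
  · exact h6

end Cfsg.Agent.Helper24.FX
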