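import Mathlib
import Cfsg.Agent.Lib.Helper97.FXDefs
import Cfsg.Agent.Lib.Helper24.FXTRANSVa

/-!
Piece (TRANSV) `transv_bound` of helper97's lemma server "FX" (row S3818), delivered by helper24.
-/

set_option autoImplicit false

namespace Cfsg.Agent.Helper24.FX

open Cfsg.Agent.Helper97.FX Module

universe u

variable {K : Type*} [Field K] {V : Type u} [AddCommGroup V] [Module K V] [FiniteDimensional K V]

set_option linter.unusedSectionVars false in
theorem transv_bound [IsAlgClosed K] (T A P P' : Module.End K V) (hPP' : P * P' = 1)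
    (hP'P : P' * P = 1) (κ : K) {p : ℕ} (hp : p.Prime) (hp2 : p ≠ 2) (hpK : (p : K) ≠ 0)
    (hκ1 : κ ≠ 1) (hκp : κ ^ p = 1) (hTp : T ^ p = 1) (hTA : T * A = A * T)
    (hPT : P * T * P' = T * A) (hPA : P * A * P' = κ • A) :
    p * fixDim T ≤ 2 * Module.finrank K V := by
  classical
  have hκ0 : κ ≠ 0 := by
    intro h0
    rw [h0, zero_pow hp.ne_zero] at hκp
    exact zero_ne_one hκp
  set l : K := κ⁻¹ with hl
  have hl1 : l ≠ 1 := by
    intro h1; apply hκ1
    rw [hl, inv_eq_one] at h1; exact h1
  have hlp : l ^ p = 1 := by rw [hl, inv_pow, hκp, inv_one]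
  -- basic relations
  have hPA' : P * A = κ • (A * P) := by
    have h1 := congrArg (· * P) hPA
    simp only [mul_assoc, hP'P, mul_one, smul_mul_assoc] at h1
    exact h1
  have hAP' : A * P' = κ • (P' * A) := by
    have h1 := congrArg (P' * ·) hPA
    simp only [← mul_assoc, hP'P, one_mul, mul_smul_comm] at h1
    exact h1
  have hPT' : P * T = T * A * P := by
    have h1 := congrArg (· * P) hPT
    simp only [mul_assoc, hP'P, mul_one] at h1
    rw [h1, mul_assoc]
  -- eigenspace transport
  have hup : ∀ (μ : K) (v : V), v ∈ A.eigenspace μ → P' v ∈ A.eigenspace (κ * μ) := by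
    intro μ v hv
    rw [Module.End.mem_eigenspace_iff] at hv ⊢
    have h1 : A (P' v) = (A * P') v := rfl
    rw [h1, hAP']
    simp only [LinearMap.smul_apply, Module.End.mul_apply, hv, map_smul, smul_smul]
  have hdown : ∀ (k : ℕ) (θ : K) (v : V), v ∈ A.eigenspace (κ ^ (k + 1)) → v ∈ T.eigenspace θ →
      P v ∈ A.eigenspace (κ ^ k) ∧ P v ∈ T.eigenspace (θ * l ^ k) := by
    intro k θ v hvA hvT
    rw [Module.End.mem_eigenspace_iff] at hvA hvT
    have hA : A (P v) = κ ^ k • P v := by
      have h1 : (P * A) v = (κ • (A * P)) v := by rw [hPA']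
      simp only [LinearMap.smul_apply, Module.End.mul_apply, hvA, map_smul] at h1
      have h2 : κ • A (P v) = κ • (κ ^ k • P v) := by
        rw [← h1, smul_smul, pow_succ']
      exact smul_right_injective V hκ0 h2
    refine ⟨Module.End.mem_eigenspace_iff.2 hA, ?_⟩
    rw [Module.End.mem_eigenspace_iff]
    have h1 : (P * T) v = (T * A * P) v := by rw [hPT']
    simp only [Module.End.mul_apply, hvT, map_smul, hA] at h1
    have hk0 : κ ^ k ≠ 0 := pow_ne_zero k hκ0
    have h2 : κ ^ k • T (P v) = κ ^ k • ((θ * l ^ k) • P v) := by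
      rw [← h1, smul_smul, hl, inv_pow, mul_comm θ, ← mul_assoc, mul_inv_cancel₀ hk0, one_mul]
    exact smul_right_injective V hk0 h2
  have hiter : ∀ (k : ℕ) (θ : K) (v : V), v ∈ A.eigenspace (κ ^ k) → v ∈ T.eigenspace θ →
      (P ^ k) v ∈ A.eigenspace 1 ∧ (P ^ k) v ∈ T.eigenspace (θ * l ^ (∑ i ∈ Finset.range k, i)) := by
    intro k
    induction k with
    | zero =>
      intro θ v hvA hvT
      simpa using And.intro hvA hvT
    | succ k ih =>
      intro θ v hvA hvT
      obtain ⟨h1, h2⟩ := hdown k θ v hvA hvT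
      obtain ⟨h3, h4⟩ := ih _ _ h1 h2
      have h5 : (P ^ (k + 1)) v = (P ^ k) (P v) := by rw [pow_succ]; rfl
      rw [h5, Finset.sum_range_succ, pow_add, mul_comm (l ^ _) (l ^ k), ← mul_assoc]
      exact ⟨h3, h4⟩
  have hiter' : ∀ (k : ℕ) (v : V), v ∈ A.eigenspace 1 → (P' ^ k) v ∈ A.eigenspace (κ ^ k) := by
    intro k
    induction k with
    | zero => intro v hv; simpa using hv
    | succ k ih =>
      intro v hv
      have h5 : (P' ^ (k + 1)) v = P' ((P' ^ k) v) := by rw [pow_succ']; rfl
      rw [h5, pow_succ']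
      exact hup _ _ (ih v hv)
  have hcomm : Commute P' P := by rw [Commute, SemiconjBy, hP'P, hPP']
  have hPk : ∀ k : ℕ, Function.Injective (P ^ k) := by
    intro k
    have h1 : P' ^ k * P ^ k = 1 := by rw [← hcomm.mul_pow, hP'P, one_pow]
    apply Function.LeftInverse.injective (g := (P' ^ k))
    intro v
    have h2 := congrArg (fun f => f v) h1
    simpa using h2
  have hP'k : ∀ k : ℕ, Function.Injective (P' ^ k) := by
    intro k
    have h1 : P ^ k * P' ^ k = 1 := by rw [← hcomm.symm.mul_pow, hPP', one_pow]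
    apply Function.LeftInverse.injective (g := (P ^ k))
    intro v
    have h2 := congrArg (fun f => f v) h1
    simpa using h2
  -- A ^ p = 1 and semisimplicity
  have hconj : ∀ n : ℕ, (P * T * P') ^ n = P * T ^ n * P' := by
    intro n
    induction n with
    | zero => simp [hPP']
    | succ n ih =>
      rw [pow_succ, ih, pow_succ]
      simp only [mul_assoc]
      rw [← mul_assoc P' P, hP'P, one_mul]
  have hAp : A ^ p = 1 := by
    have h1 : (T * A) ^ p = T ^ p * A ^ p := (show Commute T A from hTA).mul_pow p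
    rw [← hPT, hconj, hTp, mul_one, hPP', one_mul] at h1
    exact h1.symm
  have hAss : A.IsSemisimple := by
    apply Module.End.isSemisimple_of_squarefree_aeval_eq_zero
      (p := Polynomial.X ^ p - Polynomial.C (1 : K))
    · exact (Polynomial.separable_X_pow_sub_C (1 : K) hpK one_ne_zero).squarefree
    · simp [hAp]
  have htop : ⨆ μ : K, A.eigenspace μ = ⊤ := hAss.iSup_eigenspace_eq_top
  -- the fixed space
  set F : Submodule K V := T.eigenspace 1 with hF
  have hfix : fixDim T = finrank K F := by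
    rw [fixDim_def, hF, Module.End.eigenspace_def, one_smul]
  have hFA : ∀ v ∈ F, A v ∈ F := by
    intro v hv
    rw [hF, Module.End.mem_eigenspace_iff] at hv ⊢
    have h1 : T (A v) = (T * A) v := rfl
    rw [h1, hTA, Module.End.mul_apply, hv, one_smul, one_smul]
  have hFdec : F = ⨆ μ : K, F ⊓ A.eigenspace μ := by
    have h1 := Submodule.inf_iSup_genEigenspace (p := F) (f := A) hFA 1
    rw [htop, inf_top_eq] at h1
    exact h1
  -- primitive root
  have : Fact p.Prime := ⟨hp⟩
  have : NeZero p := ⟨hp.ne_zero⟩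
  have hprim : IsPrimitiveRoot κ p := by
    have h1 := IsPrimitiveRoot.orderOf κ
    rwa [orderOf_eq_prime hκp hκ1] at h1
  have hFle : F ≤ (Finset.range p).sup (fun k => F ⊓ A.eigenspace (κ ^ k)) := by
    conv_lhs => rw [hFdec]
    apply iSup_le
    intro μ
    by_cases hμ : A.eigenspace μ = ⊥
    · rw [hμ, inf_bot_eq]; exact bot_le
    · obtain ⟨v, hv, hv0⟩ := Submodule.exists_mem_ne_zero_of_ne_bot hμ
      rw [Module.End.mem_eigenspace_iff] at hv
      have h1 : (A ^ p) v = μ ^ p • v := by
        have : ∀ n : ℕ, (A ^ n) v = μ ^ n • v := by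
          intro n
          induction n with
          | zero => simp
          | succ n ih =>
            rw [pow_succ', Module.End.mul_apply, ih, map_smul, hv, smul_smul, pow_succ]
        exact this p
      rw [hAp, Module.End.one_apply] at h1
      have h2 : μ ^ p = 1 := by
        by_contra hne
        have h3 : (μ ^ p - 1) • v = 0 := by rw [sub_smul, one_smul, ← h1, sub_self]
        rcases smul_eq_zero.1 h3 with h4 | h4
        · exact hne (sub_eq_zero.1 h4)
        · exact hv0 h4
      obtain ⟨i, hi, rfl⟩ := hprim.eq_pow_of_pow_eq_one h2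
      exact Finset.le_sup (f := fun k => F ⊓ A.eigenspace (κ ^ k)) (Finset.mem_range.2 hi)
  -- the chain of inequalities
  set W1 : Submodule K V := A.eigenspace 1 with hW1
  have hF3 : finrank K F ≤ ∑ k ∈ Finset.range p, finrank K ↥(F ⊓ A.eigenspace (κ ^ k)) :=
    le_trans (Submodule.finrank_mono hFle) (h24_finrank_sup_le_sum _ _)
  have hF2 : ∀ k ∈ Finset.range p, finrank K ↥(F ⊓ A.eigenspace (κ ^ k))
      ≤ finrank K ↥(W1 ⊓ T.eigenspace (l ^ (∑ i ∈ Finset.range k, i))) := by
    intro k _
    apply h24_finrank_le_of_maps (P ^ k) (hPk k)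
    intro v hv
    obtain ⟨h1, h2⟩ := hiter k 1 v hv.2 hv.1
    rw [one_mul] at h2
    exact ⟨h1, h2⟩
  have hF4 : ∑ k ∈ Finset.range p, finrank K ↥(W1 ⊓ T.eigenspace (l ^ (∑ i ∈ Finset.range k, i)))
      ≤ 2 * finrank K W1 := by
    rw [Finset.sum_comp (fun θ => finrank K ↥(W1 ⊓ T.eigenspace θ))
      (fun k => l ^ (∑ i ∈ Finset.range k, i))]
    have hfib : ∀ θ ∈ (Finset.range p).image (fun k => l ^ (∑ i ∈ Finset.range k, i)),
        ({a ∈ Finset.range p | l ^ (∑ i ∈ Finset.range a, i) = θ}).card ≤ 2 := by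
      intro θ _
      by_contra hgt
      push Not at hgt
      obtain ⟨a, b, c, ha, hb, hc, hab, hac, hbc⟩ := Finset.two_lt_card_iff.1 hgt
      simp only [Finset.mem_filter, Finset.mem_range] at ha hb hc
      have h1 := h24_tri_collision hp l hl1 hlp ha.1 hb.1 hab (ha.2.trans hb.2.symm)
      have h2 := h24_tri_collision hp l hl1 hlp ha.1 hc.1 hac (ha.2.trans hc.2.symm)
      have h3 : (p : ℤ) ∣ (b : ℤ) - c := by
        have := dvd_sub h1 h2
        have h4 : (a : ℤ) + b - 1 - ((a : ℤ) + c - 1) = (b : ℤ) - c := by ring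
        rwa [h4] at this
      have h5 : (b : ℤ) - c = 0 := by
        apply Int.eq_zero_of_abs_lt_dvd h3
        rw [abs_lt]
        constructor <;> omega
      apply hbc; omega
    calc ∑ θ ∈ (Finset.range p).image (fun k => l ^ (∑ i ∈ Finset.range k, i)),
          ({a ∈ Finset.range p | l ^ (∑ i ∈ Finset.range a, i) = θ}).card
            • finrank K ↥(W1 ⊓ T.eigenspace θ)
        ≤ ∑ θ ∈ (Finset.range p).image (fun k => l ^ (∑ i ∈ Finset.range k, i)),
            2 * finrank K ↥(W1 ⊓ T.eigenspace θ) := by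
          apply Finset.sum_le_sum
          intro θ hθ
          rw [smul_eq_mul]
          exact Nat.mul_le_mul_right _ (hfib θ hθ)
      _ = 2 * ∑ θ ∈ (Finset.range p).image (fun k => l ^ (∑ i ∈ Finset.range k, i)),
            finrank K ↥(W1 ⊓ T.eigenspace θ) := by rw [Finset.mul_sum]
      _ ≤ 2 * finrank K W1 := by
          apply Nat.mul_le_mul_left
          apply h24_sum_finrank_le (fun θ => W1 ⊓ T.eigenspace θ)
            ((Module.End.eigenspaces_iSupIndep T).mono (fun θ => inf_le_right)) _ W1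
          intro θ _
          exact inf_le_left
  have hF5 : p * finrank K W1 ≤ finrank K V := by
    have h1 : ∀ k ∈ Finset.range p, finrank K W1 ≤ finrank K (A.eigenspace (κ ^ k)) := by
      intro k _
      exact h24_finrank_le_of_maps (P' ^ k) (hP'k k) (fun v hv => hiter' k v hv)
    have h2 : ∑ _k ∈ Finset.range p, finrank K W1 = p * finrank K W1 := by
      rw [Finset.sum_const, Finset.card_range, smul_eq_mul]
    have hinj : Set.InjOn (fun k : ℕ => κ ^ k) (Finset.range p : Set ℕ) := by
      intro i hi j hj hij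
      exact hprim.pow_inj (by simpa using hi) (by simpa using hj) hij
    have h3 : ∑ k ∈ Finset.range p, finrank K (A.eigenspace (κ ^ k))
        = ∑ μ ∈ (Finset.range p).image (fun k : ℕ => κ ^ k), finrank K (A.eigenspace μ) := by
      rw [Finset.sum_image hinj]
    have h4 : ∑ μ ∈ (Finset.range p).image (fun k : ℕ => κ ^ k), finrank K (A.eigenspace μ)
        ≤ finrank K (⊤ : Submodule K V) :=
      h24_sum_finrank_le A.eigenspace (Module.End.eigenspaces_iSupIndep A) _ ⊤ (fun _ _ => le_top)
    rw [finrank_top] at h4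
    calc p * finrank K W1 = ∑ _k ∈ Finset.range p, finrank K W1 := h2.symm
      _ ≤ ∑ k ∈ Finset.range p, finrank K (A.eigenspace (κ ^ k)) := Finset.sum_le_sum h1
      _ = _ := h3
      _ ≤ finrank K V := h4
  rw [hfix]
  calc p * finrank K F
      ≤ p * ∑ k ∈ Finset.range p, finrank K ↥(F ⊓ A.eigenspace (κ ^ k)) :=
        Nat.mul_le_mul_left _ hF3
    _ ≤ p * ∑ k ∈ Finset.range p,
          finrank K ↥(W1 ⊓ T.eigenspace (l ^ (∑ i ∈ Finset.range k, i))) :=
        Nat.mul_le_mul_left _ (Finset.sum_le_sum hF2)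
    _ ≤ p * (2 * finrank K W1) := Nat.mul_le_mul_left _ hF4
    _ = 2 * (p * finrank K W1) := by ring
    _ ≤ 2 * finrank K V := Nat.mul_le_mul_left _ hF5

end Cfsg.Agent.Helper24.FX
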