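import Mathlib
import Cfsg.Agent.Lib.Helper24.BlkBasic3
import Cfsg.Agent.Lib.Helper35.CyclicMax
import Cfsg.Agent.Lib.Helper87.MaxClass

set_option autoImplicit false

/-!
# Central quotients of `p`-groups with `Ω₁` of order `p ^ 2` (helper24)
-/

namespace Cfsg.Agent.Helper24.Blk

open Cfsg

universe u

variable {G : Type u} [Group G]

/-- the `p`-th power homomorphism bound. -/
theorem card_le_of_pow_hom [Finite G] {p : ℕ} (hpp : p.Prime) (hp2 : p ≠ 2) (A N Z0 : Subgroup G)
    (hpow : ∀ a ∈ A, a ^ p ∈ Z0)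
    (hcomm : ∀ a ∈ A, ∀ b ∈ A, Commute (b * a * b⁻¹ * a⁻¹) a ∧ Commute (b * a * b⁻¹ * a⁻¹) b ∧
      (b * a * b⁻¹ * a⁻¹) ^ p = 1)
    (hΩ : ∀ a ∈ A, a ^ p = 1 → a ∈ N) : Nat.card A ≤ Nat.card N * Nat.card Z0 := by
  let φ : A →* Z0 :=
    { toFun := fun a => ⟨(a : G) ^ p, hpow a a.2⟩
      map_one' := by apply Subtype.ext; simp
      map_mul' := by
        intro a b
        apply Subtype.ext
        obtain ⟨h1, h2, h3⟩ := hcomm a a.2 b b.2
        show ((a : G) * (b : G)) ^ p = (a : G) ^ p * (b : G) ^ p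
        exact mul_pow_p hpp hp2 (a : G) (b : G) h1 h2 h3 }
  have h1 := Subgroup.card_mul_index φ.ker
  rw [Subgroup.index_ker] at h1
  have h2 : Nat.card φ.range ≤ Nat.card Z0 :=
    Nat.le_of_dvd Nat.card_pos (Subgroup.card_subgroup_dvd_card _)
  have h3 : Nat.card φ.ker ≤ Nat.card N := by
    let g : φ.ker → N := fun k => ⟨((k : A) : G), hΩ _ (k : A).2 (by
      have := k.2
      rw [MonoidHom.mem_ker] at this
      exact congrArg Subtype.val this)⟩
    refine Nat.card_le_card_of_injective g ?_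
    intro a b hab
    apply Subtype.ext
    apply Subtype.ext
    have h9 : ((g a : N) : G) = ((g b : N) : G) := congrArg Subtype.val hab
    exact h9
  rw [← h1]
  exact Nat.mul_le_mul h3 h2

/-- if all elements of order `p` lie in a subgroup of order at most `p ^ 2`, then the quotient by a
central subgroup of order `p` has rank at most `2`. -/
theorem prankLE_quotient [Finite G] {p : ℕ} [hp : Fact p.Prime] (hp2 : p ≠ 2)
    (N : Subgroup G) (hNc : Nat.card N ≤ p ^ 2) (hΩ : ∀ x : G, x ^ p = 1 → x ∈ N)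
    (Z0 : Subgroup G) [hZn : Z0.Normal] (hZcen : Z0 ≤ Subgroup.center G)
    (hZc : Nat.card Z0 = p) : PRankLE p 2 (G ⧸ Z0) := by
  have hpp : p.Prime := hp.out
  intro Ab hAbc hAbe
  set A : Subgroup G := Ab.comap (QuotientGroup.mk' Z0) with hA
  have hcard := Cfsg.Agent.Helper64.Huppert.card_comap_mk' Z0 Ab
  have hZexp : ∀ c ∈ Z0, c ^ p = 1 := by
    intro c hc
    have h1 : (⟨c, hc⟩ : Z0) ^ Nat.card Z0 = 1 := pow_card_eq_one'
    rw [hZc] at h1
    have := congrArg Subtype.val h1
    simpa using this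
  have hle : Nat.card A ≤ Nat.card N * Nat.card Z0 := by
    apply card_le_of_pow_hom hpp hp2 A N Z0
    · intro a ha
      have h1 : QuotientGroup.mk' Z0 a ∈ Ab := ha
      have h2 := hAbe _ h1
      rw [← map_pow] at h2
      exact (QuotientGroup.eq_one_iff _).mp h2
    · intro a ha b hb
      have h1 : QuotientGroup.mk' Z0 a ∈ Ab := ha
      have h2 : QuotientGroup.mk' Z0 b ∈ Ab := hb
      have h3 : QuotientGroup.mk' Z0 b * QuotientGroup.mk' Z0 a =
          QuotientGroup.mk' Z0 a * QuotientGroup.mk' Z0 b := by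
        have := hAbc.is_comm.comm (⟨_, h2⟩ : Ab) ⟨_, h1⟩
        exact congrArg Subtype.val this
      have h4 : QuotientGroup.mk' Z0 (b * a * b⁻¹ * a⁻¹) = 1 := by
        rw [map_mul, map_mul, map_mul, map_inv, map_inv, h3]
        group
      have h5 : b * a * b⁻¹ * a⁻¹ ∈ Z0 := (QuotientGroup.eq_one_iff _).mp h4
      have h6 := Subgroup.mem_center_iff.mp (hZcen h5)
      exact ⟨(h6 a).symm, (h6 b).symm, hZexp _ h5⟩
    · intro a _ hap
      exact hΩ a hap
  rw [hA] at hle
  rw [hcard, hZc] at hle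
  have h7 : p * Nat.card Ab ≤ p * p ^ 2 := by
    calc p * Nat.card Ab ≤ Nat.card N * p := hle
      _ ≤ p ^ 2 * p := Nat.mul_le_mul_right p hNc
      _ = p * p ^ 2 := by ring
  exact Nat.le_of_mul_le_mul_left h7 hpp.pos

/-- class two with `Ω₁` of order at most `p ^ 2` implies metacyclic. -/
theorem metacyclic_of_classTwo_omega [Finite G] {p : ℕ} [hp : Fact p.Prime] (hp2 : p ≠ 2)
    (hG : IsPGroup p G) (hcen : commutator G ≤ Subgroup.center G)
    (hexp : ∀ c ∈ commutator G, c ^ p = 1)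
    (N : Subgroup G) (hNc : Nat.card N ≤ p ^ 2) (hΩ : ∀ x : G, x ^ p = 1 → x ∈ N) :
    IsMetacyclic G := by
  have hpp : p.Prime := hp.out
  apply Cfsg.Agent.Helper64.Huppert.metacyclic_of_classTwo hp2 hG hcen hexp
  have hmul : ∀ x y : G, (x * y) ^ p = x ^ p * y ^ p :=
    Cfsg.Agent.Helper35.mul_pow_prime hpp hp2 (commutator G) hcen hexp (fun x y => by
      have := Cfsg.Agent.Helper64.Huppert.comm_mem_commutator x y
      rwa [commutatorElement_def] at this)
  let φ : G →* G := { toFun := fun x => x ^ p, map_one' := one_pow p, map_mul' := hmul }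
  have hrange : φ.range ≤ Subgroup.closure {y : G | ∃ x : G, y = x ^ p} := by
    rintro _ ⟨x, rfl⟩; exact Subgroup.subset_closure ⟨x, rfl⟩
  have h1 := Subgroup.card_mul_index φ.ker
  rw [Subgroup.index_ker] at h1
  have h2 := Subgroup.card_mul_index φ.range
  have h3 : φ.range.index = Nat.card φ.ker := by
    have hpos : 0 < Nat.card φ.range := Nat.card_pos
    apply Nat.eq_of_mul_eq_mul_left hpos
    rw [h2, ← h1, mul_comm]
  have h4 : Nat.card φ.ker ≤ Nat.card N := by
    let g : φ.ker → N := fun k => ⟨(k : G), hΩ _ (by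
      have := k.2
      rw [MonoidHom.mem_ker] at this
      exact this)⟩
    refine Nat.card_le_card_of_injective g ?_
    intro a b hab
    apply Subtype.ext
    have h9 : ((g a : N) : G) = ((g b : N) : G) := congrArg Subtype.val hab
    exact h9
  have h5 : (Subgroup.closure {y : G | ∃ x : G, y = x ^ p}).index ≤ φ.range.index :=
    Nat.le_of_dvd (Nat.pos_of_ne_zero Subgroup.index_ne_zero_of_finite)
      (Subgroup.index_dvd_of_le hrange)
  omega

/-- Blackburn's step: if the quotient by a central subgroup of order `p` inside `G'` is metacyclic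
and `Ω₁` has order at most `p ^ 2`, then `G` is metacyclic. -/
theorem metacyclic_of_quotient [Finite G] {p : ℕ} [hp : Fact p.Prime] (hp2 : p ≠ 2)
    (hG : IsPGroup p G) (N : Subgroup G) (hNc : Nat.card N ≤ p ^ 2)
    (hΩ : ∀ x : G, x ^ p = 1 → x ∈ N) (z : G) (hzc : z ∈ Subgroup.center G)
    (hoz : orderOf z = p) (hzR : z ∈ commutator G) [hZn : (Subgroup.zpowers z).Normal]
    (hQ : IsMetacyclic (G ⧸ Subgroup.zpowers z)) : IsMetacyclic G := by
  rcases Cfsg.Agent.Helper64.Huppert.blackburn_step hG z hzc hoz hzR hQ with h | h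
  · exact h
  · refine metacyclic_of_classTwo_omega hp2 hG (h.trans ?_) ?_ N hNc hΩ
    · rw [Subgroup.zpowers_le]; exact hzc
    · intro c hc
      obtain ⟨t, rfl⟩ := h hc
      rw [← zpow_natCast, ← zpow_mul, mul_comm, zpow_mul, zpow_natCast, ← hoz,
        pow_orderOf_eq_one, one_zpow]

end Cfsg.Agent.Helper24.Blk
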