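import Mathlib
import Cfsg.Agent.Lib.Helper24.BlkQuot

set_option autoImplicit false

/-!
# Central quotients, part 2: no normal subgroup of order `p ^ 3` and exponent `p` in the quotient
(helper24)
-/

namespace Cfsg.Agent.Helper24.Blk

open Cfsg

universe u

variable {G : Type u} [Group G]

/-- cardinality of the image of a subgroup containing the kernel. -/
theorem card_map_mk' [Finite G] (Z0 : Subgroup G) [Z0.Normal] (V : Subgroup G) (hZV : Z0 ≤ V) :
    Nat.card V = Nat.card Z0 * Nat.card (V.map (QuotientGroup.mk' Z0)) := by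
  have h := Cfsg.Agent.Helper64.Huppert.card_comap_mk' Z0 (V.map (QuotientGroup.mk' Z0))
  rw [Subgroup.comap_map_eq, QuotientGroup.ker_mk', sup_eq_left.mpr hZV] at h
  exact h

theorem no_E_in_quotient [Finite G] {p : ℕ} [hp : Fact p.Prime] (hp2 : p ≠ 2) (hG : IsPGroup p G)
    (N : Subgroup G) [hNn : N.Normal] (hN : IsElementaryAbelian p N) (hNc : Nat.card N = p ^ 2)
    (hΩ : ∀ x : G, x ^ p = 1 → x ∈ N)
    (Z0 : Subgroup G) [hZn : Z0.Normal] (hZN : Z0 ≤ N) (hZcen : Z0 ≤ Subgroup.center G)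
    (hZc : Nat.card Z0 = p)
    (Eb : Subgroup (G ⧸ Z0)) [hEbn : Eb.Normal] (hEbc : Nat.card Eb = p ^ 3)
    (hEbe : ∀ x ∈ Eb, x ^ p = 1)
    (hVC : Eb.comap (QuotientGroup.mk' Z0) ≤ Subgroup.centralizer (N : Set G)) : False := by
  have hpp : p.Prime := hp.out
  have hrkQ : PRankLE p 2 (G ⧸ Z0) := prankLE_quotient hp2 N hNc.le hΩ Z0 hZcen hZc
  have hQ : IsPGroup p (G ⧸ Z0) := hG.to_quotient _
  -- the image of N
  set Nb : Subgroup (G ⧸ Z0) := N.map (QuotientGroup.mk' Z0) with hNb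
  have hNbn : Nb.Normal := Subgroup.Normal.map hNn _ (QuotientGroup.mk'_surjective Z0)
  have hNbc : Nat.card Nb = p := by
    have h1 := card_map_mk' Z0 N hZN
    rw [hNc, hZc] at h1
    have h2 : p * p = p * Nat.card Nb := by rw [← h1]; ring
    exact (Nat.eq_of_mul_eq_mul_left hpp.pos h2).symm
  have hNbcen : Nb ≤ Subgroup.center (G ⧸ Z0) := normal_prime_le_center hQ Nb hNbc
  have hNbe : ∀ x ∈ Nb, x ^ p = 1 := by
    rintro _ ⟨n, hn, rfl⟩
    rw [← map_pow, hN.2 n hn, map_one]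
  -- Nb ≤ Eb
  have hNbE : Nb ≤ Eb := by
    have hexp : ∀ x ∈ Eb ⊔ Nb, x ^ p = 1 := by
      intro x hx
      obtain ⟨e, he, n, hn, rfl⟩ := Subgroup.mem_sup_of_normal_left.mp hx
      have hc : Commute e n := (Subgroup.mem_center_iff.mp (hNbcen hn) e)
      rw [hc.mul_pow, hEbe e he, hNbe n hn, one_mul]
    have h1 := card_le_cube_of_exponent_sub hp2 hQ hrkQ (Eb ⊔ Nb) hexp
    have h2 : Eb = Eb ⊔ Nb := Subgroup.eq_of_le_of_card_ge le_sup_left (by rw [hEbc]; exact h1)
    rw [h2]; exact le_sup_right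
  set V : Subgroup G := Eb.comap (QuotientGroup.mk' Z0) with hV
  have hVc : Nat.card V = p ^ 4 := by
    rw [hV, Cfsg.Agent.Helper64.Huppert.card_comap_mk', hZc, hEbc]; ring
  have hNV : N ≤ V := by
    intro n hn
    show QuotientGroup.mk' Z0 n ∈ Eb
    exact hNbE (Subgroup.mem_map_of_mem _ hn)
  -- V / N is abelian
  have hVbc : Nat.card (V.map (QuotientGroup.mk' N)) = p ^ 2 := by
    have h1 := card_map_mk' N V hNV
    rw [hVc, hNc] at h1
    have h2 : p ^ 2 * p ^ 2 = p ^ 2 * Nat.card (V.map (QuotientGroup.mk' N)) := by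
      rw [← h1]; ring
    exact (Nat.eq_of_mul_eq_mul_left (pow_pos hpp.pos 2) h2).symm
  have hcommN : ∀ a ∈ V, ∀ b ∈ V, b * a * b⁻¹ * a⁻¹ ∈ N := by
    intro a ha b hb
    have h1 := Cfsg.Agent.Helper87.comm_of_card_sq hVbc _ (Subgroup.mem_map_of_mem _ hb) _
      (Subgroup.mem_map_of_mem _ ha)
    have h2 : QuotientGroup.mk' N (b * a * b⁻¹ * a⁻¹) = 1 := by
      rw [map_mul, map_mul, map_mul, map_inv, map_inv, h1]
      group
    exact (QuotientGroup.eq_one_iff _).mp h2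
  have hle : Nat.card V ≤ Nat.card N * Nat.card Z0 := by
    apply card_le_of_pow_hom hpp hp2 V N Z0
    · intro a ha
      have h1 : QuotientGroup.mk' Z0 a ∈ Eb := ha
      have h2 := hEbe _ h1
      rw [← map_pow] at h2
      exact (QuotientGroup.eq_one_iff _).mp h2
    · intro a ha b hb
      have hc := hcommN a ha b hb
      have hca := Subgroup.mem_centralizer_iff.mp (hVC ha) _ hc
      have hcb := Subgroup.mem_centralizer_iff.mp (hVC hb) _ hc
      exact ⟨hca, hcb, hN.2 _ hc⟩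
    · intro a _ hap
      exact hΩ a hap
  rw [hVc, hNc, hZc] at hle
  have : p ^ 2 * p < p ^ 4 := by
    have h1 : p ^ 4 = p ^ 2 * p * p := by ring
    rw [h1]
    have hpos : 0 < p ^ 2 * p := Nat.mul_pos (pow_pos hpp.pos 2) hpp.pos
    nlinarith [hpp.two_le]
  omega

end Cfsg.Agent.Helper24.Blk
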