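import Mathlib
import Cfsg.Agent.Lib.Helper24.BlkQuot2

set_option autoImplicit false

/-!
# Maximal class bookkeeping for Blackburn's classification (helper24)
-/

namespace Cfsg.Agent.Helper24.Blk

open Cfsg
open scoped commutatorElement

universe u

variable {G : Type u} [Group G]

theorem lcs_ne_bot_of_class [Finite G] {p : ℕ} [Fact p.Prime] (n : ℕ) (hX : Nat.card G = p ^ n)
    (hn : 2 ≤ n) (hcl : Group.nilpotencyClass G = n - 1) :
    (⊤ : Subgroup G).lowerCentralSeries (n - 2) ≠ ⊥ := by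
  have hnil : Group.IsNilpotent G := (IsPGroup.of_card hX).isNilpotent
  intro h
  rw [Subgroup.lowerCentralSeries_eq_bot_iff_nilpotencyClass_le] at h
  omega

/-- lifting a lower bound for the class through a quotient by the whole centre. -/
theorem lcs_ne_bot_lift (Z0 : Subgroup G) [Z0.Normal] (hcen : Subgroup.center G ≤ Z0) (k : ℕ)
    (h : (⊤ : Subgroup (G ⧸ Z0)).lowerCentralSeries k ≠ ⊥) :
    (⊤ : Subgroup G).lowerCentralSeries (k + 1) ≠ ⊥ := by
  intro h0
  apply h
  have h1 : (⊤ : Subgroup G).lowerCentralSeries k ≤ Subgroup.center G := by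
    intro x hx
    rw [Subgroup.mem_center_iff]
    intro y
    have h2 : ⁅x, y⁆ ∈ (⊤ : Subgroup G).lowerCentralSeries (k + 1) := by
      rw [Subgroup.lowerCentralSeries_succ]
      exact Subgroup.commutator_mem_commutator hx (Subgroup.mem_top y)
    rw [h0, Subgroup.mem_bot, commutatorElement_eq_one_iff_mul_comm] at h2
    exact h2.symm
  have h3 : ((⊤ : Subgroup G).lowerCentralSeries k).map (QuotientGroup.mk' Z0) = ⊥ := by
    rw [eq_bot_iff]
    rintro _ ⟨x, hx, rfl⟩
    rw [Subgroup.mem_bot]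
    exact (QuotientGroup.eq_one_iff _).mpr (hcen (h1 hx))
  rw [Subgroup.map_lowerCentralSeries,
    Subgroup.map_top_of_surjective _ (QuotientGroup.mk'_surjective Z0)] at h3
  exact h3

theorem card_center_of_lcs [Finite G] {p : ℕ} [hp : Fact p.Prime] (m : ℕ)
    (hP : Nat.card G = p ^ m) (hm : 3 ≤ m)
    (h : (⊤ : Subgroup G).lowerCentralSeries (m - 2) ≠ ⊥) :
    Nat.card (Subgroup.center G) = p ∧
      (4 ≤ m → Nat.card (Subgroup.upperCentralSeries G 2) = p ^ 2) := by
  have hG : IsPGroup p G := IsPGroup.of_card hP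
  have hmax : Subgroup.upperCentralSeries G (m - 2) ≠ ⊤ := by
    intro h1
    exact h (Subgroup.lowerCentralSeries_eq_bot_iff_upperCentralSeries_eq_top.mpr h1)
  have key := Cfsg.Agent.Helper87.card_ucs_of_maxClass hG hP hm hmax
  refine ⟨?_, fun h4 => key 2 (by omega)⟩
  have := key 1 (by omega)
  rwa [Subgroup.upperCentralSeries_one, pow_one] at this

/-- decomposition modulo a normal subgroup of index `p`. -/
theorem exists_pow_mul [Finite G] {p : ℕ} [hp : Fact p.Prime] (C : Subgroup G) [C.Normal]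
    (hC : C.index = p) (g : G) (hg : g ∉ C) (x : G) : ∃ i : ℕ, ∃ c ∈ C, x = g ^ i * c := by
  have hcard : Nat.card (G ⧸ C) = p := by rw [← hC]; exact (Subgroup.index_eq_card C).symm
  have hg1 : (QuotientGroup.mk' C g) ≠ 1 := by
    intro h
    exact hg ((QuotientGroup.eq_one_iff _).mp h)
  have h1 : QuotientGroup.mk' C x ∈ Subgroup.zpowers (QuotientGroup.mk' C g) :=
    mem_zpowers_of_prime_card hcard hg1
  rw [← mem_powers_iff_mem_zpowers] at h1
  obtain ⟨i, hi⟩ := h1
  refine ⟨i, (g ^ i)⁻¹ * x, ?_, by group⟩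
  have h2 : QuotientGroup.mk' C ((g ^ i)⁻¹ * x) = 1 := by
    rw [map_mul, map_inv, map_pow]
    have hi' : QuotientGroup.mk' C g ^ i = QuotientGroup.mk' C x := hi
    rw [hi']
    group
  exact (QuotientGroup.eq_one_iff _).mp h2

end Cfsg.Agent.Helper24.Blk
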