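import Mathlib
import Cfsg.Agent.Lib.Helper24.BlkMax
import Cfsg.Agent.S4143
import Cfsg.Agent.S4225
import Cfsg.Agent.Lib.Helper64.Huppert

set_option autoImplicit false

/-!
# Blackburn's classification: the case of an element of order `p` outside `C_G(N)` (helper24)
-/

namespace Cfsg.Agent.Helper24.Blk

open Cfsg

universe u

variable {G : Type u} [Group G]

/-- `G` has a normal subgroup of order `p ^ 3` and exponent `p`. -/
def HasE (p : ℕ) (G : Type u) [Group G] : Prop :=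
  ∃ E : Subgroup G, E.Normal ∧ Nat.card E = p ^ 3 ∧ ∀ x ∈ E, x ^ p = 1

/-- elements of `N` commuting with an element outside `C_G(N)` lie in `Z`. -/
theorem mem_Z_of_commute [Finite G] {p : ℕ} [hp : Fact p.Prime] (N Z : Subgroup G)
    (hNc : Nat.card N = p ^ 2) (hZN : Z ≤ N) (hZcen : Z ≤ Subgroup.center G)
    (hZc : Nat.card Z = p) (g : G) (hg : g ∉ Subgroup.centralizer (N : Set G)) (n : G)
    (hn : n ∈ N) (hng : n * g = g * n) : n ∈ Z := by
  by_contra hnZ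
  apply hg
  have hsup := Cfsg.Agent.S1453.sup_zpowers_eq hp.out hZN hZc hNc hn hnZ
  have hle : Z ⊔ Subgroup.zpowers n ≤ Subgroup.centralizer {g} := by
    refine sup_le ?_ ?_
    · intro x hx
      rw [Subgroup.mem_centralizer_singleton_iff]
      exact (Subgroup.mem_center_iff.mp (hZcen hx) g).symm
    · rw [Subgroup.zpowers_le, Subgroup.mem_centralizer_singleton_iff]
      exact hng
  rw [hsup] at hle
  rw [Subgroup.mem_centralizer_iff]
  intro m hm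
  have := hle hm
  rw [Subgroup.mem_centralizer_singleton_iff] at this
  exact this

/-- the set-up when `E₀ = N ⟨g⟩` is not normal. -/
theorem twoA_setup [Finite G] {p : ℕ} [hp : Fact p.Prime] (hG : IsPGroup p G)
    (E₀ : Subgroup G) (hE₀e : ∀ x ∈ E₀, x ^ p = 1) (hE₀n : ¬ E₀.Normal) :
    ∃ (g₁ : G) (E₁ : Subgroup G), g₁ ∈ E₁ ∧ g₁ ∉ E₀ ∧ g₁ ∈ Subgroup.normalizer (E₀ : Set G) ∧
      (∀ x ∈ E₁, x ^ p = 1) ∧
      ∀ u ∈ Subgroup.centralizer (E₀ : Set G), ∀ y ∈ E₁, u * y * u⁻¹ ∈ E₁ := by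
  have hnil : Group.IsNilpotent G := hG.isNilpotent
  set H : Subgroup G := Subgroup.normalizer (E₀ : Set G) with hH
  have hHtop : H < ⊤ := by
    rw [lt_top_iff_ne_top]
    intro h
    exact hE₀n (Subgroup.normalizer_eq_top_iff.mp h)
  have hnc : NormalizerCondition G := Group.normalizerCondition_of_isNilpotent
  obtain ⟨k, hkN, hkH⟩ := SetLike.exists_of_lt (hnc H hHtop)
  have hkmem := Subgroup.mem_normalizer_iff.mp hkN
  set E₁ : Subgroup G := E₀.map (MulAut.conj k).toMonoidHom with hE₁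
  have hmemE₁ : ∀ y, y ∈ E₁ ↔ ∃ x ∈ E₀, k * x * k⁻¹ = y := by
    intro y
    rw [hE₁, Subgroup.mem_map]
    constructor
    · rintro ⟨x, hx, rfl⟩; exact ⟨x, hx, by simp [MulAut.conj_apply]⟩
    · rintro ⟨x, hx, rfl⟩; exact ⟨x, hx, by simp [MulAut.conj_apply]⟩
  have hE₁H : E₁ ≤ H := by
    intro y hy
    obtain ⟨x, hx, rfl⟩ := (hmemE₁ y).mp hy
    exact (hkmem x).mp (Subgroup.le_normalizer hx)
  have hE₁e : ∀ x ∈ E₁, x ^ p = 1 := by
    intro y hy
    obtain ⟨x, hx, rfl⟩ := (hmemE₁ y).mp hy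
    rw [conj_pow, hE₀e x hx]; group
  have hcardE₁ : Nat.card E₁ = Nat.card E₀ := by
    rw [hE₁]
    exact Subgroup.card_map_of_injective (MulAut.conj k).injective
  have hnle : ¬ E₁ ≤ E₀ := by
    intro hle
    apply hkH
    have heq : E₁ = E₀ := Subgroup.eq_of_le_of_card_ge hle (by rw [hcardE₁])
    rw [hH, Subgroup.mem_normalizer_iff]
    intro h
    constructor
    · intro hh
      rw [← heq]
      exact (hmemE₁ _).mpr ⟨h, hh, rfl⟩
    · intro hh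
      rw [← heq] at hh
      obtain ⟨x, hx, hxe⟩ := (hmemE₁ _).mp hh
      have : x = h := by
        have h1 : k⁻¹ * (k * x * k⁻¹) * k = k⁻¹ * (k * h * k⁻¹) * k := by rw [hxe]
        have h2 : k⁻¹ * (k * x * k⁻¹) * k = x := by group
        have h3 : k⁻¹ * (k * h * k⁻¹) * k = h := by group
        rw [h2, h3] at h1
        exact h1
      rw [← this]; exact hx
  obtain ⟨g₁, hg₁E₁, hg₁E₀⟩ := SetLike.not_le_iff_exists.mp hnle
  refine ⟨g₁, E₁, hg₁E₁, hg₁E₀, hE₁H hg₁E₁, hE₁e, ?_⟩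
  intro u hu y hy
  obtain ⟨x, hx, rfl⟩ := (hmemE₁ y).mp hy
  have huH : u ∈ H := Subgroup.centralizer_le_normalizer _ hu
  have hkinv : k⁻¹ ∈ Subgroup.normalizer (H : Set G) := inv_mem hkN
  have hu' : k⁻¹ * u * k ∈ H := by
    have := (Subgroup.mem_normalizer_iff.mp hkinv u).mp huH
    rwa [inv_inv] at this
  have h1 := (Subgroup.mem_normalizer_iff.mp hu' x).mp hx
  rw [hmemE₁]
  refine ⟨k⁻¹ * u * k * x * (k⁻¹ * u * k)⁻¹, h1, ?_⟩
  group

/-- for `p > 3`, `E₀` is normal. -/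
theorem twoA_big [Finite G] {p : ℕ} [hp : Fact p.Prime] (hp3 : 3 < p) (hG : IsPGroup p G)
    (hrk : PRankLE p 2 G) (E₀ : Subgroup G) (hE₀c : Nat.card E₀ = p ^ 3)
    (hE₀e : ∀ x ∈ E₀, x ^ p = 1) : E₀.Normal := by
  by_contra hE₀n
  have hpp : p.Prime := hp.out
  obtain ⟨g₁, E₁, hg₁E₁, hg₁E₀, hg₁n, hE₁e, -⟩ := twoA_setup hG E₀ hE₀e hE₀n
  have hg₁p : g₁ ^ p = 1 := hE₁e g₁ hg₁E₁
  set L : Subgroup G := E₀ ⊔ Subgroup.zpowers g₁ with hL
  have hLc : Nat.card L = p ^ 4 := by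
    rw [hL, card_sup_zpowers E₀ g₁ hg₁n hg₁E₀ hg₁p, hE₀c]; ring
  have hreg : IsRegularPGroup p L :=
    Cfsg.Agent.Helper64.Huppert.regular_of_card hLc (by norm_num) (by omega)
  obtain ⟨HB, -, hHB⟩ := Cfsg.Agent.S4225.result hreg 1
  have hmemHB : ∀ b : L, b ∈ HB ↔ (b : G) ^ p = 1 := by
    intro b
    rw [← SetLike.mem_coe, hHB]
    simp only [Set.mem_ofPred_eq, pow_one]
    constructor
    · intro h; have := congrArg Subtype.val h; simpa using this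
    · intro h; apply Subtype.ext; simpa using h
  have hle : L ≤ HB.map L.subtype := by
    have hE₀L : E₀ ≤ L := le_sup_left
    have hgL : g₁ ∈ L := Subgroup.mem_sup_right (Subgroup.mem_zpowers g₁)
    conv_lhs => rw [hL]
    refine sup_le ?_ ?_
    · intro a ha
      exact ⟨⟨a, hE₀L ha⟩, (hmemHB _).2 (hE₀e a ha), rfl⟩
    · rw [Subgroup.zpowers_le]
      exact ⟨⟨g₁, hgL⟩, (hmemHB _).2 hg₁p, rfl⟩
  have hLe : ∀ x ∈ L, x ^ p = 1 := by
    intro x hx
    obtain ⟨b, hb, rfl⟩ := hle hx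
    exact (hmemHB b).1 hb
  have h1 := card_le_cube_of_exponent_sub (by omega) hG hrk L hLe
  rw [hLc] at h1
  have : p ^ 3 < p ^ 4 := Nat.pow_lt_pow_right hpp.one_lt (by norm_num)
  omega

theorem exists_pow_order_sq [Finite G] {p : ℕ} [hp : Fact p.Prime] (hG : IsPGroup p G) (u : G)
    (hu : u ^ p ≠ 1) : ∃ k : ℕ, (u ^ k) ^ p ≠ 1 ∧ ((u ^ k) ^ p) ^ p = 1 := by
  have hpp : p.Prime := hp.out
  obtain ⟨m, hm⟩ := IsPGroup.iff_orderOf.1 hG u
  have hm2 : 2 ≤ m := by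
    by_contra hlt
    push Not at hlt
    apply hu
    have : orderOf u ∣ p := by
      rw [hm]
      interval_cases m
      · simp
      · simp
    exact orderOf_dvd_iff_pow_eq_one.mp this
  refine ⟨p ^ (m - 2), ?_, ?_⟩
  · rw [← pow_mul, ← pow_succ]
    intro h
    have h1 : orderOf u ∣ p ^ (m - 2 + 1) := orderOf_dvd_of_pow_eq_one h
    rw [hm, Nat.pow_dvd_pow_iff_le_right hpp.one_lt] at h1
    omega
  · rw [← pow_mul, ← pow_mul]
    have : p ^ (m - 2) * (p * p) = p ^ m := by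
      have h3 : m = (m - 2) + 1 + 1 := by omega
      conv_rhs => rw [h3, pow_succ, pow_succ, mul_assoc]
    rw [this, ← hm, pow_orderOf_eq_one]

/-- the key identity for `p = 3`. -/
theorem cube_identity (a c n₁ ζ : G) (r1 : a⁻¹ * c * a = n₁ * c) (r2 : a⁻¹ * n₁ * a = ζ * n₁)
    (hcn : c * n₁ = n₁ * c) : (a * c) ^ 3 = a ^ 3 * (ζ * (n₁ ^ 3 * c ^ 3)) := by
  have e1 : (a * c) ^ 3 = a ^ 3 * ((a⁻¹ * (a⁻¹ * c * a) * a) * (a⁻¹ * c * a) * c) := by
    simp only [pow_succ, pow_zero, one_mul]; group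
  have e2 : a⁻¹ * (a⁻¹ * c * a) * a = (ζ * n₁) * (n₁ * c) := by
    rw [r1]
    calc a⁻¹ * (n₁ * c) * a = (a⁻¹ * n₁ * a) * (a⁻¹ * c * a) := by group
      _ = (ζ * n₁) * (n₁ * c) := by rw [r2, r1]
  rw [e1, e2, r1]
  congr 1
  calc ζ * n₁ * (n₁ * c) * (n₁ * c) * c = ζ * (n₁ * n₁ * (c * n₁) * c * c) := by group
    _ = ζ * (n₁ * n₁ * (n₁ * c) * c * c) := by rw [hcn]
    _ = ζ * (n₁ ^ 3 * c ^ 3) := by simp only [pow_succ, pow_zero, one_mul]; group

end Cfsg.Agent.Helper24.Blk
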