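import Mathlib
import Cfsg.Agent.Lib.Helper24.BlkTwoA

set_option autoImplicit false

/-!
# Blackburn's classification: an element of order `3` outside `C_G(N)`, `p = 3` (helper24)
-/

namespace Cfsg.Agent.Helper24.Blk

open Cfsg

universe u

variable {G : Type u} [Group G]

theorem twoA_three [Finite G] {p : ℕ} [hp : Fact p.Prime] (hp3 : p = 3) (hG : IsPGroup p G)
    (hrk : PRankLE p 2 G) (n : ℕ) (hcard : Nat.card G = p ^ n)
    (N : Subgroup G) [hNn : N.Normal] (hN : IsElementaryAbelian p N) (hNc : Nat.card N = p ^ 2)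
    (g : G) (hgC : g ∉ Subgroup.centralizer (N : Set G)) (hg : g ^ p = 1) :
    HasE p G ∨ (3 ≤ n ∧ (⊤ : Subgroup G).lowerCentralSeries (n - 2) ≠ ⊥) := by
  have hpp : p.Prime := hp.out
  have hp2 : p ≠ 2 := by omega
  have hNcomm : ∀ a ∈ N, ∀ b ∈ N, a * b = b * a := fun a ha b hb =>
    congrArg Subtype.val (hN.1.is_comm.comm (⟨a, ha⟩ : N) ⟨b, hb⟩)
  have hgN : g ∉ N := by
    intro h
    apply hgC
    rw [Subgroup.mem_centralizer_iff]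
    intro m hm
    exact hNcomm m hm g h
  set E₀ : Subgroup G := N ⊔ Subgroup.zpowers g with hE₀
  have hNE₀ : N ≤ E₀ := le_sup_left
  have hgE₀ : g ∈ E₀ := Subgroup.mem_sup_right (Subgroup.mem_zpowers g)
  have hE₀c : Nat.card E₀ = p ^ 3 := by
    rw [hE₀, card_sup_zpowers N g (Subgroup.le_normalizer_of_normal (Subgroup.mem_top g)) hgN hg,
      hNc]
    ring
  have hE₀e : ∀ x ∈ E₀, x ^ p = 1 := exponent_sup_zpowers hp2 hG N hN hNc g hg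
  by_cases hE₀n : E₀.Normal
  · exact Or.inl ⟨E₀, hE₀n, hE₀c, hE₀e⟩
  obtain ⟨Z, hZN, hZcen, hZc, hcomm⟩ := exists_central_sub hG N hNc
  set C : Subgroup G := Subgroup.centralizer (N : Set G) with hC
  have hCn : C.Normal := by rw [hC]; infer_instance
  have hCN : ∀ x ∈ C, x ^ p = 1 → x ∈ N := by
    intro x hx hxp
    exact mem_of_centralizes hrk N hN hNc x hxp
      (fun m hm => ((Subgroup.mem_centralizer_iff.mp hx) m hm).symm)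
  set U : Subgroup G := Subgroup.centralizer (E₀ : Set G) with hU
  have hUC : U ≤ C := Subgroup.centralizer_le hNE₀
  have hUg : ∀ u ∈ U, g * u = u * g := fun u hu => (Subgroup.mem_centralizer_iff.mp hu) g hgE₀
  have hUZ : ∀ u ∈ U, u ^ p = 1 → u ∈ Z := by
    intro u hu hup
    exact mem_Z_of_commute N Z hNc hZN hZcen hZc g hgC u (hCN u (hUC hu) hup) (hUg u hu).symm
  have hn3 : 3 ≤ n := by
    have h1 : p ^ 3 ∣ p ^ n := by rw [← hE₀c, ← hcard]; exact Subgroup.card_subgroup_dvd_card _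
    exact (Nat.pow_dvd_pow_iff_le_right hpp.one_lt).mp h1
  by_cases hUe : ∀ u ∈ U, u ^ p = 1
  · right
    refine ⟨hn3, ?_⟩
    have hUE₀ : Subgroup.centralizer (E₀ : Set G) ≤ E₀ := fun u hu =>
      hNE₀ (hZN (hUZ u hu (hUe u hu)))
    have hna : ¬ IsMulCommutative E₀ := by
      intro hc
      apply hgC
      rw [Subgroup.mem_centralizer_iff]
      intro m hm
      exact congrArg Subtype.val (hc.is_comm.comm (⟨m, hNE₀ hm⟩ : E₀) ⟨g, hgE₀⟩)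
    have hcl := Cfsg.Agent.S4143.result n hcard E₀ hE₀c hna hUE₀
    exact lcs_ne_bot_of_class n hcard (by omega) hcl
  exfalso
  push Not at hUe
  obtain ⟨u₀, hu₀U, hu₀⟩ := hUe
  obtain ⟨k₀, hv1, hv2⟩ := exists_pow_order_sq hG u₀ hu₀
  set v := u₀ ^ k₀ with hv
  have hvU : v ∈ U := Subgroup.pow_mem _ hu₀U _
  set z₀ := v ^ p with hz₀
  have hz₀Z : z₀ ∈ Z := hUZ z₀ (Subgroup.pow_mem _ hvU _) hv2
  obtain ⟨g₁, E₁, hg₁E₁, hg₁E₀, hg₁n, hE₁e, hE₁U⟩ := twoA_setup hG E₀ hE₀e hE₀n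
  have hg₁p : g₁ ^ p = 1 := hE₁e g₁ hg₁E₁
  have hg₁C : g₁ ∉ C := fun h => hg₁E₀ (hNE₀ (hCN g₁ h hg₁p))
  have hCidx : C.index = p := by
    rcases (Nat.dvd_prime hpp).mp (index_centralizer_dvd hG N hNc) with h | h
    · exfalso
      apply hgC
      have h' : C = ⊤ := Subgroup.index_eq_one.mp h
      rw [h']
      exact Subgroup.mem_top g
    · exact h
  obtain ⟨i, c, hcC, hg₁eq⟩ := exists_pow_mul C hCidx g hgC g₁
  set a := g ^ i with ha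
  have haE₀ : a ∈ E₀ := Subgroup.pow_mem _ hgE₀ _
  have hap : a ^ p = 1 := hE₀e a haE₀
  have hUa : ∀ u ∈ U, a * u = u * a := fun u hu => (Subgroup.mem_centralizer_iff.mp hu) a haE₀
  have hcN : ∀ m ∈ N, c * m = m * c := fun m hm =>
    ((Subgroup.mem_centralizer_iff.mp hcC) m hm).symm
  -- n₁
  set n₁ := a⁻¹ * c * a * c⁻¹ with hn₁
  have hn₁E₀ : n₁ ∈ E₀ := by
    have h1 := (Subgroup.mem_normalizer_iff.mp hg₁n a).mp haE₀
    rw [hg₁eq] at h1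
    have h2 : n₁ = a⁻¹ * (a⁻¹ * (a * c * a * (a * c)⁻¹) * a) := by rw [hn₁]; group
    rw [h2]
    exact E₀.mul_mem (E₀.inv_mem haE₀) (E₀.mul_mem (E₀.mul_mem (E₀.inv_mem haE₀) h1) haE₀)
  have hn₁C : n₁ ∈ C := by
    have h1 : a⁻¹ * c * a⁻¹⁻¹ ∈ C := hCn.conj_mem c hcC a⁻¹
    rw [inv_inv] at h1
    exact C.mul_mem h1 (C.inv_mem hcC)
  have hn₁N : n₁ ∈ N := hCN n₁ hn₁C (hE₀e n₁ hn₁E₀)
  set ζ := a⁻¹ * n₁ * a * n₁⁻¹ with hζ
  have hζZ : ζ ∈ Z := by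
    have := hcomm n₁ hn₁N a⁻¹
    rwa [inv_inv] at this
  have r1 : a⁻¹ * c * a = n₁ * c := by rw [hn₁]; group
  have r2 : a⁻¹ * n₁ * a = ζ * n₁ := by rw [hζ]; group
  have hkey := cube_identity a c n₁ ζ r1 r2 (hcN n₁ hn₁N)
  have hc3 : ζ * c ^ p = 1 := by
    have h1 : (a * c) ^ p = 1 := by rw [← hg₁eq]; exact hg₁p
    have h2 : n₁ ^ p = 1 := hN.2 n₁ hn₁N
    subst hp3
    rw [hkey, hap, h2, one_mul, one_mul] at h1
    exact h1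
  have hc3Z : c ^ p ∈ Z := by
    have : c ^ p = ζ⁻¹ := eq_inv_of_mul_eq_one_right hc3
    rw [this]; exact Z.inv_mem hζZ
  -- c ^ p is a power of z₀
  have hz₀1 : (⟨z₀, hz₀Z⟩ : Z) ≠ 1 := fun h => hv1 (congrArg Subtype.val h)
  have h1 : (⟨c ^ p, hc3Z⟩ : Z) ∈ Subgroup.zpowers (⟨z₀, hz₀Z⟩ : Z) :=
    mem_zpowers_of_prime_card hZc hz₀1
  obtain ⟨j, hj⟩ := Subgroup.mem_zpowers_iff.mp h1
  have hj' : z₀ ^ j = c ^ p := by
    have := congrArg Subtype.val hj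
    simpa using this
  set v' := v ^ j with hv'
  have hv'U : v' ∈ U := Subgroup.zpow_mem _ hvU _
  have hv'p : v' ^ p = c ^ p := by
    rw [hv', ← zpow_natCast, ← zpow_mul, mul_comm, zpow_mul, zpow_natCast, ← hz₀, hj']
  -- the commutator of c with v'⁻¹ lies in N
  set w := v'⁻¹ * c * v'⁻¹⁻¹ * c⁻¹ with hw
  have hwN : w ∈ N := by
    have hu : v'⁻¹ ∈ U := U.inv_mem hv'U
    have h2 := hE₁U v'⁻¹ hu g₁ hg₁E₁
    have h3 : v'⁻¹ * g₁ * v'⁻¹⁻¹ * g₁⁻¹ ∈ E₁ := E₁.mul_mem h2 (E₁.inv_mem hg₁E₁)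
    have h4 : v'⁻¹ * g₁ * v'⁻¹⁻¹ * g₁⁻¹ = a * w * a⁻¹ := by
      rw [hg₁eq, hw]
      have h5 := hUa v'⁻¹ hu
      calc v'⁻¹ * (a * c) * v'⁻¹⁻¹ * (a * c)⁻¹
          = (v'⁻¹ * a) * c * v'⁻¹⁻¹ * c⁻¹ * a⁻¹ := by group
        _ = (a * v'⁻¹) * c * v'⁻¹⁻¹ * c⁻¹ * a⁻¹ := by rw [h5]
        _ = a * (v'⁻¹ * c * v'⁻¹⁻¹ * c⁻¹) * a⁻¹ := by group
    rw [h4] at h3
    have hwC : w ∈ C := by
      rw [hw]
      exact C.mul_mem (hCn.conj_mem c hcC v'⁻¹) (C.inv_mem hcC)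
    have h6 : a * w * a⁻¹ ∈ N := hCN _ (hCn.conj_mem w hwC a) (hE₁e _ h3)
    have h7 := hNn.conj_mem _ h6 a⁻¹
    have h8 : a⁻¹ * (a * w * a⁻¹) * a⁻¹⁻¹ = w := by group
    rwa [h8] at h7
  set c' := c * v'⁻¹ with hc'
  have hc'p : c' ^ p = 1 := by
    have hv'C : v'⁻¹ ∈ C := hUC (U.inv_mem hv'U)
    have hcw : Commute w c := (hcN w hwN).symm
    have hvw : Commute w v'⁻¹ := ((Subgroup.mem_centralizer_iff.mp hv'C) w hwN)
    rw [hc', mul_pow_p hpp hp2 c v'⁻¹ hcw hvw (hN.2 w hwN), inv_pow, hv'p, mul_inv_cancel]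
  have hc'C : c' ∈ C := C.mul_mem hcC (hUC (U.inv_mem hv'U))
  have hc'N : c' ∈ N := hCN c' hc'C hc'p
  have hn₁Z : n₁ ∈ Z := by
    have h2 := hcomm c' hc'N a⁻¹
    rw [inv_inv] at h2
    have h3 : n₁ = a⁻¹ * c' * a * c'⁻¹ := by
      have hce : c = c' * v' := by rw [hc']; group
      have h5 := hUa v' hv'U
      rw [hn₁]
      calc a⁻¹ * c * a * c⁻¹ = a⁻¹ * c' * (v' * a) * v'⁻¹ * c'⁻¹ := by rw [hce]; group
        _ = a⁻¹ * c' * (a * v') * v'⁻¹ * c'⁻¹ := by rw [h5]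
        _ = a⁻¹ * c' * a * c'⁻¹ := by group
    rw [h3]; exact h2
  have hζ1 : ζ = 1 := by
    have h2 := Subgroup.mem_center_iff.mp (hZcen hn₁Z) a⁻¹
    rw [hζ]
    calc a⁻¹ * n₁ * a * n₁⁻¹ = (a⁻¹ * n₁) * a * n₁⁻¹ := by group
      _ = (n₁ * a⁻¹) * a * n₁⁻¹ := by rw [h2]
      _ = 1 := by group
  rw [hζ1, one_mul] at hc3
  have hcNmem : c ∈ N := hCN c hcC hc3
  apply hg₁E₀
  rw [hg₁eq]
  exact E₀.mul_mem haE₀ (hNE₀ hcNmem)

end Cfsg.Agent.Helper24.Blk
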