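import Mathlib
import Cfsg.Agent.Lib.Helper24.BlkTwoA3
import Cfsg.Agent.S0112
import Cfsg.Agent.S0639

set_option autoImplicit false

/-!
# Blackburn's classification: auxiliary lemmas for the main induction (helper24)
-/

namespace Cfsg.Agent.Helper24.Blk

open Cfsg
open scoped commutatorElement

universe u

variable {G : Type u} [Group G]

/-- Case 2A for all odd `p`. -/
theorem twoA [Finite G] {p : ℕ} [hp : Fact p.Prime] (hp2 : p ≠ 2) (hG : IsPGroup p G)
    (hrk : PRankLE p 2 G) (n : ℕ) (hcard : Nat.card G = p ^ n)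
    (N : Subgroup G) [hNn : N.Normal] (hN : IsElementaryAbelian p N) (hNc : Nat.card N = p ^ 2)
    (g : G) (hgC : g ∉ Subgroup.centralizer (N : Set G)) (hg : g ^ p = 1) :
    HasE p G ∨ (p = 3 ∧ 3 ≤ n ∧ (⊤ : Subgroup G).lowerCentralSeries (n - 2) ≠ ⊥) := by
  have hpp : p.Prime := hp.out
  by_cases hp3 : p = 3
  · rcases twoA_three hp3 hG hrk n hcard N hN hNc g hgC hg with h | h
    · exact Or.inl h
    · exact Or.inr ⟨hp3, h⟩
  · left
    have h3 : 3 < p := by
      have := hpp.two_le
      omega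
    have hNcomm : ∀ a ∈ N, ∀ b ∈ N, a * b = b * a := fun a ha b hb =>
      congrArg Subtype.val (hN.1.is_comm.comm (⟨a, ha⟩ : N) ⟨b, hb⟩)
    have hgN : g ∉ N := by
      intro h
      apply hgC
      rw [Subgroup.mem_centralizer_iff]
      intro m hm
      exact hNcomm m hm g h
    have hE₀c : Nat.card (N ⊔ Subgroup.zpowers g : Subgroup G) = p ^ 3 := by
      rw [card_sup_zpowers N g (Subgroup.le_normalizer_of_normal (Subgroup.mem_top g)) hgN hg, hNc]
      ring
    have hE₀e := exponent_sup_zpowers hp2 hG N hN hNc g hg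
    exact ⟨N ⊔ Subgroup.zpowers g, twoA_big h3 hG hrk _ hE₀c hE₀e, hE₀c, hE₀e⟩

/-- a nonabelian `p`-group has a central element of order `p` in its commutator subgroup. -/
theorem exists_central_comm [Finite G] {p : ℕ} [hp : Fact p.Prime] (hG : IsPGroup p G)
    (hab : commutator G ≠ ⊥) :
    ∃ z : G, z ∈ Subgroup.center G ∧ z ∈ commutator G ∧ orderOf z = p := by
  obtain ⟨z0, hz0R, hz01, hz0c⟩ :=
    Cfsg.Agent.Helper32.exists_ne_one_mem_center_of_normal hG (commutator G) hab
  obtain ⟨k, hk⟩ := IsPGroup.iff_orderOf.1 hG z0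
  have hk0 : k ≠ 0 := by
    rintro rfl
    rw [pow_zero, orderOf_eq_one_iff] at hk
    exact hz01 hk
  have hdvd : p ∣ orderOf z0 := by rw [hk]; exact dvd_pow_self p hk0
  exact ⟨z0 ^ (orderOf z0 / p), Subgroup.pow_mem _ hz0c _, Subgroup.pow_mem _ hz0R _,
    orderOf_pow_orderOf_div (orderOf_pos z0).ne' hdvd⟩

/-- the image of `N` is the centre of the quotient when the latter has order `p`. -/
theorem map_eq_center [Finite G] {p : ℕ} [hp : Fact p.Prime] (hG : IsPGroup p G)
    (N : Subgroup G) [hNn : N.Normal] (hNc : Nat.card N = p ^ 2)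
    (Z : Subgroup G) [hZn : Z.Normal] (hZN : Z ≤ N) (hZc : Nat.card Z = p)
    (hcen : Nat.card (Subgroup.center (G ⧸ Z)) = p) :
    N.map (QuotientGroup.mk' Z) = Subgroup.center (G ⧸ Z) := by
  have hpp : p.Prime := hp.out
  have hNbn : (N.map (QuotientGroup.mk' Z)).Normal :=
    Subgroup.Normal.map hNn _ (QuotientGroup.mk'_surjective Z)
  have hNbc : Nat.card (N.map (QuotientGroup.mk' Z)) = p := by
    have h1 := card_map_mk' Z N hZN
    rw [hNc, hZc] at h1
    have h2 : p * p = p * Nat.card (N.map (QuotientGroup.mk' Z)) := by rw [← h1]; ring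
    exact (Nat.eq_of_mul_eq_mul_left hpp.pos h2).symm
  have hle := normal_prime_le_center (hG.to_quotient Z) (N.map (QuotientGroup.mk' Z)) hNbc
  exact Subgroup.eq_of_le_of_card_ge hle (by rw [hcen, hNbc])

/-- the second centre of a noncyclic `p`-group, if of order `p ^ 2`, has exponent `p`. -/
theorem ucs_two_exponent [Finite G] {p : ℕ} [hp : Fact p.Prime] (hp2 : p ≠ 2) (hG : IsPGroup p G)
    (hnc : ¬ IsCyclic (⊤ : Subgroup G))
    (h2 : Nat.card (Subgroup.upperCentralSeries G 2) = p ^ 2) :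
    ∀ y ∈ Subgroup.upperCentralSeries G 2, y ^ p = 1 := by
  obtain ⟨A, -, hAn, hAea, hAc⟩ := Cfsg.Agent.S0636.result hp2 hG (⊤ : Subgroup G) hnc
  have hle := normal_sq_le_ucs_two hG A hAc
  have heq : A = Subgroup.upperCentralSeries G 2 :=
    Subgroup.eq_of_le_of_card_ge hle (by rw [h2, hAc])
  intro y hy
  rw [← heq] at hy
  exact hAea.2 y hy

/-- membership in the preimage of the second centre of the quotient. -/
theorem mem_comap_ucs_two_iff (N Z : Subgroup G) [hZn : Z.Normal] (hZN : Z ≤ N)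
    (hmap : N.map (QuotientGroup.mk' Z) = Subgroup.center (G ⧸ Z)) (x : G) :
    QuotientGroup.mk' Z x ∈ Subgroup.upperCentralSeries (G ⧸ Z) 2 ↔ ∀ y : G, ⁅x, y⁆ ∈ N := by
  rw [Subgroup.mem_upperCentralSeries_succ_iff]
  have hker : ∀ w : G, QuotientGroup.mk' Z w ∈ N.map (QuotientGroup.mk' Z) ↔ w ∈ N := by
    intro w
    constructor
    · rintro ⟨n, hn, hnw⟩
      have h1 : n⁻¹ * w ∈ Z := by
        have : QuotientGroup.mk' Z (n⁻¹ * w) = 1 := by rw [map_mul, map_inv, hnw]; group
        exact (QuotientGroup.eq_one_iff _).mp this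
      have : w = n * (n⁻¹ * w) := by group
      rw [this]
      exact N.mul_mem hn (hZN h1)
    · intro hw; exact Subgroup.mem_map_of_mem _ hw
  constructor
  · intro h y
    have := h (QuotientGroup.mk' Z y)
    rw [Subgroup.upperCentralSeries_one, ← hmap, ← map_commutatorElement] at this
    exact (hker _).mp this
  · intro h y'
    obtain ⟨y, rfl⟩ := QuotientGroup.mk'_surjective Z y'
    rw [Subgroup.upperCentralSeries_one, ← hmap, ← map_commutatorElement]
    exact (hker _).mpr (h y)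

/-- an element `g ∉ C_G(N)` of order `p ^ 2` with `Ω₁(G) = N` forces maximal class. -/
theorem class_of_order_sq [Finite G] {p : ℕ} [hp : Fact p.Prime] (hp2 : p ≠ 2) (hG : IsPGroup p G)
    (n : ℕ) (hcard : Nat.card G = p ^ n)
    (N : Subgroup G) [hNn : N.Normal] (hNc : Nat.card N = p ^ 2)
    (hΩ : ∀ x : G, x ^ p = 1 → x ∈ N)
    (Z : Subgroup G) (hZN : Z ≤ N) (hZcen : Z ≤ Subgroup.center G) (hZc : Nat.card Z = p)
    (g : G) (hgC : g ∉ Subgroup.centralizer (N : Set G)) (hgZ : g ^ p ∈ Z) (hg1 : g ^ p ≠ 1) :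
    Group.nilpotencyClass G = n - 1 := by
  have hpp : p.Prime := hp.out
  have hZexp : ∀ c ∈ Z, c ^ p = 1 := by
    intro c hc
    have h1 : (⟨c, hc⟩ : Z) ^ Nat.card Z = 1 := pow_card_eq_one'
    rw [hZc] at h1
    have := congrArg Subtype.val h1
    simpa using this
  have hog : orderOf g = p ^ 2 := by
    have h1 : ¬ g ^ p ^ 1 = 1 := by rwa [pow_one]
    have h2 : g ^ p ^ (1 + 1) = 1 := by
      rw [pow_succ, pow_one, pow_mul]
      exact hZexp _ hgZ
    exact orderOf_eq_prime_pow h1 h2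
  set D : Subgroup G := Subgroup.centralizer (Subgroup.zpowers g : Set G) with hD
  have hDg : ∀ x ∈ D, x * g = g * x := fun x hx =>
    ((Subgroup.mem_centralizer_iff.mp hx) g (Subgroup.mem_zpowers g)).symm
  have hDcyc : IsCyclic D := by
    apply isCyclic_of_order_p_in hp2 hG D Z hZc
    intro x hx hxp
    exact mem_Z_of_commute N Z hNc hZN hZcen hZc g hgC x (hΩ x hxp) (hDg x hx)
  have hgD : g ∈ D := by
    rw [hD, Subgroup.mem_centralizer_iff]
    intro y hy
    obtain ⟨k, rfl⟩ := Subgroup.mem_zpowers_iff.mp hy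
    exact (Commute.zpow_left (Commute.refl g) k).eq
  obtain ⟨d, hd⟩ := hDcyc.exists_generator
  -- g is a power of d
  have h1 : (⟨g, hgD⟩ : D) ∈ Subgroup.zpowers d := hd _
  rw [← mem_powers_iff_mem_zpowers] at h1
  obtain ⟨j, hj⟩ := h1
  have hj' : (d : G) ^ j = g := by
    have := congrArg Subtype.val hj
    simpa using this
  set C : Subgroup G := Subgroup.centralizer (N : Set G) with hC
  have hCn : C.Normal := by rw [hC]; infer_instance
  have hCidx : C.index = p := by
    rcases (Nat.dvd_prime hpp).mp (index_centralizer_dvd hG N hNc) with h | h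
    · exfalso
      apply hgC
      have h' : C = ⊤ := Subgroup.index_eq_one.mp h
      rw [h']
      exact Subgroup.mem_top g
    · exact h
  have hdp : (d : G) ^ p ∈ C := by
    have := C.pow_index_mem (d : G)
    rwa [hCidx] at this
  have hpj : ¬ p ∣ j := by
    rintro ⟨t, rfl⟩
    apply hgC
    rw [← hj', pow_mul]
    exact Subgroup.pow_mem _ hdp _
  obtain ⟨e, he⟩ := IsPGroup.iff_orderOf.1 hG (d : G)
  have hcop : j.Coprime (orderOf (d : G)) := by
    rw [he]
    exact Nat.Coprime.pow_right e ((Nat.Prime.coprime_iff_not_dvd hpp).mpr hpj).symm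
  obtain ⟨m, hm⟩ := exists_pow_eq_self_of_coprime hcop
  rw [hj'] at hm
  have hDle : D ≤ Subgroup.zpowers g := by
    intro x hx
    have h2 : (⟨x, hx⟩ : D) ∈ Subgroup.zpowers d := hd _
    obtain ⟨k, hk⟩ := Subgroup.mem_zpowers_iff.mp h2
    have hk' : (d : G) ^ k = x := by
      have := congrArg Subtype.val hk
      simpa using this
    rw [← hk', ← hm]
    exact Subgroup.zpow_mem _ (Subgroup.pow_mem _ (Subgroup.mem_zpowers g) _) _
  have hDeq : Subgroup.centralizer (Subgroup.zpowers g : Set G) = Subgroup.zpowers g := by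
    apply le_antisymm hDle
    rw [Subgroup.zpowers_le]
    exact hgD
  have hcz : Nat.card (Subgroup.zpowers g) = p ^ 2 := by rw [Nat.card_zpowers, hog]
  exact Cfsg.Agent.S0112.result n hcard (Subgroup.zpowers g) hcz hDeq

end Cfsg.Agent.Helper24.Blk
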