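import Mathlib
import Cfsg.Agent.Lib.Helper24.BlkMain0

set_option autoImplicit false

/-!
# Blackburn's classification: the quotient step of the main induction (helper24)
-/

namespace Cfsg.Agent.Helper24.Blk

open Cfsg
open scoped commutatorElement

universe u

/-- The trichotomy proved by induction. -/
def Theta (p : ℕ) (G : Type u) [Group G] : Prop :=
  IsMetacyclic G ∨ HasE p G ∨
    (p = 3 ∧ ∃ n, 3 ≤ n ∧ Nat.card G = p ^ n ∧
      (⊤ : Subgroup G).lowerCentralSeries (n - 2) ≠ ⊥)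

variable {G : Type u} [Group G]

theorem commutator_eq_bot_of_comm (h : ∀ a b : G, a * b = b * a) : commutator G = ⊥ := by
  rw [commutator_def, Subgroup.commutator_eq_bot_iff_le_centralizer]
  intro x _
  rw [Subgroup.mem_centralizer_iff]
  intro y _
  exact h y x

theorem lcs_eq_bot_of_commutator (h : commutator G = ⊥) (k : ℕ) (hk : 1 ≤ k) :
    (⊤ : Subgroup G).lowerCentralSeries k = ⊥ := by
  rw [eq_bot_iff]
  have h1 := Subgroup.lowerCentralSeries_antitone (⊤ : Subgroup G) hk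
  have h2 : (⊤ : Subgroup G).lowerCentralSeries 1 = commutator G := rfl
  rw [h2, h] at h1
  exact h1

theorem three_le_of_nonabelian [Finite G] {p : ℕ} [hp : Fact p.Prime] (n : ℕ)
    (hcard : Nat.card G = p ^ n) (hab : commutator G ≠ ⊥) : 3 ≤ n := by
  by_contra hlt
  push Not at hlt
  apply hab
  apply commutator_eq_bot_of_comm
  have hn : n = 0 ∨ n = 1 ∨ n = 2 := by omega
  rcases hn with rfl | rfl | rfl
  · rw [pow_zero] at hcard
    have : Subsingleton G := (Nat.card_eq_one_iff_unique.mp hcard).1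
    intro a b
    exact Subsingleton.elim _ _
  · rw [pow_one] at hcard
    have hc : IsCyclic G := isCyclic_of_prime_card hcard
    intro a b
    exact (IsCyclic.isMulCommutative (α := G)).is_comm.comm a b
  · intro a b
    have h1 : Nat.card (⊤ : Subgroup G) = p ^ 2 := by rw [Subgroup.card_top, hcard]
    exact Cfsg.Agent.Helper87.comm_of_card_sq h1 a (Subgroup.mem_top a) b (Subgroup.mem_top b)

theorem mem_of_mk_mem_map (N Z : Subgroup G) [Z.Normal] (hZN : Z ≤ N) (w : G)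
    (h : QuotientGroup.mk' Z w ∈ N.map (QuotientGroup.mk' Z)) : w ∈ N := by
  obtain ⟨n, hn, hnw⟩ := h
  have h1 : n⁻¹ * w ∈ Z := by
    have : QuotientGroup.mk' Z (n⁻¹ * w) = 1 := by rw [map_mul, map_inv, hnw]; group
    exact (QuotientGroup.eq_one_iff _).mp this
  have : w = n * (n⁻¹ * w) := by group
  rw [this]
  exact N.mul_mem hn (hZN h1)

theorem not_isCyclic_top_of_lcs (k : ℕ) (hk : 1 ≤ k)
    (h : (⊤ : Subgroup G).lowerCentralSeries k ≠ ⊥) : ¬ IsCyclic (⊤ : Subgroup G) := by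
  intro hc
  apply h
  apply lcs_eq_bot_of_commutator _ k hk
  apply commutator_eq_bot_of_comm
  intro a b
  have := (IsCyclic.isMulCommutative (α := (⊤ : Subgroup G))).is_comm.comm
    ⟨a, Subgroup.mem_top a⟩ ⟨b, Subgroup.mem_top b⟩
  exact congrArg Subtype.val this

/-- two different central quotients of maximal class are impossible. -/
theorem two_quot_contra [Finite G] {p : ℕ} [hp : Fact p.Prime] (hp2 : p ≠ 2) (hG : IsPGroup p G)
    (N : Subgroup G) [hNn : N.Normal] (hNc : Nat.card N = p ^ 2)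
    (hΩ : ∀ x : G, x ^ p = 1 → x ∈ N)
    (Z Z₁ : Subgroup G) [hZn : Z.Normal] [hZ₁n : Z₁.Normal] (hZN : Z ≤ N) (hZ₁N : Z₁ ≤ N)
    (hZc : Nat.card Z = p) (hZ₁c : Nat.card Z₁ = p) (hinf : ∀ y ∈ Z, y ∈ Z₁ → y = 1)
    (m : ℕ) (hm : 4 ≤ m) (hQc : Nat.card (G ⧸ Z) = p ^ m) (hQ₁c : Nat.card (G ⧸ Z₁) = p ^ m)
    (hl : (⊤ : Subgroup (G ⧸ Z)).lowerCentralSeries (m - 2) ≠ ⊥)
    (hl₁ : (⊤ : Subgroup (G ⧸ Z₁)).lowerCentralSeries (m - 2) ≠ ⊥) : False := by
  have hpp : p.Prime := hp.out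
  obtain ⟨hc, hu⟩ := card_center_of_lcs m hQc (by omega) hl
  obtain ⟨hc₁, hu₁⟩ := card_center_of_lcs m hQ₁c (by omega) hl₁
  have hmap := map_eq_center hG N hNc Z hZN hZc hc
  have hmap₁ := map_eq_center hG N hNc Z₁ hZ₁N hZ₁c hc₁
  have he := ucs_two_exponent hp2 (hG.to_quotient Z)
    (not_isCyclic_top_of_lcs (m - 2) (by omega) hl) (hu hm)
  have he₁ := ucs_two_exponent hp2 (hG.to_quotient Z₁)
    (not_isCyclic_top_of_lcs (m - 2) (by omega) hl₁) (hu₁ hm)
  set M : Subgroup G := (Subgroup.upperCentralSeries (G ⧸ Z) 2).comap (QuotientGroup.mk' Z) with hM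
  have hMc : Nat.card M = p ^ 3 := by
    rw [hM, Cfsg.Agent.Helper64.Huppert.card_comap_mk', hZc, hu hm]; ring
  have hMN : M ≤ N := by
    intro x hx
    have hx' : QuotientGroup.mk' Z x ∈ Subgroup.upperCentralSeries (G ⧸ Z) 2 := hx
    have h1 := (mem_comap_ucs_two_iff N Z hZN hmap x).mp hx'
    have hx₁ : QuotientGroup.mk' Z₁ x ∈ Subgroup.upperCentralSeries (G ⧸ Z₁) 2 :=
      (mem_comap_ucs_two_iff N Z₁ hZ₁N hmap₁ x).mpr h1
    have h2 := he _ hx'
    have h3 := he₁ _ hx₁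
    rw [← map_pow] at h2 h3
    have h4 : x ^ p ∈ Z := (QuotientGroup.eq_one_iff _).mp h2
    have h5 : x ^ p ∈ Z₁ := (QuotientGroup.eq_one_iff _).mp h3
    exact hΩ x (hinf _ h4 h5)
  have := Subgroup.card_le_of_le hMN
  rw [hMc, hNc] at this
  have : p ^ 2 < p ^ 3 := Nat.pow_lt_pow_right hpp.one_lt (by norm_num)
  omega

/-- the quotient step. -/
theorem quot_step [Finite G] {p : ℕ} [hp : Fact p.Prime] (hp2 : p ≠ 2) (hG : IsPGroup p G)
    (ih : ∀ (Q : Type u) [Group Q] [Finite Q], Nat.card Q < Nat.card G → IsPGroup p Q →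
      PRankLE p 2 Q → Theta p Q)
    (N : Subgroup G) [hNn : N.Normal] (hN : IsElementaryAbelian p N) (hNc : Nat.card N = p ^ 2)
    (hΩ : ∀ x : G, x ^ p = 1 → x ∈ N)
    (z : G) (hzc : z ∈ Subgroup.center G) (hzR : z ∈ commutator G) (hoz : orderOf z = p)
    [hZn : (Subgroup.zpowers z).Normal] :
    IsMetacyclic G ∨
    (∃ g : G, g ∉ Subgroup.centralizer (N : Set G) ∧ g ^ p ∈ Subgroup.zpowers z ∧ g ^ p ≠ 1) ∨
    (p = 3 ∧ ∃ m, 3 ≤ m ∧ Nat.card (G ⧸ Subgroup.zpowers z) = p ^ m ∧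
      (⊤ : Subgroup (G ⧸ Subgroup.zpowers z)).lowerCentralSeries (m - 2) ≠ ⊥) := by
  have hpp : p.Prime := hp.out
  have hZc : Nat.card (Subgroup.zpowers z) = p := by rw [Nat.card_zpowers, hoz]
  have hzp : z ^ p = 1 := by rw [← hoz]; exact pow_orderOf_eq_one z
  have hZN : Subgroup.zpowers z ≤ N := by rw [Subgroup.zpowers_le]; exact hΩ z hzp
  have hZcen : Subgroup.zpowers z ≤ Subgroup.center G := by rw [Subgroup.zpowers_le]; exact hzc
  have hrkQ := prankLE_quotient hp2 N hNc.le hΩ (Subgroup.zpowers z) hZcen hZc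
  have hlt : Nat.card (G ⧸ Subgroup.zpowers z) < Nat.card G := by
    have := Subgroup.card_eq_card_quotient_mul_card_subgroup (Subgroup.zpowers z)
    rw [hZc] at this
    have hpos : 0 < Nat.card (G ⧸ Subgroup.zpowers z) := Nat.card_pos
    rw [this]; nlinarith [hpp.two_le]
  rcases ih (G ⧸ Subgroup.zpowers z) hlt (hG.to_quotient _) hrkQ with h | h | h
  · exact Or.inl (metacyclic_of_quotient hp2 hG N hNc.le hΩ z hzc hoz hzR h)
  · obtain ⟨Eb, hEbn, hEbc, hEbe⟩ := h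
    by_cases hVC : Eb.comap (QuotientGroup.mk' (Subgroup.zpowers z)) ≤
        Subgroup.centralizer (N : Set G)
    · exact (no_E_in_quotient hp2 hG N hN hNc hΩ (Subgroup.zpowers z) hZN hZcen hZc Eb hEbc hEbe
        hVC).elim
    · right; left
      obtain ⟨g, hgV, hgC⟩ := SetLike.not_le_iff_exists.mp hVC
      have h1 : QuotientGroup.mk' (Subgroup.zpowers z) g ∈ Eb := hgV
      have h2 := hEbe _ h1
      rw [← map_pow] at h2
      have h3 : g ^ p ∈ Subgroup.zpowers z := (QuotientGroup.eq_one_iff _).mp h2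
      refine ⟨g, hgC, h3, ?_⟩
      intro h4
      apply hgC
      have hgN := hΩ g h4
      rw [Subgroup.mem_centralizer_iff]
      intro n hn
      exact congrArg Subtype.val (hN.1.is_comm.comm (⟨n, hn⟩ : N) ⟨g, hgN⟩)
  · exact Or.inr (Or.inr h)

end Cfsg.Agent.Helper24.Blk
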