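import Mathlib
import Cfsg.Agent.Lib.Helper24.BlkMain1

set_option autoImplicit false

/-!
# Blackburn's classification: the main induction (helper24)

`theta` : a `p`-group (`p` odd) of rank at most `2` is metacyclic, or has a normal subgroup of
order `p ^ 3` and exponent `p`, or `p = 3` and it has maximal class.
-/

namespace Cfsg.Agent.Helper24.Blk

open Cfsg
open scoped commutatorElement

universe u

variable {G : Type u} [Group G]

/-- the case where all elements of order `p` lie in `N`. -/
theorem omega_case [Finite G] {p : ℕ} [hp : Fact p.Prime] (hp2 : p ≠ 2) (hG : IsPGroup p G)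
    (ih : ∀ (Q : Type u) [Group Q] [Finite Q], Nat.card Q < Nat.card G → IsPGroup p Q →
      PRankLE p 2 Q → Theta p Q)
    (n : ℕ) (hcard : Nat.card G = p ^ n)
    (N : Subgroup G) [hNn : N.Normal] (hN : IsElementaryAbelian p N) (hNc : Nat.card N = p ^ 2)
    (hΩ : ∀ x : G, x ^ p = 1 → x ∈ N) : Theta p G := by
  have hpp : p.Prime := hp.out
  by_cases h3 : 3 < p
  · left
    apply Cfsg.Agent.S0639.result h3 hG
    have hle : omegaOne p (⊤ : Subgroup G) ≤ N := by
      unfold omegaOne
      rw [Subgroup.closure_le]
      intro x hx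
      exact hΩ x hx.2
    have := Subgroup.card_le_of_le hle
    rwa [hNc] at this
  have hp3 : p = 3 := by
    have := hpp.two_le
    omega
  by_cases hab : commutator G = ⊥
  · left
    refine metacyclic_of_classTwo_omega hp2 hG ?_ ?_ N hNc.le hΩ
    · rw [hab]; exact bot_le
    · intro c hc; rw [hab, Subgroup.mem_bot] at hc; rw [hc, one_pow]
  have hn3 : 3 ≤ n := three_le_of_nonabelian n hcard hab
  obtain ⟨z, hzc, hzR, hoz⟩ := exists_central_comm hG hab
  have hZn : (Subgroup.zpowers z).Normal :=
    Cfsg.Agent.Helper64.Huppert.zpowers_normal_of_mem_center hzc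
  have hZc : Nat.card (Subgroup.zpowers z) = p := by rw [Nat.card_zpowers, hoz]
  have hzp : z ^ p = 1 := by rw [← hoz]; exact pow_orderOf_eq_one z
  have hZN : Subgroup.zpowers z ≤ N := by rw [Subgroup.zpowers_le]; exact hΩ z hzp
  have hZcen : Subgroup.zpowers z ≤ Subgroup.center G := by rw [Subgroup.zpowers_le]; exact hzc
  have hZR : Subgroup.zpowers z ≤ commutator G := by rw [Subgroup.zpowers_le]; exact hzR
  rcases quot_step hp2 hG ih N hN hNc hΩ z hzc hzR hoz with h | h | h
  · exact Or.inl h
  · obtain ⟨g, hgC, hgZ, hg1⟩ := h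
    right; right
    have hcl := class_of_order_sq hp2 hG n hcard N hNc hΩ (Subgroup.zpowers z) hZN hZcen hZc
      g hgC hgZ hg1
    exact ⟨hp3, n, hn3, hcard, lcs_ne_bot_of_class n hcard (by omega) hcl⟩
  obtain ⟨-, m, hm3, hQc, hl⟩ := h
  have hnm : n = m + 1 := by
    have h1 := Subgroup.card_eq_card_quotient_mul_card_subgroup (Subgroup.zpowers z)
    rw [hcard, hQc, hZc, ← pow_succ] at h1
    exact Nat.pow_right_injective hpp.two_le h1
  obtain ⟨hcen, -⟩ := card_center_of_lcs m hQc hm3 hl
  have hmap := map_eq_center hG N hNc (Subgroup.zpowers z) hZN hZc hcen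
  by_cases hC : Subgroup.centralizer (N : Set G) = ⊤
  · -- N is central
    have hNcen : N ≤ Subgroup.center G := by
      intro x hx
      rw [Subgroup.mem_center_iff]
      intro g
      have hg : g ∈ Subgroup.centralizer (N : Set G) := by rw [hC]; exact Subgroup.mem_top g
      exact ((Subgroup.mem_centralizer_iff.mp hg) x hx).symm
    by_cases hm4 : 4 ≤ m
    · -- N ≤ G'
      have hNR : N ≤ commutator G := by
        have hQab : commutator (G ⧸ Subgroup.zpowers z) ≠ ⊥ := by
          intro h0
          exact hl (lcs_eq_bot_of_commutator h0 (m - 2) (by omega))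
        obtain ⟨y0, hy0R, hy01, hy0c⟩ :=
          Cfsg.Agent.Helper32.exists_ne_one_mem_center_of_normal (hG.to_quotient _)
            (commutator (G ⧸ Subgroup.zpowers z)) hQab
        have hcle : Subgroup.center (G ⧸ Subgroup.zpowers z) ≤
            commutator (G ⧸ Subgroup.zpowers z) := by
          intro x hx
          have hy1 : (⟨y0, hy0c⟩ : Subgroup.center (G ⧸ Subgroup.zpowers z)) ≠ 1 :=
            fun h => hy01 (congrArg Subtype.val h)
          have h1 : (⟨x, hx⟩ : Subgroup.center (G ⧸ Subgroup.zpowers z)) ∈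
              Subgroup.zpowers (⟨y0, hy0c⟩ : Subgroup.center (G ⧸ Subgroup.zpowers z)) :=
            mem_zpowers_of_prime_card hcen hy1
          obtain ⟨k, hk⟩ := Subgroup.mem_zpowers_iff.mp h1
          have hk' : y0 ^ k = x := by
            have := congrArg Subtype.val hk
            simpa using this
          rw [← hk']
          exact Subgroup.zpow_mem _ hy0R k
        intro x hx
        have h1 : QuotientGroup.mk' (Subgroup.zpowers z) x ∈
            commutator (G ⧸ Subgroup.zpowers z) := by
          apply hcle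
          rw [← hmap]
          exact Subgroup.mem_map_of_mem _ hx
        have h2 : commutator (G ⧸ Subgroup.zpowers z) =
            (commutator G).map (QuotientGroup.mk' (Subgroup.zpowers z)) := by
          rw [commutator_def, commutator_def, Subgroup.map_commutator,
            Subgroup.map_top_of_surjective _ (QuotientGroup.mk'_surjective _)]
        rw [h2] at h1
        exact mem_of_mk_mem_map (commutator G) (Subgroup.zpowers z) hZR x h1
      -- a second central subgroup
      obtain ⟨z₁, hz₁N, hz₁Z⟩ : ∃ w ∈ N, w ∉ Subgroup.zpowers z := by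
        by_contra hno
        push Not at hno
        have hle : N ≤ Subgroup.zpowers z := fun x hx => hno x hx
        have := Subgroup.card_le_of_le hle
        rw [hNc, hZc] at this
        have : p < p ^ 2 := by nlinarith [hpp.two_le]
        omega
      have hz₁1 : z₁ ≠ 1 := fun h => hz₁Z (h ▸ Subgroup.one_mem _)
      have hoz₁ : orderOf z₁ = p := orderOf_eq_prime (hN.2 z₁ hz₁N) hz₁1
      have hZ₁n : (Subgroup.zpowers z₁).Normal :=
        Cfsg.Agent.Helper64.Huppert.zpowers_normal_of_mem_center (hNcen hz₁N)
      have hZ₁c : Nat.card (Subgroup.zpowers z₁) = p := by rw [Nat.card_zpowers, hoz₁]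
      have hZ₁N : Subgroup.zpowers z₁ ≤ N := by rw [Subgroup.zpowers_le]; exact hz₁N
      rcases quot_step hp2 hG ih N hN hNc hΩ z₁ (hNcen hz₁N) (hNR hz₁N) hoz₁ with h | h | h
      · exact Or.inl h
      · obtain ⟨g, hgC, -, -⟩ := h
        exfalso
        apply hgC
        rw [hC]; exact Subgroup.mem_top g
      · exfalso
        obtain ⟨-, m₁, hm₁3, hQ₁c, hl₁⟩ := h
        have hmm : m₁ = m := by
          have h1 := Subgroup.card_eq_card_quotient_mul_card_subgroup (Subgroup.zpowers z₁)
          rw [hcard, hQ₁c, hZ₁c, ← pow_succ] at h1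
          have := Nat.pow_right_injective hpp.two_le h1
          omega
        subst hmm
        refine two_quot_contra hp2 hG N hNc hΩ (Subgroup.zpowers z) (Subgroup.zpowers z₁) hZN hZ₁N
          hZc hZ₁c ?_ m₁ hm4 hQc hQ₁c hl hl₁
        intro y hyZ hyZ₁
        by_contra hy1
        apply hz₁Z
        have hy1' : (⟨y, hyZ₁⟩ : Subgroup.zpowers z₁) ≠ 1 := fun h => hy1 (congrArg Subtype.val h)
        have h1 : (⟨z₁, Subgroup.mem_zpowers z₁⟩ : Subgroup.zpowers z₁) ∈
            Subgroup.zpowers (⟨y, hyZ₁⟩ : Subgroup.zpowers z₁) :=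
          mem_zpowers_of_prime_card hZ₁c hy1'
        obtain ⟨k, hk⟩ := Subgroup.mem_zpowers_iff.mp h1
        have hk' : y ^ k = z₁ := by
          have := congrArg Subtype.val hk
          simpa using this
        rw [← hk']
        exact Subgroup.zpow_mem _ hyZ k
    · -- m = 3
      have hm : m = 3 := by omega
      subst hm
      rcases metacyclic_or_exponent_of_card_cube hQc with h | h
      · exact Or.inl (metacyclic_of_quotient hp2 hG N hNc.le hΩ z hzc hoz hzR h)
      · exfalso
        have hEbc : Nat.card (⊤ : Subgroup (G ⧸ Subgroup.zpowers z)) = p ^ 3 := by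
          rw [Subgroup.card_top, hQc]
        refine no_E_in_quotient hp2 hG N hN hNc hΩ (Subgroup.zpowers z) hZN hZcen hZc ⊤ hEbc
          (fun x _ => h x) ?_
        rw [hC]; exact le_top
  · -- N is not central
    right; right
    obtain ⟨g, hgC⟩ : ∃ g : G, g ∉ Subgroup.centralizer (N : Set G) := by
      by_contra hno
      push Not at hno
      apply hC
      rw [Subgroup.eq_top_iff']
      exact hno
    have hcenZ : Subgroup.center G ≤ Subgroup.zpowers z := by
      intro u hu
      have h1 : QuotientGroup.mk' (Subgroup.zpowers z) u ∈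
          Subgroup.center (G ⧸ Subgroup.zpowers z) := by
        rw [Subgroup.mem_center_iff]
        intro y'
        obtain ⟨y, rfl⟩ := QuotientGroup.mk'_surjective (Subgroup.zpowers z) y'
        rw [← map_mul, ← map_mul, Subgroup.mem_center_iff.mp hu y]
      rw [← hmap] at h1
      have huN := mem_of_mk_mem_map N (Subgroup.zpowers z) hZN u h1
      exact mem_Z_of_commute N (Subgroup.zpowers z) hNc hZN hZcen hZc g hgC u huN
        (Subgroup.mem_center_iff.mp hu g).symm
    have h2 := lcs_ne_bot_lift (Subgroup.zpowers z) hcenZ (m - 2) hl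
    refine ⟨hp3, n, hn3, hcard, ?_⟩
    have : n - 2 = m - 2 + 1 := by omega
    rw [this]
    exact h2

/-- the main trichotomy. -/
theorem theta_aux {p : ℕ} [hp : Fact p.Prime] (hp2 : p ≠ 2) :
    ∀ (k : ℕ) (G : Type u) [Group G] [Finite G], Nat.card G = k → IsPGroup p G →
      PRankLE p 2 G → Theta p G := by
  intro k
  induction k using Nat.strong_induction_on with
  | _ k ih =>
    intro G _ _ hk hG hrk
    have hpp : p.Prime := hp.out
    by_cases hcyc : IsCyclic (⊤ : Subgroup G)
    · left
      refine ⟨⊤, inferInstance, hcyc, ?_⟩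
      have : Subsingleton (G ⧸ (⊤ : Subgroup G)) := QuotientGroup.subsingleton_quotient_top
      exact isCyclic_of_subsingleton
    obtain ⟨N, -, hNn, hN, hNc⟩ := Cfsg.Agent.S0636.result hp2 hG (⊤ : Subgroup G) hcyc
    obtain ⟨n, hcard⟩ := IsPGroup.iff_card.mp hG
    by_cases h2A : ∃ g : G, g ∉ Subgroup.centralizer (N : Set G) ∧ g ^ p = 1
    · obtain ⟨g, hgC, hg⟩ := h2A
      rcases twoA hp2 hG hrk n hcard N hN hNc g hgC hg with h | ⟨h3, hn3, hl⟩
      · exact Or.inr (Or.inl h)
      · exact Or.inr (Or.inr ⟨h3, n, hn3, hcard, hl⟩)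
    · push Not at h2A
      have hΩ : ∀ x : G, x ^ p = 1 → x ∈ N := by
        intro x hx
        have hxC : x ∈ Subgroup.centralizer (N : Set G) := by
          by_contra hxC
          exact h2A x hxC hx
        exact mem_of_centralizes hrk N hN hNc x hx
          (fun m hm => ((Subgroup.mem_centralizer_iff.mp hxC) m hm).symm)
      refine omega_case hp2 hG ?_ n hcard N hN hNc hΩ
      intro Q _ _ hQlt hQp hQrk
      exact ih (Nat.card Q) (by rw [← hk]; exact hQlt) Q rfl hQp hQrk

theorem theta {G : Type u} [Group G] [Finite G] {p : ℕ} [Fact p.Prime] (hp2 : p ≠ 2)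
    (hG : IsPGroup p G) (hrk : PRankLE p 2 G) : Theta p G :=
  theta_aux hp2 _ G rfl hG hrk

end Cfsg.Agent.Helper24.Blk
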