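import Mathlib
import Cfsg.Agent.Lib.Helper64.Metacyclic8

set_option autoImplicit false

/-!
# Blackburn's classification: computational lemmas for the groups with a normal `p^{1+2}` (helper24)
-/

namespace Cfsg.Agent.Helper24.Blk

open Cfsg

universe u

variable {G : Type u} [Group G]

/-- an element normalizing a nontrivial cyclic subgroup of a finite `p`-group acts by a power
`≡ 1 (mod p)`. -/
theorem exists_conj_pow_mod [Finite G] {p : ℕ} [hp : Fact p.Prime] (hG : IsPGroup p G) (q c : G)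
    (hq1 : q ≠ 1) (hn : c * q * c⁻¹ ∈ Subgroup.zpowers q) :
    ∃ T : ℕ, c * q * c⁻¹ = q ^ T ∧ T % p = 1 := by
  have hpp : p.Prime := hp.out
  rw [← mem_powers_iff_mem_zpowers] at hn
  obtain ⟨T, hT⟩ := hn
  have hT' : c * q * c⁻¹ = q ^ T := hT.symm
  refine ⟨T, hT', ?_⟩
  obtain ⟨k, hk⟩ := hG c
  obtain ⟨m, hm⟩ := (IsPGroup.iff_orderOf.mp hG) q
  have hm0 : m ≠ 0 := by
    intro h0
    rw [h0, pow_zero, orderOf_eq_one_iff] at hm
    exact hq1 hm
  have h2 := Cfsg.Agent.Helper64.conj_pow_of_conj c q T hT' (p ^ k)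
  rw [hk, one_mul, inv_one, mul_one] at h2
  have h3 : q ^ 1 = q ^ (T ^ (p ^ k)) := by rw [pow_one]; exact h2
  rw [pow_eq_pow_iff_modEq, hm] at h3
  have h4 : 1 ≡ T ^ p ^ k [MOD p] := h3.of_dvd (dvd_pow_self p hm0)
  have h5 : ((T : ZMod p)) ^ p ^ k = 1 := by
    have := (ZMod.natCast_eq_natCast_iff _ _ _).mpr h4
    push_cast at this
    exact this.symm
  rw [ZMod.pow_card_pow] at h5
  have h6 : ((T : ℕ) : ZMod p) = ((1 : ℕ) : ZMod p) := by rw [h5]; simp
  rw [ZMod.natCast_eq_natCast_iff] at h6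
  have : T % p = 1 % p := h6
  rwa [Nat.mod_eq_of_lt hpp.one_lt] at this

/-- the kill lemma: if `c` normalizes `⟨q⟩` and `c ^ p ∈ ⟨q⟩`, then either some `q ^ j * c` has
order dividing `p`, or `c ^ p` generates `⟨q⟩`. -/
theorem kill [Finite G] {p : ℕ} [hp : Fact p.Prime] (hp2 : p ≠ 2) (hG : IsPGroup p G) (q c : G)
    (hn : c * q * c⁻¹ ∈ Subgroup.zpowers q) (hcp : c ^ p ∈ Subgroup.zpowers q) :
    (∃ j : ℕ, (q ^ j * c) ^ p = 1) ∨ Subgroup.zpowers (c ^ p) = Subgroup.zpowers q := by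
  have hpp : p.Prime := hp.out
  by_cases hq1 : q = 1
  · left
    refine ⟨0, ?_⟩
    rw [hq1, Subgroup.zpowers_one_eq_bot, Subgroup.mem_bot] at hcp
    rw [pow_zero, one_mul, hcp]
  obtain ⟨T, hT, hTp⟩ := exists_conj_pow_mod hG q c hq1 hn
  rw [← mem_powers_iff_mem_zpowers] at hcp
  obtain ⟨e, he⟩ := hcp
  have he' : c ^ p = q ^ e := he.symm
  obtain ⟨m, hm⟩ := (IsPGroup.iff_orderOf.mp hG) q
  have hm0 : m ≠ 0 := by
    intro h0
    rw [h0, pow_zero, orderOf_eq_one_iff] at hm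
    exact hq1 hm
  by_cases hpe : p ∣ e
  · left
    obtain ⟨e', rfl⟩ := hpe
    obtain ⟨g, hg⟩ := Cfsg.Agent.Helper64.geom_sum_prime_dvd hpp T hTp
    have hgp : ¬ p ∣ g := by
      intro hpg
      apply Cfsg.Agent.Helper64.geom_sum_prime_not_sq_dvd hpp hp2 T hTp
      rw [hg, pow_two]
      exact mul_dvd_mul_left _ hpg
    have hcop : Nat.Coprime g (orderOf q) := by
      rw [hm]
      exact Nat.Coprime.pow_right m ((Nat.Prime.coprime_iff_not_dvd hpp).mpr hgp).symm
    have hne : NeZero (orderOf q) := ⟨(orderOf_pos q).ne'⟩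
    obtain ⟨i, hi⟩ : ∃ i : ℕ, ((i * g + e' : ℕ) : ZMod (orderOf q)) = 0 := by
      refine ⟨((-(e' : ZMod (orderOf q))) * ((g : ZMod (orderOf q)))⁻¹).val, ?_⟩
      push_cast
      rw [ZMod.natCast_zmod_val, mul_assoc, ZMod.inv_mul_of_unit _
        ((ZMod.isUnit_iff_coprime g (orderOf q)).mpr hcop), mul_one]
      ring
    have hdvd := (ZMod.natCast_eq_zero_iff _ _).mp hi
    refine ⟨i, ?_⟩
    have hconj : c * q ^ i * c⁻¹ = (q ^ i) ^ T := by
      rw [← conj_pow, hT, ← pow_mul, ← pow_mul, mul_comm]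
    rw [Cfsg.Agent.Helper64.mul_pow_of_conj c (q ^ i) T hconj p, hg, he', ← pow_mul, ← pow_add]
    apply orderOf_dvd_iff_pow_eq_one.mp
    have : i * (p * g) + p * e' = p * (i * g + e') := by ring
    rw [this]
    exact Dvd.dvd.mul_left hdvd _
  · right
    have hcop : Nat.Coprime e (orderOf q) := by
      rw [hm]
      exact Nat.Coprime.pow_right m ((Nat.Prime.coprime_iff_not_dvd hpp).mpr hpe).symm
    obtain ⟨m', hm'⟩ := exists_pow_eq_self_of_coprime hcop
    apply le_antisymm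
    · rw [Subgroup.zpowers_le, he']
      exact Subgroup.pow_mem _ (Subgroup.mem_zpowers q) _
    · rw [Subgroup.zpowers_le, ← hm', ← he']
      exact Subgroup.pow_mem _ (Subgroup.mem_zpowers _) _

/-- iterated conjugation in the groups of the second family. -/
theorem rescale (x y z w : G) (h1 : x⁻¹ * z * x = y * z) (h2 : x⁻¹ * y * x = y * w)
    (h3 : x⁻¹ * w * x = w) (hyw : y * w = w * y) (a : ℕ) :
    (x ^ a)⁻¹ * z * x ^ a = (y ^ a * w ^ (a.choose 2)) * z ∧
    (x ^ a)⁻¹ * (y ^ a * w ^ (a.choose 2)) * x ^ a = (y ^ a * w ^ (a.choose 2)) * w ^ (a * a) := by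
  have hcyw : Commute y w := hyw
  -- conjugation by x⁻¹ as an automorphism
  set f : MulAut G := MulAut.conj x⁻¹ with hf
  have hfa : ∀ u : G, f u = x⁻¹ * u * x := by
    intro u; rw [hf, MulAut.conj_apply, inv_inv]
  have hfpow : ∀ (k : ℕ) (u : G), (f ^ k) u = (x ^ k)⁻¹ * u * x ^ k := by
    intro k u
    rw [hf, ← map_pow, MulAut.conj_apply, inv_pow, inv_inv]
  have hIII : ∀ k : ℕ, (f ^ k) w = w := by
    intro k
    induction k with
    | zero => simp
    | succ k ih => rw [pow_succ', MulAut.mul_apply, ih, hfa, h3]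
  have hII : ∀ k : ℕ, (f ^ k) y = y * w ^ k := by
    intro k
    induction k with
    | zero => simp
    | succ k ih =>
      rw [pow_succ', MulAut.mul_apply, ih, map_mul, map_pow, hfa, hfa, h2, h3, mul_assoc,
        ← pow_succ']
  have hI : ∀ k : ℕ, (f ^ k) z = (y ^ k * w ^ (k.choose 2)) * z := by
    intro k
    induction k with
    | zero => simp
    | succ k ih =>
      rw [pow_succ', MulAut.mul_apply, ih, map_mul, map_mul, map_pow, map_pow, hfa, hfa, hfa, h1,
        h2, h3, hcyw.mul_pow]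
      have hch : (k + 1).choose 2 = k + k.choose 2 := by
        rw [Nat.choose_succ_succ, Nat.choose_one_right]
      rw [hch]
      have hc1 : Commute (w ^ k) y := (hcyw.pow_right k).symm
      have hc2 : Commute (w ^ (k.choose 2)) y := (hcyw.pow_right _).symm
      calc y ^ k * w ^ k * w ^ k.choose 2 * (y * z)
          = y ^ k * (w ^ k * (w ^ k.choose 2 * y)) * z := by group
        _ = y ^ k * (w ^ k * (y * w ^ k.choose 2)) * z := by rw [hc2.eq]
        _ = y ^ k * ((w ^ k * y) * w ^ k.choose 2) * z := by group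
        _ = y ^ k * ((y * w ^ k) * w ^ k.choose 2) * z := by rw [hc1.eq]
        _ = y ^ k * y * (w ^ k * w ^ k.choose 2) * z := by group
        _ = y ^ (k + 1) * w ^ (k + k.choose 2) * z := by rw [pow_succ, pow_add]
  refine ⟨by rw [← hfpow, hI], ?_⟩
  rw [← hfpow, map_mul, map_pow, map_pow, hII, hIII]
  have hc3 : Commute y (w ^ a) := hcyw.pow_right a
  rw [hc3.mul_pow, ← pow_mul]
  have hc4 : Commute (w ^ (a * a)) (w ^ (a.choose 2)) := (Commute.refl w).pow_pow _ _
  rw [mul_assoc, hc4.eq, ← mul_assoc]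

end Cfsg.Agent.Helper24.Blk
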