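import Mathlib
import Cfsg.Agent.Lib.Helper24.BlkMain
import Cfsg.Agent.Lib.Helper24.BlkE1
import Cfsg.Agent.S3376

set_option autoImplicit false

/-!
# Blackburn's classification: the set-up for a normal subgroup of order `p ^ 3` and exponent `p`
(helper24)
-/

namespace Cfsg.Agent.Helper24.Blk

open Cfsg

universe u

variable {G : Type u} [Group G]

/-- commutation with `x`, as a homomorphism `C_G(N) → N`. -/
def commHomN (N : Subgroup G) (hNab : ∀ a ∈ N, ∀ b ∈ N, a * b = b * a) (x : G)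
    (hx : ∀ c ∈ Subgroup.centralizer (N : Set G), c * x * c⁻¹ * x⁻¹ ∈ N) :
    Subgroup.centralizer (N : Set G) →* N where
  toFun c := ⟨(c : G) * x * (c : G)⁻¹ * x⁻¹, hx c c.2⟩
  map_one' := by ext; simp
  map_mul' a b := by
    ext
    simp only [Subgroup.coe_mul, mul_inv_rev]
    have hb := hx b b.2
    have hab : ((b : G) * x * (b : G)⁻¹ * x⁻¹) * (a : G) = (a : G) * ((b : G) * x * (b : G)⁻¹ * x⁻¹) :=
      (Subgroup.mem_centralizer_iff.mp a.2) _ hb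
    calc (a : G) * (b : G) * x * ((b : G)⁻¹ * (a : G)⁻¹) * x⁻¹
        = ((a : G) * ((b : G) * x * (b : G)⁻¹ * x⁻¹)) * x * (a : G)⁻¹ * x⁻¹ := by group
      _ = (((b : G) * x * (b : G)⁻¹ * x⁻¹) * (a : G)) * x * (a : G)⁻¹ * x⁻¹ := by rw [hab]
      _ = ((b : G) * x * (b : G)⁻¹ * x⁻¹) * ((a : G) * x * (a : G)⁻¹ * x⁻¹) := by group
      _ = ((a : G) * x * (a : G)⁻¹ * x⁻¹) * ((b : G) * x * (b : G)⁻¹ * x⁻¹) :=
          hNab _ hb _ (hx a a.2)

theorem commHomN_apply (N : Subgroup G) (hNab : ∀ a ∈ N, ∀ b ∈ N, a * b = b * a) (x : G)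
    (hx : ∀ c ∈ Subgroup.centralizer (N : Set G), c * x * c⁻¹ * x⁻¹ ∈ N)
    (c : Subgroup.centralizer (N : Set G)) :
    ((commHomN N hNab x hx c : N) : G) = (c : G) * x * (c : G)⁻¹ * x⁻¹ := rfl

theorem commHomN_eq_one_iff (N : Subgroup G) (hNab : ∀ a ∈ N, ∀ b ∈ N, a * b = b * a) (x : G)
    (hx : ∀ c ∈ Subgroup.centralizer (N : Set G), c * x * c⁻¹ * x⁻¹ ∈ N)
    (c : Subgroup.centralizer (N : Set G)) :
    commHomN N hNab x hx c = 1 ↔ (c : G) * x = x * (c : G) := by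
  rw [Subtype.ext_iff, commHomN_apply]
  change (c : G) * x * (c : G)⁻¹ * x⁻¹ = 1 ↔ _
  rw [mul_inv_eq_one, mul_inv_eq_iff_eq_mul]

/-- a subgroup of a cyclic group `⟨z⟩` consisting of elements of order dividing `p`. -/
theorem pow_mem_of_pow_eq_one [Finite G] {p : ℕ} (hpp : p.Prime) (z : G) (e : ℕ)
    (hoz : orderOf z = p ^ (e + 1)) (u : G) (hu : u ∈ Subgroup.zpowers z) (hup : u ^ p = 1) :
    u ∈ Subgroup.zpowers (z ^ (p ^ e)) := by
  rw [← mem_powers_iff_mem_zpowers] at hu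
  obtain ⟨k, rfl⟩ := hu
  rw [← pow_mul] at hup
  have h1 : p ^ (e + 1) ∣ k * p := by rw [← hoz]; exact orderOf_dvd_of_pow_eq_one hup
  rw [pow_succ] at h1
  have h2 : p ^ e ∣ k := Nat.dvd_of_mul_dvd_mul_right hpp.pos h1
  obtain ⟨k', rfl⟩ := h2
  show z ^ (p ^ e * k') ∈ Subgroup.zpowers (z ^ p ^ e)
  rw [pow_mul]
  exact Subgroup.pow_mem _ (Subgroup.mem_zpowers _) _

end Cfsg.Agent.Helper24.Blk
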