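import Mathlib
import Cfsg.Agent.Lib.Helper24.BlkE2

set_option autoImplicit false
set_option maxHeartbeats 1600000

/-!
# Blackburn's classification: groups with a normal subgroup of order `p ^ 3` and exponent `p`
(helper24)
-/

namespace Cfsg.Agent.Helper24.Blk

open Cfsg

universe u

variable {G : Type u} [Group G]

/-- choice of the scaling exponent. -/
theorem exists_scale {p : ℕ} [hp : Fact p.Prime] (ω w : G) (hω : ω ^ p = 1) (t : ℕ)
    (hwt : w = ω ^ t) (hpt : ¬ p ∣ t) :
    ∃ a s : ℕ, ¬ p ∣ a ∧ (s = 1 ∨ ¬ IsSquare (s : ZMod p)) ∧ w ^ (a * a) = ω ^ s := by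
  have hpp : p.Prime := hp.out
  by_cases hsq : IsSquare ((t : ℕ) : ZMod p)
  · obtain ⟨b, hb⟩ := hsq
    have hb0 : b ≠ 0 := by
      rintro rfl
      rw [mul_zero, ZMod.natCast_eq_zero_iff] at hb
      exact hpt hb
    refine ⟨(b⁻¹).val, 1, ?_, Or.inl rfl, ?_⟩
    · intro hdvd
      have h1 : (((b⁻¹).val : ℕ) : ZMod p) = 0 := (ZMod.natCast_eq_zero_iff _ _).mpr hdvd
      rw [ZMod.natCast_zmod_val] at h1
      exact hb0 (inv_eq_zero.mp h1)
    · have h1 : ((((b⁻¹).val * (b⁻¹).val * t : ℕ)) : ZMod p) = ((1 : ℕ) : ZMod p) := by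
        push_cast
        rw [ZMod.natCast_zmod_val, hb]
        field_simp
      rw [ZMod.natCast_eq_natCast_iff] at h1
      have h2 : ((b⁻¹).val * (b⁻¹).val * t) % p = 1 := by
        have : ((b⁻¹).val * (b⁻¹).val * t) % p = 1 % p := h1
        rwa [Nat.mod_eq_of_lt hpp.one_lt] at this
      rw [hwt, ← pow_mul, pow_one]
      have h3 : t * ((b⁻¹).val * (b⁻¹).val) = p * (((b⁻¹).val * (b⁻¹).val * t) / p) + 1 := by
        have := Nat.div_add_mod ((b⁻¹).val * (b⁻¹).val * t) p
        rw [h2] at this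
        rw [this]; ring
      rw [h3, pow_succ, pow_mul, hω, one_pow, one_mul]
  · exact ⟨1, t, by simpa using hpp.one_lt.ne', Or.inr hsq, by rw [hwt]; simp⟩

/-- The two families of the classification. -/
theorem hasE_structure [Finite G] {p : ℕ} [hp : Fact p.Prime] (hp2 : p ≠ 2) (hG : IsPGroup p G)
    (hrk : PRankLE p 2 G) (n : ℕ) (hcard : Nat.card G = p ^ n) (hE : HasE p G) :
    (3 ≤ n ∧ ∃ x y z : G, Subgroup.closure ({x, y, z} : Set G) = ⊤ ∧ x ^ p = 1 ∧ y ^ p = 1 ∧
        z ^ p ^ (n - 2) = 1 ∧ x * z = z * x ∧ y * z = z * y ∧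
        x⁻¹ * y * x = y * z ^ p ^ (n - 3)) ∨
    (4 ≤ n ∧ ∃ (s : ℕ) (x y z : G), (s = 1 ∨ ¬ IsSquare (s : ZMod p)) ∧
        Subgroup.closure ({x, y, z} : Set G) = ⊤ ∧
        x ^ p = 1 ∧ y ^ p = 1 ∧ z ^ p ^ (n - 2) = 1 ∧ y * z = z * y ∧
        x⁻¹ * y * x = y * z ^ (s * p ^ (n - 3)) ∧ x⁻¹ * z * x = y * z) := by
  have hpp : p.Prime := hp.out
  obtain ⟨E, hEn, hEc, hEe⟩ := hE
  have hEnc : ¬ IsCyclic E := by
    intro hc
    have hcomm : IsMulCommutative E := IsCyclic.isMulCommutative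
    have h1 := hrk E hcomm hEe
    rw [hEc] at h1
    have : p ^ 2 < p ^ 3 := Nat.pow_lt_pow_right hpp.one_lt (by norm_num)
    omega
  obtain ⟨N, hNE, hNn, hN, hNc⟩ := Cfsg.Agent.S0636.result hp2 hG E hEnc
  obtain ⟨Z, hZN, hZcen, hZc, hcomm⟩ := exists_central_sub hG N hNc
  have hNab : ∀ a ∈ N, ∀ b ∈ N, a * b = b * a := fun a ha b hb =>
    congrArg Subtype.val (hN.1.is_comm.comm (⟨a, ha⟩ : N) ⟨b, hb⟩)
  set C : Subgroup G := Subgroup.centralizer (N : Set G) with hC
  have hCn : C.Normal := by rw [hC]; infer_instance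
  have hNC : N ≤ C := by
    intro m hm
    rw [hC, Subgroup.mem_centralizer_iff]
    intro k hk
    exact hNab k hk m hm
  have hCN : ∀ x ∈ C, x ^ p = 1 → x ∈ N := by
    intro x hx hxp
    exact mem_of_centralizes hrk N hN hNc x hxp
      (fun m hm => ((Subgroup.mem_centralizer_iff.mp hx) m hm).symm)
  have hEC : ∀ e ∈ E, e ∈ C → e ∈ N := fun e he hc => hCN e hc (hEe e he)
  obtain ⟨x, hxE, hxN⟩ : ∃ x ∈ E, x ∉ N := by
    by_contra hno
    push Not at hno
    have := Subgroup.card_le_of_le (show E ≤ N from hno)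
    rw [hEc, hNc] at this
    have : p ^ 2 < p ^ 3 := Nat.pow_lt_pow_right hpp.one_lt (by norm_num)
    omega
  have hxC : x ∉ C := fun h => hxN (hEC x hxE h)
  have hxp : x ^ p = 1 := hEe x hxE
  have hx1 : x ≠ 1 := fun h => hxN (h ▸ N.one_mem)
  have hox : orderOf x = p := orderOf_eq_prime hxp hx1
  have hEeq : N ⊔ Subgroup.zpowers x = E := by
    apply Subgroup.eq_of_le_of_card_ge (sup_le hNE (by rw [Subgroup.zpowers_le]; exact hxE))
    rw [card_sup_zpowers N x (Subgroup.le_normalizer_of_normal (Subgroup.mem_top x)) hxN hxp, hNc,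
      hEc]
    exact le_of_eq (by ring)
  have hCidx : C.index = p := by
    rcases (Nat.dvd_prime hpp).mp (index_centralizer_dvd hG N hNc) with h | h
    · exfalso
      apply hxC
      have h' : C = ⊤ := Subgroup.index_eq_one.mp h
      rw [h']
      exact Subgroup.mem_top x
    · exact h
  -- the centralizer of E
  set Q : Subgroup G := Subgroup.centralizer (E : Set G) with hQ
  have hQn : Q.Normal := by rw [hQ]; infer_instance
  have hQC : Q ≤ C := Subgroup.centralizer_le hNE
  have hQE : ∀ u ∈ Q, ∀ e ∈ E, e * u = u * e := fun u hu e he =>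
    (Subgroup.mem_centralizer_iff.mp hu) e he
  have hQmem : ∀ u ∈ C, u * x = x * u → u ∈ Q := by
    intro u hu hux
    have hle : N ⊔ Subgroup.zpowers x ≤ Subgroup.centralizer {u} := by
      refine sup_le ?_ ?_
      · intro m hm
        rw [Subgroup.mem_centralizer_singleton_iff]
        exact (Subgroup.mem_centralizer_iff.mp hu) m hm
      · rw [Subgroup.zpowers_le, Subgroup.mem_centralizer_singleton_iff]
        exact hux.symm
    rw [hEeq] at hle
    rw [hQ, Subgroup.mem_centralizer_iff]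
    intro e he
    have := hle he
    rw [Subgroup.mem_centralizer_singleton_iff] at this
    exact this
  have hQZ : ∀ u ∈ Q, u ^ p = 1 → u ∈ Z := by
    intro u hu hup
    exact mem_Z_of_commute N Z hNc hZN hZcen hZc x hxC u (hCN u (hQC hu) hup)
      (hQE u hu x hxE).symm
  have hZQ : Z ≤ Q := by
    intro u hu
    rw [hQ, Subgroup.mem_centralizer_iff]
    intro e _
    exact (Subgroup.mem_center_iff.mp (hZcen hu) e)
  have hQcyc : IsCyclic Q := isCyclic_of_order_p_in hp2 hG Q Z hZc hQZ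
  -- the homomorphism
  have hκN : ∀ c ∈ C, c * x * c⁻¹ * x⁻¹ ∈ N := by
    intro c hc
    apply hEC
    · exact E.mul_mem (hEn.conj_mem x hxE c) (E.inv_mem hxE)
    · have h1 : x * c⁻¹ * x⁻¹ ∈ C := hCn.conj_mem c⁻¹ (C.inv_mem hc) x
      have h2 : c * x * c⁻¹ * x⁻¹ = c * (x * c⁻¹ * x⁻¹) := by group
      rw [h2]
      exact C.mul_mem hc h1
  have hκZ : ∀ m ∈ N, m * x * m⁻¹ * x⁻¹ ∈ Z := by
    intro m hm
    have h1 := hcomm m⁻¹ (N.inv_mem hm) x
    rw [inv_inv] at h1
    have h2 := Subgroup.mem_center_iff.mp (hZcen h1) m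
    have h3 : m * x * m⁻¹ * x⁻¹ = m * (x * m⁻¹ * x⁻¹ * m) * m⁻¹ := by group
    rw [h3, h2]
    have h4 : x * m⁻¹ * x⁻¹ * m * m * m⁻¹ = x * m⁻¹ * x⁻¹ * m := by group
    rw [h4]
    exact h1
  set φ := commHomN N hNab x hκN with hφ
  have hφ1 : ∀ c : C, φ c = 1 ↔ (c : G) * x = x * (c : G) := fun c =>
    commHomN_eq_one_iff N hNab x hκN c
  have hker : φ.ker = Q.subgroupOf C := by
    ext c
    rw [MonoidHom.mem_ker, hφ1, Subgroup.mem_subgroupOf]
    constructor
    · intro h; exact hQmem c c.2 h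
    · intro h; exact (hQE c h x hxE).symm
  have hcardker : Nat.card φ.ker = Nat.card Q := by
    rw [hker]; exact Nat.card_congr (Subgroup.subgroupOfEquivOfLe hQC).toEquiv
  have hcardC : Nat.card C = Nat.card Q * Nat.card φ.range := by
    have h1 := Subgroup.card_mul_index φ.ker
    rw [Subgroup.index_ker, hcardker] at h1
    exact h1.symm
  have hGC : Nat.card G = Nat.card C * p := by
    have := Subgroup.card_mul_index C
    rw [hCidx] at this
    exact this.symm
  -- the range
  have hRdvd : Nat.card φ.range ∣ p ^ 2 := by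
    rw [← hNc]; exact Subgroup.card_subgroup_dvd_card _
  have hR1 : Nat.card φ.range ≠ 1 := by
    intro h
    have hbot : φ.range = ⊥ := Subgroup.card_eq_one.mp h
    apply hxC
    rw [hC, Subgroup.mem_centralizer_iff]
    intro m hm
    have h1 : φ ⟨m, hNC hm⟩ ∈ φ.range := ⟨_, rfl⟩
    rw [hbot, Subgroup.mem_bot, hφ1] at h1
    exact h1
  -- y and w
  obtain ⟨y, hyN, hyZ⟩ : ∃ y ∈ N, y ∉ Z := by
    by_contra hno
    push Not at hno
    have := Subgroup.card_le_of_le (show N ≤ Z from hno)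
    rw [hNc, hZc] at this
    have : p < p ^ 2 := by nlinarith [hpp.two_le]
    omega
  have hNeq : ∀ y' ∈ N, y' ∉ Z → Z ⊔ Subgroup.zpowers y' = N := fun y' hy' hy'Z =>
    Cfsg.Agent.S1453.sup_zpowers_eq hpp hZN hZc hNc hy' hy'Z
  -- generator of Q
  obtain ⟨gq, hgq⟩ := hQcyc.exists_generator
  set q : G := (gq : G) with hq
  have hqQ : q ∈ Q := gq.2
  have hQq : ∀ u ∈ Q, u ∈ Subgroup.zpowers q := by
    intro u hu
    obtain ⟨k, hk⟩ := Subgroup.mem_zpowers_iff.mp (hgq ⟨u, hu⟩)
    rw [Subgroup.mem_zpowers_iff]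
    refine ⟨k, ?_⟩
    have := congrArg Subtype.val hk
    simpa using this
  have hoq : orderOf q = Nat.card Q := by
    rw [hq, Subgroup.orderOf_coe]
    exact orderOf_eq_card_of_forall_mem_zpowers hgq
  obtain ⟨e, he⟩ := (hG.to_subgroup Q).exists_card_eq
  have he0 : e ≠ 0 := by
    rintro rfl
    rw [pow_zero] at he
    have h1 := Subgroup.card_le_of_le hZQ
    rw [hZc, he] at h1
    have := hpp.two_le
    omega
  obtain ⟨e', rfl⟩ : ∃ e', e = e' + 1 := ⟨e - 1, by omega⟩
  -- the element of order p in Q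
  have hZω : ∀ ω : G, ω ∈ Q → ω ^ p = 1 → ω ≠ 1 → ∀ w ∈ Z, ∃ t : ℕ, w = ω ^ t := by
    intro ω hωQ hωp hω1 w hw
    have hωZ := hQZ ω hωQ hωp
    have hω1' : (⟨ω, hωZ⟩ : Z) ≠ 1 := fun h => hω1 (congrArg Subtype.val h)
    have h1 : (⟨w, hw⟩ : Z) ∈ Subgroup.zpowers (⟨ω, hωZ⟩ : Z) :=
      mem_zpowers_of_prime_card hZc hω1'
    rw [← mem_powers_iff_mem_zpowers] at h1
    obtain ⟨t, ht⟩ := h1
    refine ⟨t, ?_⟩
    have := congrArg Subtype.val ht
    simpa using this.symm
  obtain ⟨k, hk, hkR⟩ := (Nat.dvd_prime_pow hpp).mp hRdvd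
  have hk0 : k ≠ 0 := by
    rintro rfl
    exact hR1 (by rw [hkR, pow_zero])
  have hk12 : k = 1 ∨ k = 2 := by omega
  rcases hk12 with rfl | rfl
  · ------------------------------------------------------------------ first family
    left
    have hn : n = e' + 1 + 2 := by
      rw [hcard, hcardC, he, hkR] at hGC
      have h1 : p ^ n = p ^ (e' + 1 + 2) := by rw [hGC]; ring
      exact Nat.pow_right_injective hpp.two_le h1
    subst hn
    refine ⟨by omega, ?_⟩
    have hn2 : e' + 1 + 2 - 2 = e' + 1 := by omega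
    have hn3 : e' + 1 + 2 - 3 = e' := by omega
    rw [hn2, hn3]
    -- w
    set w := x⁻¹ * y * x * y⁻¹ with hw
    have hwZ : w ∈ Z := by
      have := hcomm y hyN x⁻¹
      rwa [inv_inv] at this
    have hw1 : w ≠ 1 := by
      intro h
      apply hyZ
      apply mem_Z_of_commute N Z hNc hZN hZcen hZc x hxC y hyN
      have h1 : x⁻¹ * y * x = y := by
        have : x⁻¹ * y * x = w * y := by rw [hw]; group
        rw [this, h, one_mul]
      have h2 : y * x = x * (x⁻¹ * y * x) := by group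
      rw [h2, h1]
    set ω := q ^ (p ^ e') with hω
    have hωQ : ω ∈ Q := Subgroup.pow_mem _ hqQ _
    have hωp : ω ^ p = 1 := by
      rw [hω, ← pow_mul, ← pow_succ, ← he, ← hoq, pow_orderOf_eq_one]
    have hω1 : ω ≠ 1 := by
      intro h
      have h1 : orderOf q ∣ p ^ e' := orderOf_dvd_of_pow_eq_one h
      rw [hoq, he, Nat.pow_dvd_pow_iff_le_right hpp.one_lt] at h1
      omega
    obtain ⟨t, ht⟩ := hZω ω hωQ hωp hω1 w hwZ
    have hpt : ¬ p ∣ t := by
      rintro ⟨t', rfl⟩
      apply hw1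
      rw [ht, pow_mul, hωp, one_pow]
    set z := q ^ t with hz
    have hzQ : z ∈ Q := Subgroup.pow_mem _ hqQ _
    have hzw : z ^ p ^ e' = w := by
      rw [hz, ht, hω, ← pow_mul, ← pow_mul, mul_comm]
    have hzp : z ^ p ^ (e' + 1) = 1 := by
      rw [hz, ← pow_mul, mul_comm, pow_mul, ← he, ← hoq, pow_orderOf_eq_one, one_pow]
    have hcopt : t.Coprime (orderOf q) := by
      rw [hoq, he]
      exact Nat.Coprime.pow_right _ ((Nat.Prime.coprime_iff_not_dvd hpp).mpr hpt).symm
    obtain ⟨m', hm'⟩ := exists_pow_eq_self_of_coprime hcopt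
    have hwcen := Subgroup.mem_center_iff.mp (hZcen hwZ)
    refine ⟨x, y, z, ?_, hxp, hN.2 y hyN, hzp, hQE z hzQ x hxE, hQE z hzQ y (hNE hyN), ?_⟩
    · -- generation
      set K : Subgroup G := Subgroup.closure ({x, y, z} : Set G) with hK
      have hxK : x ∈ K := Subgroup.subset_closure (by simp)
      have hyK : y ∈ K := Subgroup.subset_closure (by simp)
      have hzK : z ∈ K := Subgroup.subset_closure (by simp)
      have hqK : q ∈ K := by rw [← hm']; exact Subgroup.pow_mem _ hzK _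
      have hQK : Q ≤ K := fun u hu => by
        have := hQq u hu
        exact (Subgroup.zpowers_le.mpr hqK) this
      have hNK : N ≤ K := by
        rw [← hNeq y hyN hyZ]
        exact sup_le (hZQ.trans hQK) (Subgroup.zpowers_le.mpr hyK)
      have hEK : E ≤ K := by
        rw [← hEeq]
        exact sup_le hNK (Subgroup.zpowers_le.mpr hxK)
      have hsup : Q ⊔ E = ⊤ := by
        apply Subgroup.eq_of_le_of_card_ge le_top
        have h1 := Cfsg.Agent.S3376.card_sup_mul_card_inf Q E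
        have h2 : Nat.card (Q ⊓ E : Subgroup G) ≤ p := by
          rw [← hZc]
          apply Subgroup.card_le_of_le
          intro u hu
          exact hQZ u hu.1 (hEe u hu.2)
        rw [he, hEc] at h1
        rw [Subgroup.card_top, hcard]
        have hpos : 0 < Nat.card (Q ⊓ E : Subgroup G) := Nat.card_pos
        have h3 : p ^ (e' + 1 + 2) * p = Nat.card (Q ⊔ E : Subgroup G) * Nat.card (Q ⊓ E : Subgroup G) := by
          rw [h1]; ring
        by_contra hlt
        push Not at hlt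
        have h4 : Nat.card (Q ⊔ E : Subgroup G) * Nat.card (Q ⊓ E : Subgroup G) <
            p ^ (e' + 1 + 2) * p :=
          Nat.mul_lt_mul_of_lt_of_le hlt h2 hpp.pos
        omega
      rw [eq_top_iff, ← hsup]
      exact sup_le hQK hEK
    · have h1 : x⁻¹ * y * x = w * y := by rw [hw]; group
      rw [h1, hzw, hwcen y]
  · ------------------------------------------------------------------ second family
    right
    have hn : n = e' + 1 + 3 := by
      rw [hcard, hcardC, he, hkR] at hGC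
      have h1 : p ^ n = p ^ (e' + 1 + 3) := by rw [hGC]; ring
      exact Nat.pow_right_injective hpp.two_le h1
    subst hn
    refine ⟨by omega, ?_⟩
    have hn2 : e' + 1 + 3 - 2 = e' + 1 + 1 := by omega
    have hn3 : e' + 1 + 3 - 3 = e' + 1 := by omega
    rw [hn2, hn3]
    -- φ is onto
    have hRtop : φ.range = ⊤ := by
      apply Subgroup.eq_of_le_of_card_ge le_top
      rw [Subgroup.card_top, hNc, hkR]
    obtain ⟨c, hc⟩ : ∃ c : C, φ c = ⟨y, hyN⟩ := by
      have : (⟨y, hyN⟩ : N) ∈ φ.range := by rw [hRtop]; exact Subgroup.mem_top _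
      exact this
    have hcy : (c : G) * x * (c : G)⁻¹ * x⁻¹ = y := by
      have := congrArg Subtype.val hc
      rwa [hφ, commHomN_apply] at this
    have hcpQ : (c : G) ^ p ∈ Q := by
      have h1 : φ (c ^ p) = 1 := by
        rw [map_pow, hc]
        apply Subtype.ext
        simpa using hN.2 y hyN
      have h2 := (hφ1 (c ^ p)).mp h1
      exact hQmem _ (c ^ p).2 (by simpa using h2)
    have hcq : (c : G) * q * (c : G)⁻¹ ∈ Subgroup.zpowers q :=
      hQq _ (hQn.conj_mem q hqQ c)
    have hgen : Subgroup.zpowers ((c : G) ^ p) = Subgroup.zpowers q := by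
      rcases kill hp2 hG q (c : G) hcq (hQq _ hcpQ) with ⟨j, hj⟩ | h
      · exfalso
        have hqjQ : q ^ j ∈ Q := Subgroup.pow_mem _ hqQ _
        have hdC : q ^ j * (c : G) ∈ C := C.mul_mem (hQC hqjQ) c.2
        have hdN : q ^ j * (c : G) ∈ N := hCN _ hdC hj
        have h1 := hκZ _ hdN
        have h2 : q ^ j * (c : G) * x * (q ^ j * (c : G))⁻¹ * x⁻¹ = y := by
          have h3 := hQE (q ^ j) hqjQ _ (hNE hyN)
          calc q ^ j * (c : G) * x * (q ^ j * (c : G))⁻¹ * x⁻¹
              = q ^ j * ((c : G) * x * (c : G)⁻¹ * x⁻¹) * (x * (q ^ j)⁻¹ * x⁻¹) := by group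
            _ = q ^ j * y * (x * (q ^ j)⁻¹ * x⁻¹) := by rw [hcy]
            _ = q ^ j * y * (q ^ j)⁻¹ := by
                have h4 := hQE (q ^ j) hqjQ x hxE
                have h5 : x * (q ^ j)⁻¹ * x⁻¹ = (q ^ j)⁻¹ := by
                  have : x * (q ^ j)⁻¹ * x⁻¹ = (q ^ j)⁻¹ * (q ^ j * x) * (q ^ j)⁻¹ * x⁻¹ := by group
                  rw [this, ← h4]; group
                rw [h5]
            _ = y := by rw [← h3]; group
        rw [h2] at h1
        exact hyZ h1
      · exact h
    set z : G := (c : G) with hz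
    have hzC : z ∈ C := c.2
    have hzpQ : z ^ p ∈ Q := hcpQ
    have hozp : orderOf (z ^ p) = p ^ (e' + 1) := by
      rw [← Nat.card_zpowers, hgen, Nat.card_zpowers, hoq, he]
    have hzpp : z ^ p ^ (e' + 1 + 1) = 1 := by
      rw [pow_succ' p (e' + 1), pow_mul, ← hozp, pow_orderOf_eq_one]
    have hoz : orderOf z = p ^ (e' + 1 + 1) := by
      obtain ⟨f, hf⟩ := (IsPGroup.iff_orderOf.mp hG) z
      have h1 := orderOf_pow (n := p) z
      rw [hozp, hf] at h1
      rcases Nat.eq_zero_or_pos f with rfl | hfpos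
      · rw [pow_zero, Nat.gcd_one_left, Nat.div_one] at h1
        have : 1 < p ^ (e' + 1) := Nat.one_lt_pow (by omega) hpp.one_lt
        omega
      · have hg : Nat.gcd (p ^ f) p = p := Nat.gcd_eq_right (dvd_pow_self p (by omega))
        rw [hg] at h1
        have h2 : p ^ f = p ^ (f - 1) * p := by
          rw [← pow_succ]; congr 1; omega
        rw [h2, Nat.mul_div_cancel _ hpp.pos] at h1
        have h3 := Nat.pow_right_injective hpp.two_le h1
        rw [hf]; congr 1; omega
    -- the relation y z = x⁻¹ z x: replace y by its conjugate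
    set y₀ := x⁻¹ * z * x * z⁻¹ with hy₀
    have hy₀y : y₀ = x⁻¹ * y * x := by rw [hy₀, ← hcy]; group
    have hy₀N : y₀ ∈ N := by
      rw [hy₀y]
      have := hNn.conj_mem y hyN x⁻¹
      rwa [inv_inv] at this
    have hy₀Z : y₀ ∉ Z := by
      intro h
      apply hyZ
      have h1 := Subgroup.mem_center_iff.mp (hZcen h) x
      have h2 : y = x * y₀ * x⁻¹ := by rw [hy₀y]; group
      rw [h2, h1]
      have h3 : y₀ * x * x⁻¹ = y₀ := by group
      rw [h3]; exact h
    set w := x⁻¹ * y₀ * x * y₀⁻¹ with hw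
    have hwZ : w ∈ Z := by
      have := hcomm y₀ hy₀N x⁻¹
      rwa [inv_inv] at this
    have hw1 : w ≠ 1 := by
      intro h
      apply hy₀Z
      apply mem_Z_of_commute N Z hNc hZN hZcen hZc x hxC y₀ hy₀N
      have h1 : x⁻¹ * y₀ * x = y₀ := by
        have : x⁻¹ * y₀ * x = w * y₀ := by rw [hw]; group
        rw [this, h, one_mul]
      have h2 : y₀ * x = x * (x⁻¹ * y₀ * x) := by group
      rw [h2, h1]
    have hwcen := Subgroup.mem_center_iff.mp (hZcen hwZ)
    set ω := z ^ (p ^ (e' + 1)) with hω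
    have hωQ : ω ∈ Q := by
      rw [hω, pow_succ' p e', pow_mul]
      exact Subgroup.pow_mem _ hzpQ _
    have hωp : ω ^ p = 1 := by
      rw [hω, ← pow_mul, ← pow_succ]; exact hzpp
    have hω1 : ω ≠ 1 := by
      intro h
      have h1 : orderOf z ∣ p ^ (e' + 1) := orderOf_dvd_of_pow_eq_one h
      rw [hoz, Nat.pow_dvd_pow_iff_le_right hpp.one_lt] at h1
      omega
    obtain ⟨t, ht⟩ := hZω ω hωQ hωp hω1 w hwZ
    have hpt : ¬ p ∣ t := by
      rintro ⟨t', rfl⟩
      apply hw1
      rw [ht, pow_mul, hωp, one_pow]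
    obtain ⟨a, s, hpa, hs, hws⟩ := exists_scale ω w hωp t ht hpt
    have r1 : x⁻¹ * z * x = y₀ * z := by rw [hy₀]; group
    have r2 : x⁻¹ * y₀ * x = y₀ * w := by
      have : x⁻¹ * y₀ * x = w * y₀ := by rw [hw]; group
      rw [this, hwcen y₀]
    have r3 : x⁻¹ * w * x = w := by
      have := hwcen x
      calc x⁻¹ * w * x = x⁻¹ * (w * x) := by group
        _ = x⁻¹ * (x * w) := by rw [← this]
        _ = w := by group
    obtain ⟨R1, R2⟩ := rescale x y₀ z w r1 r2 r3 (hwcen y₀) a
    set x' := x ^ a with hx'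
    set y' := y₀ ^ a * w ^ (a.choose 2) with hy'
    have hx'E : x' ∈ E := Subgroup.pow_mem _ hxE _
    have hy'N : y' ∈ N := N.mul_mem (Subgroup.pow_mem _ hy₀N _) (Subgroup.pow_mem _ (hZN hwZ) _)
    have hcopa : a.Coprime (orderOf x) := by
      rw [hox]; exact ((Nat.Prime.coprime_iff_not_dvd hpp).mpr hpa).symm
    obtain ⟨mx, hmx⟩ := exists_pow_eq_self_of_coprime hcopa
    have hy'Z : y' ∉ Z := by
      intro h
      apply hy₀Z
      have h1 : y₀ ^ a ∈ Z := by
        have : y₀ ^ a = y' * (w ^ (a.choose 2))⁻¹ := by rw [hy']; group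
        rw [this]
        exact Z.mul_mem h (Z.inv_mem (Subgroup.pow_mem _ hwZ _))
      have hy₀1 : y₀ ≠ 1 := fun h' => hy₀Z (h' ▸ Z.one_mem)
      have hoy : orderOf y₀ = p := orderOf_eq_prime (hN.2 y₀ hy₀N) hy₀1
      have hcopy : a.Coprime (orderOf y₀) := by
        rw [hoy]; exact ((Nat.Prime.coprime_iff_not_dvd hpp).mpr hpa).symm
      obtain ⟨my, hmy⟩ := exists_pow_eq_self_of_coprime hcopy
      rw [← hmy]
      exact Subgroup.pow_mem _ h1 _
    refine ⟨s, x', y', z, hs, ?_, hEe x' hx'E, hN.2 y' hy'N, hzpp, ?_, ?_, R1⟩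
    · -- generation
      set K : Subgroup G := Subgroup.closure ({x', y', z} : Set G) with hK
      have hxK' : x' ∈ K := Subgroup.subset_closure (by simp)
      have hyK : y' ∈ K := Subgroup.subset_closure (by simp)
      have hzK : z ∈ K := Subgroup.subset_closure (by simp)
      have hxK : x ∈ K := by rw [← hmx]; exact Subgroup.pow_mem _ hxK' _
      have hQK : Q ≤ K := fun u hu => by
        have h1 := hQq u hu
        rw [← hgen] at h1
        exact (Subgroup.zpowers_le.mpr (Subgroup.pow_mem _ hzK _)) h1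
      have hNK : N ≤ K := by
        rw [← hNeq y' hy'N hy'Z]
        exact sup_le (hZQ.trans hQK) (Subgroup.zpowers_le.mpr hyK)
      have hEK : E ≤ K := by
        rw [← hEeq]
        exact sup_le hNK (Subgroup.zpowers_le.mpr hxK)
      have hsup : Subgroup.zpowers z ⊔ E = ⊤ := by
        apply Subgroup.eq_of_le_of_card_ge le_top
        have h1 := Cfsg.Agent.S3376.card_sup_mul_card_inf (Subgroup.zpowers z) E
        have h2 : Nat.card (Subgroup.zpowers z ⊓ E : Subgroup G) ≤ p := by
          rw [← hZc]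
          apply Subgroup.card_le_of_le
          intro u hu
          have h5 := pow_mem_of_pow_eq_one hpp z (e' + 1) hoz u hu.1 (hEe u hu.2)
          have h6 : Subgroup.zpowers (z ^ p ^ (e' + 1)) ≤ Z := by
            rw [Subgroup.zpowers_le]
            exact hQZ ω hωQ hωp
          exact h6 h5
        rw [Nat.card_zpowers, hoz, hEc] at h1
        rw [Subgroup.card_top, hcard]
        have h3 : p ^ (e' + 1 + 3) * p = Nat.card (Subgroup.zpowers z ⊔ E : Subgroup G) *
            Nat.card (Subgroup.zpowers z ⊓ E : Subgroup G) := by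
          rw [h1]; ring
        by_contra hlt
        push Not at hlt
        have h4 : Nat.card (Subgroup.zpowers z ⊔ E : Subgroup G) *
            Nat.card (Subgroup.zpowers z ⊓ E : Subgroup G) < p ^ (e' + 1 + 3) * p :=
          Nat.mul_lt_mul_of_lt_of_le hlt h2 hpp.pos
        omega
      rw [eq_top_iff, ← hsup]
      exact sup_le (Subgroup.zpowers_le.mpr hzK) hEK
    · exact ((Subgroup.mem_centralizer_iff.mp hzC) y' hy'N)
    · rw [R2, hws, hω, ← pow_mul, mul_comm]

end Cfsg.Agent.Helper24.Blk
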