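import Mathlib
import Cfsg.Agent.Lib.Helper24.BlkE3

set_option autoImplicit false
set_option maxHeartbeats 1600000

/-!
# Blackburn groups with a normal subgroup of order `p ^ 3` and exponent `p`: the data (helper24)
-/

namespace Cfsg.Agent.Helper24.Blk

open Cfsg

universe u

variable {G : Type u} [Group G]

/-- for `p > 3`, a normal subgroup of order `p ^ 3` and exponent `p` contains all elements of
order dividing `p`. -/
theorem omega_mem [Finite G] {p : ℕ} [hp : Fact p.Prime] (hp3 : 3 < p) (hG : IsPGroup p G)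
    (hrk : PRankLE p 2 G) (E₀ : Subgroup G) (hE₀n : E₀.Normal) (hE₀c : Nat.card E₀ = p ^ 3)
    (hE₀e : ∀ x ∈ E₀, x ^ p = 1) (g₁ : G) (hg₁p : g₁ ^ p = 1) : g₁ ∈ E₀ := by
  by_contra hg₁E₀
  have hpp : p.Prime := hp.out
  have hg₁n : g₁ ∈ Subgroup.normalizer (E₀ : Set G) :=
    Subgroup.le_normalizer_of_normal (Subgroup.mem_top g₁)
  set L : Subgroup G := E₀ ⊔ Subgroup.zpowers g₁ with hL
  have hLc : Nat.card L = p ^ 4 := by
    rw [hL, card_sup_zpowers E₀ g₁ hg₁n hg₁E₀ hg₁p, hE₀c]; ring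
  have hreg : IsRegularPGroup p L :=
    Cfsg.Agent.Helper64.Huppert.regular_of_card hLc (by norm_num) (by omega)
  obtain ⟨HB, -, hHB⟩ := Cfsg.Agent.S4225.result hreg 1
  have hmemHB : ∀ b : L, b ∈ HB ↔ (b : G) ^ p = 1 := by
    intro b
    rw [← SetLike.mem_coe, hHB]
    simp only [Set.mem_ofPred_eq, pow_one]
    constructor
    · intro h; have := congrArg Subtype.val h; simpa using this
    · intro h; apply Subtype.ext; simpa using h
  have hle : L ≤ HB.map L.subtype := by
    have hE₀L : E₀ ≤ L := le_sup_left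
    have hgL : g₁ ∈ L := Subgroup.mem_sup_right (Subgroup.mem_zpowers g₁)
    conv_lhs => rw [hL]
    refine sup_le ?_ ?_
    · intro a ha
      exact ⟨⟨a, hE₀L ha⟩, (hmemHB _).2 (hE₀e a ha), rfl⟩
    · rw [Subgroup.zpowers_le]
      exact ⟨⟨g₁, hgL⟩, (hmemHB _).2 hg₁p, rfl⟩
  have hLe : ∀ x ∈ L, x ^ p = 1 := by
    intro x hx
    obtain ⟨b, hb, rfl⟩ := hle hx
    exact (hmemHB b).1 hb
  have h1 := card_le_cube_of_exponent_sub (by omega) hG hrk L hLe
  rw [hLc] at h1
  have : p ^ 3 < p ^ 4 := Nat.pow_lt_pow_right hpp.one_lt (by norm_num)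
  omega

/-- The structural data of a group with a normal subgroup `E` of order `p ^ 3` and exponent `p`. -/
theorem hasE_data [Finite G] {p : ℕ} [hp : Fact p.Prime] (hp2 : p ≠ 2) (hG : IsPGroup p G)
    (hrk : PRankLE p 2 G) (E : Subgroup G) (hEn : E.Normal) (hEc : Nat.card E = p ^ 3)
    (hEe : ∀ x ∈ E, x ^ p = 1) :
    ∃ (N Z : Subgroup G) (x : G), N ≤ E ∧ N.Normal ∧ IsElementaryAbelian p N ∧
      Nat.card N = p ^ 2 ∧ Z ≤ N ∧ Z ≤ Subgroup.center G ∧ Nat.card Z = p ∧
      (∀ n ∈ N, ∀ g : G, g * n * g⁻¹ * n⁻¹ ∈ Z) ∧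
      x ∈ E ∧ x ∉ Subgroup.centralizer (N : Set G) ∧ N ⊔ Subgroup.zpowers x = E ∧
      (Subgroup.centralizer (N : Set G)).index = p ∧
      IsCyclic (Subgroup.centralizer (E : Set G)) ∧
      (∀ u ∈ Subgroup.centralizer (E : Set G), u ^ p = 1 → u ∈ Z) ∧
      (Subgroup.centralizer (E : Set G) ⊔ E = ⊤ ∨
        ∃ (z : G) (e : ℕ), z ∈ Subgroup.centralizer (N : Set G) ∧ orderOf z = p ^ (e + 2) ∧
          Subgroup.zpowers z ⊔ E = ⊤ ∧ x⁻¹ * z * x * z⁻¹ ∈ N ∧ x⁻¹ * z * x * z⁻¹ ∉ Z ∧
          z ^ p ^ (e + 1) ∈ Z) := by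
  have hpp : p.Prime := hp.out
  have hEnc : ¬ IsCyclic E := by
    intro hc
    have hcomm : IsMulCommutative E := IsCyclic.isMulCommutative
    have h1 := hrk E hcomm hEe
    rw [hEc] at h1
    have : p ^ 2 < p ^ 3 := Nat.pow_lt_pow_right hpp.one_lt (by norm_num)
    omega
  obtain ⟨N, hNE, hNn, hN, hNc⟩ := Cfsg.Agent.S0636.result hp2 hG E hEnc
  obtain ⟨Z, hZN, hZcen, hZc, hcomm⟩ := exists_central_sub hG N hNc
  have hNab : ∀ a ∈ N, ∀ b ∈ N, a * b = b * a := fun a ha b hb =>
    congrArg Subtype.val (hN.1.is_comm.comm (⟨a, ha⟩ : N) ⟨b, hb⟩)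
  set C : Subgroup G := Subgroup.centralizer (N : Set G) with hC
  have hCn : C.Normal := by rw [hC]; infer_instance
  have hNC : N ≤ C := by
    intro m hm
    rw [hC, Subgroup.mem_centralizer_iff]
    intro k hk
    exact hNab k hk m hm
  have hCN : ∀ x ∈ C, x ^ p = 1 → x ∈ N := by
    intro x hx hxp
    exact mem_of_centralizes hrk N hN hNc x hxp
      (fun m hm => ((Subgroup.mem_centralizer_iff.mp hx) m hm).symm)
  have hEC : ∀ e ∈ E, e ∈ C → e ∈ N := fun e he hc => hCN e hc (hEe e he)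
  obtain ⟨x, hxE, hxN⟩ : ∃ x ∈ E, x ∉ N := by
    by_contra hno
    push Not at hno
    have := Subgroup.card_le_of_le (show E ≤ N from hno)
    rw [hEc, hNc] at this
    have : p ^ 2 < p ^ 3 := Nat.pow_lt_pow_right hpp.one_lt (by norm_num)
    omega
  have hxC : x ∉ C := fun h => hxN (hEC x hxE h)
  have hxp : x ^ p = 1 := hEe x hxE
  have hx1 : x ≠ 1 := fun h => hxN (h ▸ N.one_mem)
  have hox : orderOf x = p := orderOf_eq_prime hxp hx1
  have hEeq : N ⊔ Subgroup.zpowers x = E := by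
    apply Subgroup.eq_of_le_of_card_ge (sup_le hNE (by rw [Subgroup.zpowers_le]; exact hxE))
    rw [card_sup_zpowers N x (Subgroup.le_normalizer_of_normal (Subgroup.mem_top x)) hxN hxp, hNc,
      hEc]
    exact le_of_eq (by ring)
  have hCidx : C.index = p := by
    rcases (Nat.dvd_prime hpp).mp (index_centralizer_dvd hG N hNc) with h | h
    · exfalso
      apply hxC
      have h' : C = ⊤ := Subgroup.index_eq_one.mp h
      rw [h']
      exact Subgroup.mem_top x
    · exact h
  -- the centralizer of E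
  set Q : Subgroup G := Subgroup.centralizer (E : Set G) with hQ
  have hQn : Q.Normal := by rw [hQ]; infer_instance
  have hQC : Q ≤ C := Subgroup.centralizer_le hNE
  have hQE : ∀ u ∈ Q, ∀ e ∈ E, e * u = u * e := fun u hu e he =>
    (Subgroup.mem_centralizer_iff.mp hu) e he
  have hQmem : ∀ u ∈ C, u * x = x * u → u ∈ Q := by
    intro u hu hux
    have hle : N ⊔ Subgroup.zpowers x ≤ Subgroup.centralizer {u} := by
      refine sup_le ?_ ?_
      · intro m hm
        rw [Subgroup.mem_centralizer_singleton_iff]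
        exact (Subgroup.mem_centralizer_iff.mp hu) m hm
      · rw [Subgroup.zpowers_le, Subgroup.mem_centralizer_singleton_iff]
        exact hux.symm
    rw [hEeq] at hle
    rw [hQ, Subgroup.mem_centralizer_iff]
    intro e he
    have := hle he
    rw [Subgroup.mem_centralizer_singleton_iff] at this
    exact this
  have hQZ : ∀ u ∈ Q, u ^ p = 1 → u ∈ Z := by
    intro u hu hup
    exact mem_Z_of_commute N Z hNc hZN hZcen hZc x hxC u (hCN u (hQC hu) hup)
      (hQE u hu x hxE).symm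
  have hZQ : Z ≤ Q := by
    intro u hu
    rw [hQ, Subgroup.mem_centralizer_iff]
    intro e _
    exact (Subgroup.mem_center_iff.mp (hZcen hu) e)
  have hQcyc : IsCyclic Q := isCyclic_of_order_p_in hp2 hG Q Z hZc hQZ
  -- the homomorphism
  have hκN : ∀ c ∈ C, c * x * c⁻¹ * x⁻¹ ∈ N := by
    intro c hc
    apply hEC
    · exact E.mul_mem (hEn.conj_mem x hxE c) (E.inv_mem hxE)
    · have h1 : x * c⁻¹ * x⁻¹ ∈ C := hCn.conj_mem c⁻¹ (C.inv_mem hc) x
      have h2 : c * x * c⁻¹ * x⁻¹ = c * (x * c⁻¹ * x⁻¹) := by group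
      rw [h2]
      exact C.mul_mem hc h1
  have hκZ : ∀ m ∈ N, m * x * m⁻¹ * x⁻¹ ∈ Z := by
    intro m hm
    have h1 := hcomm m⁻¹ (N.inv_mem hm) x
    rw [inv_inv] at h1
    have h2 := Subgroup.mem_center_iff.mp (hZcen h1) m
    have h3 : m * x * m⁻¹ * x⁻¹ = m * (x * m⁻¹ * x⁻¹ * m) * m⁻¹ := by group
    rw [h3, h2]
    have h4 : x * m⁻¹ * x⁻¹ * m * m * m⁻¹ = x * m⁻¹ * x⁻¹ * m := by group
    rw [h4]
    exact h1
  set φ := commHomN N hNab x hκN with hφ
  have hφ1 : ∀ c : C, φ c = 1 ↔ (c : G) * x = x * (c : G) := fun c =>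
    commHomN_eq_one_iff N hNab x hκN c
  have hker : φ.ker = Q.subgroupOf C := by
    ext c
    rw [MonoidHom.mem_ker, hφ1, Subgroup.mem_subgroupOf]
    constructor
    · intro h; exact hQmem c c.2 h
    · intro h; exact (hQE c h x hxE).symm
  have hcardker : Nat.card φ.ker = Nat.card Q := by
    rw [hker]; exact Nat.card_congr (Subgroup.subgroupOfEquivOfLe hQC).toEquiv
  have hcardC : Nat.card C = Nat.card Q * Nat.card φ.range := by
    have h1 := Subgroup.card_mul_index φ.ker
    rw [Subgroup.index_ker, hcardker] at h1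
    exact h1.symm
  have hGC : Nat.card G = Nat.card C * p := by
    have := Subgroup.card_mul_index C
    rw [hCidx] at this
    exact this.symm
  -- the range
  have hRdvd : Nat.card φ.range ∣ p ^ 2 := by
    rw [← hNc]; exact Subgroup.card_subgroup_dvd_card _
  have hR1 : Nat.card φ.range ≠ 1 := by
    intro h
    have hbot : φ.range = ⊥ := Subgroup.card_eq_one.mp h
    apply hxC
    rw [hC, Subgroup.mem_centralizer_iff]
    intro m hm
    have h1 : φ ⟨m, hNC hm⟩ ∈ φ.range := ⟨_, rfl⟩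
    rw [hbot, Subgroup.mem_bot, hφ1] at h1
    exact h1
  obtain ⟨y, hyN, hyZ⟩ : ∃ y ∈ N, y ∉ Z := by
    by_contra hno
    push Not at hno
    have := Subgroup.card_le_of_le (show N ≤ Z from hno)
    rw [hNc, hZc] at this
    have : p < p ^ 2 := by nlinarith [hpp.two_le]
    omega
  -- generator of Q
  obtain ⟨gq, hgq⟩ := hQcyc.exists_generator
  set q : G := (gq : G) with hq
  have hqQ : q ∈ Q := gq.2
  have hQq : ∀ u ∈ Q, u ∈ Subgroup.zpowers q := by
    intro u hu
    obtain ⟨k, hk⟩ := Subgroup.mem_zpowers_iff.mp (hgq ⟨u, hu⟩)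
    rw [Subgroup.mem_zpowers_iff]
    refine ⟨k, ?_⟩
    have := congrArg Subtype.val hk
    simpa using this
  have hoq : orderOf q = Nat.card Q := by
    rw [hq, Subgroup.orderOf_coe]
    exact orderOf_eq_card_of_forall_mem_zpowers hgq
  obtain ⟨e, he⟩ := (hG.to_subgroup Q).exists_card_eq
  have he0 : e ≠ 0 := by
    rintro rfl
    rw [pow_zero] at he
    have h1 := Subgroup.card_le_of_le hZQ
    rw [hZc, he] at h1
    have := hpp.two_le
    omega
  obtain ⟨e', rfl⟩ : ∃ e', e = e' + 1 := ⟨e - 1, by omega⟩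
  obtain ⟨n, hcard⟩ := hG.exists_card_eq
  obtain ⟨k, hk, hkR⟩ := (Nat.dvd_prime_pow hpp).mp hRdvd
  have hk0 : k ≠ 0 := by
    rintro rfl
    exact hR1 (by rw [hkR, pow_zero])
  refine ⟨N, Z, x, hNE, hNn, hN, hNc, hZN, hZcen, hZc, hcomm, hxE, hxC, hEeq, hCidx, hQcyc, hQZ,
    ?_⟩
  have hk12 : k = 1 ∨ k = 2 := by omega
  rcases hk12 with rfl | rfl
  · ------------------------------------------------------------------ first family
    left
    have hn : n = e' + 1 + 2 := by
      rw [hcard, hcardC, he, hkR] at hGC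
      have h1 : p ^ n = p ^ (e' + 1 + 2) := by rw [hGC]; ring
      exact Nat.pow_right_injective hpp.two_le h1
    subst hn
    apply Subgroup.eq_of_le_of_card_ge le_top
    have h1 := Cfsg.Agent.S3376.card_sup_mul_card_inf Q E
    have h2 : Nat.card (Q ⊓ E : Subgroup G) ≤ p := by
      rw [← hZc]
      apply Subgroup.card_le_of_le
      intro u hu
      exact hQZ u hu.1 (hEe u hu.2)
    rw [he, hEc] at h1
    rw [Subgroup.card_top, hcard]
    have hpos : 0 < Nat.card (Q ⊓ E : Subgroup G) := Nat.card_pos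
    have h3 : p ^ (e' + 1 + 2) * p =
        Nat.card (Q ⊔ E : Subgroup G) * Nat.card (Q ⊓ E : Subgroup G) := by
      rw [h1]; ring
    by_contra hlt
    push Not at hlt
    have h4 : Nat.card (Q ⊔ E : Subgroup G) * Nat.card (Q ⊓ E : Subgroup G) <
        p ^ (e' + 1 + 2) * p :=
      Nat.mul_lt_mul_of_lt_of_le hlt h2 hpp.pos
    omega
  · ------------------------------------------------------------------ second family
    right
    have hn : n = e' + 1 + 3 := by
      rw [hcard, hcardC, he, hkR] at hGC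
      have h1 : p ^ n = p ^ (e' + 1 + 3) := by rw [hGC]; ring
      exact Nat.pow_right_injective hpp.two_le h1
    subst hn
    -- φ is onto
    have hRtop : φ.range = ⊤ := by
      apply Subgroup.eq_of_le_of_card_ge le_top
      rw [Subgroup.card_top, hNc, hkR]
    obtain ⟨c, hc⟩ : ∃ c : C, φ c = ⟨y, hyN⟩ := by
      have : (⟨y, hyN⟩ : N) ∈ φ.range := by rw [hRtop]; exact Subgroup.mem_top _
      exact this
    have hcy : (c : G) * x * (c : G)⁻¹ * x⁻¹ = y := by
      have := congrArg Subtype.val hc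
      rwa [hφ, commHomN_apply] at this
    have hcpQ : (c : G) ^ p ∈ Q := by
      have h1 : φ (c ^ p) = 1 := by
        rw [map_pow, hc]
        apply Subtype.ext
        simpa using hN.2 y hyN
      have h2 := (hφ1 (c ^ p)).mp h1
      exact hQmem _ (c ^ p).2 (by simpa using h2)
    have hcq : (c : G) * q * (c : G)⁻¹ ∈ Subgroup.zpowers q :=
      hQq _ (hQn.conj_mem q hqQ c)
    have hgen : Subgroup.zpowers ((c : G) ^ p) = Subgroup.zpowers q := by
      rcases kill hp2 hG q (c : G) hcq (hQq _ hcpQ) with ⟨j, hj⟩ | h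
      · exfalso
        have hqjQ : q ^ j ∈ Q := Subgroup.pow_mem _ hqQ _
        have hdC : q ^ j * (c : G) ∈ C := C.mul_mem (hQC hqjQ) c.2
        have hdN : q ^ j * (c : G) ∈ N := hCN _ hdC hj
        have h1 := hκZ _ hdN
        have h2 : q ^ j * (c : G) * x * (q ^ j * (c : G))⁻¹ * x⁻¹ = y := by
          have h3 := hQE (q ^ j) hqjQ _ (hNE hyN)
          calc q ^ j * (c : G) * x * (q ^ j * (c : G))⁻¹ * x⁻¹
              = q ^ j * ((c : G) * x * (c : G)⁻¹ * x⁻¹) * (x * (q ^ j)⁻¹ * x⁻¹) := by group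
            _ = q ^ j * y * (x * (q ^ j)⁻¹ * x⁻¹) := by rw [hcy]
            _ = q ^ j * y * (q ^ j)⁻¹ := by
                have h4 := hQE (q ^ j) hqjQ x hxE
                have h5 : x * (q ^ j)⁻¹ * x⁻¹ = (q ^ j)⁻¹ := by
                  have : x * (q ^ j)⁻¹ * x⁻¹ = (q ^ j)⁻¹ * (q ^ j * x) * (q ^ j)⁻¹ * x⁻¹ := by group
                  rw [this, ← h4]; group
                rw [h5]
            _ = y := by rw [← h3]; group
        rw [h2] at h1
        exact hyZ h1
      · exact h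
    set z : G := (c : G) with hz
    have hzC : z ∈ C := c.2
    have hzpQ : z ^ p ∈ Q := hcpQ
    have hozp : orderOf (z ^ p) = p ^ (e' + 1) := by
      rw [← Nat.card_zpowers, hgen, Nat.card_zpowers, hoq, he]
    have hzpp : z ^ p ^ (e' + 1 + 1) = 1 := by
      rw [pow_succ' p (e' + 1), pow_mul, ← hozp, pow_orderOf_eq_one]
    have hoz : orderOf z = p ^ (e' + 1 + 1) := by
      obtain ⟨f, hf⟩ := (IsPGroup.iff_orderOf.mp hG) z
      have h1 := orderOf_pow (n := p) z
      rw [hozp, hf] at h1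
      rcases Nat.eq_zero_or_pos f with rfl | hfpos
      · rw [pow_zero, Nat.gcd_one_left, Nat.div_one] at h1
        have : 1 < p ^ (e' + 1) := Nat.one_lt_pow (by omega) hpp.one_lt
        omega
      · have hg : Nat.gcd (p ^ f) p = p := Nat.gcd_eq_right (dvd_pow_self p (by omega))
        rw [hg] at h1
        have h2 : p ^ f = p ^ (f - 1) * p := by
          rw [← pow_succ]; congr 1; omega
        rw [h2, Nat.mul_div_cancel _ hpp.pos] at h1
        have h3 := Nat.pow_right_injective hpp.two_le h1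
        rw [hf]; congr 1; omega
    set y₀ := x⁻¹ * z * x * z⁻¹ with hy₀
    have hy₀y : y₀ = x⁻¹ * y * x := by rw [hy₀, ← hcy]; group
    have hy₀N : y₀ ∈ N := by
      rw [hy₀y]
      have := hNn.conj_mem y hyN x⁻¹
      rwa [inv_inv] at this
    have hy₀Z : y₀ ∉ Z := by
      intro h
      apply hyZ
      have h1 := Subgroup.mem_center_iff.mp (hZcen h) x
      have h2 : y = x * y₀ * x⁻¹ := by rw [hy₀y]; group
      rw [h2, h1]
      have h3 : y₀ * x * x⁻¹ = y₀ := by group
      rw [h3]; exact h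
    set ω := z ^ (p ^ (e' + 1)) with hω
    have hωQ : ω ∈ Q := by
      rw [hω, pow_succ' p e', pow_mul]
      exact Subgroup.pow_mem _ hzpQ _
    have hωp : ω ^ p = 1 := by
      rw [hω, ← pow_mul, ← pow_succ]; exact hzpp
    refine ⟨z, e', hzC, hoz, ?_, hy₀N, hy₀Z, hQZ ω hωQ hωp⟩
    apply Subgroup.eq_of_le_of_card_ge le_top
    have h1 := Cfsg.Agent.S3376.card_sup_mul_card_inf (Subgroup.zpowers z) E
    have h2 : Nat.card (Subgroup.zpowers z ⊓ E : Subgroup G) ≤ p := by
      rw [← hZc]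
      apply Subgroup.card_le_of_le
      intro u hu
      have h5 := pow_mem_of_pow_eq_one hpp z (e' + 1) hoz u hu.1 (hEe u hu.2)
      have h6 : Subgroup.zpowers (z ^ p ^ (e' + 1)) ≤ Z := by
        rw [Subgroup.zpowers_le]
        exact hQZ ω hωQ hωp
      exact h6 h5
    rw [Nat.card_zpowers, hoz, hEc] at h1
    rw [Subgroup.card_top, hcard]
    have h3 : p ^ (e' + 1 + 3) * p = Nat.card (Subgroup.zpowers z ⊔ E : Subgroup G) *
        Nat.card (Subgroup.zpowers z ⊓ E : Subgroup G) := by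
      rw [h1]; ring
    by_contra hlt
    push Not at hlt
    have h4 : Nat.card (Subgroup.zpowers z ⊔ E : Subgroup G) *
        Nat.card (Subgroup.zpowers z ⊓ E : Subgroup G) < p ^ (e' + 1 + 3) * p :=
      Nat.mul_lt_mul_of_lt_of_le hlt h2 hpp.pos
    omega

end Cfsg.Agent.Helper24.Blk
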