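import Mathlib
import Cfsg.Agent.Lib.Helper24.BlkOp1

set_option autoImplicit false
set_option maxHeartbeats 1600000

/-!
# Automorphisms of the second Blackburn family: the character relations (helper24)
-/

namespace Cfsg.Agent.Helper24.Blk

open Cfsg

universe u

variable {G : Type u} [Group G]

/-- conjugating by a power when the commutator is central. -/
theorem conj_pow_central (x y w : G) (hw : ∀ g : G, g * w = w * g) (r2 : x⁻¹ * y * x = y * w)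
    (a : ℕ) : (x ^ a)⁻¹ * y * x ^ a = y * w ^ a := by
  induction a with
  | zero => simp
  | succ a ih =>
    have h1 : (x ^ (a + 1))⁻¹ * y * x ^ (a + 1) = x⁻¹ * ((x ^ a)⁻¹ * y * x ^ a) * x := by
      rw [pow_succ]; group
    rw [h1, ih]
    have h2 : x⁻¹ * (y * w ^ a) * x = (x⁻¹ * y * x) * (x⁻¹ * w ^ a * x) := by group
    have h3 : x⁻¹ * w ^ a * x = w ^ a := by
      have h4 : ∀ g : G, g * w ^ a = w ^ a * g := by
        intro g
        have : Commute g w := hw g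
        exact this.pow_right a
      rw [mul_assoc, ← h4 x, ← mul_assoc, inv_mul_cancel, one_mul]
    rw [h2, h3, r2, mul_assoc, ← pow_succ']

/-- natural exponents for members of cyclic subgroups of finite groups. -/
theorem exists_nat_pow [Finite G] (g h : G) (hh : h ∈ Subgroup.zpowers g) :
    ∃ k : ℕ, h = g ^ k := by
  rw [← mem_powers_iff_mem_zpowers] at hh
  obtain ⟨k, hk⟩ := hh
  exact ⟨k, hk.symm⟩

/-- an endomorphism stabilizing a subgroup of prime order acts on it as a power map. -/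
theorem zpow_action [Finite G] {p : ℕ} [hp : Fact p.Prime] (Z : Subgroup G)
    (hZc : Nat.card Z = p) (α : G →* G) (hα : ∀ u ∈ Z, α u ∈ Z) :
    ∃ ν : ℕ, ∀ u ∈ Z, α u = u ^ ν := by
  have hpp : p.Prime := hp.out
  obtain ⟨g, hg1⟩ : ∃ g : Z, g ≠ 1 := by
    have : Nontrivial Z := by
      rw [← Finite.one_lt_card_iff_nontrivial, hZc]
      exact hpp.one_lt
    exact exists_ne 1
  have hgen : ∀ u ∈ Z, u ∈ Subgroup.zpowers (g : G) := by
    intro u hu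
    have h1 : (⟨u, hu⟩ : Z) ∈ Subgroup.zpowers g := mem_zpowers_of_prime_card hZc hg1
    obtain ⟨k, hk⟩ := Subgroup.mem_zpowers_iff.mp h1
    rw [Subgroup.mem_zpowers_iff]
    refine ⟨k, ?_⟩
    have := congrArg Subtype.val hk
    simpa using this
  obtain ⟨ν, hν⟩ := exists_nat_pow (g : G) (α g) (hgen _ (hα _ g.2))
  refine ⟨ν, ?_⟩
  intro u hu
  obtain ⟨k, rfl⟩ := exists_nat_pow (g : G) u (hgen u hu)
  rw [map_pow, hν, ← pow_mul, ← pow_mul, mul_comm]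

/-- the third relation: the power map. -/
theorem rel_three {p : ℕ} (z n₁ : G) (hzn : z * n₁ = n₁ * z) (hn₁ : n₁ ^ p = 1) (α : G →* G)
    (lam : ℕ) (hαz : α z = z ^ lam * n₁) (e : ℕ) :
    α (z ^ p ^ (e + 1)) = (z ^ p ^ (e + 1)) ^ lam := by
  have hc : Commute (z ^ lam) n₁ := by
    have : Commute z n₁ := hzn
    exact this.pow_left lam
  rw [map_pow, hαz, hc.mul_pow, pow_succ' p e, pow_mul n₁, hn₁, one_pow, mul_one, ← pow_mul,
    ← pow_mul, mul_comm]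

/-- the second relation. -/
theorem rel_two (N : Subgroup G) (hNn : N.Normal) (hNab : ∀ a ∈ N, ∀ b ∈ N, a * b = b * a)
    (x y w n₀ ζ : G) (hw : ∀ g : G, g * w = w * g) (hζ : ∀ g : G, g * ζ = ζ * g)
    (r2 : x⁻¹ * y * x = y * w) (hyN : y ∈ N) (hζN : ζ ∈ N) (hn₀ : n₀ ∈ N)
    (α : G →* G) (χ μ : ℕ) (hαx : α x = x ^ χ * n₀) (hαy : α y = y ^ μ * ζ) :
    α w = w ^ (χ * μ) := by
  have hw_def : w = x⁻¹ * y * x * y⁻¹ := by rw [r2, hw y]; group
  have h1 : α w = (α x)⁻¹ * α y * α x * (α y)⁻¹ := by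
    conv_lhs => rw [hw_def]
    rw [map_mul, map_mul, map_mul, map_inv, map_inv]
  rw [h1, hαx, hαy]
  set Y := y ^ μ * ζ with hY
  have hYN : Y ∈ N := N.mul_mem (N.pow_mem hyN μ) hζN
  set Y' := (x ^ χ)⁻¹ * Y * x ^ χ with hY'
  have hY'N : Y' ∈ N := by
    have := hNn.conj_mem Y hYN (x ^ χ)⁻¹
    rwa [inv_inv] at this
  have h2 : (x ^ χ * n₀)⁻¹ * Y * (x ^ χ * n₀) * Y⁻¹ = n₀⁻¹ * Y' * n₀ * Y⁻¹ := by
    rw [hY']; group
  have h3 : n₀⁻¹ * Y' * n₀ = Y' := by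
    rw [mul_assoc, ← hNab n₀ hn₀ Y' hY'N, ← mul_assoc, inv_mul_cancel, one_mul]
  rw [h2, h3]
  have hwa : ∀ (a : ℕ) (g : G), g * w ^ a = w ^ a * g := by
    intro a g
    have : Commute g w := hw g
    exact this.pow_right a
  have h4 : Y' = y ^ μ * (w ^ χ) ^ μ * ζ := by
    have h5 : Y' = ((x ^ χ)⁻¹ * y * x ^ χ) ^ μ * ((x ^ χ)⁻¹ * ζ * x ^ χ) := by
      have h6 : ((x ^ χ)⁻¹ * y * x ^ χ) ^ μ = (x ^ χ)⁻¹ * y ^ μ * x ^ χ := by
        have := conj_pow (a := (x ^ χ)⁻¹) (b := y) (i := μ)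
        rw [inv_inv] at this
        exact this
      rw [h6, hY', hY]; group
    have h7 : (x ^ χ)⁻¹ * ζ * x ^ χ = ζ := by
      rw [mul_assoc, ← hζ (x ^ χ), ← mul_assoc, inv_mul_cancel, one_mul]
    have h8 : Commute y (w ^ χ) := hwa χ y
    rw [h5, h7, conj_pow_central x y w hw r2 χ, h8.mul_pow]
  rw [h4, hY]
  have h9 : y ^ μ * (w ^ χ) ^ μ * ζ * (y ^ μ * ζ)⁻¹ = y ^ μ * (w ^ χ) ^ μ * (y ^ μ)⁻¹ := by group
  rw [h9, ← pow_mul, hwa (χ * μ) (y ^ μ), mul_assoc, mul_inv_cancel, mul_one]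

/-- the first relation. -/
theorem rel_one (N Z : Subgroup G) (hNn : N.Normal) (hNab : ∀ a ∈ N, ∀ b ∈ N, a * b = b * a)
    (hZcen : Z ≤ Subgroup.center G)
    (hcomm : ∀ n ∈ N, ∀ g : G, g * n * g⁻¹ * n⁻¹ ∈ Z)
    (x y z w n₀ n₁ : G) (hwZ : w ∈ Z) (r1 : x⁻¹ * z * x = y * z)
    (r2 : x⁻¹ * y * x = y * w) (hyN : y ∈ N) (hn₀ : n₀ ∈ N) (hn₁ : n₁ ∈ N)
    (hzC : z ∈ Subgroup.centralizer (N : Set G))
    (α : G →* G) (χ lam : ℕ) (hαx : α x = x ^ χ * n₀) (hαz : α z = z ^ lam * n₁) :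
    ∃ ζ' ∈ Z, α y = y ^ (χ * lam) * ζ' := by
  have hw : ∀ g : G, g * w = w * g := fun g => Subgroup.mem_center_iff.mp (hZcen hwZ) g
  have hwa : ∀ (a : ℕ) (g : G), g * w ^ a = w ^ a * g := by
    intro a g
    have : Commute g w := hw g
    exact this.pow_right a
  have hy_def : y = x⁻¹ * z * x * z⁻¹ := by rw [r1]; group
  have h1 : α y = (α x)⁻¹ * α z * α x * (α z)⁻¹ := by
    conv_lhs => rw [hy_def]
    rw [map_mul, map_mul, map_mul, map_inv, map_inv]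
  have hCn : (Subgroup.centralizer (N : Set G)).Normal := inferInstance
  set C := Subgroup.centralizer (N : Set G) with hC
  have hCm : ∀ c ∈ C, ∀ n ∈ N, n * c = c * n := fun c hc n hn =>
    (Subgroup.mem_centralizer_iff.mp hc) n hn
  have hNC : N ≤ C := by
    intro m hm
    rw [hC, Subgroup.mem_centralizer_iff]
    intro k hk
    exact hNab k hk m hm
  set T := z ^ lam * n₁ with hT
  have hTC : T ∈ C := C.mul_mem (C.pow_mem hzC lam) (hNC hn₁)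
  set T' := (x ^ χ)⁻¹ * T * x ^ χ with hT'
  have hT'C : T' ∈ C := by
    have := hCn.conj_mem T hTC (x ^ χ)⁻¹
    rwa [inv_inv] at this
  have h2 : (x ^ χ * n₀)⁻¹ * T * (x ^ χ * n₀) * T⁻¹ = n₀⁻¹ * T' * n₀ * T⁻¹ := by
    rw [hT']; group
  have h3 : n₀⁻¹ * T' * n₀ = T' := by
    rw [mul_assoc, ← hCm T' hT'C n₀ hn₀, ← mul_assoc, inv_mul_cancel, one_mul]
  -- the conjugate of z
  have r3 : x⁻¹ * w * x = w := by
    rw [mul_assoc, ← hw x, ← mul_assoc, inv_mul_cancel, one_mul]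
  obtain ⟨R1, -⟩ := rescale x y z w r1 r2 r3 (hw y) χ
  set y' := y ^ χ * w ^ (χ.choose 2) with hy'
  have hy'N : y' ∈ N :=
    N.mul_mem (N.pow_mem hyN χ) (N.pow_mem (by
      have h := hcomm y hyN x⁻¹
      rw [inv_inv, r2] at h
      have h' : y * w * y⁻¹ = w := by rw [hw y]; group
      -- w ∈ Z, but is Z ≤ N? use w = x⁻¹ y x y⁻¹ ∈ N directly
      have h'' : w = (x⁻¹ * y * x) * y⁻¹ := by rw [r2, hw y]; group
      rw [h'']
      have h3 := hNn.conj_mem y hyN x⁻¹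
      rw [inv_inv] at h3
      exact N.mul_mem h3 (N.inv_mem hyN)) _)
  set k₁ := (x ^ χ)⁻¹ * n₁ * ((x ^ χ)⁻¹)⁻¹ * n₁⁻¹ with hk₁
  have hk₁Z : k₁ ∈ Z := hcomm n₁ hn₁ (x ^ χ)⁻¹
  have hk₁c : ∀ g : G, g * k₁ = k₁ * g := fun g => Subgroup.mem_center_iff.mp (hZcen hk₁Z) g
  have h4 : T' = (y' * z) ^ lam * (k₁ * n₁) := by
    have h6 : ((x ^ χ)⁻¹ * z * x ^ χ) ^ lam = (x ^ χ)⁻¹ * z ^ lam * x ^ χ := by
      have := conj_pow (a := (x ^ χ)⁻¹) (b := z) (i := lam)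
      rw [inv_inv] at this
      exact this
    rw [← R1, h6, hT', hT, hk₁]; group
  have h5 : Commute y' z := hCm z hzC y' hy'N
  have h7 : Commute (y ^ χ) (w ^ (χ.choose 2)) := hwa _ _
  refine ⟨(w ^ (χ.choose 2)) ^ lam * k₁, Z.mul_mem (Z.pow_mem (Z.pow_mem hwZ _) _) hk₁Z, ?_⟩
  rw [h1, hαx, hαz, h2, h3, h4, h5.mul_pow, hy', h7.mul_pow, ← pow_mul]
  have h8 : y ^ (χ * lam) * (w ^ χ.choose 2) ^ lam * z ^ lam * (k₁ * n₁) * (z ^ lam * n₁)⁻¹ =
      y ^ (χ * lam) * (w ^ χ.choose 2) ^ lam * (z ^ lam * k₁) * (z ^ lam)⁻¹ := by group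
  rw [h8, hk₁c (z ^ lam)]
  group

end Cfsg.Agent.Helper24.Blk
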