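import Mathlib
import Cfsg.Agent.Lib.Helper24.BlkOp2

set_option autoImplicit false
set_option maxHeartbeats 1600000

/-!
# Automorphisms of odd order of the second Blackburn family (helper24)
-/

namespace Cfsg.Agent.Helper24.Blk

open Cfsg

universe u

variable {G : Type u} [Group G]

/-- a subgroup of the centre is normal. -/
theorem normal_of_le_center' (Z : Subgroup G) (hZcen : Z ≤ Subgroup.center G) : Z.Normal := by
  refine ⟨fun n hn g => ?_⟩
  have h := Subgroup.mem_center_iff.mp (hZcen hn) g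
  have : g * n * g⁻¹ = n := by rw [h, mul_assoc, mul_inv_cancel, mul_one]
  rw [this]; exact hn

/-- exponents from equal powers. -/
theorem modEq_of_pow_eq {p : ℕ} [hp : Fact p.Prime] (hpp : p.Prime) (g : G) (hg1 : g ≠ 1) (hgp : g ^ p = 1)
    (a b : ℕ) (h : g ^ a = g ^ b) : a ≡ b [MOD p] := by
  have ho : orderOf g = p := orderOf_eq_prime hgp hg1
  rw [← ho]
  exact pow_eq_pow_iff_modEq.mp h

/-- the action of an automorphism of the second family on `E / N` squares to the identity. -/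
theorem typeC_sq [Finite G] {p : ℕ} [hp : Fact p.Prime]
    (N Z : Subgroup G) (hNn : N.Normal) (hN : IsElementaryAbelian p N) (hNc : Nat.card N = p ^ 2)
    (hZN : Z ≤ N) (hZcen : Z ≤ Subgroup.center G) (hZc : Nat.card Z = p)
    (hcomm : ∀ n ∈ N, ∀ g : G, g * n * g⁻¹ * n⁻¹ ∈ Z)
    (x z : G) (e : ℕ) (hxC : x ∉ Subgroup.centralizer (N : Set G))
    (hzC : z ∈ Subgroup.centralizer (N : Set G)) (hoz : orderOf z = p ^ (e + 2))
    (hy₀N : x⁻¹ * z * x * z⁻¹ ∈ N) (hy₀Z : x⁻¹ * z * x * z⁻¹ ∉ Z) (hωZ : z ^ p ^ (e + 1) ∈ Z)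
    (α : G →* G) (hαinj : Function.Injective α) (hαN : ∀ n ∈ N, α n ∈ N)
    (hαZ : ∀ u ∈ Z, α u ∈ Z)
    (χ : ℕ) (n₀ : G) (hn₀ : n₀ ∈ N) (hαx : α x = x ^ χ * n₀)
    (lam : ℕ) (n₁ : G) (hn₁ : n₁ ∈ N) (hαz : α z = z ^ lam * n₁) :
    χ * χ ≡ 1 [MOD p] := by
  have hpp : p.Prime := hp.out
  have hNab : ∀ a ∈ N, ∀ b ∈ N, a * b = b * a := fun a ha b hb =>
    congrArg Subtype.val (hN.1.is_comm.comm (⟨a, ha⟩ : N) ⟨b, hb⟩)
  have hZn : Z.Normal := normal_of_le_center' Z hZcen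
  set y := x⁻¹ * z * x * z⁻¹ with hy
  have r1 : x⁻¹ * z * x = y * z := by rw [hy]; group
  set w := x⁻¹ * y * x * y⁻¹ with hw_def
  have hwZ : w ∈ Z := by
    have := hcomm y hy₀N x⁻¹
    rwa [inv_inv] at this
  have hw : ∀ g : G, g * w = w * g := fun g => Subgroup.mem_center_iff.mp (hZcen hwZ) g
  have r2 : x⁻¹ * y * x = y * w := by
    have : x⁻¹ * y * x = w * y := by rw [hw_def]; group
    rw [this, hw y]
  have hw1 : w ≠ 1 := by
    intro h
    apply hy₀Z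
    apply mem_Z_of_commute N Z hNc hZN hZcen hZc x hxC y hy₀N
    have h1 : x⁻¹ * y * x = y := by rw [r2, h, mul_one]
    have h2 : y * x = x * (x⁻¹ * y * x) := by group
    rw [h2, h1]
  have hwp : w ^ p = 1 := hN.2 w (hZN hwZ)
  -- the action on N
  have hNeq : Subgroup.zpowers y ⊔ Z = N := by
    rw [sup_comm]
    exact Cfsg.Agent.S1453.sup_zpowers_eq hpp hZN hZc hNc hy₀N hy₀Z
  obtain ⟨μ, ζ, hζZ, hαy⟩ : ∃ (μ : ℕ) (ζ : G), ζ ∈ Z ∧ α y = y ^ μ * ζ := by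
    have h1 : α y ∈ ((Subgroup.zpowers y ⊔ Z : Subgroup G) : Set G) := by
      rw [hNeq]; exact hαN y hy₀N
    rw [Subgroup.mul_normal, Set.mem_mul] at h1
    obtain ⟨h, hh, ζ, hζ, hprod⟩ := h1
    obtain ⟨μ, rfl⟩ := exists_nat_pow y h hh
    exact ⟨μ, ζ, hζ, hprod.symm⟩
  have hζ : ∀ g : G, g * ζ = ζ * g := fun g => Subgroup.mem_center_iff.mp (hZcen hζZ) g
  obtain ⟨ν, hν⟩ := zpow_action Z hZc α hαZ
  -- second relation
  have R2 : ν ≡ χ * μ [MOD p] := by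
    have h1 := rel_two N hNn hNab x y w n₀ ζ hw hζ r2 hy₀N (hZN hζZ) hn₀ α χ μ hαx hαy
    rw [hν w hwZ] at h1
    exact modEq_of_pow_eq hpp w hw1 hwp _ _ h1
  -- third relation
  set ω := z ^ p ^ (e + 1) with hω
  have hω1 : ω ≠ 1 := by
    intro h
    have h1 : orderOf z ∣ p ^ (e + 1) := orderOf_dvd_of_pow_eq_one h
    rw [hoz, Nat.pow_dvd_pow_iff_le_right hpp.one_lt] at h1
    omega
  have hωp : ω ^ p = 1 := hN.2 ω (hZN hωZ)
  have R3 : ν ≡ lam [MOD p] := by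
    have hzn : z * n₁ = n₁ * z := ((Subgroup.mem_centralizer_iff.mp hzC) n₁ hn₁).symm
    have h1 := rel_three z n₁ hzn (hN.2 n₁ hn₁) α lam hαz e
    rw [hν ω hωZ] at h1
    exact modEq_of_pow_eq hpp ω hω1 hωp _ _ h1
  -- first relation
  have R1 : μ ≡ χ * lam [MOD p] := by
    obtain ⟨ζ', hζ'Z, h1⟩ := rel_one N Z hNn hNab hZcen hcomm x y z w n₀ n₁ hwZ r1 r2 hy₀N hn₀ hn₁
      hzC α χ lam hαx hαz
    rw [hαy] at h1
    have h2 : (QuotientGroup.mk' Z y) ^ μ = (QuotientGroup.mk' Z y) ^ (χ * lam) := by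
      have h3 := congrArg (QuotientGroup.mk' Z) h1
      rw [map_mul, map_mul, map_pow, map_pow] at h3
      have h4 : QuotientGroup.mk' Z ζ = 1 := (QuotientGroup.eq_one_iff ζ).mpr hζZ
      have h5 : QuotientGroup.mk' Z ζ' = 1 := (QuotientGroup.eq_one_iff ζ').mpr hζ'Z
      rw [h4, h5, mul_one, mul_one] at h3
      exact h3
    have hy1 : QuotientGroup.mk' Z y ≠ 1 := by
      intro h
      exact hy₀Z ((QuotientGroup.eq_one_iff y).mp h)
    have hyp : (QuotientGroup.mk' Z y) ^ p = 1 := by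
      rw [← map_pow, hN.2 y hy₀N, map_one]
    exact modEq_of_pow_eq hpp _ hy1 hyp _ _ h2
  -- ν is a unit
  have hν0 : ¬ p ∣ ν := by
    rintro ⟨t, rfl⟩
    have h1 := hν w hwZ
    rw [pow_mul, hwp, one_pow] at h1
    apply hw1
    apply hαinj
    rw [h1, map_one]
  -- combine
  have h1 : ((ν : ℕ) : ZMod p) = ((χ * μ : ℕ) : ZMod p) :=
    (ZMod.natCast_eq_natCast_iff _ _ _).mpr R2
  have h2 : ((ν : ℕ) : ZMod p) = ((lam : ℕ) : ZMod p) :=
    (ZMod.natCast_eq_natCast_iff _ _ _).mpr R3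
  have h3 : ((μ : ℕ) : ZMod p) = ((χ * lam : ℕ) : ZMod p) :=
    (ZMod.natCast_eq_natCast_iff _ _ _).mpr R1
  have h4 : ((ν : ℕ) : ZMod p) ≠ 0 := by
    intro h
    rw [ZMod.natCast_eq_zero_iff] at h
    exact hν0 h
  rw [← ZMod.natCast_eq_natCast_iff]
  push_cast at h1 h3 ⊢
  have key : (ν : ZMod p) = χ * (χ * ν) := by
    calc (ν : ZMod p) = χ * μ := h1
      _ = χ * (χ * lam) := by rw [h3]
      _ = χ * (χ * ν) := by rw [h2]
  have h5 : ((χ : ZMod p) * χ - 1) * (ν : ZMod p) = 0 := by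
    linear_combination (-1 : ZMod p) * key
  rcases mul_eq_zero.mp h5 with h | h
  · exact sub_eq_zero.mp h
  · exact absurd h h4

end Cfsg.Agent.Helper24.Blk
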