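import Mathlib
import Cfsg.Agent.Lib.Helper24.BlkOp3

set_option autoImplicit false
set_option maxHeartbeats 1600000

/-!
# Rank two `p`-groups with `P = [P, Γ]` for a group `Γ` of automorphisms of odd order (helper24)
-/

namespace Cfsg.Agent.Helper24.Blk

open Cfsg

open scoped commutatorElement

universe u

variable {P : Type u} [Group P]

/-- the elements of `E` that are central modulo `Z`. -/
def centMod (E Z : Subgroup P) (hZcen : Z ≤ Subgroup.center P) : Subgroup P where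
  carrier := {e | e ∈ E ∧ ∀ g : P, g * e * g⁻¹ * e⁻¹ ∈ Z}
  one_mem' := ⟨E.one_mem, fun g => by simp [Z.one_mem]⟩
  mul_mem' := by
    rintro a b ⟨haE, ha⟩ ⟨hbE, hb⟩
    refine ⟨E.mul_mem haE hbE, fun g => ?_⟩
    have h1 := Subgroup.mem_center_iff.mp (hZcen (hb g)) a
    have h2 : g * (a * b) * g⁻¹ * (a * b)⁻¹ =
        (g * a * g⁻¹ * a⁻¹) * (a * (g * b * g⁻¹ * b⁻¹)) * a⁻¹ := by group
    rw [h2, h1]
    have h3 : g * a * g⁻¹ * a⁻¹ * (g * b * g⁻¹ * b⁻¹ * a) * a⁻¹ =
        (g * a * g⁻¹ * a⁻¹) * (g * b * g⁻¹ * b⁻¹) := by group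
    rw [h3]
    exact Z.mul_mem (ha g) (hb g)
  inv_mem' := by
    rintro a ⟨haE, ha⟩
    refine ⟨E.inv_mem haE, fun g => ?_⟩
    have h1 := Subgroup.mem_center_iff.mp (hZcen (ha g)) a⁻¹
    have h2 : g * a⁻¹ * g⁻¹ * a⁻¹⁻¹ = (a⁻¹ * (g * a * g⁻¹ * a⁻¹) * a)⁻¹ := by group
    rw [h2, h1]
    have h3 : g * a * g⁻¹ * a⁻¹ * a⁻¹ * a = g * a * g⁻¹ * a⁻¹ := by group
    rw [h3]
    exact Z.inv_mem (ha g)

theorem mem_centMod (E Z : Subgroup P) (hZcen : Z ≤ Subgroup.center P) (e : P) :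
    e ∈ centMod E Z hZcen ↔ e ∈ E ∧ ∀ g : P, g * e * g⁻¹ * e⁻¹ ∈ Z := Iff.rfl

/-- the main structure theorem. -/
theorem op_structure [Finite P] {p : ℕ} [hp : Fact p.Prime] (hp3 : 3 < p)
    (hP : IsPGroup p P) (hrk : PRankLE p 2 P) (hE : HasE p P)
    (Γ : Set (MulAut P)) (hΓ : ∀ α ∈ Γ, Odd (orderOf α))
    (hNT : ∀ K : Subgroup P, K.Normal → (∀ α ∈ Γ, ∀ r : P, α r * r⁻¹ ∈ K) → K = ⊤) :
    ∃ E Q Z : Subgroup P, E ⊔ Q = ⊤ ∧ (∀ a ∈ E, ∀ b ∈ Q, a * b = b * a) ∧
      (∃ a ∈ E, ∃ b ∈ E, a * b ≠ b * a) ∧ Nat.card E = p ^ 3 ∧ (∀ e ∈ E, e ^ p = 1) ∧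
      IsCyclic Q ∧ (∀ u, u ∈ Z ↔ u ∈ Q ∧ u ^ p = 1) ∧ ⁅E, E⁆ = Z := by
  have hpp : p.Prime := hp.out
  have hp2 : p ≠ 2 := by omega
  obtain ⟨E, hEn, hEc, hEe⟩ := hE
  have hΩ : ∀ g : P, g ^ p = 1 → g ∈ E := omega_mem hp3 hP hrk E hEn hEc hEe
  obtain ⟨N, Z, x, hNE, hNn, hN, hNc, hZN, hZcen, hZc, hcomm, hxE, hxC, hEeq, hCidx, hQcyc, hQZ,
    hcases⟩ := hasE_data hp2 hP hrk E hEn hEc hEe
  have hNab : ∀ a ∈ N, ∀ b ∈ N, a * b = b * a := fun a ha b hb =>
    congrArg Subtype.val (hN.1.is_comm.comm (⟨a, ha⟩ : N) ⟨b, hb⟩)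
  set C : Subgroup P := Subgroup.centralizer (N : Set P) with hC
  set Q : Subgroup P := Subgroup.centralizer (E : Set P) with hQ
  have hCn : C.Normal := by rw [hC]; infer_instance
  have hNC : N ≤ C := by
    intro m hm
    rw [hC, Subgroup.mem_centralizer_iff]
    intro k hk
    exact hNab k hk m hm
  have hxp : x ^ p = 1 := hEe x hxE
  have hxN : x ∉ N := fun h => hxC (hNC h)
  have hx1 : x ≠ 1 := fun h => hxN (h ▸ N.one_mem)
  have hox : orderOf x = p := orderOf_eq_prime hxp hx1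
  have hZQ : Z ≤ Q := by
    intro u hu
    rw [hQ, Subgroup.mem_centralizer_iff]
    intro e _
    exact (Subgroup.mem_center_iff.mp (hZcen hu) e)
  have hEeq' : Subgroup.zpowers x ⊔ N = E := by rw [sup_comm]; exact hEeq
  have hdecE : ∀ a ∈ E, ∃ (i : ℕ) (n : P), n ∈ N ∧ a = x ^ i * n := by
    intro a ha
    have h1 : a ∈ ((Subgroup.zpowers x ⊔ N : Subgroup P) : Set P) := by rw [hEeq']; exact ha
    rw [Subgroup.mul_normal, Set.mem_mul] at h1
    obtain ⟨h, hh, n, hn, hprod⟩ := h1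
    obtain ⟨i, rfl⟩ := exists_nat_pow x h hh
    exact ⟨i, n, hn, hprod.symm⟩
  -- E is not abelian
  have hEnab : ∃ a ∈ E, ∃ b ∈ E, a * b ≠ b * a := by
    by_contra hno
    push Not at hno
    have hcomm' : IsMulCommutative E := ⟨⟨fun a b => Subtype.ext (hno a a.2 b b.2)⟩⟩
    have h1 := hrk E hcomm' hEe
    rw [hEc] at h1
    have : p ^ 2 < p ^ 3 := Nat.pow_lt_pow_right hpp.one_lt (by norm_num)
    omega
  -- the commutator subgroup of E
  have hZn : Z.Normal := normal_of_le_center' Z hZcen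
  have hcommE : ⁅E, E⁆ = Z := by
    have hle : ⁅E, E⁆ ≤ Z := by
      rw [Subgroup.commutator_le]
      intro a ha b hb
      obtain ⟨i, n, hn, rfl⟩ := hdecE a ha
      obtain ⟨j, m, hm, rfl⟩ := hdecE b hb
      rw [← QuotientGroup.eq_one_iff, commutatorElement_def]
      have hcen : ∀ k ∈ N, ∀ g : P,
          (QuotientGroup.mk (s := Z) g) * (QuotientGroup.mk (s := Z) k) =
          (QuotientGroup.mk (s := Z) k) * (QuotientGroup.mk (s := Z) g) := by
        intro k hk g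
        have h1 := hcomm k hk g
        rw [← QuotientGroup.eq_one_iff] at h1
        simp only [QuotientGroup.mk_mul, QuotientGroup.mk_inv] at h1
        have h2 : (QuotientGroup.mk (s := Z) g) * (QuotientGroup.mk (s := Z) k) =
          ((QuotientGroup.mk (s := Z) g) * (QuotientGroup.mk (s := Z) k) *
            (QuotientGroup.mk (s := Z) g)⁻¹ * (QuotientGroup.mk (s := Z) k)⁻¹) *
            ((QuotientGroup.mk (s := Z) k) * (QuotientGroup.mk (s := Z) g)) := by group
        rw [h2, h1, one_mul]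
      simp only [QuotientGroup.mk_mul, QuotientGroup.mk_inv, QuotientGroup.mk_pow]
      set X := (QuotientGroup.mk (s := Z) x) with hX
      set n' := (QuotientGroup.mk (s := Z) n) with hn'
      set m' := (QuotientGroup.mk (s := Z) m) with hm'
      have c1 : ∀ g, g * n' = n' * g := by
        intro g
        obtain ⟨g, rfl⟩ := QuotientGroup.mk_surjective g
        exact hcen n hn g
      have c2 : ∀ g, g * m' = m' * g := by
        intro g
        obtain ⟨g, rfl⟩ := QuotientGroup.mk_surjective g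
        exact hcen m hm g
      have e1 : X ^ i * n' * (X ^ j * m') = X ^ (i + j) * (n' * m') := by
        rw [pow_add, mul_assoc, ← mul_assoc n', ← c1 (X ^ j)]; group
      have e2 : X ^ j * m' * (X ^ i * n') = X ^ (i + j) * (n' * m') := by
        rw [add_comm, pow_add, mul_assoc, ← mul_assoc m', ← c2 (X ^ i), ← c1 m']; group
      have e3 : X ^ i * n' * (X ^ j * m') * (X ^ i * n')⁻¹ * (X ^ j * m')⁻¹ =
          (X ^ i * n' * (X ^ j * m')) * (X ^ j * m' * (X ^ i * n'))⁻¹ := by group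
      rw [e3, e1, e2, mul_inv_cancel]
    have hne : ⁅E, E⁆ ≠ ⊥ := by
      intro h
      obtain ⟨a, ha, b, hb, hab⟩ := hEnab
      apply hab
      have h1 : ⁅a, b⁆ ∈ ⁅E, E⁆ := Subgroup.commutator_mem_commutator ha hb
      rw [h, Subgroup.mem_bot, commutatorElement_eq_one_iff_mul_comm] at h1
      exact h1
    apply Subgroup.eq_of_le_of_card_ge hle
    have h1 : Nat.card (⁅E, E⁆ : Subgroup P) ∣ p := by
      rw [← hZc]; exact Subgroup.card_dvd_of_le hle
    rcases (Nat.dvd_prime hpp).mp h1 with h | h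
    · exact absurd (Subgroup.card_eq_one.mp h) hne
    · rw [h, hZc]
  have hZiff : ∀ u, u ∈ Z ↔ u ∈ Q ∧ u ^ p = 1 := by
    intro u
    constructor
    · intro hu; exact ⟨hZQ hu, hN.2 u (hZN hu)⟩
    · rintro ⟨hu, hup⟩; exact hQZ u hu hup
  have hEQcomm : ∀ a ∈ E, ∀ b ∈ Q, a * b = b * a := fun a ha b hb =>
    (Subgroup.mem_centralizer_iff.mp hb) a ha
  rcases hcases with hb | ⟨z, e, hzC, hoz, hsup, hy₀N, hy₀Z, hωZ⟩
  · exact ⟨E, Q, Z, by rw [sup_comm]; exact hb, hEQcomm, hEnab, hEc, hEe, hQcyc, hZiff, hcommE⟩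
  · exfalso
    -- invariance under all automorphisms
    have hβE : ∀ β : MulAut P, ∀ g ∈ E, β g ∈ E := by
      intro β g hg
      apply hΩ
      rw [← map_pow, hEe g hg, map_one]
    have hβQ : ∀ β : MulAut P, ∀ u ∈ Q, β u ∈ Q := by
      intro β u hu
      rw [hQ, Subgroup.mem_centralizer_iff]
      intro e' he'
      have h1 : β⁻¹ e' ∈ E := hβE β⁻¹ e' he'
      have h2 := hEQcomm _ h1 u hu
      have h3 := congrArg β h2
      rw [map_mul, map_mul, MulAut.apply_inv_self] at h3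
      exact h3
    have hβZ : ∀ β : MulAut P, ∀ u ∈ Z, β u ∈ Z := by
      intro β u hu
      apply hQZ _ (hβQ β u (hZQ hu))
      rw [← map_pow, hN.2 u (hZN hu), map_one]
    -- N is characteristic
    have hMN : centMod E Z hZcen = N := by
      have hNM : N ≤ centMod E Z hZcen := fun n hn => ⟨hNE hn, hcomm n hn⟩
      have hME : centMod E Z hZcen ≤ E := fun m hm => hm.1
      have hxM : x ∉ centMod E Z hZcen := by
        intro hx
        have h1 := (Subgroup.inv_mem _ hx).2 z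
        apply hy₀Z
        have h2 : x⁻¹ * z * x * z⁻¹ = (z * x⁻¹ * z⁻¹ * x⁻¹⁻¹)⁻¹ := by group
        rw [h2]
        exact Z.inv_mem h1
      have h1 : Nat.card (centMod E Z hZcen) ∣ p ^ 3 := by
        rw [← hEc]; exact Subgroup.card_dvd_of_le hME
      have h2 : p ^ 2 ∣ Nat.card (centMod E Z hZcen) := by
        rw [← hNc]; exact Subgroup.card_dvd_of_le hNM
      obtain ⟨k, hk, hkc⟩ := (Nat.dvd_prime_pow hpp).mp h1
      rw [hkc, Nat.pow_dvd_pow_iff_le_right hpp.one_lt] at h2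
      have hk3 : k ≠ 3 := by
        rintro rfl
        apply hxM
        have : centMod E Z hZcen = E :=
          Subgroup.eq_of_le_of_card_ge hME (by rw [hkc, hEc])
        rw [this]; exact hxE
      have hk2 : k = 2 := by omega
      exact (Subgroup.eq_of_le_of_card_ge hNM (by rw [hkc, hk2, hNc])).symm
    have hβN : ∀ β : MulAut P, ∀ n ∈ N, β n ∈ N := by
      intro β n hn
      rw [← hMN, mem_centMod]
      refine ⟨hβE β n (hNE hn), fun g => ?_⟩
      have h1 := hβZ β _ (hcomm n hn (β⁻¹ g))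
      rw [map_mul, map_mul, map_mul, map_inv, map_inv, MulAut.apply_inv_self] at h1
      exact h1
    have hβC : ∀ β : MulAut P, ∀ c ∈ C, β c ∈ C := by
      intro β c hc
      rw [hC, Subgroup.mem_centralizer_iff]
      intro n hn
      have h1 : β⁻¹ n ∈ N := hβN β⁻¹ n hn
      have h2 := (Subgroup.mem_centralizer_iff.mp hc) _ h1
      have h3 := congrArg β h2
      rw [map_mul, map_mul, MulAut.apply_inv_self] at h3
      exact h3
    -- all of Γ acts trivially on P / C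
    have hxCtop : C ≠ ⊤ := fun h => hxC (by rw [h]; exact Subgroup.mem_top x)
    apply hxCtop
    apply hNT C hCn
    intro α hα r
    -- the shape of α x and α z
    obtain ⟨χ, n₀, hn₀, hαx⟩ := hdecE (α x) (hβE α x hxE)
    obtain ⟨lam, n₁, hn₁, hαz⟩ : ∃ (lam : ℕ) (n₁ : P), n₁ ∈ N ∧ α z = z ^ lam * n₁ := by
      have h1 : α z ∈ ((Subgroup.zpowers z ⊔ E : Subgroup P) : Set P) := by
        rw [hsup]; exact Subgroup.mem_top _
      rw [Subgroup.mul_normal, Set.mem_mul] at h1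
      obtain ⟨h, hh, e', he', hprod⟩ := h1
      obtain ⟨i, rfl⟩ := exists_nat_pow z h hh
      obtain ⟨j, n, hn, rfl⟩ := hdecE e' he'
      have hxj : x ^ j ∈ C := by
        have h2 : x ^ j = (z ^ i)⁻¹ * α z * n⁻¹ := by rw [← hprod]; group
        rw [h2]
        exact C.mul_mem (C.mul_mem (C.inv_mem (C.pow_mem hzC i)) (hβC α z hzC))
          (C.inv_mem (hNC hn))
      have hxj1 : x ^ j = 1 := by
        by_cases hpj : p ∣ j
        · obtain ⟨t, rfl⟩ := hpj
          rw [pow_mul, hxp, one_pow]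
        · exfalso
          have hcop : j.Coprime (orderOf x) := by
            rw [hox]; exact ((Nat.Prime.coprime_iff_not_dvd hpp).mpr hpj).symm
          obtain ⟨m, hm⟩ := exists_pow_eq_self_of_coprime hcop
          apply hxC
          rw [← hm]
          exact C.pow_mem hxj m
      refine ⟨i, n, hn, ?_⟩
      rw [← hprod, hxj1, one_mul]
    have hsq := typeC_sq N Z hNn hN hNc hZN hZcen hZc hcomm x z e hxC hzC hoz hy₀N hy₀Z hωZ
      α.toMonoidHom α.injective (hβN α) (hβZ α) χ n₀ hn₀ hαx lam n₁ hn₁ hαz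
    -- iterate
    have hπN : ∀ n ∈ N, (QuotientGroup.mk (s := C) n) = 1 := fun n hn =>
      (QuotientGroup.eq_one_iff n).mpr (hNC hn)
    have hiter : ∀ k : ℕ, (QuotientGroup.mk (s := C) ((α ^ k) x)) =
        (QuotientGroup.mk (s := C) x) ^ (χ ^ k) := by
      intro k
      induction k with
      | zero => simp
      | succ k ih =>
        rw [pow_succ, MulAut.mul_apply, hαx, map_mul, map_pow, QuotientGroup.mk_mul,
          QuotientGroup.mk_pow, ih, hπN _ (hβN (α ^ k) n₀ hn₀), mul_one, ← pow_mul, ← pow_succ]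
    have hπx1 : (QuotientGroup.mk (s := C) x) ≠ 1 := fun h => hxC ((QuotientGroup.eq_one_iff x).mp h)
    have hπxp : (QuotientGroup.mk (s := C) x) ^ p = 1 := by
      rw [← QuotientGroup.mk_pow, hxp, QuotientGroup.mk_one]
    have hm : χ ^ (orderOf α) ≡ 1 [MOD p] := by
      have h1 := hiter (orderOf α)
      rw [pow_orderOf_eq_one, MulAut.one_apply] at h1
      apply modEq_of_pow_eq hpp _ hπx1 hπxp
      rw [pow_one]
      exact h1.symm
    have hχ : χ ≡ 1 [MOD p] := by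
      obtain ⟨j, hj⟩ := hΓ α hα
      rw [hj, pow_succ, pow_mul] at hm
      have h1 : (χ ^ 2) ^ j * χ ≡ 1 ^ j * χ [MOD p] := by
        apply Nat.ModEq.mul_right
        apply Nat.ModEq.pow
        rw [pow_two]; exact hsq
      rw [one_pow, one_mul] at h1
      exact h1.symm.trans hm
    have hxχ : x ^ χ = x := by
      have : x ^ χ = x ^ 1 := by
        rw [pow_eq_pow_iff_modEq, hox]; exact hχ
      rw [this, pow_one]
    rw [hxχ] at hαx
    obtain ⟨i, c, hc, rfl⟩ := exists_pow_mul C hCidx x hxC r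
    rw [← QuotientGroup.eq_one_iff]
    rw [map_mul, map_pow, hαx, QuotientGroup.mk_mul, QuotientGroup.mk_inv, QuotientGroup.mk_mul,
      QuotientGroup.mk_mul, QuotientGroup.mk_pow, QuotientGroup.mk_pow, QuotientGroup.mk_mul,
      hπN n₀ hn₀, mul_one, (QuotientGroup.eq_one_iff c).mpr hc,
      (QuotientGroup.eq_one_iff (α c)).mpr (hβC α c hc), mul_one, mul_inv_cancel]

end Cfsg.Agent.Helper24.Blk
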