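import Mathlib
import Cfsg.Prelude.Def_OddOrderLocal
import Cfsg.Agent.S0638
import Cfsg.Agent.Lib.Helper64.Metacyclic6

set_option autoImplicit false

namespace Cfsg.Agent.Helper24.Meta

open Cfsg

/-- quotients (surjective images) of metacyclic groups are metacyclic -/
theorem isMetacyclic_of_surjective {P Q : Type*} [Group P] [Group Q] (f : P →* Q)
    (hf : Function.Surjective f) (hP : IsMetacyclic P) : IsMetacyclic Q := by
  obtain ⟨N, hN, hNc, hQc⟩ := hP
  have hMn : (N.map f).Normal := hN.map f hf
  refine ⟨N.map f, hMn, ?_, ?_⟩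
  · let φ : N →* (N.map f) := f.subgroupMap N
    exact isCyclic_of_surjective φ (f.subgroupMap_surjective N)
  · have hle : N ≤ (N.map f).comap f := Subgroup.le_comap_map f N
    let ψ : P ⧸ N →* Q ⧸ (N.map f) := QuotientGroup.map N (N.map f) f hle
    have hψ : Function.Surjective ψ := by
      intro q
      induction q using QuotientGroup.induction_on with | _ q => ?_
      obtain ⟨x, rfl⟩ := hf q
      exact ⟨(x : P ⧸ N), rfl⟩
    exact isCyclic_of_surjective ψ hψ

/-- metacyclic is invariant under isomorphism -/
theorem isMetacyclic_of_equiv {P Q : Type*} [Group P] [Group Q] (e : P ≃* Q)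
    (hP : IsMetacyclic P) : IsMetacyclic Q :=
  isMetacyclic_of_surjective e.toMonoidHom e.surjective hP

/-- the derived subgroup of a metacyclic group is cyclic -/
theorem isCyclic_commutator {P : Type*} [Group P] (hP : IsMetacyclic P) :
    IsCyclic (commutator P) := by
  obtain ⟨N, hN, hNc, hQc⟩ := hP
  have hcomm : commutator P ≤ N := by
    have hqc : ∀ a b : P ⧸ N, a * b = b * a := fun a b => by
      obtain ⟨g, hg⟩ := hQc.exists_generator
      obtain ⟨i, rfl⟩ := Subgroup.mem_zpowers_iff.mp (hg a)
      obtain ⟨j, rfl⟩ := Subgroup.mem_zpowers_iff.mp (hg b)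
      rw [← zpow_add, ← zpow_add, add_comm]
    rw [commutator_def, Subgroup.commutator_le]
    intro g₁ _ g₂ _
    rw [← QuotientGroup.eq_one_iff, commutatorElement_def]
    simp only [QuotientGroup.mk_mul, QuotientGroup.mk_inv]
    rw [hqc (g₁ : P ⧸ N) (g₂ : P ⧸ N)]
    group
  let φ : commutator P →* N := Subgroup.inclusion hcomm
  exact isCyclic_of_injective φ (Subgroup.inclusion_injective hcomm)

/-- in a metacyclic `p`-group (`p` odd) the elements with `x^p = 1` form a subgroup of order
dividing `p^2` -/
theorem exists_omega {P : Type*} [Group P] [Finite P] {p : ℕ} [Fact p.Prime] (hp : p ≠ 2)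
    (hP : IsPGroup p P) (hm : IsMetacyclic P) :
    ∃ K : Subgroup P, (∀ x, x ∈ K ↔ x ^ p = 1) ∧ Nat.card K ∣ p ^ 2 := by
  classical
  have hpp : p.Prime := Fact.out
  by_cases hc : IsCyclic P
  · have hcomm : ∀ a b : P, a * b = b * a := by
      intro a b
      obtain ⟨g, hg⟩ := hc.exists_generator
      obtain ⟨i, rfl⟩ := Subgroup.mem_zpowers_iff.mp (hg a)
      obtain ⟨j, rfl⟩ := Subgroup.mem_zpowers_iff.mp (hg b)
      rw [← zpow_add, ← zpow_add, add_comm]
    let K : Subgroup P :=
      { carrier := {x | x ^ p = 1}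
        one_mem' := one_pow _
        mul_mem' := by
          intro a b ha hb
          change (a * b) ^ p = 1
          have hab : Commute a b := hcomm a b
          have ha' : a ^ p = 1 := ha
          have hb' : b ^ p = 1 := hb
          rw [hab.mul_pow, ha', hb', one_mul]
        inv_mem' := by
          intro a ha
          change (a⁻¹) ^ p = 1
          have ha' : a ^ p = 1 := ha
          rw [inv_pow, ha', inv_one] }
    refine ⟨K, fun x => Iff.rfl, ?_⟩
    -- card K ≤ p and a power of p
    have hKle : Nat.card K ≤ p := by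
      have := Fintype.ofFinite P
      have h1 := IsCyclic.card_pow_eq_one_le (α := P) hpp.pos
      have h2 : Nat.card K = (Finset.univ.filter fun a : P => a ^ p = 1).card := by
        rw [Nat.card_eq_fintype_card, Fintype.card_subtype]
        rfl
      rw [h2]; exact h1
    obtain ⟨k, hk⟩ := (IsPGroup.iff_card.mp (hP.to_subgroup K))
    rw [hk] at hKle ⊢
    have : k ≤ 1 := by
      by_contra h
      push_neg at h
      have : p ^ 2 ≤ p ^ k := Nat.pow_le_pow_right hpp.pos h
      have h3 : p < p ^ 2 := by
        calc p = p ^ 1 := (pow_one p).symm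
          _ < p ^ 2 := Nat.pow_lt_pow_right hpp.one_lt (by norm_num)
      omega
    exact pow_dvd_pow p (by omega)
  · obtain ⟨K, hK, hKc⟩ := Cfsg.Agent.S0638.main hp hP hm hc
    exact ⟨K, hK, by rw [hKc]⟩

end Cfsg.Agent.Helper24.Meta
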