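import Mathlib
import Cfsg.Agent.Lib.Helper24.MetaBasic
import Cfsg.Agent.Lib.Helper24.ClassTwo
import Cfsg.Agent.Lib.Helper24.SZInternal
import Cfsg.Agent.Lib.Helper24.Averaging
import Cfsg.Agent.Lib.Helper49.UniqueOrderP
import Cfsg.Agent.Lib.Helper52.External
import Cfsg.Agent.Lib.Helper57.EqOrdIso

set_option autoImplicit false

namespace Cfsg.Agent.Helper24.Meta

open Cfsg Subgroup

variable {G : Type*} [Group G]

/-- Maschke, internal form: an `A`-invariant subgroup `D` of a normal elementary abelian subgroup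
`Ω` has an `A`-invariant complement in `Ω` (coprime action by conjugation). -/
theorem exists_invariant_complement_internal [Finite G] {p : ℕ} (hp : p.Prime)
    (Ω D A : Subgroup G) [hΩn : Ω.Normal] (hΩc : ∀ x ∈ Ω, ∀ y ∈ Ω, x * y = y * x)
    (hΩp : ∀ x ∈ Ω, x ^ p = 1) (hDΩ : D ≤ Ω) (hAD : A ≤ normalizer (D : Set G))
    (hcop : (Nat.card A).Coprime (Nat.card Ω)) :
    ∃ L : Subgroup G, L ≤ Ω ∧ A ≤ normalizer (L : Set G) ∧ D ⊓ L = ⊥ ∧ D ⊔ L = Ω := by
  classical
  letI act : MulDistribMulAction ↥A ↥Ω :=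
    MulDistribMulAction.compHom ↥Ω ((MulAut.conjNormal (H := Ω)).comp A.subtype)
  have hsmul : ∀ (a : A) (x : Ω), ((a • x : Ω) : G) = (a : G) * (x : G) * (a : G)⁻¹ := by
    intro a x
    change ((MulAut.conjNormal (H := Ω) (a : G)) x : G) = _
    rw [MulAut.conjNormal_apply]
  obtain ⟨K, -, hKinv, hKinf, hKsup⟩ :=
    Cfsg.Agent.Helper52.exists_invariant_complement_mod (A := ↥A) (G := ↥Ω) hcop
      (⊥ : Subgroup Ω) (by
        intro a x hx
        rw [Subgroup.mem_bot] at hx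
        rw [hx, smul_one]; exact Subgroup.mem_bot.mpr rfl)
      (by
        rw [commutator_def, Subgroup.commutator_le]
        intro x _ y _
        rw [Subgroup.mem_bot, commutatorElement_eq_one_iff_mul_comm]
        exact Subtype.ext (hΩc x x.2 y y.2))
      p hp (by
        intro x
        rw [Subgroup.mem_bot]
        exact Subtype.ext (by simpa using hΩp x x.2))
      (D.subgroupOf Ω) bot_le (by
        intro a x hx
        rw [Subgroup.mem_subgroupOf] at hx ⊢
        rw [hsmul]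
        exact (Subgroup.mem_normalizer_iff.mp (hAD a.2) _).mp hx)
  refine ⟨K.map Ω.subtype, ?_, ?_, ?_, ?_⟩
  · rintro _ ⟨x, -, rfl⟩
    exact x.2
  · intro a ha
    apply Subgroup.mem_normalizer_fintype
    rintro _ ⟨x, hx, rfl⟩
    refine ⟨(⟨a, ha⟩ : A) • x, hKinv ⟨a, ha⟩ x hx, ?_⟩
    rw [Subgroup.coe_subtype, hsmul]
  · have h1 : (D.subgroupOf Ω ⊓ K).map Ω.subtype = ⊥ := by rw [hKinf, Subgroup.map_bot]
    rw [Subgroup.map_inf _ _ _ Ω.subtype_injective, Subgroup.map_subgroupOf_eq_of_le hDΩ] at h1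
    exact h1
  · have h1 : (D.subgroupOf Ω ⊔ K).map Ω.subtype = (⊤ : Subgroup Ω).map Ω.subtype := by
      rw [hKsup]
    rw [Subgroup.map_sup, Subgroup.map_subgroupOf_eq_of_le hDΩ, ← MonoidHom.range_eq_map,
      Subgroup.range_subtype] at h1
    exact h1

/-- class two identity: `[x, u v] = [x,u] [x,v]` when `[x,v]` commutes with `u` -/
theorem comm_mul_right (x u v : G)
    (h : (x * v * x⁻¹ * v⁻¹) * u = u * (x * v * x⁻¹ * v⁻¹)) :
    x * (u * v) * x⁻¹ * (u * v)⁻¹ = (x * u * x⁻¹ * u⁻¹) * (x * v * x⁻¹ * v⁻¹) := by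
  have e : x * (u * v) * x⁻¹ * (u * v)⁻¹ = (x * u * x⁻¹ * u⁻¹) * (u * (x * v * x⁻¹ * v⁻¹)) * u⁻¹ := by
    group
  rw [e, ← h]; group

/-- class two identity: `[x y, g] = [y,g] [x,g]` when `[y,g]` commutes with `x` -/
theorem comm_mul_left (x y g : G)
    (h : (y * g * y⁻¹ * g⁻¹) * x = x * (y * g * y⁻¹ * g⁻¹)) :
    (x * y) * g * (x * y)⁻¹ * g⁻¹ = (y * g * y⁻¹ * g⁻¹) * (x * g * x⁻¹ * g⁻¹) := by
  have e : (x * y) * g * (x * y)⁻¹ * g⁻¹ = (x * (y * g * y⁻¹ * g⁻¹)) * g * x⁻¹ * g⁻¹ := by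
    group
  rw [e, ← h]; group

/-- `[x, g^n] = [x,g]^n` when `[x,g]` commutes with `g` -/
theorem comm_pow_right (x g : G) (h : Commute (x * g * x⁻¹ * g⁻¹) g) (n : ℕ) :
    x * g ^ n * x⁻¹ * (g ^ n)⁻¹ = (x * g * x⁻¹ * g⁻¹) ^ n := by
  have h' : Commute (g * x * g⁻¹ * x⁻¹) g := by
    have e : g * x * g⁻¹ * x⁻¹ = (x * g * x⁻¹ * g⁻¹)⁻¹ := by group
    rw [e]; exact h.inv_left
  have h1 := Cfsg.Agent.Helper24.commutator_pow_left_of_commute x g h' n
  have e1 : x * g ^ n * x⁻¹ * (g ^ n)⁻¹ = (g ^ n * x * (g ^ n)⁻¹ * x⁻¹)⁻¹ := by group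
  have e2 : x * g * x⁻¹ * g⁻¹ = (g * x * g⁻¹ * x⁻¹)⁻¹ := by group
  rw [e1, h1, e2, inv_pow]

/-- **Core lemma.** -/
theorem core [Finite G] {p : ℕ} [Fact p.Prime] (hp : p ≠ 2)
    (R A : Subgroup G) [hRn : R.Normal] (hR : IsPGroup p R) (hRm : IsMetacyclic R)
    (hcop : (Nat.card A).Coprime p) (hRA : ⁅R, A⁆ = R) (hgen : R ⊔ A = ⊤)
    (hH : ∀ S : Subgroup G, S.Normal → S ≤ R → S ≠ ⊥ → ⁅R, R⁆ ≤ S) : ⁅R, R⁆ = ⊥ := by
  classical
  by_contra hD
  have hpp : p.Prime := Fact.out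
  have hp3 : 2 < p := lt_of_le_of_ne hpp.two_le (Ne.symm hp)
  have hDR : ⁅R, R⁆ ≤ R := Subgroup.commutator_le_right R R
  have hcopR : (Nat.card A).Coprime (Nat.card R) := by
    obtain ⟨n, hn⟩ := IsPGroup.iff_card.mp hR
    rw [hn]; exact hcop.pow_right n
  have hAR : A ≤ normalizer (R : Set G) := by
    rw [normalizer_eq_top_iff.mpr hRn]; exact le_top
  have hpowR : ∀ x ∈ R, ∃ k, orderOf x = p ^ k := by
    intro x hx
    obtain ⟨k, hk⟩ := hR ⟨x, hx⟩
    have hk' : x ^ p ^ k = 1 := by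
      have := congrArg Subtype.val hk
      simpa using this
    obtain ⟨j, -, hj⟩ := (Nat.dvd_prime_pow hpp).mp (orderOf_dvd_of_pow_eq_one hk')
    exact ⟨j, hj⟩
  -- generator of D
  obtain ⟨c, hcD, hcgen⟩ : ∃ c ∈ ⁅R, R⁆, ∀ x ∈ ⁅R, R⁆, x ∈ zpowers c := by
    have hcyc := isCyclic_commutator hRm
    obtain ⟨c0, hc0⟩ := hcyc.exists_generator
    refine ⟨((c0 : R) : G), ?_, ?_⟩
    · rw [← Subgroup.map_subtype_commutator]
      exact ⟨(c0 : R), c0.2, rfl⟩
    · intro x hx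
      rw [← Subgroup.map_subtype_commutator] at hx
      obtain ⟨y, hy, rfl⟩ := hx
      obtain ⟨i, hi⟩ := Subgroup.mem_zpowers_iff.mp (hc0 ⟨y, hy⟩)
      refine Subgroup.mem_zpowers_iff.mpr ⟨i, ?_⟩
      have h1 := congrArg (fun z : commutator R => ((z : R) : G)) hi
      simpa using h1
  have hc1 : c ≠ 1 := by
    intro h
    apply hD
    rw [eq_bot_iff]
    intro x hx
    have := hcgen x hx
    rw [h, Subgroup.zpowers_one_eq_bot] at this
    exact this
  have hcR : c ∈ R := hDR hcD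
  -- c^p = 1
  have hcp : c ^ p = 1 := by
    by_contra hne
    have hSn : (zpowers (c ^ p)).Normal := by
      constructor
      intro n hn g
      obtain ⟨j, rfl⟩ := Subgroup.mem_zpowers_iff.mp hn
      have hgc : g * c * g⁻¹ ∈ ⁅R, R⁆ :=
        (inferInstance : (⁅R, R⁆).Normal).conj_mem c hcD g
      obtain ⟨k, hk⟩ := Subgroup.mem_zpowers_iff.mp (hcgen _ hgc)
      have e : g * (c ^ p) ^ j * g⁻¹ = ((g * c * g⁻¹) ^ p) ^ j := by
        have h1 : g * (c ^ p) ^ j * g⁻¹ = MulAut.conj g ((c ^ p) ^ j) := by simp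
        rw [h1, map_zpow, map_pow]; simp
      rw [e, ← hk]
      have e2 : ((c ^ k) ^ p) ^ j = (c ^ p) ^ (k * j) := by
        rw [← zpow_natCast (c ^ k) p, ← zpow_mul, ← zpow_mul, ← zpow_natCast c p, ← zpow_mul]
        congr 1; ring
      rw [e2]
      exact Subgroup.zpow_mem _ (Subgroup.mem_zpowers _) _
    have hSR : zpowers (c ^ p) ≤ R := by
      rw [Subgroup.zpowers_le]; exact R.pow_mem hcR p
    have hSne : zpowers (c ^ p) ≠ ⊥ := by
      intro h
      apply hne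
      have : c ^ p ∈ zpowers (c ^ p) := Subgroup.mem_zpowers _
      rw [h, Subgroup.mem_bot] at this
      exact this
    have hle := hH _ hSn hSR hSne
    have hcS : zpowers c ≤ zpowers (c ^ p) := by
      rw [Subgroup.zpowers_le]; exact hle hcD
    have hcard := Subgroup.card_le_of_le hcS
    rw [Nat.card_zpowers, Nat.card_zpowers] at hcard
    obtain ⟨k, hk⟩ := hpowR c hcR
    have hk0 : k ≠ 0 := by
      rintro rfl
      rw [pow_zero, orderOf_eq_one_iff] at hk
      exact hc1 hk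
    have hpd : p ∣ orderOf c := by rw [hk]; exact dvd_pow_self p hk0
    rw [orderOf_pow' c hpp.ne_zero, Nat.gcd_eq_right hpd] at hcard
    have hpos : 0 < orderOf c := by rw [hk]; exact pow_pos hpp.pos k
    have : orderOf c / p < orderOf c := Nat.div_lt_self hpos hpp.one_lt
    omega
  have hoc : orderOf c = p := orderOf_eq_prime hcp hc1
  have hDeq : ⁅R, R⁆ = zpowers c := by
    apply le_antisymm hcgen
    rw [Subgroup.zpowers_le]; exact hcD
  have hDcard : Nat.card (⁅R, R⁆ : Subgroup G) = p := by rw [hDeq, Nat.card_zpowers, hoc]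
  have hDp : ∀ d ∈ ⁅R, R⁆, d ^ p = 1 := by
    intro d hd
    obtain ⟨i, rfl⟩ := Subgroup.mem_zpowers_iff.mp (hcgen d hd)
    rw [← zpow_natCast, ← zpow_mul, mul_comm, zpow_mul, zpow_natCast, hcp, one_zpow]
  -- the centre Z of R
  obtain ⟨Z, hZdef⟩ : ∃ Z : Subgroup G, Z = R ⊓ centralizer (R : Set G) := ⟨_, rfl⟩
  have hZn : Z.Normal := by rw [hZdef]; infer_instance
  have hZR : Z ≤ R := by rw [hZdef]; exact inf_le_left
  have hZmem : ∀ x, x ∈ Z ↔ x ∈ R ∧ ∀ r ∈ R, r * x = x * r := by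
    intro x
    rw [hZdef, Subgroup.mem_inf, Subgroup.mem_centralizer_iff]
    rfl
  have hZne : Z ≠ ⊥ := by
    have hnt : Nontrivial R := by
      rw [Subgroup.nontrivial_iff_ne_bot]
      intro h
      rw [h, Subgroup.mem_bot] at hcR
      exact hc1 hcR
    have := hR.center_nontrivial
    obtain ⟨z0, hz0⟩ := exists_ne (1 : Subgroup.center R)
    intro hbot
    have hz : ((z0 : R) : G) ∈ Z := by
      rw [hZmem]
      refine ⟨(z0 : R).2, ?_⟩
      intro r hr
      have := (Subgroup.mem_center_iff.mp z0.2) ⟨r, hr⟩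
      exact congrArg Subtype.val this
    rw [hbot, Subgroup.mem_bot] at hz
    apply hz0
    apply Subtype.ext; apply Subtype.ext
    exact hz
  have hDZ : ⁅R, R⁆ ≤ Z := hH Z hZn hZR hZne
  have hcm : ∀ x ∈ R, ∀ y ∈ R, x * y * x⁻¹ * y⁻¹ ∈ ⁅R, R⁆ := by
    intro x hx y hy
    have := Subgroup.commutator_mem_commutator hx hy
    rwa [commutatorElement_def] at this
  have hcent : ∀ d ∈ ⁅R, R⁆, ∀ r ∈ R, d * r = r * d := by
    intro d hd r hr
    exact (((hZmem d).mp (hDZ hd)).2 r hr).symm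
  -- p-th powers
  have hpowmul : ∀ x ∈ R, ∀ y ∈ R, (x * y) ^ p = x ^ p * y ^ p := by
    intro x hx y hy
    have hc' := hcm y hy x hx
    have h1 := Cfsg.Agent.Helper24.mul_pow_of_commutator_commute x y
      (hcent _ hc' x hx) (hcent _ hc' y hy) p
    obtain ⟨m, hm⟩ := hpp.dvd_choose_self (k := 2) (by norm_num) hp3
    rw [h1, hm, pow_mul, hDp _ hc', one_pow, mul_one]
  have hpowZ : ∀ x ∈ R, x ^ p ∈ Z := by
    intro x hx
    rw [hZmem]
    refine ⟨R.pow_mem hx p, ?_⟩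
    intro g hg
    have hc' := hcm x hx g hg
    have h1 := Cfsg.Agent.Helper24.commutator_pow_left_of_commute g x (hcent _ hc' x hx) p
    rw [hDp _ hc'] at h1
    have : x ^ p * g * (x ^ p)⁻¹ = g := by
      rw [mul_inv_eq_one] at h1; exact h1
    rw [mul_inv_eq_iff_eq_mul] at this
    exact this.symm
  -- Ω
  obtain ⟨K, hK, hKc⟩ := exists_omega hp hR hRm
  obtain ⟨Ω, hΩdef⟩ : ∃ Ω : Subgroup G, Ω = K.map R.subtype := ⟨_, rfl⟩
  have hΩmem : ∀ x, x ∈ Ω ↔ x ∈ R ∧ x ^ p = 1 := by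
    intro x
    rw [hΩdef]
    constructor
    · rintro ⟨y, hy, rfl⟩
      refine ⟨y.2, ?_⟩
      have := (hK y).mp hy
      have h2 := congrArg Subtype.val this
      simpa using h2
    · rintro ⟨hx, hxp⟩
      refine ⟨⟨x, hx⟩, (hK _).mpr ?_, rfl⟩
      exact Subtype.ext (by simpa using hxp)
  have hΩR : Ω ≤ R := fun x hx => ((hΩmem x).mp hx).1
  have hΩcard : Nat.card Ω ∣ p ^ 2 := by
    rw [hΩdef, Subgroup.card_map_of_injective R.subtype_injective]; exact hKc
  have hΩn : Ω.Normal := by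
    constructor
    intro n hn g
    rw [hΩmem] at hn ⊢
    refine ⟨hRn.conj_mem n hn.1 g, ?_⟩
    have h1 : g * n * g⁻¹ = MulAut.conj g n := by simp
    rw [h1, ← map_pow, hn.2, map_one]
  have hΩcomm : ∀ x ∈ Ω, ∀ y ∈ Ω, x * y = y * x := by
    obtain ⟨k, hk, hk'⟩ := (Nat.dvd_prime_pow hpp).mp hΩcard
    intro x hx y hy
    have := Cfsg.Agent.Helper57.comm_of_card_le_sq (p := p) (X := Ω) hk' hk ⟨x, hx⟩ ⟨y, hy⟩
    exact congrArg Subtype.val this
  have hΩp : ∀ x ∈ Ω, x ^ p = 1 := fun x hx => ((hΩmem x).mp hx).2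
  have hDΩ : ⁅R, R⁆ ≤ Ω := fun d hd => (hΩmem d).mpr ⟨hDR hd, hDp d hd⟩
  -- Ω is not central
  have hΩZ : ¬ Ω ≤ Z := by
    intro hle
    obtain ⟨k, hk, hk'⟩ := (Nat.dvd_prime_pow hpp).mp hΩcard
    have hAD : A ≤ normalizer ((⁅R, R⁆ : Subgroup G) : Set G) := by
      rw [normalizer_eq_top_iff.mpr inferInstance]; exact le_top
    have hcopΩ : (Nat.card A).Coprime (Nat.card Ω) := by
      rw [hk']; exact hcop.pow_right k
    obtain ⟨L, hLΩ, hAL, hinf, hsup⟩ :=
      exists_invariant_complement_internal hpp Ω ⁅R, R⁆ A hΩcomm hΩp hDΩ hAD hcopΩ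
    have hLn : L.Normal := by
      rw [← normalizer_eq_top_iff, eq_top_iff, ← hgen]
      apply sup_le _ hAL
      intro r hr
      apply Subgroup.mem_normalizer_fintype
      intro n hn
      have hnZ := hle (hLΩ hn)
      have := ((hZmem n).mp hnZ).2 r hr
      rw [this, mul_inv_cancel_right]
      exact hn
    by_cases hL : L = ⊥
    · -- then Ω = D, and R has a unique subgroup of order p
      rw [hL, sup_bot_eq] at hsup
      have hU : ∀ y z : R, orderOf y = p → orderOf z = p → z ∈ zpowers y := by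
        intro y z hy hz
        have hyΩ : (y : G) ∈ zpowers c := by
          rw [← hDeq, hsup, hΩmem]
          refine ⟨y.2, ?_⟩
          have := pow_orderOf_eq_one y
          rw [hy] at this
          have h2 := congrArg Subtype.val this
          simpa using h2
        have hzΩ : (z : G) ∈ zpowers c := by
          rw [← hDeq, hsup, hΩmem]
          refine ⟨z.2, ?_⟩
          have := pow_orderOf_eq_one z
          rw [hz] at this
          have h2 := congrArg Subtype.val this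
          simpa using h2
        have hy1 : (y : G) ≠ 1 := by
          intro h
          have : y = 1 := Subtype.ext h
          rw [this, orderOf_one] at hy
          exact hpp.one_lt.ne hy
        -- zpowers y = zpowers c
        have hyc : zpowers (y : G) = zpowers c := by
          apply Subgroup.eq_of_le_of_card_ge
          · rw [Subgroup.zpowers_le]; exact hyΩ
          · rw [Nat.card_zpowers, Nat.card_zpowers, hoc]
            have : orderOf (y : G) = p := by rw [Subgroup.orderOf_coe, hy]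
            rw [this]
        rw [← hyc] at hzΩ
        obtain ⟨i, hi⟩ := Subgroup.mem_zpowers_iff.mp hzΩ
        refine Subgroup.mem_zpowers_iff.mpr ⟨i, ?_⟩
        apply Subtype.ext
        simpa using hi
      have hcycR := Cfsg.Agent.Helper49.isCyclic_of_unique_order_p (G := R) hp hU ⊤
        (hR.to_subgroup _)
      have hcyc : IsCyclic R :=
        isCyclic_of_surjective (Subgroup.topEquiv (G := R)).toMonoidHom
          (Subgroup.topEquiv (G := R)).surjective
      apply hc1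
      obtain ⟨g, hg⟩ := hcyc.exists_generator
      -- R commutative so D trivial
      have hRc : ∀ x ∈ R, ∀ y ∈ R, x * y = y * x := by
        intro x hx y hy
        obtain ⟨i, hi⟩ := Subgroup.mem_zpowers_iff.mp (hg ⟨x, hx⟩)
        obtain ⟨j, hj⟩ := Subgroup.mem_zpowers_iff.mp (hg ⟨y, hy⟩)
        have : (⟨x, hx⟩ : R) * ⟨y, hy⟩ = ⟨y, hy⟩ * ⟨x, hx⟩ := by
          rw [← hi, ← hj, ← zpow_add, ← zpow_add, add_comm]
        exact congrArg Subtype.val this
      have hDbot : ⁅R, R⁆ = ⊥ := by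
        rw [Subgroup.commutator_eq_bot_iff_le_centralizer]
        intro x hx
        rw [Subgroup.mem_centralizer_iff]
        intro y hy
        exact hRc y hy x hx
      exact absurd hDbot hD
    · have := hH L hLn (le_trans hLΩ hΩR) hL
      apply hc1
      have : c ∈ ⁅R, R⁆ ⊓ L := Subgroup.mem_inf.mpr ⟨hcD, this hcD⟩
      rw [hinf, Subgroup.mem_bot] at this
      exact this
  rw [SetLike.not_le_iff_exists] at hΩZ
  obtain ⟨w, hwΩ, hwZ⟩ := hΩZ
  have hwR : w ∈ R := hΩR hwΩ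
  -- elements of order p in Z lie in D
  have hΩZD : Ω ⊓ Z = ⁅R, R⁆ := by
    symm
    apply Subgroup.eq_of_le_of_card_ge (le_inf hDΩ hDZ)
    rw [hDcard]
    have hlt : Nat.card (Ω ⊓ Z : Subgroup G) < Nat.card Ω := by
      by_contra hge
      push_neg at hge
      have := Subgroup.eq_of_le_of_card_ge (inf_le_left : Ω ⊓ Z ≤ Ω) hge
      apply hwZ
      have hw' : w ∈ Ω ⊓ Z := by rw [this]; exact hwΩ
      exact hw'.2
    have hd : Nat.card (Ω ⊓ Z : Subgroup G) ∣ p ^ 2 :=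
      dvd_trans (Subgroup.card_dvd_of_le inf_le_left) hΩcard
    obtain ⟨k, hk, hk'⟩ := (Nat.dvd_prime_pow hpp).mp hd
    have hΩle : Nat.card Ω ≤ p ^ 2 := Nat.le_of_dvd (pow_pos hpp.pos 2) hΩcard
    rw [hk'] at hlt ⊢
    have : k < 2 := by
      by_contra h
      push_neg at h
      have : p ^ 2 ≤ p ^ k := Nat.pow_le_pow_right hpp.pos h
      omega
    calc p ^ k ≤ p ^ 1 := Nat.pow_le_pow_right hpp.pos (by omega)
      _ = p := pow_one p
  -- Z is cyclic
  have hZcyc : IsCyclic Z := by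
    have hU : ∀ y z : Z, orderOf y = p → orderOf z = p → z ∈ zpowers y := by
      intro y z hy hz
      have hmemD : ∀ u : Z, orderOf u = p → (u : G) ∈ zpowers c := by
        intro u hu
        rw [← hDeq, ← hΩZD]
        refine Subgroup.mem_inf.mpr ⟨(hΩmem _).mpr ⟨hZR u.2, ?_⟩, u.2⟩
        have := pow_orderOf_eq_one u
        rw [hu] at this
        have h2 := congrArg Subtype.val this
        simpa using h2
      have hyΩ := hmemD y hy
      have hzΩ := hmemD z hz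
      have hyc : zpowers (y : G) = zpowers c := by
        apply Subgroup.eq_of_le_of_card_ge
        · rw [Subgroup.zpowers_le]; exact hyΩ
        · rw [Nat.card_zpowers, Nat.card_zpowers, hoc]
          have : orderOf (y : G) = p := by rw [Subgroup.orderOf_coe, hy]
          rw [this]
      rw [← hyc] at hzΩ
      obtain ⟨i, hi⟩ := Subgroup.mem_zpowers_iff.mp hzΩ
      refine Subgroup.mem_zpowers_iff.mpr ⟨i, ?_⟩
      apply Subtype.ext
      simpa using hi
    have hcycT := Cfsg.Agent.Helper49.isCyclic_of_unique_order_p (G := Z) hp hU ⊤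
      ((hR.to_le hZR).to_subgroup _)
    exact isCyclic_of_surjective (Subgroup.topEquiv (G := Z)).toMonoidHom
      (Subgroup.topEquiv (G := Z)).surjective
  obtain ⟨ζ0, hζ0⟩ := hZcyc.exists_generator
  have hζgen : ∀ x ∈ Z, ∃ i : ℕ, x = (ζ0 : G) ^ i := by
    intro x hx
    have h1 := hζ0 ⟨x, hx⟩
    rw [← mem_powers_iff_mem_zpowers] at h1
    obtain ⟨i, hi⟩ := h1
    refine ⟨i, ?_⟩
    have := congrArg Subtype.val hi
    simpa using this.symm
  -- pick g with [w,g] ≠ 1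
  obtain ⟨g, hgR, hwg⟩ : ∃ g ∈ R, w * g * w⁻¹ * g⁻¹ ≠ 1 := by
    by_contra hcon
    push_neg at hcon
    apply hwZ
    rw [hZmem]
    refine ⟨hwR, ?_⟩
    intro r hr
    have := hcon r hr
    rw [mul_inv_eq_one, mul_inv_eq_iff_eq_mul] at this
    exact this.symm
  -- X = C_Ω(g) = D
  have hX : ∀ u ∈ Ω, u * g = g * u → u ∈ ⁅R, R⁆ := by
    intro u hu hug
    have hXD : Ω ⊓ centralizer {g} = ⁅R, R⁆ := by
      symm
      apply Subgroup.eq_of_le_of_card_ge
      · apply le_inf hDΩ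
        intro d hd
        rw [Subgroup.mem_centralizer_singleton_iff]
        exact hcent d hd g hgR
      · rw [hDcard]
        have hlt : Nat.card (Ω ⊓ centralizer {g} : Subgroup G) < Nat.card Ω := by
          by_contra hge
          push_neg at hge
          have := Subgroup.eq_of_le_of_card_ge (inf_le_left : Ω ⊓ centralizer {g} ≤ Ω) hge
          apply hwg
          have hw' : w ∈ Ω ⊓ centralizer {g} := by rw [this]; exact hwΩ
          have h2 := (Subgroup.mem_inf.mp hw').2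
          rw [Subgroup.mem_centralizer_singleton_iff] at h2
          rw [mul_inv_eq_one, mul_inv_eq_iff_eq_mul]
          exact h2
        have hd : Nat.card (Ω ⊓ centralizer {g} : Subgroup G) ∣ p ^ 2 :=
          dvd_trans (Subgroup.card_dvd_of_le inf_le_left) hΩcard
        obtain ⟨k, hk, hk'⟩ := (Nat.dvd_prime_pow hpp).mp hd
        have hΩle : Nat.card Ω ≤ p ^ 2 := Nat.le_of_dvd (pow_pos hpp.pos 2) hΩcard
        rw [hk'] at hlt ⊢
        have : k < 2 := by
          by_contra h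
          push_neg at h
          have : p ^ 2 ≤ p ^ k := Nat.pow_le_pow_right hpp.pos h
          omega
        calc p ^ k ≤ p ^ 1 := Nat.pow_le_pow_right hpp.pos (by omega)
          _ = p := pow_one p
    rw [← hXD]
    refine Subgroup.mem_inf.mpr ⟨hu, ?_⟩
    rw [Subgroup.mem_centralizer_singleton_iff]
    exact hug
  -- the key: A centralizes w modulo Z
  have hkey : ∀ a ∈ A, w * a * w⁻¹ * a⁻¹ ∈ Z := by
    intro a ha
    -- action of a on Z by a power m
    have hζZ : a * (ζ0 : G) * a⁻¹ ∈ Z := hZn.conj_mem _ ζ0.2 a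
    obtain ⟨m, hm⟩ := hζgen _ hζZ
    have hact : ∀ x ∈ Z, a * x * a⁻¹ = x ^ m := by
      intro x hx
      obtain ⟨i, rfl⟩ := hζgen x hx
      have h1 : a * (ζ0 : G) ^ i * a⁻¹ = MulAut.conj a ((ζ0 : G) ^ i) := by simp
      rw [h1, map_pow]
      have h2 : MulAut.conj a (ζ0 : G) = a * (ζ0 : G) * a⁻¹ := by simp
      rw [h2, hm, ← pow_mul, ← pow_mul, mul_comm]
    have hpm : ¬ p ∣ m := by
      intro hdvd
      obtain ⟨m', rfl⟩ := hdvd
      have h1 := hact c (hDZ hcD)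
      rw [pow_mul, hcp, one_pow] at h1
      apply hc1
      have : a * c * a⁻¹ = 1 := h1
      rw [mul_inv_eq_one] at this
      have h3 : a * c = a * 1 := by rw [this, mul_one]
      exact mul_left_cancel h3
    set c0 := w * g * w⁻¹ * g⁻¹ with hc0
    have hc0D : c0 ∈ ⁅R, R⁆ := hcm w hwR g hgR
    set w' := a * w * a⁻¹ with hw'
    set g' := a * g * a⁻¹ with hg'
    have hw'Ω : w' ∈ Ω := hΩn.conj_mem w hwΩ a
    have hw'R : w' ∈ R := hΩR hw'Ω
    have hg'R : g' ∈ R := hRn.conj_mem g hgR a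
    -- g' = ω1 * g^m with ω1 ∈ Ω
    have hgmR : g ^ m ∈ R := R.pow_mem hgR m
    have hω1 : g' * (g ^ m)⁻¹ ∈ Ω := by
      rw [hΩmem]
      refine ⟨R.mul_mem hg'R (R.inv_mem hgmR), ?_⟩
      rw [hpowmul _ hg'R _ (R.inv_mem hgmR)]
      have h1 : g' ^ p = a * g ^ p * a⁻¹ := by
        have : g' = MulAut.conj a g := by simp [hg']
        rw [this, ← map_pow]; simp
      rw [h1, hact _ (hpowZ g hgR), inv_pow, ← pow_mul, ← pow_mul, mul_comm p m,
        mul_inv_cancel]
    -- [w', g'] = c0^m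
    have h1 : w' * g' * w'⁻¹ * g'⁻¹ = c0 ^ m := by
      have : w' * g' * w'⁻¹ * g'⁻¹ = a * c0 * a⁻¹ := by
        rw [hw', hg', hc0]; group
      rw [this, hact c0 (hDZ hc0D)]
    -- [w', g'] = [w', g]^m
    have h2 : w' * g' * w'⁻¹ * g'⁻¹ = (w' * g * w'⁻¹ * g⁻¹) ^ m := by
      have hg'eq : g' = (g' * (g ^ m)⁻¹) * g ^ m := by group
      have hcc : w' * g * w'⁻¹ * g⁻¹ ∈ ⁅R, R⁆ := hcm w' hw'R g hgR
      have hcm' : w' * g ^ m * w'⁻¹ * (g ^ m)⁻¹ = (w' * g * w'⁻¹ * g⁻¹) ^ m :=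
        comm_pow_right w' g (hcent _ hcc g hgR) m
      have hcm'D : w' * g ^ m * w'⁻¹ * (g ^ m)⁻¹ ∈ ⁅R, R⁆ := hcm w' hw'R _ hgmR
      have h3 := comm_mul_right w' (g' * (g ^ m)⁻¹) (g ^ m)
        (hcent _ hcm'D _ (hΩR hω1))
      rw [← hg'eq] at h3
      rw [h3, hcm']
      have h4 : w' * (g' * (g ^ m)⁻¹) * w'⁻¹ * (g' * (g ^ m)⁻¹)⁻¹ = 1 := by
        rw [hΩcomm w' hw'Ω _ hω1]; group
      rw [h4, one_mul]
    -- so ([w',g] * c0⁻¹)^m = 1
    set e := (w' * g * w'⁻¹ * g⁻¹) * c0⁻¹ with he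
    have hcc : w' * g * w'⁻¹ * g⁻¹ ∈ ⁅R, R⁆ := hcm w' hw'R g hgR
    have heD : e ∈ ⁅R, R⁆ := Subgroup.mul_mem _ hcc (Subgroup.inv_mem _ hc0D)
    have hem : e ^ m = 1 := by
      have hcomm' : Commute (w' * g * w'⁻¹ * g⁻¹) c0⁻¹ :=
        (hcent _ hcc _ (R.inv_mem (hDR hc0D)))
      rw [he, hcomm'.mul_pow, ← h2, h1, inv_pow, mul_inv_cancel]
    have he1 : e = 1 := by
      have hep : e ^ p = 1 := hDp e heD
      have hcop' : Nat.Coprime m p := (Nat.Coprime.symm ((Nat.Prime.coprime_iff_not_dvd hpp).mpr hpm))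
      have h1' : orderOf e ∣ m := orderOf_dvd_of_pow_eq_one hem
      have h2' : orderOf e ∣ p := orderOf_dvd_of_pow_eq_one hep
      have := Nat.dvd_gcd h1' h2'
      rw [hcop'] at this
      exact orderOf_eq_one_iff.mp (Nat.dvd_one.mp this)
    -- hence [w' w⁻¹, g] = 1
    have hu : (w' * w⁻¹) * g = g * (w' * w⁻¹) := by
      have hdinv : w⁻¹ * g * w⁻¹⁻¹ * g⁻¹ ∈ ⁅R, R⁆ := hcm _ (R.inv_mem hwR) g hgR
      have hwinv : w⁻¹ * g * w⁻¹⁻¹ * g⁻¹ = c0⁻¹ := by
        have h5 := comm_mul_left w w⁻¹ g (hcent _ hdinv w hwR)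
        have h6 : w * w⁻¹ * g * (w * w⁻¹)⁻¹ * g⁻¹ = 1 := by group
        rw [h6] at h5
        exact eq_inv_of_mul_eq_one_left h5.symm
      have h7 := comm_mul_left w' w⁻¹ g (hcent _ hdinv w' hw'R)
      have h8 : w' * g * w'⁻¹ * g⁻¹ = c0 := by
        have : w' * g * w'⁻¹ * g⁻¹ = e * c0 := by rw [he]; group
        rw [this, he1, one_mul]
      rw [hwinv, h8, inv_mul_cancel, mul_inv_eq_one, mul_inv_eq_iff_eq_mul] at h7
      exact h7
    have huΩ : w' * w⁻¹ ∈ Ω := Ω.mul_mem hw'Ω (Ω.inv_mem hwΩ)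
    have huD := hX _ huΩ hu
    have : w * a * w⁻¹ * a⁻¹ = (w' * w⁻¹)⁻¹ := by rw [hw']; group
    rw [this]
    exact Z.inv_mem (hDZ huD)
  -- conclude with coprime action
  have hAZ : A ≤ normalizer (Z : Set G) := by
    rw [normalizer_eq_top_iff.mpr hZn]; exact le_top
  have hZsolv : Group.IsSolvable Z := by
    have : Group.IsNilpotent Z := (hR.to_le hZR).isNilpotent
    infer_instance
  obtain ⟨n, hn, c', hc', hwnc⟩ :=
    Cfsg.Agent.Helper24.exists_mul_centralizer_of_comm_mem R Z A hZR hAR hAZ hcopR hZsolv w hwR hkey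
  have hc'D : c' ∈ ⁅R, R⁆ := by
    have := Cfsg.Agent.Helper24.inf_centralizer_inf_commutator_le R A hAR hcopR.symm
    apply this
    refine Subgroup.mem_inf.mpr ⟨hc', ?_⟩
    rw [hRA]; exact (Subgroup.mem_inf.mp hc').1
  apply hwZ
  rw [hwnc]
  exact Z.mul_mem hn (hDZ hc'D)

end Cfsg.Agent.Helper24.Meta
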