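import Mathlib
import Cfsg.Agent.Lib.Helper24.MetaCore

set_option autoImplicit false

namespace Cfsg.Agent.Helper24.Meta

open Cfsg Subgroup

universe u

theorem abelian_aux : ∀ n : ℕ, ∀ (G : Type u) [Group G] [Finite G], Nat.card G = n →
    ∀ (p : ℕ) [Fact p.Prime], p ≠ 2 → ∀ (R A : Subgroup G) [R.Normal], IsPGroup p R →
    IsMetacyclic R → (Nat.card A).Coprime p → ⁅R, A⁆ = R → R ⊔ A = ⊤ → ⁅R, R⁆ = ⊥ := by
  intro n
  induction n using Nat.strong_induction_on with
  | _ n ih =>
    intro G _ _ hn p _ hp R A hRn hR hRm hcop hRA hgen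
    apply core hp R A hR hRm hcop hRA hgen
    intro S hSn hSR hSne
    have hlt : Nat.card (G ⧸ S) < n := by
      rw [← hn, Subgroup.card_eq_card_quotient_mul_card_subgroup S]
      have h1 : 1 < Nat.card S := by
        rw [Finite.one_lt_card_iff_nontrivial, Subgroup.nontrivial_iff_ne_bot]
        exact hSne
      have h2 : 0 < Nat.card (G ⧸ S) := Nat.card_pos
      nlinarith
    have hsurj := QuotientGroup.mk'_surjective S
    haveI : ((R.map (QuotientGroup.mk' S))).Normal := hRn.map _ hsurj
    have key := ih (Nat.card (G ⧸ S)) hlt (G ⧸ S) rfl p hp (R.map (QuotientGroup.mk' S))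
      (A.map (QuotientGroup.mk' S)) (hR.map _)
      (isMetacyclic_of_surjective ((QuotientGroup.mk' S).subgroupMap R)
        ((QuotientGroup.mk' S).subgroupMap_surjective R) hRm)
      (Nat.Coprime.coprime_dvd_left (Subgroup.card_map_dvd _ _) hcop)
      (by rw [← Subgroup.map_commutator, hRA])
      (by rw [← Subgroup.map_sup, hgen, ← MonoidHom.range_eq_map,
        MonoidHom.range_eq_top.mpr hsurj])
    rw [← Subgroup.map_commutator, Subgroup.map_eq_bot_iff, QuotientGroup.ker_mk'] at key
    exact key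

/-- **Metacyclic `p`-group with `R = [R, A]` (coprime, `p` odd) is abelian.** -/
theorem commutator_eq_bot_of_commutator_eq {G : Type u} [Group G] [Finite G] {p : ℕ}
    [Fact p.Prime] (hp : p ≠ 2) (R A : Subgroup G) (hR : IsPGroup p R) (hRm : IsMetacyclic R)
    (hA : A ≤ normalizer (R : Set G)) (hcop : (Nat.card A).Coprime p) (hRA : ⁅R, A⁆ = R) :
    ⁅R, R⁆ = ⊥ := by
  obtain ⟨H, hH⟩ : ∃ H : Subgroup G, H = R ⊔ A := ⟨_, rfl⟩
  have hRH : R ≤ H := by rw [hH]; exact le_sup_left
  have hAH : A ≤ H := by rw [hH]; exact le_sup_right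
  have hHN : H ≤ normalizer (R : Set G) := by rw [hH]; exact sup_le le_normalizer hA
  haveI hn : (R.subgroupOf H).Normal := (Subgroup.normal_subgroupOf_iff_le_normalizer hRH).mpr hHN
  have e := Subgroup.subgroupOfEquivOfLe hRH
  have eA := Subgroup.subgroupOfEquivOfLe hAH
  have hmapR : (R.subgroupOf H).map H.subtype = R := Subgroup.map_subgroupOf_eq_of_le hRH
  have hmapA : (A.subgroupOf H).map H.subtype = A := Subgroup.map_subgroupOf_eq_of_le hAH
  have key := abelian_aux (Nat.card H) H rfl p hp (R.subgroupOf H) (A.subgroupOf H)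
    (hR.of_equiv e.symm) (isMetacyclic_of_equiv e.symm hRm)
    (by rw [Nat.card_congr eA.toEquiv]; exact hcop)
    (by
      apply Subgroup.map_injective H.subtype_injective
      rw [Subgroup.map_commutator, hmapR, hmapA, hRA])
    (by
      rw [← Subgroup.subgroupOf_sup hRH hAH, ← hH, Subgroup.subgroupOf_self])
  have := congrArg (Subgroup.map H.subtype) key
  rw [Subgroup.map_commutator, hmapR, Subgroup.map_bot] at this
  exact this

end Cfsg.Agent.Helper24.Meta
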