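import Mathlib
import Cfsg.Agent.Lib.Helper17.S4017Defs
import Cfsg.Agent.Lib.Helper17.S4017FDefs

/-!
Piece (CT2) `ct_of_centralizes` of helper17's lemma server "S4017F" (row S4017), delivered by helper24.
-/

set_option autoImplicit false

namespace Cfsg.Agent.Helper24.S4017F

open Subgroup Cfsg.Agent.Helper17.S4017

universe u

variable {G : Type u} [Group G] [Finite G] {p q : ℕ}

omit [Finite G] in
/-- A subgroup of exponent 2 is abelian. -/
theorem h24_comm_of_sq {Q : Subgroup G} (helem : ∀ g ∈ Q, g * g = 1) {g k : G} (hg : g ∈ Q)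
    (hk : k ∈ Q) : g * k = k * g := by
  have h1 := helem g hg
  have h2 := helem k hk
  have h3 := helem (g * k) (Q.mul_mem hg hk)
  have hg' : g⁻¹ = g := inv_eq_of_mul_eq_one_right h1
  have hk' : k⁻¹ = k := inv_eq_of_mul_eq_one_right h2
  have h4 : (g * k)⁻¹ = g * k := inv_eq_of_mul_eq_one_right h3
  rw [mul_inv_rev, hg', hk'] at h4
  exact h4.symm

theorem ct_of_centralizes {a : ℕ} {Q : Subgroup G} {x : G} (h : Setting a p Q x) {t : G} (ht : t ∈ Q)
    (ht1 : t ≠ 1)
    (hcent : ∀ g : G, g ∈ normalizer (Q : Set G) → g * t = t * g → g ∈ centralizer (Q : Set G)) :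
    ∃ Z : Subgroup G, (∀ z, z ∈ Z ↔ (z * t = t * z ∧ ∃ j, orderOf z = p ^ j)) ∧
      (∀ z ∈ Z, ∀ z' ∈ Z, z * z' = z' * z) := by
  classical
  have := h.simple
  have : Fact (Nat.Prime 2) := ⟨Nat.prime_two⟩
  have : Fact p.Prime := ⟨h.prime⟩
  have hp := h.prime
  have ha2 := h.two_le
  have hp2 : p ≠ 2 := by
    intro hp2
    have h1 := h.p_eq
    rw [hp2] at h1
    obtain ⟨b, rfl⟩ := Nat.exists_eq_add_of_le ha2
    rw [pow_add] at h1
    omega
  set C : Subgroup G := centralizer ({t} : Set G) with hC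
  have hmemC : ∀ z : G, z ∈ C ↔ z * t = t * z := by
    intro z
    rw [hC, Subgroup.mem_centralizer_singleton_iff]
  have hQC : Q ≤ C := fun g hg => (hmemC g).2 (h24_comm_of_sq h.elem hg ht)
  -- C ≠ ⊤
  have hCtop : C ≠ ⊤ := by
    intro hCt
    have hcomm_t : ∀ g : G, g * t = t * g := fun g => (hmemC g).1 (hCt ▸ Subgroup.mem_top g)
    have htc : t ∈ center G := by
      rw [Subgroup.mem_center_iff]
      intro g; exact hcomm_t g
    have hcen : center G = ⊤ := by
      rcases (inferInstance : (center G).Normal).eq_bot_or_eq_top with h0 | h0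
      · exfalso; rw [h0, Subgroup.mem_bot] at htc; exact ht1 htc
      · exact h0
    have hcomm : ∀ g k : G, g * k = k * g := by
      intro g k
      have hk : k ∈ center G := hcen ▸ Subgroup.mem_top k
      exact (Subgroup.mem_center_iff.mp hk) g
    have hQn : Q.Normal := ⟨fun n hn g => by rw [hcomm g n, mul_inv_cancel_right]; exact hn⟩
    rcases hQn.eq_bot_or_eq_top with h0 | h0
    · have h1 := h.card_Q
      rw [h0, Subgroup.card_bot] at h1
      have h2 : 1 < 2 ^ a := Nat.one_lt_two_pow (by omega)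
      omega
    · obtain ⟨r, hr, hrG, hr2, hrp⟩ := h.third
      have hc := h.card_Q
      rw [h0, Subgroup.card_top] at hc
      rw [hc] at hrG
      exact hr2 ((Nat.prime_dvd_prime_iff_eq hr Nat.prime_two).1 (hr.dvd_of_dvd_pow hrG))
  have h2aC : 2 ^ a ∣ Nat.card C := by
    rw [← h.card_Q]; exact Subgroup.card_dvd_of_le hQC
  have h2C : 2 ∣ Nat.card C := dvd_trans (dvd_pow_self 2 (by omega)) h2aC
  have hstarC := h.star C hCtop h2C
  have hCG : Nat.card C ∣ Nat.card G := Subgroup.card_subgroup_dvd_card C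
  have hnot : ¬ 2 ^ (a + 1) ∣ Nat.card C := fun hd => h.sylow (dvd_trans hd hCG)
  -- Sylow 2-subgroup of ↥C
  set QC : Subgroup C := Q.subgroupOf C with hQCdef
  have hcardQC : Nat.card QC = 2 ^ a := by
    rw [hQCdef, ← h.card_Q]
    exact Nat.card_congr (Subgroup.subgroupOfEquivOfLe hQC).toEquiv
  have hfac : (Nat.card C).factorization 2 = a := by
    have hpos : Nat.card C ≠ 0 := Nat.card_pos.ne'
    apply le_antisymm
    · by_contra hlt
      push Not at hlt
      apply hnot
      exact dvd_trans (pow_dvd_pow 2 hlt) (Nat.ordProj_dvd _ _)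
    · exact (Nat.prime_two.pow_dvd_iff_le_factorization hpos).1 h2aC
  let S : Sylow 2 C := Sylow.ofCard QC (by rw [hcardQC, hfac])
  have hS : (S : Subgroup C) = QC := Sylow.coe_ofCard _ _
  have hNC : normalizer ((S : Subgroup C) : Set C) ≤ centralizer ((S : Subgroup C) : Set C) := by
    intro g hg
    rw [hS] at hg ⊢
    have hgN : (g : G) ∈ normalizer (Q : Set G) := by
      rw [Subgroup.mem_normalizer_iff]
      intro n
      constructor
      · intro hn
        have hnC : n ∈ C := hQC hn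
        have h1 := (Subgroup.mem_normalizer_iff.mp hg ⟨n, hnC⟩).1
          (by rw [hQCdef, Subgroup.mem_subgroupOf]; exact hn)
        rw [hQCdef, Subgroup.mem_subgroupOf] at h1
        simpa using h1
      · intro hn
        have hnC : n ∈ C := by
          have h1 : (g : G) * n * (g : G)⁻¹ ∈ C := hQC hn
          have h2 : n = (g : G)⁻¹ * ((g : G) * n * (g : G)⁻¹) * (g : G) := by group
          rw [h2]
          exact C.mul_mem (C.mul_mem (C.inv_mem g.2) h1) g.2
        have h1 := (Subgroup.mem_normalizer_iff.mp hg ⟨n, hnC⟩).2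
          (by rw [hQCdef, Subgroup.mem_subgroupOf]; simpa using hn)
        rw [hQCdef, Subgroup.mem_subgroupOf] at h1
        exact h1
    have hgt : (g : G) * t = t * (g : G) := (hmemC g).1 g.2
    have hgc := hcent g hgN hgt
    rw [Subgroup.mem_centralizer_iff]
    intro k hk
    rw [SetLike.mem_coe, hQCdef, Subgroup.mem_subgroupOf] at hk
    have h1 := (Subgroup.mem_centralizer_iff.mp hgc) k hk
    exact Subtype.ext h1
  set K : Subgroup C := (MonoidHom.transferSylow S hNC).ker with hK
  have hKn : K.Normal := MonoidHom.normal_ker _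
  have hcompl : IsComplement' K (S : Subgroup C) :=
    MonoidHom.ker_transferSylow_isComplement' S hNC
  have hcardK : Nat.card K * 2 ^ a = Nat.card C := by
    have h1 := hcompl.card_mul_card
    rw [hS, hcardQC] at h1
    exact h1
  have hK2 : ¬ 2 ∣ Nat.card K := by
    intro hd
    apply hnot
    rw [← hcardK, pow_succ, mul_comm (2 ^ a) 2]
    exact Nat.mul_dvd_mul hd (dvd_refl _)
  have hKpow : ∃ k, Nat.card K = p ^ k := by
    refine ⟨_, Nat.eq_prime_pow_of_unique_prime_dvd Nat.card_pos.ne' ?_⟩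
    intro d hd hdK
    have hdC : d ∣ Nat.card C := by rw [← hcardK]; exact Dvd.dvd.mul_right hdK _
    rcases hstarC d hd hdC with h2 | hp'
    · exact absurd (h2 ▸ hdK) hK2
    · exact hp'
  have hidx : K.index = 2 ^ a := by
    have h1 := K.index_mul_card
    rw [← hcardK, mul_comm] at h1
    exact Nat.eq_of_mul_eq_mul_left Nat.card_pos h1
  have hpel : ∀ z : C, (∃ j, orderOf z = p ^ j) → z ∈ K := by
    rintro z ⟨j, hj⟩
    have h1 : z ^ K.index ∈ K := K.pow_index_mem z
    rw [hidx] at h1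
    have hcop : Nat.Coprime (2 ^ a) (orderOf z) := by
      rw [hj]
      apply Nat.Coprime.pow
      exact (Nat.coprime_primes Nat.prime_two hp).2 (Ne.symm hp2)
    obtain ⟨m, hm⟩ := exists_pow_eq_self_of_coprime hcop
    rw [← hm]
    exact K.pow_mem h1 m
  refine ⟨K.map C.subtype, ?_, ?_⟩
  · intro z
    rw [Subgroup.mem_map]
    constructor
    · rintro ⟨k, hk, rfl⟩
      refine ⟨(hmemC k).1 k.2, ?_⟩
      obtain ⟨n, hn⟩ := hKpow
      have h1 : orderOf (⟨k, hk⟩ : K) ∣ p ^ n := hn ▸ orderOf_dvd_natCard _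
      obtain ⟨j, _, hj⟩ := (Nat.dvd_prime_pow hp).1 h1
      refine ⟨j, ?_⟩
      rw [← hj, Subgroup.orderOf_mk, Subgroup.coe_subtype, Subgroup.orderOf_coe]
    · rintro ⟨hzt, j, hj⟩
      refine ⟨⟨z, (hmemC z).2 hzt⟩, hpel _ ⟨j, ?_⟩, rfl⟩
      rw [Subgroup.orderOf_mk]; exact hj
  · have hZp : IsPGroup p (K.map C.subtype) := by
      obtain ⟨n, hn⟩ := hKpow
      apply IsPGroup.of_card (n := n)
      rw [← hn]
      exact Subgroup.card_map_of_injective C.subtype_injective
    obtain ⟨P, hP⟩ := hZp.exists_le_sylow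
    intro z hz z' hz'
    exact h.abel P z (hP hz) z' (hP hz')

end Cfsg.Agent.Helper24.S4017F
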