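import Mathlib
import Cfsg.Agent.Lib.Helper7.M11LADefs

set_option autoImplicit false
set_option linter.unusedVariables false
set_option linter.unusedSectionVars false

/-!
M11LA server (helper7, S0435), piece (K3): a subgroup of order prime to 55 of a group of order
7920 has order dividing 144.  (Lagrange and coprimality; `hN` is not needed.)
-/

namespace Cfsg.Agent.Helper24.M11LA

open Subgroup
open Cfsg.Agent.Helper7.M11LA

variable {G : Type*} [Group G] [Finite G]

theorem td (hord : Nat.card G = 7920)
    (hN : ∀ Q : Sylow 11 G, Nat.card (normalizer ((Q : Subgroup G) : Set G)) = 55)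
    (H : Subgroup G) (hcop : (Nat.card H).Coprime 55) : Nat.card H ∣ 144 := by
  have h1 : Nat.card H ∣ 144 * 55 := by
    have := Subgroup.card_subgroup_dvd_card H
    rw [hord] at this
    exact this
  exact Nat.Coprime.dvd_of_dvd_mul_right hcop h1

end Cfsg.Agent.Helper24.M11LA
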