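import Mathlib
import Cfsg.Agent.Lib.Helper7.M11LADefs

set_option autoImplicit false
set_option linter.unusedVariables false
set_option linter.unusedSectionVars false

/-!
M11LA server (helper7, S0435), piece (K9): no involution `z` commuting with an element `y` of
order 5 with `|C(y)| = 10` has `|C(z)| = 720` in a simple group of order 7920.
-/

namespace Cfsg.Agent.Helper24.M11LA

open Subgroup
open Cfsg.Agent.Helper7.M11LA

variable {G : Type*} [Group G] [Finite G]

/-- an element of `zpowers g`, `g` of order 10, whose square is one is `1` or `g ^ 5` -/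
theorem h24_sq_eq_one_of_mem_zpowers {g w : G} (hg : orderOf g = 10) (hw : w ∈ zpowers g)
    (hw2 : w ^ 2 = 1) : w = 1 ∨ w = g ^ 5 := by
  obtain ⟨k, rfl⟩ := Subgroup.mem_zpowers_iff.mp hw
  have h1 : g ^ (k * 2) = 1 := by rw [zpow_mul]; exact_mod_cast hw2
  have h2 : ((orderOf g : ℕ) : ℤ) ∣ k * 2 := orderOf_dvd_iff_zpow_eq_one.mpr h1
  rw [hg] at h2
  have h3 : (5 : ℤ) ∣ k := by omega
  obtain ⟨m, rfl⟩ := h3
  have h10 : g ^ (10 : ℤ) = 1 := by
    have := pow_orderOf_eq_one g
    rw [hg] at this
    exact_mod_cast this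
  rcases Int.emod_two_eq_zero_or_one m with hm | hm
  · left
    obtain ⟨n, rfl⟩ : ∃ n, m = 2 * n := ⟨m / 2, by omega⟩
    rw [show (5 : ℤ) * (2 * n) = 10 * n by ring, zpow_mul, h10, one_zpow]
  · right
    obtain ⟨n, rfl⟩ : ∃ n, m = 2 * n + 1 := ⟨m / 2, by omega⟩
    rw [show (5 : ℤ) * (2 * n + 1) = 10 * n + 5 by ring, zpow_add, zpow_mul, h10, one_zpow, one_mul]
    exact_mod_cast rfl

/-- the only involution commuting with `y` is `z` -/
theorem h24_unique_inv (z y w : G) (hz : orderOf z = 2) (hy : orderOf y = 5) (hzy : Commute z y)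
    (hCy : Nat.card (centralizer ({y} : Set G)) = 10) (hw : orderOf w = 2) (hwy : Commute w y) :
    w = z := by
  have hg : orderOf (y * z) = 10 := by
    rw [hzy.symm.orderOf_mul_eq_mul_orderOf_of_coprime (by rw [hy, hz]; norm_num), hy, hz]
  have hle : zpowers (y * z) ≤ centralizer ({y} : Set G) := by
    rw [Subgroup.zpowers_le, Subgroup.mem_centralizer_singleton_iff]
    calc y * z * y = y * (z * y) := by group
      _ = y * (y * z) := by rw [hzy.eq]
  have hcard : Nat.card (zpowers (y * z)) = 10 := by rw [Nat.card_zpowers, hg]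
  have heq : zpowers (y * z) = centralizer ({y} : Set G) :=
    Subgroup.eq_of_le_of_card_ge hle (by rw [hcard, hCy])
  have hzm : z ∈ zpowers (y * z) := by
    rw [heq, Subgroup.mem_centralizer_singleton_iff]; exact hzy.eq
  have hwm : w ∈ zpowers (y * z) := by
    rw [heq, Subgroup.mem_centralizer_singleton_iff]; exact hwy.eq
  have hz2 : z ^ 2 = 1 := by rw [← hz]; exact pow_orderOf_eq_one z
  have hw2 : w ^ 2 = 1 := by rw [← hw]; exact pow_orderOf_eq_one w
  have hz1 : z ≠ 1 := by
    intro h; rw [h, orderOf_one] at hz; norm_num at hz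
  have hw1 : w ≠ 1 := by
    intro h; rw [h, orderOf_one] at hw; norm_num at hw
  rcases h24_sq_eq_one_of_mem_zpowers hg hzm hz2 with h | h
  · exact absurd h hz1
  · rcases h24_sq_eq_one_of_mem_zpowers hg hwm hw2 with h' | h'
    · exact absurd h' hw1
    · rw [h, h']

theorem excl720 [IsSimpleGroup G] (hord : Nat.card G = 7920) (z y : G) (hz : orderOf z = 2)
    (hy : orderOf y = 5) (hzy : Commute z y)
    (hCy : Nat.card (centralizer ({y} : Set G)) = 10)
    (hCz : Nat.card (centralizer ({z} : Set G)) = 720) : False := by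
  classical
  set H : Subgroup G := centralizer ({z} : Set G) with hH
  have : Fintype (G ⧸ H) := Fintype.ofFinite _
  have hz1 : z ≠ 1 := by
    intro h; rw [h, orderOf_one] at hz; norm_num at hz
  have hz2 : z ^ 2 = 1 := by rw [← hz]; exact pow_orderOf_eq_one z
  have hy5 : y ^ 5 = 1 := by rw [← hy]; exact pow_orderOf_eq_one y
  -- eleven points
  have hX : Fintype.card (G ⧸ H) = 11 := by
    rw [← Nat.card_eq_fintype_card, ← Subgroup.index_eq_card]
    have := H.card_mul_index
    rw [hCz, hord] at this
    omega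
  let φ : G →* Equiv.Perm (G ⧸ H) := MulAction.toPermHom G (G ⧸ H)
  have hφ : ∀ g x : G, φ g (QuotientGroup.mk x) = QuotientGroup.mk (g * x) := by
    intro g x; rfl
  -- faithful
  have hinj : Function.Injective φ := by
    rw [← MonoidHom.ker_eq_bot_iff]
    have hk : φ.ker = H.normalCore := (Subgroup.normalCore_eq_ker H).symm
    rw [hk]
    rcases (IsSimpleGroup.eq_bot_or_eq_top_of_normal H.normalCore inferInstance) with h | h
    · exact h
    · exfalso
      have hT : H = ⊤ := top_le_iff.mp (h ▸ Subgroup.normalCore_le H)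
      have : Nat.card H = Nat.card G := by rw [hT, Subgroup.card_top]
      rw [hCz, hord] at this
      norm_num at this
  -- even
  have hsign : ∀ g : G, Equiv.Perm.sign (φ g) = 1 := by
    let ψ : G →* ℤˣ := (Equiv.Perm.sign).comp φ
    have hker : ψ.ker = ⊤ := by
      rcases (IsSimpleGroup.eq_bot_or_eq_top_of_normal ψ.ker inferInstance) with h | h
      · exfalso
        have hinj' : Function.Injective ψ := (MonoidHom.ker_eq_bot_iff ψ).mp h
        have hle := Nat.card_le_card_of_injective ψ hinj'
        rw [hord] at hle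
        have h2 : Nat.card ℤˣ = 2 := by
          rw [Nat.card_eq_fintype_card]; rfl
        omega
      · exact h
    intro g
    have : g ∈ ψ.ker := by rw [hker]; exact Subgroup.mem_top g
    exact this
  set a : Equiv.Perm (G ⧸ H) := φ y with ha
  set b : Equiv.Perm (G ⧸ H) := φ z with hb
  have hab : a * b = b * a := by
    rw [ha, hb, ← map_mul, ← map_mul, hzy.eq]
  have hb1 : b ≠ 1 := by
    intro h
    apply hz1
    apply hinj
    rw [map_one]; exact h
  have hb2 : b ^ 2 = 1 := by rw [hb, ← map_pow, hz2, map_one]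
  have ha5 : a ^ 5 = 1 := by rw [ha, ← map_pow, hy5, map_one]
  have hob : orderOf b = 2 := orderOf_eq_prime hb2 hb1
  -- the cycle type of `b`
  obtain ⟨n, hn⟩ := Equiv.Perm.cycleType_prime_order (σ := b) (by rw [hob]; exact Nat.prime_two)
  rw [hob] at hn
  have hsum : b.cycleType.sum = 2 * (n + 1) := by
    rw [hn, Multiset.sum_replicate, smul_eq_mul, mul_comm]
  have hcard : Multiset.card b.cycleType = n + 1 := by rw [hn, Multiset.card_replicate]
  have hle : 2 * (n + 1) ≤ 11 := by
    rw [← hsum, ← hX]; exact Equiv.Perm.sum_cycleType_le b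
  have hsb : Equiv.Perm.sign b = 1 := hsign z
  rw [Equiv.Perm.sign_of_cycleType, hsum, hcard] at hsb
  have heven : Even (n + 1) := by
    have h3 : Even (2 * (n + 1) + (n + 1)) := by
      by_contra hodd
      rw [Nat.not_even_iff_odd] at hodd
      rw [hodd.neg_one_pow] at hsb
      exact absurd hsb (by decide)
    have : Even (2 * (n + 1)) := even_two_mul _
    exact (Nat.even_add.mp h3).mp this
  have hfix : Fintype.card (Function.fixedPoints b) = 11 - 2 * (n + 1) := by
    rw [Equiv.Perm.card_fixedPoints, hX, hsum]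
  -- the action of `a` on the fixed points of `b`
  have hinvar : ∀ x : G ⧸ H, (a x ∈ Function.fixedPoints b) ↔ x ∈ Function.fixedPoints b := by
    intro x
    simp only [Function.mem_fixedPoints, Function.IsFixedPt]
    have h1 : b (a x) = a (b x) := by
      have := congrArg (fun σ : Equiv.Perm (G ⧸ H) => σ x) hab
      simpa [Equiv.Perm.mul_apply] using this.symm
    rw [h1]
    exact a.injective.eq_iff
  let σ : Equiv.Perm {x : G ⧸ H // x ∈ Function.fixedPoints b} := a.subtypePerm hinvar
  have hσ5 : σ ^ 5 ^ 1 = 1 := by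
    rw [pow_one, Equiv.Perm.subtypePerm_pow]
    ext x
    simp [ha5]
  have : Fact (Nat.Prime 5) := ⟨by norm_num⟩
  have hmod := Equiv.Perm.card_compl_support_modEq (p := 5) (n := 1) hσ5
  -- the unique fixed point
  have hmk1 : (QuotientGroup.mk (1 : G) : G ⧸ H) ∈ Function.fixedPoints b := by
    show b (QuotientGroup.mk 1) = QuotientGroup.mk 1
    rw [hb, hφ, mul_one]
    rw [QuotientGroup.eq, mul_one, Subgroup.inv_mem_iff, hH, Subgroup.mem_centralizer_singleton_iff]
  have huniq : ∀ x : G ⧸ H, a x = x → x = QuotientGroup.mk 1 := by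
    intro x hx
    obtain ⟨g, rfl⟩ := QuotientGroup.mk_surjective x
    rw [ha, hφ] at hx
    have h1 : (y * g)⁻¹ * g ∈ H := QuotientGroup.eq.mp hx
    rw [hH, Subgroup.mem_centralizer_singleton_iff] at h1
    -- `w = g z g⁻¹` commutes with `y`
    have hwy : Commute (g * z * g⁻¹) y := by
      show g * z * g⁻¹ * y = y * (g * z * g⁻¹)
      have h3 : g⁻¹ * y⁻¹ * g * z = z * (g⁻¹ * y⁻¹ * g) := by
        have : (y * g)⁻¹ * g = g⁻¹ * y⁻¹ * g := by group
        rw [this] at h1
        exact h1
      calc g * z * g⁻¹ * y = y * (y⁻¹ * g * z * g⁻¹ * y) := by group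
        _ = y * (g * (g⁻¹ * y⁻¹ * g * z) * g⁻¹ * y) := by group
        _ = y * (g * (z * (g⁻¹ * y⁻¹ * g)) * g⁻¹ * y) := by rw [h3]
        _ = y * (g * z * g⁻¹) := by group
    have hwo : orderOf (g * z * g⁻¹) = 2 := by
      have := (MulAut.conj g).orderOf_eq z
      rw [MulAut.conj_apply] at this
      rw [this, hz]
    have hw := h24_unique_inv z y (g * z * g⁻¹) hz hy hzy hCy hwo hwy
    rw [QuotientGroup.eq, mul_one, Subgroup.inv_mem_iff, hH, Subgroup.mem_centralizer_singleton_iff]
    calc g * z = (g * z * g⁻¹) * g := by group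
      _ = z * g := by rw [hw]
  have hcompl : σ.supportᶜ = {⟨QuotientGroup.mk 1, hmk1⟩} := by
    ext x
    simp only [Finset.mem_compl, Equiv.Perm.mem_support, not_not, Finset.mem_singleton]
    constructor
    · intro hx
      apply Subtype.ext
      apply huniq
      have := congrArg Subtype.val hx
      simpa [σ] using this
    · rintro rfl
      apply Subtype.ext
      show a (QuotientGroup.mk 1) = QuotientGroup.mk 1
      rw [ha, hφ, mul_one, QuotientGroup.eq, mul_one, Subgroup.inv_mem_iff, hH,
        Subgroup.mem_centralizer_singleton_iff]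
      exact hzy.eq.symm
  rw [hcompl, Finset.card_singleton] at hmod
  have hcardS : Fintype.card {x : G ⧸ H // x ∈ Function.fixedPoints b} = 11 - 2 * (n + 1) := by
    rw [← hfix]
  rw [hcardS] at hmod
  obtain ⟨k, hk⟩ := heven
  have hk' : k = 1 ∨ k = 2 := by omega
  rcases hk' with rfl | rfl
  · have : n = 1 := by omega
    subst this
    exact absurd hmod (by decide)
  · have : n = 3 := by omega
    subst this
    exact absurd hmod (by decide)

end Cfsg.Agent.Helper24.M11LA
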