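import Mathlib

set_option autoImplicit false

namespace Cfsg.Agent.Helper24

open Finset

/-- Reindexing a sum of powers of an element of order dividing `p` by a nonzero multiplier. -/
theorem sum_pow_mul_val_eq {R : Type*} [Semiring R] (p : ℕ) [Fact p.Prime] (ζ : R) (hζ : ζ ^ p = 1)
    (e : ZMod p) (he : e ≠ 0) :
    ∑ j : ZMod p, ζ ^ (e.val * j.val) = ∑ j : ZMod p, ζ ^ j.val := by
  have h1 : ∀ j : ZMod p, ζ ^ (e.val * j.val) = ζ ^ (e * j).val := by
    intro j
    rw [ZMod.val_mul, ← pow_eq_pow_mod _ hζ]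
  simp_rw [h1]
  exact Fintype.sum_equiv (Equiv.mulLeft₀ e he) _ _ (fun j => rfl)

/-- The norm trick: if `ζ` has order dividing `p`, commutes with `σ`, and its norm
`∑ ζ^j` vanishes, then the fixed spaces of `ζ^k σ` (`k` mod `p`) are independent. -/
theorem normTrick_indep {M : Type*} [AddCommGroup M] (p : ℕ) [Fact p.Prime]
    (ζ σ : Module.End ℤ M) (hcomm : Commute ζ σ) (hζ : ζ ^ p = 1)
    (hN : ∑ j : ZMod p, ζ ^ j.val = 0) (hp : ∀ v : M, p • v = 0 → v = 0)
    (w : ZMod p → M) (hw : ∀ k, (ζ ^ k.val * σ) (w k) = w k) (hsum : ∑ k, w k = 0)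
    (i : ZMod p) : w i = 0 := by
  set θ : ZMod p → Module.End ℤ M := fun k => ζ ^ k.val * σ with hθ
  set T : Module.End ℤ M := ∑ j : ZMod p, (θ i) ^ j.val with hT
  have hfix : ∀ k (m : ℕ), ((θ k) ^ m) (w k) = w k := by
    intro k m
    induction m with
    | zero => simp
    | succ m ih =>
      rw [pow_succ, Module.End.mul_apply, hw k, ih]
  have hθik : ∀ k, θ i = ζ ^ (i - k).val * θ k := by
    intro k
    simp only [hθ]
    rw [← mul_assoc, ← pow_add]
    congr 1
    have := ZMod.val_add (i - k) k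
    rw [sub_add_cancel] at this
    rw [pow_eq_pow_mod ((i - k).val + k.val) hζ, ← this]
  have hcomm' : ∀ k (a : ℕ), Commute (ζ ^ a) (θ k) := by
    intro k a
    simp only [hθ]
    exact ((Commute.refl ζ).pow_right _ |>.mul_right hcomm).pow_left _
  have hTw : ∀ k, T (w k) = (∑ j : ZMod p, ζ ^ ((i - k).val * j.val)) (w k) := by
    intro k
    rw [hT, LinearMap.sum_apply, LinearMap.sum_apply]
    refine Finset.sum_congr rfl (fun j _ => ?_)
    rw [hθik k, (hcomm' k _).mul_pow, Module.End.mul_apply, hfix k, ← pow_mul]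
  have h0 : T (∑ k, w k) = 0 := by rw [hsum, map_zero]
  rw [map_sum] at h0
  rw [Finset.sum_eq_single i] at h0
  · rw [hTw i, sub_self, ZMod.val_zero] at h0
    simp only [zero_mul, pow_zero] at h0
    rw [LinearMap.sum_apply] at h0
    simp only [Module.End.one_apply, Finset.sum_const, Finset.card_univ, ZMod.card] at h0
    exact hp _ h0
  · intro k _ hki
    rw [hTw k, sum_pow_mul_val_eq p ζ hζ (i - k) (sub_ne_zero.mpr (Ne.symm hki)), hN]
    simp
  · intro h; exact absurd (Finset.mem_univ i) h

end Cfsg.Agent.Helper24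

namespace Cfsg.Agent.Helper24

open Finset

/-- If `ζ` has order dividing `p` and no nonzero fixed vector, its norm vanishes. -/
theorem norm_eq_zero_of_fixedPointFree {M : Type*} [AddCommGroup M] (p : ℕ) [Fact p.Prime]
    (ζ : Module.End ℤ M) (hζ : ζ ^ p = 1) (hfix : ∀ v, ζ v = v → v = 0) :
    ∑ j : ZMod p, ζ ^ j.val = 0 := by
  have hp1 : Fact (1 < p) := ⟨(Fact.out : p.Prime).one_lt⟩
  have h1 : ζ * ∑ j : ZMod p, ζ ^ j.val = ∑ j : ZMod p, ζ ^ j.val := by
    rw [Finset.mul_sum]
    have h2 : ∀ j : ZMod p, ζ * ζ ^ j.val = ζ ^ (j + 1).val := by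
      intro j
      rw [← pow_succ', ZMod.val_add, ZMod.val_one, ← pow_eq_pow_mod _ hζ]
    simp_rw [h2]
    exact Fintype.sum_equiv (Equiv.addRight 1) _ _ (fun j => rfl)
  apply LinearMap.ext
  intro v
  rw [LinearMap.zero_apply]
  apply hfix
  rw [← Module.End.mul_apply, h1]

/-- Counting consequence of the norm trick. -/
theorem card_fixed_pow_le {M : Type*} [AddCommGroup M] [Finite M] (p : ℕ) [Fact p.Prime]
    (ζ σ α : Module.End ℤ M) (hζσ : Commute ζ σ) (hζα : Commute ζ α) (hζ : ζ ^ p = 1)
    (hfix : ∀ v, ζ v = v → v = 0) (hα : α * σ = ζ * σ * α) (hαinj : Function.Injective α)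
    (hcop : (Nat.card M).Coprime p) :
    (Nat.card {v : M // σ v = v}) ^ p ≤ Nat.card M := by
  have hpv : ∀ v : M, p • v = 0 → v = 0 := by
    intro v hv
    have h1 : addOrderOf v ∣ p := addOrderOf_dvd_of_nsmul_eq_zero hv
    have h2 : addOrderOf v ∣ Nat.card M := addOrderOf_dvd_natCard v
    have h3 : addOrderOf v ∣ 1 := by
      have := Nat.dvd_gcd h2 h1
      rwa [hcop] at this
    exact AddMonoid.addOrderOf_eq_one_iff.mp (Nat.dvd_one.mp h3)
  have hN := norm_eq_zero_of_fixedPointFree p ζ hζ hfix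
  -- α^k σ = ζ^k σ α^k
  have hpow : ∀ k : ℕ, α ^ k * σ = ζ ^ k * σ * α ^ k := by
    intro k
    induction k with
    | zero => simp
    | succ k ih =>
      have e1 : α ^ (k + 1) * σ = α * (α ^ k * σ) := by rw [pow_succ', mul_assoc]
      rw [e1, ih]
      have e2 : α * (ζ ^ k * σ * α ^ k) = ζ ^ k * (α * σ) * α ^ k := by
        rw [← mul_assoc, ← mul_assoc, (hζα.pow_left k).symm.eq]
        simp only [mul_assoc]
      rw [e2, hα]
      have e3 : ζ ^ k * (ζ * σ * α) * α ^ k = ζ ^ (k + 1) * σ * (α * α ^ k) := by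
        rw [pow_succ]; simp only [mul_assoc]
      rw [e3, ← pow_succ']
  have hαk : ∀ k : ℕ, Function.Injective (α ^ k) := by
    intro k
    induction k with
    | zero => intro x y h; simpa using h
    | succ k ih =>
      intro x y h
      rw [pow_succ, Module.End.mul_apply, Module.End.mul_apply] at h
      exact hαinj (ih h)
  -- the injection
  let Ψ : (ZMod p → {v : M // σ v = v}) → M := fun u => ∑ k : ZMod p, (α ^ k.val) (u k).1
  have hΨ : Function.Injective Ψ := by
    intro u u' h
    funext i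
    apply Subtype.ext
    have hsum : ∑ k : ZMod p, (α ^ k.val) ((u k).1 - (u' k).1) = 0 := by
      simp only [map_sub, Finset.sum_sub_distrib]
      exact sub_eq_zero.mpr h
    have hw : ∀ k : ZMod p, (ζ ^ k.val * σ) ((α ^ k.val) ((u k).1 - (u' k).1)) =
        (α ^ k.val) ((u k).1 - (u' k).1) := by
      intro k
      rw [← Module.End.mul_apply, ← hpow k.val, Module.End.mul_apply, map_sub, (u k).2, (u' k).2]
    have := normTrick_indep p ζ σ hζσ hζ hN hpv _ hw hsum i
    have h2 : (u i).1 - (u' i).1 = 0 := by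
      apply hαk i.val
      rw [this, map_zero]
    exact sub_eq_zero.mp h2
  have h1 := Nat.card_le_card_of_injective Ψ hΨ
  rw [Nat.card_fun, Nat.card_zmod] at h1
  exact h1

end Cfsg.Agent.Helper24

namespace Cfsg.Agent.Helper24

variable {G : Type*} [Group G]

/-- Group-theoretic form of the norm trick: let `N` be an abelian normal `p'`-subgroup, and
`c, a, z` elements whose actions on `N` satisfy: `z` commutes with `c` and `a`, `z^p` acts
trivially, `z` acts fixed-point-freely, and `a c a⁻¹` acts like `z c`.  Then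
`|C_N(c)|^p ≤ |N|`. -/
theorem card_centralizer_pow_le (p : ℕ) [Fact p.Prime] (N : Subgroup G)
    [hNn : N.Normal] [Finite N]
    (hNab : ∀ x ∈ N, ∀ y ∈ N, x * y = y * x) (hcop : (Nat.card N).Coprime p) (c a z : G)
    (hzc : ∀ n ∈ N, z * (c * n * c⁻¹) * z⁻¹ = c * (z * n * z⁻¹) * c⁻¹)
    (hza : ∀ n ∈ N, z * (a * n * a⁻¹) * z⁻¹ = a * (z * n * z⁻¹) * a⁻¹)
    (hzp : ∀ n ∈ N, z ^ p * n * (z ^ p)⁻¹ = n)
    (hzfix : ∀ n ∈ N, z * n * z⁻¹ = n → n = 1)
    (hac : ∀ n ∈ N, a * (c * n * c⁻¹) * a⁻¹ = z * (c * (a * n * a⁻¹) * c⁻¹) * z⁻¹) :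
    (Nat.card ↥(N ⊓ Subgroup.centralizer ({c} : Set G))) ^ p ≤ Nat.card N := by
  let _ : CommGroup ↥N :=
    { (inferInstance : Group ↥N) with mul_comm := fun x y => Subtype.ext (hNab x x.2 y y.2) }
  let E : G → Module.End ℤ (Additive ↥N) := fun g =>
    (MonoidHom.toAdditive ((MulAut.conjNormal g : MulAut ↥N).toMonoidHom)).toIntLinearMap
  have hE : ∀ (g : G) (n : ↥N), E g (Additive.ofMul n) =
      Additive.ofMul (⟨g * n * g⁻¹, hNn.conj_mem n n.2 g⟩ : ↥N) := by
    intro g n
    rfl
  have hext : ∀ (f f' : Module.End ℤ (Additive ↥N)),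
      (∀ n : ↥N, f (Additive.ofMul n) = f' (Additive.ofMul n)) → f = f' := by
    intro f f' h
    apply LinearMap.ext
    intro v
    exact h (Additive.toMul v)
  have hEmul : ∀ g h : G, E (g * h) = E g * E h := by
    intro g h
    apply hext
    intro n
    rw [Module.End.mul_apply, hE, hE, hE]
    congr 1
    apply Subtype.ext
    simp [mul_assoc]
  have hEone : E 1 = 1 := by
    apply hext
    intro n
    rw [hE, Module.End.one_apply]
    congr 1
    apply Subtype.ext
    simp
  have hEpow : ∀ (g : G) (k : ℕ), E (g ^ k) = E g ^ k := by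
    intro g k
    induction k with
    | zero => simp [hEone]
    | succ k ih => rw [pow_succ, hEmul, ih, pow_succ]
  have h1 : Commute (E z) (E c) := by
    apply hext
    intro n
    rw [Module.End.mul_apply, Module.End.mul_apply, hE, hE, hE, hE]
    congr 1
    apply Subtype.ext
    exact hzc n n.2
  have h2 : Commute (E z) (E a) := by
    apply hext
    intro n
    rw [Module.End.mul_apply, Module.End.mul_apply, hE, hE, hE, hE]
    congr 1
    apply Subtype.ext
    exact hza n n.2
  have h3 : E z ^ p = 1 := by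
    rw [← hEpow]
    apply hext
    intro n
    rw [hE, Module.End.one_apply]
    congr 1
    apply Subtype.ext
    exact hzp n n.2
  have h4 : ∀ v : Additive ↥N, E z v = v → v = 0 := by
    intro v hv
    have hv' : E z (Additive.ofMul (Additive.toMul v)) = Additive.ofMul (Additive.toMul v) := hv
    rw [hE] at hv'
    have h5 := congrArg (fun w => ((Additive.toMul w : ↥N) : G)) hv'
    simp only [toMul_ofMul] at h5
    have h6 := hzfix _ (Additive.toMul v).2 h5
    have h7 : Additive.toMul v = 1 := Subtype.ext h6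
    have : v = Additive.ofMul (Additive.toMul v) := rfl
    rw [this, h7]
    rfl
  have h5 : E a * E c = E z * E c * E a := by
    apply hext
    intro n
    rw [Module.End.mul_apply, Module.End.mul_apply, Module.End.mul_apply, hE, hE, hE, hE, hE]
    congr 1
    apply Subtype.ext
    exact hac n n.2
  have h6 : Function.Injective (E a) := by
    intro v v' h
    have h' : E a (Additive.ofMul (Additive.toMul v)) = E a (Additive.ofMul (Additive.toMul v')) := h
    rw [hE, hE] at h'
    have h7 := congrArg (fun w => ((Additive.toMul w : ↥N) : G)) h'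
    simp only [toMul_ofMul] at h7
    have h8 : ((Additive.toMul v : ↥N) : G) = ((Additive.toMul v' : ↥N) : G) := by
      rw [mul_assoc, mul_assoc] at h7
      exact mul_right_cancel (mul_left_cancel h7)
    have h9 : Additive.toMul v = Additive.toMul v' := Subtype.ext h8
    exact Additive.toMul.injective h9
  have hcard : Nat.card (Additive ↥N) = Nat.card ↥N := rfl
  have hfin : Finite (Additive ↥N) := inferInstanceAs (Finite ↥N)
  have hmain := card_fixed_pow_le p (E z) (E c) (E a) h1 h2 h3 h4 h5 h6 (by rw [hcard]; exact hcop)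
  rw [hcard] at hmain
  refine le_trans (Nat.pow_le_pow_left ?_ p) hmain
  let f : ↥(N ⊓ Subgroup.centralizer ({c} : Set G)) → {v : Additive ↥N // E c v = v} := fun x =>
    ⟨Additive.ofMul (⟨x.1, x.2.1⟩ : ↥N), by
      rw [hE]
      congr 1
      apply Subtype.ext
      have hx : (x : G) ∈ Subgroup.centralizer ({c} : Set G) := x.2.2
      rw [Subgroup.mem_centralizer_iff] at hx
      have := hx c (Set.mem_singleton c)
      show c * (x : G) * c⁻¹ = (x : G)
      rw [this]; group⟩
  have hf : Function.Injective f := by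
    intro x y h
    have h1 := congrArg (fun w => ((Additive.toMul w.1 : ↥N) : G)) h
    exact Subtype.ext h1
  exact Nat.card_le_card_of_injective f hf

end Cfsg.Agent.Helper24
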