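import Mathlib
import Cfsg.Agent.Lib.Helper24.NormTrick
import Cfsg.Agent.Lib.Helper52.Coprime
import Cfsg.Agent.Lib.Helper52.CoprimeSylow
import Cfsg.Agent.Lib.Helper24.ClassTwo

/-!
# A Baer–Suzuki type lemma for pairs of generating sets in a `p`-nilpotent group

If `G = N ⋊ P` with `N` a normal `p'`-subgroup, `p ≥ 3`, `P = ⟨C⟩ = ⟨D⟩` and `⟨c^x, d⟩` is a
`p`-group for all `x ∈ N`, `c ∈ C`, `d ∈ D`, then `P` centralizes `N`.
-/

set_option autoImplicit false

namespace Cfsg.Agent.Helper24.BSP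

open Subgroup
open scoped commutatorElement

universe u

/-- The statement, for groups of order `n`. -/
def Goal (p n : ℕ) : Prop :=
  ∀ (G : Type u) [Group G] [Finite G], Nat.card G = n → ∀ (P : Sylow p G) (N : Subgroup G),
    N.Normal → (Nat.card N).Coprime p → N ⊔ (P : Subgroup G) = ⊤ → ∀ C D : Set G,
    closure C = (P : Subgroup G) → closure D = (P : Subgroup G) →
    (∀ x ∈ N, ∀ c ∈ C, ∀ d ∈ D, IsPGroup p ↥(closure ({x * c * x⁻¹, d} : Set G))) →
    (P : Subgroup G) ≤ centralizer (N : Set G)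

section

variable {p : ℕ} [hp : Fact p.Prime] {G : Type u} [Group G] [Finite G]

theorem inf_sylow_eq_bot (P : Sylow p G) (N : Subgroup G) (hcop : (Nat.card N).Coprime p) :
    N ⊓ (P : Subgroup G) = ⊥ := by
  apply (Subgroup.disjoint_of_coprime_natCard _).eq_bot
  obtain ⟨k, hk⟩ := IsPGroup.iff_card.mp P.isPGroup'
  rw [hk]
  exact Nat.Coprime.pow_right k hcop

theorem closure_preimage_subtype (L : Subgroup G) (C : Set G) (hCL : closure C ≤ L) :
    closure (L.subtype ⁻¹' C) = (closure C).subgroupOf L := by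
  apply Subgroup.map_injective L.subtype_injective
  rw [MonoidHom.map_closure, Subgroup.subgroupOf_map_subtype, inf_eq_left.mpr hCL]
  congr 1
  rw [Set.image_preimage_eq_of_subset]
  intro x hx
  exact ⟨⟨x, hCL (subset_closure hx)⟩, rfl⟩

/-- Inductive step: passing to `N₁ P` for a `P`-invariant proper subgroup `N₁` of `N`. -/
theorem sub_step (ih : ∀ m < Nat.card G, Goal.{u} p m) (P : Sylow p G) (N : Subgroup G)
    [hNn : N.Normal] (hcop : (Nat.card N).Coprime p) (hNP : N ⊔ (P : Subgroup G) = ⊤)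
    (C D : Set G) (hC : closure C = (P : Subgroup G)) (hD : closure D = (P : Subgroup G))
    (h : ∀ x ∈ N, ∀ c ∈ C, ∀ d ∈ D, IsPGroup p ↥(closure ({x * c * x⁻¹, d} : Set G)))
    (N₁ : Subgroup G) (h1 : N₁ ≤ N) (h2 : N₁ ≠ N)
    (h3 : (P : Subgroup G) ≤ normalizer (N₁ : Set G)) :
    (P : Subgroup G) ≤ centralizer (N₁ : Set G) := by
  set L : Subgroup G := N₁ ⊔ (P : Subgroup G) with hL
  have hPL : (P : Subgroup G) ≤ L := le_sup_right
  have hN₁L : N₁ ≤ L := le_sup_left
  have hLnorm : L ≤ normalizer (N₁ : Set G) := sup_le le_normalizer h3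
  have hinf := inf_sylow_eq_bot P N hcop
  have hLtop : L ≠ ⊤ := by
    intro htop
    apply h2
    apply le_antisymm h1
    have hN₁n : N₁.Normal := by
      rw [← Subgroup.normalizer_eq_top_iff, eq_top_iff, ← htop]
      exact hLnorm
    intro n hn
    have hnL : n ∈ N₁ ⊔ (P : Subgroup G) := by rw [← hL, htop]; trivial
    obtain ⟨y, hy, z, hz, rfl⟩ := Subgroup.mem_sup_of_normal_left.mp hnL
    have hzN : z ∈ N := by
      have : z = y⁻¹ * (y * z) := by group
      rw [this]
      exact N.mul_mem (N.inv_mem (h1 hy)) hn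
    have hz1 : z ∈ N ⊓ (P : Subgroup G) := ⟨hzN, hz⟩
    rw [hinf, Subgroup.mem_bot] at hz1
    rw [hz1, mul_one]
    exact hy
  have hlt : Nat.card L < Nat.card G := by
    apply lt_of_le_of_ne (Subgroup.card_le_card_group L)
    intro heq
    exact hLtop (Subgroup.eq_top_of_card_eq L heq)
  have hNLn : (N₁.subgroupOf L).Normal :=
    (Subgroup.normal_subgroupOf_iff_le_normalizer hN₁L).mpr hLnorm
  have hcopL : (Nat.card (N₁.subgroupOf L)).Coprime p := by
    rw [Nat.card_congr (Subgroup.subgroupOfEquivOfLe hN₁L).toEquiv]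
    exact Nat.Coprime.coprime_dvd_left (Subgroup.card_dvd_of_le h1) hcop
  have hsupL : N₁.subgroupOf L ⊔ ((P.subtype hPL : Sylow p L) : Subgroup L) = ⊤ := by
    rw [Sylow.coe_subtype, ← Subgroup.subgroupOf_sup hN₁L hPL, Subgroup.subgroupOf_self]
  have hCL : closure (L.subtype ⁻¹' C) = ((P.subtype hPL : Sylow p L) : Subgroup L) := by
    rw [Sylow.coe_subtype, closure_preimage_subtype L C (by rw [hC]; exact hPL), hC]
  have hDL : closure (L.subtype ⁻¹' D) = ((P.subtype hPL : Sylow p L) : Subgroup L) := by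
    rw [Sylow.coe_subtype, closure_preimage_subtype L D (by rw [hD]; exact hPL), hD]
  have hHL : ∀ x ∈ N₁.subgroupOf L, ∀ c ∈ L.subtype ⁻¹' C, ∀ d ∈ L.subtype ⁻¹' D,
      IsPGroup p ↥(closure ({x * c * x⁻¹, d} : Set L)) := by
    intro x hx c hc d hd
    have hG := h (x : G) (h1 hx) (c : G) hc (d : G) hd
    have hmap : (closure ({x * c * x⁻¹, d} : Set L)).map L.subtype =
        closure ({(x : G) * (c : G) * (x : G)⁻¹, (d : G)} : Set G) := by
      rw [MonoidHom.map_closure, Set.image_pair]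
      rfl
    rw [← hmap] at hG
    exact hG.of_equiv
      (Subgroup.equivMapOfInjective _ L.subtype L.subtype_injective).symm
  have key := ih (Nat.card L) hlt L rfl (P.subtype hPL) (N₁.subgroupOf L) hNLn hcopL hsupL
    _ _ hCL hDL hHL
  intro g hg
  rw [Subgroup.mem_centralizer_iff]
  intro n hn
  have hg' : (⟨g, hPL hg⟩ : L) ∈ ((P.subtype hPL : Sylow p L) : Subgroup L) := by
    rw [Sylow.coe_subtype]; exact hg
  have hn' : (⟨n, hN₁L hn⟩ : L) ∈ ((N₁.subgroupOf L : Subgroup L) : Set L) := hn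
  have := (Subgroup.mem_centralizer_iff.mp (key hg')) _ hn'
  exact congrArg Subtype.val this

/-- Inductive step: passing to `G / N₁` for a nontrivial normal subgroup `N₁ ≤ N`. -/
theorem quot_step (ih : ∀ m < Nat.card G, Goal.{u} p m) (P : Sylow p G) (N : Subgroup G)
    [hNn : N.Normal] (hcop : (Nat.card N).Coprime p) (hNP : N ⊔ (P : Subgroup G) = ⊤)
    (C D : Set G) (hC : closure C = (P : Subgroup G)) (hD : closure D = (P : Subgroup G))
    (h : ∀ x ∈ N, ∀ c ∈ C, ∀ d ∈ D, IsPGroup p ↥(closure ({x * c * x⁻¹, d} : Set G)))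
    (N₁ : Subgroup G) [hN₁n : N₁.Normal] (h2 : N₁ ≠ ⊥) :
    ⁅(P : Subgroup G), N⁆ ≤ N₁ := by
  set π := QuotientGroup.mk' N₁ with hπ
  have hsurj : Function.Surjective π := QuotientGroup.mk'_surjective N₁
  have hlt : Nat.card (G ⧸ N₁) < Nat.card G := by
    have h1 := Subgroup.index_mul_card N₁
    have h3 : 1 < Nat.card N₁ := (Subgroup.one_lt_card_iff_ne_bot N₁).mpr h2
    have h4 : 0 < N₁.index := Nat.pos_of_ne_zero Subgroup.index_ne_zero_of_finite
    have h5 : Nat.card (G ⧸ N₁) = N₁.index := rfl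
    rw [h5]
    nlinarith
  have hNn' : (N.map π).Normal := hNn.map π hsurj
  have hcop' : (Nat.card (N.map π)).Coprime p :=
    Nat.Coprime.coprime_dvd_left (Subgroup.card_map_dvd N π) hcop
  have hsup' : N.map π ⊔ ((P.mapSurjective hsurj : Sylow p (G ⧸ N₁)) : Subgroup (G ⧸ N₁)) = ⊤ := by
    rw [Sylow.coe_mapSurjective, ← Subgroup.map_sup, hNP, Subgroup.map_top_of_surjective π hsurj]
  have hC' : closure (π '' C) = ((P.mapSurjective hsurj : Sylow p (G ⧸ N₁)) : Subgroup (G ⧸ N₁)) := by
    rw [Sylow.coe_mapSurjective, ← MonoidHom.map_closure, hC]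
  have hD' : closure (π '' D) = ((P.mapSurjective hsurj : Sylow p (G ⧸ N₁)) : Subgroup (G ⧸ N₁)) := by
    rw [Sylow.coe_mapSurjective, ← MonoidHom.map_closure, hD]
  have hH' : ∀ x ∈ N.map π, ∀ c ∈ π '' C, ∀ d ∈ π '' D,
      IsPGroup p ↥(closure ({x * c * x⁻¹, d} : Set (G ⧸ N₁))) := by
    rintro _ ⟨x, hx, rfl⟩ _ ⟨c, hc, rfl⟩ _ ⟨d, hd, rfl⟩
    have hG := h x hx c hc d hd
    have hmap : (closure ({x * c * x⁻¹, d} : Set G)).map π =
        closure ({π x * π c * (π x)⁻¹, π d} : Set (G ⧸ N₁)) := by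
      rw [MonoidHom.map_closure, Set.image_pair, map_mul, map_mul, map_inv]
    rw [← hmap]
    exact hG.map π
  have key := ih (Nat.card (G ⧸ N₁)) hlt (G ⧸ N₁) rfl (P.mapSurjective hsurj) (N.map π) hNn' hcop'
    hsup' _ _ hC' hD' hH'
  rw [Subgroup.commutator_le]
  intro g hg n hn
  have hg' : π g ∈ ((P.mapSurjective hsurj : Sylow p (G ⧸ N₁)) : Subgroup (G ⧸ N₁)) := by
    rw [Sylow.coe_mapSurjective]; exact Subgroup.mem_map_of_mem π hg
  have hn' : π n ∈ ((N.map π : Subgroup (G ⧸ N₁)) : Set (G ⧸ N₁)) := Subgroup.mem_map_of_mem π hn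
  have hcomm := (Subgroup.mem_centralizer_iff.mp (key hg')) _ hn'
  rw [← QuotientGroup.eq_one_iff, ← QuotientGroup.mk'_apply, ← hπ, commutatorElement_def, map_mul, map_mul,
    map_mul, map_inv, map_inv, ← hcomm]
  group

/-- Sylow's theorem in `G = N P`: every `x ∈ N` factors as `y w` with `y ∈ C_N(d)`, `w ∈ C_N(c)`. -/
theorem factor_step (P : Sylow p G) (N : Subgroup G)
    [hNn : N.Normal] (hcop : (Nat.card N).Coprime p) (hNP : N ⊔ (P : Subgroup G) = ⊤)
    (c d x : G) (hc : c ∈ (P : Subgroup G)) (hd : d ∈ (P : Subgroup G)) (hx : x ∈ N)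
    (h : IsPGroup p ↥(closure ({x * c * x⁻¹, d} : Set G))) :
    ∃ y ∈ N ⊓ centralizer ({d} : Set G), ∃ w ∈ N ⊓ centralizer ({c} : Set G), x = y * w := by
  have hinf := inf_sylow_eq_bot P N hcop
  obtain ⟨Q, hQ⟩ := h.exists_le_sylow
  obtain ⟨g, hg⟩ := MulAction.exists_smul_eq G P Q
  have hgtop : g ∈ N ⊔ (P : Subgroup G) := by rw [hNP]; trivial
  obtain ⟨n, hn, u, hu, rfl⟩ := Subgroup.mem_sup_of_normal_left.mp hgtop
  have hmem : ∀ t ∈ closure ({x * c * x⁻¹, d} : Set G), n⁻¹ * t * n ∈ (P : Subgroup G) := by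
    intro t ht
    have h1 : t ∈ (Q : Subgroup G) := hQ ht
    rw [← hg, Sylow.smul_def, Sylow.pointwise_smul_def,
      Subgroup.mem_pointwise_smul_iff_inv_smul_mem, MulAut.smul_def, MulAut.inv_apply,
      MulAut.conj_symm_apply] at h1
    have h2 : n⁻¹ * t * n = u * ((n * u)⁻¹ * t * (n * u)) * u⁻¹ := by group
    rw [h2]
    exact Subgroup.mul_mem _ (Subgroup.mul_mem _ hu h1) (Subgroup.inv_mem _ hu)
  have hd1 : n⁻¹ * d * n ∈ (P : Subgroup G) := hmem d (subset_closure (by simp))
  have hc1 : n⁻¹ * (x * c * x⁻¹) * n ∈ (P : Subgroup G) := hmem _ (subset_closure (by simp))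
  have hnd : n * d = d * n := by
    have h1 : n⁻¹ * d * n * d⁻¹ ∈ N ⊓ (P : Subgroup G) := by
      refine ⟨?_, Subgroup.mul_mem _ hd1 (Subgroup.inv_mem _ hd)⟩
      have : n⁻¹ * d * n * d⁻¹ = n⁻¹ * (d * n * d⁻¹) := by group
      rw [this]
      exact N.mul_mem (N.inv_mem hn) (hNn.conj_mem n hn d)
    rw [hinf, Subgroup.mem_bot] at h1
    calc n * d = n * (n⁻¹ * d * n * d⁻¹) * d := by rw [h1]; group
      _ = d * n := by group
  have hwN : n⁻¹ * x ∈ N := N.mul_mem (N.inv_mem hn) hx
  have hwc : (n⁻¹ * x) * c = c * (n⁻¹ * x) := by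
    have h1 : (n⁻¹ * x) * c * (n⁻¹ * x)⁻¹ * c⁻¹ ∈ N ⊓ (P : Subgroup G) := by
      refine ⟨?_, ?_⟩
      · have : (n⁻¹ * x) * c * (n⁻¹ * x)⁻¹ * c⁻¹ = (n⁻¹ * x) * (c * (n⁻¹ * x)⁻¹ * c⁻¹) := by group
        rw [this]
        exact N.mul_mem hwN (hNn.conj_mem _ (N.inv_mem hwN) c)
      · have : (n⁻¹ * x) * c * (n⁻¹ * x)⁻¹ = n⁻¹ * (x * c * x⁻¹) * n := by group
        rw [this]
        exact Subgroup.mul_mem _ hc1 (Subgroup.inv_mem _ hc)
    rw [hinf, Subgroup.mem_bot] at h1
    calc (n⁻¹ * x) * c = ((n⁻¹ * x) * c * (n⁻¹ * x)⁻¹ * c⁻¹) * c * (n⁻¹ * x) := by group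
      _ = c * (n⁻¹ * x) := by rw [h1, one_mul]
  refine ⟨n, ⟨hn, Subgroup.mem_centralizer_singleton_iff.mpr hnd⟩, n⁻¹ * x,
    ⟨hwN, Subgroup.mem_centralizer_singleton_iff.mpr hwc⟩, by group⟩

theorem card_le_of_factor (N : Subgroup G) (c d : G)
    (h : ∀ x ∈ N, ∃ y ∈ N ⊓ centralizer ({d} : Set G), ∃ w ∈ N ⊓ centralizer ({c} : Set G),
      x = y * w) :
    Nat.card N ≤ Nat.card ↥(N ⊓ centralizer ({d} : Set G)) *
      Nat.card ↥(N ⊓ centralizer ({c} : Set G)) := by
  rw [← Nat.card_prod]
  let f : ↥(N ⊓ centralizer ({d} : Set G)) × ↥(N ⊓ centralizer ({c} : Set G)) → ↥N :=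
    fun yw => ⟨(yw.1 : G) * (yw.2 : G), N.mul_mem yw.1.2.1 yw.2.2.1⟩
  apply Nat.card_le_card_of_surjective f
  rintro ⟨x, hx⟩
  obtain ⟨y, hy, w, hw, rfl⟩ := h x hx
  exact ⟨(⟨y, hy⟩, ⟨w, hw⟩), rfl⟩

end

/-- In a nonabelian finite `p`-group there is an element of the second centre, outside the centre,
whose `p`-th power is central. -/
theorem exists_second_center_elt {p : ℕ} [hp : Fact p.Prime] {R : Type*} [Group R] [Finite R]
    (hR : IsPGroup p R) (hna : ¬ ∀ x y : R, x * y = y * x) :
    ∃ a : R, (∀ x : R, ⁅a, x⁆ ∈ center R) ∧ a ∉ center R ∧ a ^ p ∈ center R := by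
  have hnt : Nontrivial (R ⧸ center R) := by
    by_contra hcon
    rw [not_nontrivial_iff_subsingleton] at hcon
    apply hna
    intro x y
    have hx : (QuotientGroup.mk x : R ⧸ center R) = 1 := Subsingleton.elim _ _
    rw [QuotientGroup.eq_one_iff] at hx
    exact (Subgroup.mem_center_iff.mp hx y).symm
  have hQ : IsPGroup p (R ⧸ center R) := hR.to_quotient (center R)
  have hcnt : Nontrivial ↥(center (R ⧸ center R)) := hQ.center_nontrivial
  have hcp : IsPGroup p ↥(center (R ⧸ center R)) := hQ.to_subgroup _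
  obtain ⟨k, hk⟩ := IsPGroup.iff_card.mp hcp
  have hk0 : k ≠ 0 := by
    rintro rfl
    rw [pow_zero] at hk
    have := Finite.one_lt_card_iff_nontrivial.mpr hcnt
    omega
  have hdvd : p ∣ Nat.card ↥(center (R ⧸ center R)) := by
    rw [hk]; exact dvd_pow_self p hk0
  have : Fintype ↥(center (R ⧸ center R)) := Fintype.ofFinite _
  rw [Nat.card_eq_fintype_card] at hdvd
  obtain ⟨y, hy⟩ := exists_prime_orderOf_dvd_card p hdvd
  obtain ⟨a, ha⟩ := QuotientGroup.mk_surjective (y : R ⧸ center R)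
  refine ⟨a, ?_, ?_, ?_⟩
  · intro x
    rw [← QuotientGroup.eq_one_iff, commutatorElement_def]
    have h1 := Subgroup.mem_center_iff.mp y.2 (QuotientGroup.mk x)
    simp only [QuotientGroup.mk_mul, QuotientGroup.mk_inv, ha]
    rw [← h1]
    group
  · intro hmem
    have h1 : (QuotientGroup.mk a : R ⧸ center R) = 1 := (QuotientGroup.eq_one_iff a).mpr hmem
    rw [ha] at h1
    have h2 : y = 1 := Subtype.ext h1
    rw [h2, orderOf_one] at hy
    exact hp.out.one_lt.ne hy
  · rw [← QuotientGroup.eq_one_iff, QuotientGroup.mk_pow, ha]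
    have h1 : y ^ p = 1 := by rw [← hy]; exact pow_orderOf_eq_one y
    have := congrArg Subtype.val h1
    simpa using this

theorem goal_all (p : ℕ) [hp : Fact p.Prime] (hp3 : 3 ≤ p) : ∀ n, Goal.{u} p n := by
  intro n
  induction n using Nat.strong_induction_on with
  | _ n ih =>
  intro G _ _ hcard P N hNn hcop hNP C D hC hD h
  subst hcard
  by_contra hcon
  have hinf := inf_sylow_eq_bot P N hcop
  have hPnorm : (P : Subgroup G) ≤ normalizer (N : Set G) := by
    rw [Subgroup.normalizer_eq_top_iff.mpr hNn]; exact le_top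
  have hcopPN : (Nat.card (P : Subgroup G)).Coprime (Nat.card N) := by
    obtain ⟨k, hk⟩ := IsPGroup.iff_card.mp P.isPGroup'
    rw [hk]; exact (Nat.Coprime.pow_right k hcop).symm
  have hPsolv : Group.IsSolvable (P : Subgroup G) := by
    have := P.isPGroup'.isNilpotent
    infer_instance
  have hNbot : N ≠ ⊥ := by
    rintro rfl
    apply hcon
    intro g _
    rw [Subgroup.mem_centralizer_iff]
    intro n hn
    rw [Subgroup.coe_bot, Set.mem_singleton_iff] at hn
    rw [hn, one_mul, mul_one]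
  have hT1 := sub_step ih P N hcop hNP C D hC hD h
  -- irreducibility
  have hIrr : ∀ N₁ : Subgroup G, N₁ ≤ N → N₁.Normal → N₁ = ⊥ ∨ N₁ = N := by
    intro N₁ h1 hn1
    by_contra hne
    push_neg at hne
    have hc1 : (P : Subgroup G) ≤ centralizer (N₁ : Set G) :=
      hT1 N₁ h1 hne.2 (by rw [Subgroup.normalizer_eq_top_iff.mpr hn1]; exact le_top)
    have hc2 : ⁅(P : Subgroup G), N⁆ ≤ N₁ := quot_step ih P N hcop hNP C D hC hD h N₁ hne.1
    have h3 : ⁅⁅N, (P : Subgroup G)⁆, (P : Subgroup G)⁆ = ⁅N, (P : Subgroup G)⁆ :=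
      Cfsg.Agent.Helper52.commutator_commutator_eq N P hPnorm hcopPN (Or.inl hPsolv)
    have h4 : ⁅⁅N, (P : Subgroup G)⁆, (P : Subgroup G)⁆ ≤ ⁅N₁, (P : Subgroup G)⁆ :=
      Subgroup.commutator_mono (by rw [Subgroup.commutator_comm]; exact hc2) le_rfl
    have h5 : ⁅N₁, (P : Subgroup G)⁆ = ⊥ := by
      rw [Subgroup.commutator_comm, Subgroup.commutator_eq_bot_iff_le_centralizer]; exact hc1
    rw [h3, h5, le_bot_iff, Subgroup.commutator_comm,
      Subgroup.commutator_eq_bot_iff_le_centralizer] at h4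
    exact hcon h4
  -- N is abelian
  have hNab : ∀ x ∈ N, ∀ y ∈ N, x * y = y * x := by
    have hN'n : (⁅N, N⁆ : Subgroup G).Normal := inferInstance
    rcases hIrr ⁅N, N⁆ (Subgroup.commutator_le_left N N) hN'n with h0 | h0
    · intro x hx y hy
      have := Subgroup.commutator_eq_bot_iff_le_centralizer.mp h0 hx
      exact ((Subgroup.mem_centralizer_iff.mp this) y hy).symm
    · exfalso
      have hJ : N ≤ centralizer ((P : Subgroup G) : Set G) := by
        set J := N ⊓ centralizer ((P : Subgroup G) : Set G) with hJdef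
        have hdvd : Nat.card N ∣ Nat.card J := by
          rw [← Nat.factorization_prime_le_iff_dvd (Nat.card_pos.ne') (Nat.card_pos.ne')]
          intro q hq
          have hqf : Fact q.Prime := ⟨hq⟩
          obtain ⟨Q, hQN, hQcard, hQnorm⟩ := Cfsg.Agent.Helper52.exists_invariant_sylow
            (P : Subgroup G) N hPnorm hcopPN (Or.inl hPsolv) q
          unfold Cfsg.Agent.Helper52.sylCard at hQcard
          have hQne : Q ≠ N := by
            intro hQe
            have hNq : IsPGroup q N := by rw [← hQe]; exact IsPGroup.of_card hQcard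
            have hnil : Group.IsNilpotent N := hNq.isNilpotent
            have hsolvN : Group.IsSolvable N := inferInstance
            have hNnt : Nontrivial N := (Subgroup.nontrivial_iff_ne_bot N).mpr hNbot
            have hlt := Group.IsSolvable.commutator_lt_top_of_nontrivial N
            have hmap := Subgroup.map_subtype_commutator N
            rw [h0] at hmap
            have : _root_.commutator N = ⊤ := by
              apply Subgroup.map_injective N.subtype_injective
              rw [hmap, ← MonoidHom.range_eq_map, Subgroup.range_subtype]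
            exact hlt.ne this
          have hQcent := hT1 Q hQN hQne hQnorm
          have hQJ : Q ≤ J := by
            intro x hx
            refine Subgroup.mem_inf.mpr ⟨hQN hx, ?_⟩
            rw [Subgroup.mem_centralizer_iff]
            intro g hg
            exact ((Subgroup.mem_centralizer_iff.mp (hQcent hg)) x hx).symm
          have h1 : Nat.card Q ∣ Nat.card J := Subgroup.card_dvd_of_le hQJ
          rw [hQcard] at h1
          exact (hq.pow_dvd_iff_le_factorization (Nat.card_pos.ne')).mp h1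
        have hJN : J = N :=
          Subgroup.eq_of_le_of_card_ge inf_le_left (Nat.le_of_dvd Nat.card_pos hdvd)
        rw [← hJN]; exact inf_le_right
      exact hcon (Subgroup.le_centralizer_iff.mp hJ)
  -- the action
  set ρ : G →* MulAut ↥N := MulAut.conjNormal with hρ
  have hρapp : ∀ (g : G) (n : ↥N), ((ρ g n : ↥N) : G) = g * n * g⁻¹ := fun g n =>
    MulAut.conjNormal_apply g n
  have hρcomm : ∀ y g : G, ρ y * ρ g = ρ g * ρ y → ∀ n ∈ N,
      y * (g * n * g⁻¹) * y⁻¹ = g * (y * n * y⁻¹) * g⁻¹ := by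
    intro y g hyg n hn
    have h1 := congrArg (fun f : MulAut ↥N => ((f ⟨n, hn⟩ : ↥N) : G)) hyg
    simp only [MulAut.mul_apply, hρapp] at h1
    exact h1
  have hρone : ∀ y : G, ρ y = 1 → ∀ n ∈ N, y * n * y⁻¹ = n := by
    intro y hy n hn
    have h1 := congrArg (fun f : MulAut ↥N => ((f ⟨n, hn⟩ : ↥N) : G)) hy
    simp only [MulAut.one_apply, hρapp] at h1
    exact h1
  have hρone' : ∀ y : G, (∀ n ∈ N, y * n * y⁻¹ = n) → ρ y = 1 := by
    intro y hy
    ext n
    rw [hρapp, MulAut.one_apply]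
    exact hy n n.2
  -- P does not act trivially
  have hker : ¬ (P : Subgroup G) ≤ ρ.ker := by
    intro hle
    apply hcon
    intro g hg
    rw [Subgroup.mem_centralizer_iff]
    intro n hn
    have := hρone g (MonoidHom.mem_ker.mp (hle hg)) n hn
    calc n * g = (g * n * g⁻¹) * g := by rw [this]
      _ = g * n := by group
  -- central elements act fixed point freely
  have hfpf : ∀ y ∈ (P : Subgroup G), (∀ g ∈ (P : Subgroup G), ρ y * ρ g = ρ g * ρ y) →
      ρ y ≠ 1 → ∀ n ∈ N, y * n * y⁻¹ = n → n = 1 := by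
    intro y hy hcen hne
    set N₁ : Subgroup G := N ⊓ centralizer ({y} : Set G) with hN₁
    have hN₁n : N₁.Normal := by
      rw [← Subgroup.normalizer_eq_top_iff, eq_top_iff, ← hNP]
      apply sup_le
      · intro m hm
        apply Subgroup.mem_normalizer_fintype
        intro n hn
        have : m * n * m⁻¹ = n := by
          rw [hNab m hm n hn.1]; group
        rw [this]; exact hn
      · intro g hg
        apply Subgroup.mem_normalizer_fintype
        intro n hn
        refine Subgroup.mem_inf.mpr ⟨hNn.conj_mem n hn.1 g, ?_⟩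
        rw [Subgroup.mem_centralizer_singleton_iff]
        have h1 := hρcomm y g (hcen g hg) n hn.1
        have h2 : n * y = y * n := Subgroup.mem_centralizer_singleton_iff.mp hn.2
        have h3 : y * n * y⁻¹ = n := by rw [← h2]; group
        rw [h3] at h1
        calc g * n * g⁻¹ * y = (y * (g * n * g⁻¹) * y⁻¹) * y := by rw [h1]
          _ = y * (g * n * g⁻¹) := by group
    rcases hIrr N₁ inf_le_left hN₁n with h0 | h0
    · intro n hn hyn
      have : n ∈ N₁ := by
        refine Subgroup.mem_inf.mpr ⟨hn, ?_⟩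
        rw [Subgroup.mem_centralizer_singleton_iff]
        calc n * y = (y * n * y⁻¹) * y := by rw [hyn]
          _ = y * n := by group
      rw [h0, Subgroup.mem_bot] at this
      exact this
    · exfalso
      apply hne
      apply hρone'
      intro n hn
      have : n ∈ N₁ := by rw [h0]; exact hn
      have h2 : n * y = y * n := Subgroup.mem_centralizer_singleton_iff.mp this.2
      rw [← h2]; group
  have hCP : C ⊆ (P : Subgroup G) := by rw [← hC]; exact subset_closure
  have hDP : D ⊆ (P : Subgroup G) := by rw [← hD]; exact subset_closure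
  have hfactor : ∀ c ∈ C, ∀ d ∈ D, ∀ x ∈ N, ∃ y ∈ N ⊓ centralizer ({d} : Set G),
      ∃ w ∈ N ⊓ centralizer ({c} : Set G), x = y * w := fun c hc d hd x hx =>
    factor_step P N hcop hNP c d x (hCP hc) (hDP hd) hx (h x hx c hc d hd)
  -- the image of P in Aut N
  set R : Subgroup (MulAut ↥N) := (P : Subgroup G).map ρ with hR
  have hRp : IsPGroup p ↥R := P.isPGroup'.map ρ
  have hRfin : Finite ↥R := by
    have : Finite ((P : Subgroup G) : Set G) := inferInstanceAs (Finite ↥(P : Subgroup G))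
    exact Set.Finite.image ρ (Set.toFinite _)
  by_cases hRab : ∀ x y : ↥R, x * y = y * x
  · -- abelian image
    have hcomm : ∀ y ∈ (P : Subgroup G), ∀ g ∈ (P : Subgroup G), ρ y * ρ g = ρ g * ρ y := by
      intro y hy g hg
      have := hRab ⟨ρ y, Subgroup.mem_map_of_mem ρ hy⟩ ⟨ρ g, Subgroup.mem_map_of_mem ρ hg⟩
      exact congrArg Subtype.val this
    have hex : ∀ S : Set G, closure S = (P : Subgroup G) → ∃ c ∈ S, ρ c ≠ 1 := by
      intro S hS
      by_contra hall
      push_neg at hall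
      apply hker
      rw [← hS, Subgroup.closure_le]
      intro c hc
      exact MonoidHom.mem_ker.mpr (hall c hc)
    obtain ⟨c, hc, hc1⟩ := hex C hC
    obtain ⟨d, hd, hd1⟩ := hex D hD
    have hfc := hfpf c (hCP hc) (hcomm c (hCP hc)) hc1
    have hfd := hfpf d (hDP hd) (hcomm d (hDP hd)) hd1
    apply hNbot
    rw [eq_bot_iff]
    intro x hx
    obtain ⟨y, hy, w, hw, rfl⟩ := hfactor c hc d hd x hx
    have hy1 : y = 1 := by
      apply hfd y hy.1
      have := Subgroup.mem_centralizer_singleton_iff.mp hy.2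
      rw [← this]; group
    have hw1 : w = 1 := by
      apply hfc w hw.1
      have := Subgroup.mem_centralizer_singleton_iff.mp hw.2
      rw [← this]; group
    rw [hy1, hw1, mul_one]
    exact Subgroup.one_mem _
  · -- nonabelian image
    obtain ⟨abar, ha1, ha2, ha3⟩ := exists_second_center_elt hRp hRab
    obtain ⟨a, haP, haρ⟩ := abar.2
    have hex : ∀ S : Set G, closure S = (P : Subgroup G) → ∃ c ∈ S, ρ a * ρ c ≠ ρ c * ρ a := by
      intro S hS
      by_contra hall
      push_neg at hall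
      apply ha2
      rw [Subgroup.mem_center_iff]
      rintro ⟨_, g, hg, rfl⟩
      apply Subtype.ext
      show ρ g * (abar : MulAut ↥N) = (abar : MulAut ↥N) * ρ g
      rw [← haρ]
      have hle : closure S ≤ (centralizer ({ρ a} : Set (MulAut ↥N))).comap ρ := by
        rw [Subgroup.closure_le]
        intro c hc
        show ρ c ∈ centralizer ({ρ a} : Set (MulAut ↥N))
        rw [Subgroup.mem_centralizer_singleton_iff]
        exact (hall c hc).symm
      rw [hS] at hle
      have := hle hg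
      exact Subgroup.mem_centralizer_singleton_iff.mp this
    -- the bound for such an element
    have hbound : ∀ c ∈ (P : Subgroup G), ρ a * ρ c ≠ ρ c * ρ a →
        (Nat.card ↥(N ⊓ centralizer ({c} : Set G))) ^ p ≤ Nat.card N := by
      intro c hcP hne
      set z : G := a * c * a⁻¹ * c⁻¹ with hz
      have hzP : z ∈ (P : Subgroup G) :=
        Subgroup.mul_mem _ (Subgroup.mul_mem _ (Subgroup.mul_mem _ haP hcP) (Subgroup.inv_mem _ haP))
          (Subgroup.inv_mem _ hcP)
      set cbar : ↥R := ⟨ρ c, Subgroup.mem_map_of_mem ρ hcP⟩ with hcbar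
      have hzbar : ρ z = ((⁅abar, cbar⁆ : ↥R) : MulAut ↥N) := by
        rw [hz, commutatorElement_def]
        simp only [map_mul, map_inv, Subgroup.coe_mul, Subgroup.coe_inv, hcbar, haρ]
      have hzcen : ∀ g ∈ (P : Subgroup G), ρ z * ρ g = ρ g * ρ z := by
        intro g hg
        have h1 := Subgroup.mem_center_iff.mp (ha1 cbar) ⟨ρ g, Subgroup.mem_map_of_mem ρ hg⟩
        have h2 := congrArg Subtype.val h1
        rw [hzbar]
        exact h2.symm
      have hzne : ρ z ≠ 1 := by
        intro h1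
        apply hne
        rw [hzbar] at h1
        have h2 : (⁅abar, cbar⁆ : ↥R) = 1 := Subtype.ext h1
        rw [commutatorElement_eq_one_iff_commute] at h2
        have h3 := congrArg Subtype.val h2.eq
        simpa [hcbar, haρ] using h3
      have hzpow : ρ z ^ p = 1 := by
        rw [hzbar, ← Subgroup.coe_pow]
        have hcz : Commute (abar * cbar * abar⁻¹ * cbar⁻¹) abar := by
          have := Subgroup.mem_center_iff.mp (ha1 cbar) abar
          rw [commutatorElement_def] at this
          exact this.symm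
        have h1 := Cfsg.Agent.Helper24.commutator_pow_left_of_commute cbar abar hcz p
        rw [commutatorElement_def, ← h1]
        have h2 := Subgroup.mem_center_iff.mp ha3 cbar
        have h3 : abar ^ p * cbar * (abar ^ p)⁻¹ * cbar⁻¹ = 1 := by
          rw [← h2]; group
        rw [h3]; rfl
      have hzfix := hfpf z hzP hzcen hzne
      apply Cfsg.Agent.Helper24.card_centralizer_pow_le p N hNab hcop c a z
      · exact hρcomm z c (hzcen c hcP)
      · exact hρcomm z a (hzcen a haP)
      · intro n hn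
        apply hρone
        · rw [map_pow, hzpow]
        · exact hn
      · exact hzfix
      · intro n _
        rw [hz]; group
    obtain ⟨c, hc, hc1⟩ := hex C hC
    obtain ⟨d, hd, hd1⟩ := hex D hD
    have hbc := hbound c (hCP hc) hc1
    have hbd := hbound d (hDP hd) hd1
    have hle := card_le_of_factor N c d (hfactor c hc d hd)
    have hn2 : 2 ≤ Nat.card N := (Subgroup.one_lt_card_iff_ne_bot N).mpr hNbot
    set A := Nat.card ↥(N ⊓ centralizer ({d} : Set G)) with hA
    set B := Nat.card ↥(N ⊓ centralizer ({c} : Set G)) with hB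
    set m := Nat.card N with hm
    have h1 : m ^ p ≤ (A * B) ^ p := Nat.pow_le_pow_left hle p
    rw [mul_pow] at h1
    have h2 : A ^ p * B ^ p ≤ m * m := Nat.mul_le_mul hbd hbc
    have h3 : m ^ 3 ≤ m ^ p := Nat.pow_le_pow_right (by omega) hp3
    have h4 : m ^ 3 ≤ m * m := le_trans h3 (le_trans h1 h2)
    have h5 : m ^ 3 = m * m * m := by ring
    rw [h5] at h4
    have h6 : m * m * m ≤ m * m * 1 := by rw [mul_one]; exact h4
    have h7 := Nat.le_of_mul_le_mul_left h6 (by positivity)
    omega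

end Cfsg.Agent.Helper24.BSP
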