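import Mathlib
import Cfsg.Agent.Lib.Helper98.BrownDefs
import Cfsg.Agent.Lib.Helper39.Families
import Cfsg.Agent.S0253
import Cfsg.Agent.S2119

set_option autoImplicit false
set_option linter.unusedVariables false

/-!
BROWN server (helper98, S4291), piece (E4b): the quotient of `G` by the centraliser of a normal
`SL(2,5)` is `A5` or `S5`.

Route: `G → Aut D ≅ Aut SL(2,5) → Aut PSL(2,5) ≅ Aut A5 ≅ S5`; the middle arrow is injective since
`SL(2,5)` is perfect, so the kernel is the centraliser of `D`; the image contains `A5`.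
-/

namespace Cfsg.Agent.Helper24.Brown

open Cfsg.Agent.Helper98.Brown

variable {G : Type*} [Group G]

/-- an automorphism maps the centre onto itself -/
theorem h24_map_center {S : Type*} [Group S] (σ : MulAut S) :
    (Subgroup.center S).map ((σ : S ≃* S) : S →* S) = Subgroup.center S :=
  (Subgroup.characteristic_iff_map_eq.mp inferInstance) σ

/-- the action of automorphisms on the quotient by the centre -/
noncomputable def h24_quotCenter (S : Type*) [Group S] :
    MulAut S →* MulAut (S ⧸ Subgroup.center S) where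
  toFun σ := QuotientGroup.congr _ _ σ (h24_map_center σ)
  map_one' := by
    ext x
    induction x using QuotientGroup.induction_on
    rfl
  map_mul' σ τ := by
    ext x
    induction x using QuotientGroup.induction_on
    rfl

theorem h24_quotCenter_mk {S : Type*} [Group S] (σ : MulAut S) (s : S) :
    h24_quotCenter S σ (QuotientGroup.mk s) = QuotientGroup.mk (σ s) := rfl

/-- for a perfect group the action on the quotient by the centre is faithful -/
theorem h24_quotCenter_injective {S : Type*} [Group S] (hS : commutator S = ⊤) :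
    Function.Injective (h24_quotCenter S) := by
  rw [injective_iff_map_eq_one]
  intro σ hσ
  have hmem : ∀ s : S, s⁻¹ * σ s ∈ Subgroup.center S := by
    intro s
    have h1 : h24_quotCenter S σ (QuotientGroup.mk s) = QuotientGroup.mk s := by
      rw [hσ]; rfl
    rw [h24_quotCenter_mk] at h1
    have h2 := (QuotientGroup.eq (s := Subgroup.center S)).mp h1.symm
    exact h2
  let hh : S →* Subgroup.center S := MonoidHom.mk' (fun s => ⟨s⁻¹ * σ s, hmem s⟩) (by
    intro a b
    apply Subtype.ext
    have hc := Subgroup.mem_center_iff.mp (hmem a)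
    show (a * b)⁻¹ * σ (a * b) = (a⁻¹ * σ a) * (b⁻¹ * σ b)
    rw [map_mul, mul_inv_rev]
    calc b⁻¹ * a⁻¹ * (σ a * σ b) = b⁻¹ * (a⁻¹ * σ a) * σ b := by group
      _ = (a⁻¹ * σ a) * b⁻¹ * σ b := by rw [hc b⁻¹]
      _ = (a⁻¹ * σ a) * (b⁻¹ * σ b) := by group)
  have hker : commutator S ≤ hh.ker := by
    rw [commutator_eq_closure, Subgroup.closure_le]
    rintro x ⟨p, q, rfl⟩
    rw [SetLike.mem_coe, MonoidHom.mem_ker, map_commutatorElement, commutatorElement_def]
    apply Subtype.ext
    have hc : ((hh q : Subgroup.center S) : S) * (hh p : S) = (hh p : S) * (hh q : S) :=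
      Subgroup.mem_center_iff.mp (hh p).2 (hh q : S)
    simp only [Subgroup.coe_mul, Subgroup.coe_inv, Subgroup.coe_one]
    rw [← hc]
    group
  rw [hS] at hker
  ext s
  have h1 : hh s = 1 := hker (Subgroup.mem_top s)
  have h2 : s⁻¹ * σ s = 1 := congrArg Subtype.val h1
  show σ s = s
  calc σ s = s * (s⁻¹ * σ s) := by group
    _ = s := by rw [h2, mul_one]

theorem quotOK_centralizer_sl25 [Finite G] (D : Subgroup G) [D.Normal]
    (e : D ≃* Matrix.SpecialLinearGroup (Fin 2) (ZMod 5))
    (hidx : (D ⊔ Subgroup.centralizer (D : Set G)).index ≤ 2) :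
    QuotOK (Subgroup.centralizer (D : Set G)) := by
  classical
  have : Fact (Nat.Prime 5) := ⟨by norm_num⟩
  obtain ⟨ι⟩ := Cfsg.Agent.S0253.result (F := ZMod 5) (by simp [ZMod.card])
  have hperf : commutator (Matrix.SpecialLinearGroup (Fin 2) (ZMod 5)) = ⊤ :=
    Cfsg.Agent.Helper39.sl2_perfect (F := ZMod 5) (by simp [ZMod.card])
  let e1 : Equiv.Perm (Fin 5) ≃* MulAut (alternatingGroup (Fin 5)) :=
    MulEquiv.ofBijective _ (Cfsg.Agent.S2119.result 5 (by norm_num) (by norm_num))
  let c : G →* MulAut D := MulAut.conjNormal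
  let Ψ : MulAut (Matrix.SpecialLinearGroup (Fin 2) (ZMod 5)) →*
      MulAut (Matrix.ProjectiveSpecialLinearGroup (Fin 2) (ZMod 5)) :=
    h24_quotCenter (Matrix.SpecialLinearGroup (Fin 2) (ZMod 5))
  let f : G →* Equiv.Perm (Fin 5) :=
    e1.symm.toMonoidHom.comp ((MulAut.congr ι).toMonoidHom.comp
      (Ψ.comp ((MulAut.congr e).toMonoidHom.comp c)))
  -- the kernel
  have hker : f.ker = Subgroup.centralizer (D : Set G) := by
    ext x
    rw [MonoidHom.mem_ker, Subgroup.mem_centralizer_iff]
    constructor
    · intro hx d hd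
      have h1 : c x = 1 := by
        apply (MulAut.congr e).injective
        apply h24_quotCenter_injective hperf
        apply (MulAut.congr ι).injective
        apply e1.symm.injective
        rw [map_one, map_one, map_one, map_one]
        exact hx
      have h2 : c x ⟨d, hd⟩ = ⟨d, hd⟩ := by rw [h1]; rfl
      have h3 := congrArg (fun z : D => (z : G)) h2
      simp only [c, MulAut.conjNormal_apply] at h3
      calc d * x = x * d * x⁻¹ * x := by rw [h3]
        _ = x * d := by group
    · intro hx
      have h1 : c x = 1 := by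
        ext d
        show ((c x d : D) : G) = d
        simp only [c, MulAut.conjNormal_apply]
        rw [← hx d d.2]
        group
      show e1.symm ((MulAut.congr ι) (Ψ ((MulAut.congr e) (c x)))) = 1
      rw [h1, map_one, map_one, map_one, map_one]
  -- the range contains `A5`
  have hrange : alternatingGroup (Fin 5) ≤ f.range := by
    intro a ha
    obtain ⟨q, hq⟩ := ι.surjective ⟨a, ha⟩
    obtain ⟨s, rfl⟩ := QuotientGroup.mk_surjective q
    refine ⟨((e.symm s : D) : G), ?_⟩
    apply e1.injective
    show e1 (e1.symm ((MulAut.congr ι) (Ψ ((MulAut.congr e) (c (e.symm s : D)))))) = e1 a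
    rw [MulEquiv.apply_symm_apply]
    apply MulEquiv.ext
    intro b
    obtain ⟨r, hr⟩ := ι.surjective b
    obtain ⟨t, rfl⟩ := QuotientGroup.mk_surjective r
    have h1 : (MulAut.congr e) (c ((e.symm s : D) : G)) t = s * t * s⁻¹ := by
      show e (c ((e.symm s : D) : G) (e.symm t)) = s * t * s⁻¹
      have : c ((e.symm s : D) : G) (e.symm t) = e.symm s * e.symm t * (e.symm s)⁻¹ := by
        apply Subtype.ext
        simp [c, MulAut.conjNormal_apply]
      rw [this, map_mul, map_mul, map_inv, MulEquiv.apply_symm_apply, MulEquiv.apply_symm_apply]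
    have h2 : (MulAut.congr ι) (Ψ ((MulAut.congr e) (c ((e.symm s : D) : G)))) b
        = ι (QuotientGroup.mk (s * t * s⁻¹)) := by
      show ι (Ψ ((MulAut.congr e) (c ((e.symm s : D) : G))) (ι.symm b)) = _
      rw [← hr, MulEquiv.symm_apply_apply]
      show ι (QuotientGroup.mk ((MulAut.congr e) (c ((e.symm s : D) : G)) t)) = _
      rw [h1]
    rw [h2]
    have h3 : ι (QuotientGroup.mk (s * t * s⁻¹)) = ⟨a, ha⟩ * b * ⟨a, ha⟩⁻¹ := by
      rw [QuotientGroup.mk_mul, QuotientGroup.mk_mul, QuotientGroup.mk_inv, map_mul, map_mul,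
        map_inv, hq, hr]
    rw [h3]
    apply Subtype.ext
    show ((⟨a, ha⟩ * b * ⟨a, ha⟩⁻¹ : alternatingGroup (Fin 5)) : Equiv.Perm (Fin 5)) =
      ((e1 a b : alternatingGroup (Fin 5)) : Equiv.Perm (Fin 5))
    simp [e1, MulAut.conjNormal_apply]
  -- the range is `A5` or `S5`
  have hidx2 : (alternatingGroup (Fin 5)).relIndex f.range * f.range.index = 2 := by
    rw [Subgroup.relIndex_mul_index hrange]
    exact alternatingGroup.index_eq_two
  have hcases : f.range.index = 1 ∨ f.range.index = 2 := by
    have hd : f.range.index ∣ 2 := Dvd.intro_left _ hidx2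
    have := (Nat.dvd_prime Nat.prime_two).mp hd
    exact this
  rcases hcases with h1 | h2
  · -- surjective onto `S5`
    right; right; right; right; right
    refine ⟨f, ?_, hker⟩
    rw [← MonoidHom.range_eq_top]
    exact Subgroup.index_eq_one.mp h1
  · -- range is `A5`
    have hA : f.range = alternatingGroup (Fin 5) :=
      Equiv.Perm.eq_alternatingGroup_of_index_eq_two h2
    right; right; right; right; left
    refine ⟨f.codRestrict (alternatingGroup (Fin 5)) (fun x => by rw [← hA]; exact ⟨x, rfl⟩), ?_, ?_⟩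
    · intro a
      have ha : (a : Equiv.Perm (Fin 5)) ∈ f.range := by rw [hA]; exact a.2
      obtain ⟨x, hx⟩ := ha
      exact ⟨x, Subtype.ext hx⟩
    · rw [MonoidHom.ker_codRestrict]
      exact hker

end Cfsg.Agent.Helper24.Brown
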