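import Cfsg.Agent.Lib.Helper1.CD3.Defs
import Cfsg.Agent.Lib.Helper76.CD2Basic
import Cfsg.Agent.Lib.Helper17.Counting
import Mathlib

/-!
Piece (P1) `comm_le` of helper1's lemma server "CD3B" (row S4460), delivered by helper24.
-/

set_option autoImplicit false

namespace Cfsg.Agent.Helper24.CD3B

open Cfsg Cfsg.Agent.Helper81 Cfsg.Agent.Helper1.CD3
open scoped commutatorElement

universe u

theorem comm_le {Φ : Type u} [Group Φ] [Finite Φ] (p a : ℕ) [Fact p.Prime] (ha : 0 < a)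
    (h2 : ∀ θ : Φ → ℂ, IsIrrCharacter Φ θ → θ 1 ≠ 1 → ∃ d : ℕ, θ 1 = (d : ℂ) ∧ d.factorization p = a)
    (R : Subgroup Φ) (hR : R.Normal) (hRc : (Nat.card R).Coprime p) (hRi : ∃ k : ℕ, R.index = p ^ k)
    (P : Sylow p Φ) :
    ⁅R, (⊤ : Subgroup Φ)⁆ ≤ ⁅R, (P : Subgroup Φ)⁆ := by
  classical
  have := hR
  have hp : p.Prime := Fact.out
  obtain ⟨k, hk⟩ := hRi
  set V : Subgroup Φ := ⁅R, (P : Subgroup Φ)⁆ with hV
  have hVR : V ≤ R := Subgroup.commutator_le_left R P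
  have hgen : ∀ r ∈ R, ∀ y ∈ (P : Subgroup Φ), ⁅r, y⁆ ∈ V :=
    fun r hr y hy => Subgroup.commutator_mem_commutator hr hy
  -- orders
  have hcardΦ : Nat.card Φ = Nat.card R * p ^ k := by rw [← hk, Subgroup.card_mul_index]
  have hcardP : Nat.card (P : Subgroup Φ) = p ^ k := by
    rw [P.card_eq_multiplicity, hcardΦ, Nat.factorization_mul Nat.card_pos.ne' (pow_ne_zero k hp.ne_zero),
      Finsupp.add_apply, Nat.factorization_pow, Finsupp.smul_apply, hp.factorization_self,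
      Nat.factorization_eq_zero_of_not_dvd (fun hd => by
        have := Nat.Coprime.eq_one_of_dvd hRc.symm hd
        exact hp.one_lt.ne' this)]
    simp
  have hco : (Nat.card (P : Subgroup Φ)).Coprime (Nat.card R) := by
    rw [hcardP]; exact Nat.Coprime.pow_left k hRc.symm
  have hsup : (P : Subgroup Φ) ⊔ R = ⊤ := by
    apply (Subgroup.card_eq_iff_eq_top _).1
    rw [Cfsg.Agent.Helper17.card_sup_of_normal_coprime (P : Subgroup Φ) R hco, hcardP, hcardΦ]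
  have hRP : R ⊓ (P : Subgroup Φ) = ⊥ := (Subgroup.disjoint_of_coprime_natCard hco.symm).eq_bot
  -- every element is r * y
  have hdecomp : ∀ g : Φ, ∃ r ∈ R, ∃ y ∈ (P : Subgroup Φ), g = r * y := by
    intro g
    have hg : g ∈ ((R ⊔ (P : Subgroup Φ) : Subgroup Φ) : Set Φ) := by
      rw [sup_comm, hsup]; trivial
    rw [Subgroup.normal_mul, Set.mem_mul] at hg
    obtain ⟨r, hr, y, hy, rfl⟩ := hg
    exact ⟨r, hr, y, hy, rfl⟩
  -- V is normalised by R and by P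
  have hVnR : ∀ r' ∈ R, ∀ v ∈ V, r' * v * r'⁻¹ ∈ V := by
    intro r' hr'
    have hle : ⁅R, (P : Subgroup Φ)⁆ ≤ V.comap (MulAut.conj r').toMonoidHom := by
      rw [Subgroup.commutator_le]
      intro h hh y hy
      rw [Subgroup.mem_comap]
      change r' * ⁅h, y⁆ * r'⁻¹ ∈ V
      have h1 : r' * ⁅h, y⁆ * r'⁻¹ = ⁅r' * h, y⁆ * ⁅r', y⁆⁻¹ := by
        simp only [commutatorElement_def]; group
      rw [h1]
      exact V.mul_mem (hgen _ (R.mul_mem hr' hh) _ hy) (V.inv_mem (hgen _ hr' _ hy))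
    intro v hv
    exact hle hv
  have hVnP : ∀ y' ∈ (P : Subgroup Φ), ∀ v ∈ V, y' * v * y'⁻¹ ∈ V := by
    intro y' hy'
    have hle : ⁅R, (P : Subgroup Φ)⁆ ≤ V.comap (MulAut.conj y').toMonoidHom := by
      rw [Subgroup.commutator_le]
      intro h hh y hy
      rw [Subgroup.mem_comap]
      change y' * ⁅h, y⁆ * y'⁻¹ ∈ V
      have h1 : y' * ⁅h, y⁆ * y'⁻¹ = ⁅h, y'⁆⁻¹ * ⁅h, y' * y⁆ := by
        simp only [commutatorElement_def]; group
      rw [h1]
      exact V.mul_mem (V.inv_mem (hgen _ hh _ hy')) (hgen _ hh _ ((P : Subgroup Φ).mul_mem hy' hy))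
    intro v hv
    exact hle hv
  have hVn : V.Normal := by
    refine ⟨fun v hv g => ?_⟩
    obtain ⟨r, hr, y, hy, rfl⟩ := hdecomp g
    have h1 : r * y * v * (r * y)⁻¹ = r * (y * v * y⁻¹) * r⁻¹ := by group
    rw [h1]
    exact hVnR r hr _ (hVnP y hy v hv)
  -- M := V ⊔ P is normal
  set M : Subgroup Φ := V ⊔ (P : Subgroup Φ) with hM
  have hVM : V ≤ M := le_sup_left
  have hPM : (P : Subgroup Φ) ≤ M := le_sup_right
  have hMmem : ∀ m ∈ M, ∃ v ∈ V, ∃ y ∈ (P : Subgroup Φ), m = v * y := by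
    intro m hm
    have hm' : m ∈ ((V ⊔ (P : Subgroup Φ) : Subgroup Φ) : Set Φ) := hm
    rw [Subgroup.normal_mul, Set.mem_mul] at hm'
    obtain ⟨v, hv, y, hy, rfl⟩ := hm'
    exact ⟨v, hv, y, hy, rfl⟩
  have hMn : M.Normal := by
    refine ⟨fun m hm g => ?_⟩
    obtain ⟨v, hv, y, hy, rfl⟩ := hMmem m hm
    obtain ⟨r, hr, y', hy', rfl⟩ := hdecomp g
    have h1 : r * y' * (v * y) * (r * y')⁻¹
        = (r * y' * v * (r * y')⁻¹) * (⁅r, y' * y * y'⁻¹⁆ * (y' * y * y'⁻¹)) := by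
      simp only [commutatorElement_def]; group
    rw [h1]
    have hy'' : y' * y * y'⁻¹ ∈ (P : Subgroup Φ) :=
      (P : Subgroup Φ).mul_mem ((P : Subgroup Φ).mul_mem hy' hy) ((P : Subgroup Φ).inv_mem hy')
    exact M.mul_mem (hVM (hVn.conj_mem v hv _)) (M.mul_mem (hVM (hgen r hr _ hy'')) (hPM hy''))
  -- the quotient by M is a p'-group, all its irreducible characters are linear
  have hMidx : ¬ p ∣ Nat.card (Φ ⧸ M) := by
    rw [← Subgroup.index_eq_card]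
    intro hd
    exact P.not_dvd_index (dvd_trans hd (Subgroup.index_dvd_of_le hPM))
  have hlin : ∀ ψ : IrrCharacter (Φ ⧸ M), charDegree (ψ : Φ ⧸ M → ℂ) = 1 := by
    intro ψ
    by_contra hne
    have hd := Cfsg.Agent.Helper79.irr_degree_dvd_card ψ
    have h1 := (Cfsg.Agent.Helper79.irr_one_eq ψ).1
    set θ := Cfsg.Agent.Helper79.inflate M ψ with hθ
    have hθ1 : (θ : Φ → ℂ) 1 = (charDegree (ψ : Φ ⧸ M → ℂ) : ℂ) := by
      rw [hθ, Cfsg.Agent.Helper79.inflate_apply, QuotientGroup.mk_one, h1]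
    have hθne : (θ : Φ → ℂ) 1 ≠ 1 := by
      rw [hθ1]
      intro h3
      apply hne
      exact_mod_cast h3
    obtain ⟨d, hd1, hd2⟩ := h2 _ θ.2 hθne
    rw [hθ1] at hd1
    have hdd : charDegree (ψ : Φ ⧸ M → ℂ) = d := by exact_mod_cast hd1
    have hpd : p ∣ d := Nat.dvd_of_factorization_pos (by rw [hd2]; exact ha.ne')
    exact hMidx (dvd_trans (hdd ▸ hpd) hd)
  have hQcomm := Cfsg.Agent.Helper76.CD2.comm_of_all_linear hlin
  have hder : ∀ x y : Φ, ⁅x, y⁆ ∈ M := by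
    intro x y
    rw [← QuotientGroup.eq_one_iff]
    have h1 : ((⁅x, y⁆ : Φ) : Φ ⧸ M) = ⁅(x : Φ ⧸ M), (y : Φ ⧸ M)⁆ :=
      map_commutatorElement (QuotientGroup.mk' M) x y
    rw [h1, commutatorElement_eq_one_iff_mul_comm]
    exact hQcomm _ _
  -- R' ≤ V
  have hRder : ∀ r ∈ R, ∀ r' ∈ R, ⁅r, r'⁆ ∈ V := by
    intro r hr r' hr'
    obtain ⟨v, hv, y, hy, hvy⟩ := hMmem _ (hder r r')
    have hcR : ⁅r, r'⁆ ∈ R := by
      rw [commutatorElement_def]
      exact R.mul_mem (R.mul_mem (R.mul_mem hr hr') (R.inv_mem hr)) (R.inv_mem hr')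
    have hyR : y ∈ R := by
      have h3 : y = v⁻¹ * ⁅r, r'⁆ := by rw [hvy]; group
      rw [h3]; exact R.mul_mem (R.inv_mem (hVR hv)) hcR
    have hy1 : y = 1 := by
      have h3 : y ∈ R ⊓ (P : Subgroup Φ) := ⟨hyR, hy⟩
      rw [hRP, Subgroup.mem_bot] at h3; exact h3
    rw [hvy, hy1, mul_one]; exact hv
  rw [Subgroup.commutator_le]
  intro r hr g _
  obtain ⟨r', hr', y, hy, rfl⟩ := hdecomp g
  have h1 : ⁅r, r' * y⁆ = ⁅r, r'⁆ * (r' * ⁅r, y⁆ * r'⁻¹) := by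
    simp only [commutatorElement_def]; group
  rw [h1]
  exact V.mul_mem (hRder r hr r' hr') (hVn.conj_mem _ (hgen r hr y hy) r')

end Cfsg.Agent.Helper24.CD3B
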