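import Mathlib
import Cfsg.Prelude.Def_Transfer
import Cfsg.Agent.Lib.Helper24.CYCDefs
import Cfsg.Agent.Lib.Helper10.CYCI3
import Cfsg.Agent.Lib.Helper10.CYCI4
import Cfsg.Agent.Lib.Helper11.CYCGR0
import Cfsg.Agent.Lib.Helper20.CYCC8
import Cfsg.Agent.Lib.Helper20.CYCR3
import Cfsg.Agent.Lib.Helper20.CYCR4
import Cfsg.Agent.Lib.Helper22.CYCGR1
import Cfsg.Agent.Lib.Helper22.CYCGR2
import Cfsg.Agent.Lib.Helper22.CYCGR3
import Cfsg.Agent.Lib.Helper34.CYCR0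
import Cfsg.Agent.Lib.Helper34.CYCR1
import Cfsg.Agent.Lib.Helper34.CYCR2
import Cfsg.Agent.Lib.Helper34.CYCR5
import Cfsg.Agent.Lib.Helper4.CYCG1
import Cfsg.Agent.Lib.Helper4.CYCG2
import Cfsg.Agent.Lib.Helper4.CYCG3
import Cfsg.Agent.Lib.Helper4.CYCGB
import Cfsg.Agent.Lib.Helper4.CYCGB2
import Cfsg.Agent.Lib.Helper40.CYCOB0
import Cfsg.Agent.Lib.Helper40.CYCOB1
import Cfsg.Agent.Lib.Helper40.CYCOB3
import Cfsg.Agent.Lib.Helper47.CYCC2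
import Cfsg.Agent.Lib.Helper47.CYCC3
import Cfsg.Agent.Lib.Helper47.CYCC4
import Cfsg.Agent.Lib.Helper47.CYCC5
import Cfsg.Agent.Lib.Helper48.CYCI1
import Cfsg.Agent.Lib.Helper48.CYCI2
import Cfsg.Agent.Lib.Helper48.CYCIIC
import Cfsg.Agent.Lib.Helper48.CYCOA
import Cfsg.Agent.Lib.Helper51.CYCIIB1
import Cfsg.Agent.Lib.Helper56.CYCE5
import Cfsg.Agent.Lib.Helper56.CYCE6a
import Cfsg.Agent.Lib.Helper60.CYCE7
import Cfsg.Agent.Lib.Helper60.CYCFR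
import Cfsg.Agent.Lib.Helper60.CYCI5
import Cfsg.Agent.Lib.Helper61.CYCE1
import Cfsg.Agent.Lib.Helper61.CYCE2
import Cfsg.Agent.Lib.Helper61.CYCE3
import Cfsg.Agent.Lib.Helper61.CYCOB2
import Cfsg.Agent.Lib.Helper69.CYCC0
import Cfsg.Agent.Lib.Helper69.CYCC6
import Cfsg.Agent.Lib.Helper69.CYCE6b
import Cfsg.Agent.Lib.Helper82.CYCOB4
import Cfsg.Agent.Lib.Helper88.CYCIIA
import Cfsg.Agent.Lib.Helper88.CYCIIB2
import Cfsg.Agent.Lib.Helper90.CYCC10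
import Cfsg.Agent.Lib.Helper90.CYCC11
import Cfsg.Agent.Lib.Helper90.CYCC9

/-!
CYC server (helper24, S4016): the delivered pieces, restated VERBATIM from `tools/cyc_sigs_helper24.lean.txt`
and closed by the delivered theorems.
-/

set_option autoImplicit false

namespace Cfsg.Agent.Helper24.CYCP

open Subgroup Cfsg.Agent.Helper24.CYC

universe u

variable {G : Type u} [Group G] [Finite G] {p : ℕ} [Fact p.Prime]

/-! ## Part G: generic lemmas (Mathlib only) -/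

/-- (G1) A `p'`-element `x` normalising a cyclic `p`-group `Q` and centralising some `1 ≠ a ∈ Q` centralises `Q`.
Proof: `Q = ⟨g⟩` of order `p^n`, `x g x⁻¹ = g^m`; `a = g^i` with `p^n ∤ i` and `g^{im} = g^i` give `p ∣ m - 1`, hence
`m^(p^(n-1)) ≡ 1 mod p^n`: `x^(p^(n-1))` centralises `Q`; as `gcd(o(x), p) = 1`, `x` is a power of `x^(p^(n-1))`. -/
theorem fpf_cyclic (Q : Subgroup G) (hQ : IsPGroup p Q) (hcyc : IsCyclic Q) (x : G) (hx : x ∈ nrm Q)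
    (hxp : (orderOf x).Coprime p) (a : G) (ha : a ∈ Q) (ha1 : a ≠ 1) (hxa : x * a = a * x) :
    ∀ b ∈ Q, x * b = b * x :=
  Cfsg.Agent.Helper4.CYC.fpf_cyclic Q hQ hcyc x hx hxp a ha ha1 hxa

/-- (G2) `N_G(P)/C_G(P)` embeds in `(ZMod p)ˣ` for a cyclic Sylow `p`-subgroup `P`.
Proof: conjugation `N_G(P) → MulAut P ≃* (ZMod |P|)ˣ` (`IsCyclic.mulAutMulEquiv`) `→ (ZMod p)ˣ` (`ZMod.unitsMap`, if `P ≠ 1`; if `P = 1`
take `f = 1`).  Kernel: `x` acts trivially on the subgroup of order `p`; write `x = x_p x_{p'}` (commuting powers of `x`), `x_p ∈ P`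
(`P` is the only Sylow `p`-subgroup of `N_G(P)`) centralises the abelian `P`, and `x_{p'}` centralises `P` by (G1). -/
theorem exists_hom_units (P : Sylow p G) (hcyc : IsCyclic P) :
    ∃ f : ↥(NP P) →* (ZMod p)ˣ, ∀ x : ↥(NP P), f x = 1 ↔ (x : G) ∈ CP P :=
  Cfsg.Agent.Helper4.CYC.exists_hom_units P hcyc

/-- (G3) `p` odd, `Q` a cyclic `p`-group, `s` an involution normalising and not centralising `Q`: `s` inverts `Q`.
Proof: `s g s⁻¹ = g^m`, `g^(m²) = g`, `p^n ∣ (m-1)(m+1)`, `p` odd so `p^n ∣ m - 1` (excluded) or `p^n ∣ m + 1`. -/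
theorem inverts_cyclic (hp : p ≠ 2) (Q : Subgroup G) (hQ : IsPGroup p Q) (hcyc : IsCyclic Q) (s : G)
    (hs : s ∈ nrm Q) (hs2 : s * s = 1) (hsc : ∃ a ∈ Q, s * a ≠ a * s) :
    ∀ b ∈ Q, s * b * s⁻¹ = b⁻¹ :=
  Cfsg.Agent.Helper4.CYC.inverts_cyclic hp Q hQ hcyc s hs hs2 hsc

/-- (GB) Burnside: if `G` has no normal `p`-complement and `P` is a cyclic (so abelian) Sylow `p`-subgroup, some `p'`-element of
`N_G(P)` does not centralise `P`.  Proof: `MonoidHom.ker_transferSylow_isComplement'` gives `¬ N_G(P) ≤ C_G(P)`; take `y ∈ N∖C`,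
`o(y) = p^k m`, `p ∤ m`; `y^m` is a `p`-element of `N_G(P)`, so lies in `P ≤ C_G(P)`; hence `x = y^(p^k) ∉ C_G(P)` (Bezout). -/
theorem exists_p'_of_not_compl (P : Sylow p G) (hcyc : IsCyclic P) (hn : ¬ Cfsg.HasNormalPComplement p G) :
    ∃ x ∈ NP P, (orderOf x).Coprime p ∧ x ∉ CP P :=
  Cfsg.Agent.Helper4.CYC.exists_p'_of_not_compl P hcyc hn

/-- (GB2) Burnside in a nonabelian simple group: a nontrivial Sylow subgroup is not central in its normaliser.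
Proof: else `ker (transferSylow)` is a normal complement `M` of `R`; `M = ⊥` gives `R = ⊤`, `G` an `r`-group, simple ⟹ abelian
(`center` nontrivial); `M = ⊤` gives `R = ⊥`. -/
theorem burnside_simple (hs : IsSimpleGroup G) (hna : ∃ a b : G, a * b ≠ b * a) (r : ℕ) [Fact r.Prime] (R : Sylow r G)
    (hR : (R : Subgroup G) ≠ ⊥) : ¬ nrm (R : Subgroup G) ≤ ctr (R : Subgroup G) :=
  Cfsg.Agent.Helper4.CYC.burnside_simple hs hna r R hR

/-- (FR) No regular friendship graph of valency `≥ 3`.  COPY (with fresh names) from Mathlib's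
`Archive/Wiedijk100Theorems/FriendshipGraphs.lean` (`Theorems100.Friendship.false_of_three_le_degree`; the Archive is NOT importable):
adjacency matrix `A² = (d-1) I + J`, a prime `q ∣ d - 1`, `A^q ≡ J`, `tr (A^q) ≡ (tr A)^q = 0` but `tr J = |V| ≡ 1 mod q`. -/
theorem no_regular_friendship {V : Type*} [Fintype V] [Nonempty V] (Γ : SimpleGraph V) [DecidableRel Γ.Adj] (d : ℕ)
    (hfr : ∀ v w : V, v ≠ w → ∃! x : V, Γ.Adj v x ∧ Γ.Adj w x) (hreg : Γ.IsRegularOfDegree d) (h3 : 3 ≤ d) : False :=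
  Cfsg.Agent.Helper60.CYC.no_regular_friendship Γ d hfr hreg h3

/-! ## Part R: reduction to `Min` -/

/-- (R0) the hypotheses pass to subgroups (a Sylow `p`-subgroup of `H` maps into a `p`-subgroup of `G`, which lies in a Sylow
`p`-subgroup; subgroups of cyclic groups are cyclic; `p'`-subgroups of `H` map to `p'`-subgroups of `G`). -/
theorem hyp_subgroup (h : Hyp p G) (H : Subgroup G) : Hyp p H :=
  Cfsg.Agent.Helper34.CYC.hyp_subgroup h H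

/-- (R1) the hypotheses pass to `G ⧸ M` for a normal `p'`-subgroup `M` (Sylow `p`-subgroups of `G ⧸ M` are images of Sylow
`p`-subgroups of `G`: e.g. `Sylow.mapSurjective`/conjugacy, or compare orders; the preimage of a `p'`-subgroup is a `p'`-subgroup). -/
theorem hyp_quotient (h : Hyp p G) (M : Subgroup G) [M.Normal] (hM : ¬ p ∣ Nat.card M) : Hyp p (G ⧸ M) :=
  Cfsg.Agent.Helper34.CYC.hyp_quotient h M hM

/-- (R2) translate the conclusion for the group `↥H` into statements inside `G`.  If `N ⊴ H` is a complement to a Sylow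
`p`-subgroup of `H`, then `|H : N|` is a power of `p`, so every `p'`-element of `H` lies in `N`; `T = N.map H.subtype`.  If a Sylow
`p`-subgroup `Q` of `H` is normal, every `p`-element of `H` lies in it. -/
theorem pnilp_or_pclosed_of_concl (H : Subgroup G) (h : Concl p H) : PNilp p H ∨ PClosed p H :=
  Cfsg.Agent.Helper34.CYC.pnilp_or_pclosed_of_concl H h

/-- (R3) a nontrivial normal `p'`-subgroup `M`.  `G ⧸ M` satisfies `Hyp` (hq) and is smaller: `Concl p (G ⧸ M)`.  If `N̄ ⊴ G ⧸ M` is a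
normal `p`-complement, its preimage is one for `G` (`Subgroup.isComplement'_of_coprime`).  Otherwise `PM/M ⊴ G/M`, `PM ⊴ G`.  Suppose
`Concl p G` fails; by `hB` take a `p'`-element `x ∈ N_G(P) ∖ C_G(P)`.  `⟨x⟩M` is a `p'`-group, so abelian: `x ∈ C_G(M) ⊴ G`.  By `hfpf`,
`x` centralises no `1 ≠ a ∈ P`, so `a ↦ a x a⁻¹ x⁻¹` is an injective (hence surjective) endomorphism of the abelian group `P` with
values in `C_G(M)` (normal, contains `x`): `P ≤ C_G(M)`, `PM = P × M`, `P` is the only Sylow `p`-subgroup of `PM ⊴ G`, so `P ⊴ G`. -/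
theorem concl_of_normal_p' (h : Hyp p G)
    (ih : ∀ (H : Type u) [Group H] [Finite H], Nat.card H < Nat.card G → Hyp p H → Concl p H)
    (hq : ∀ (M : Subgroup G) [M.Normal], ¬ p ∣ Nat.card M → Hyp p (G ⧸ M))
    (hB : ¬ Cfsg.HasNormalPComplement p G → ∀ P : Sylow p G, ∃ x ∈ NP P, (orderOf x).Coprime p ∧ x ∉ CP P)
    (hfpf : ∀ (P : Sylow p G) (x a : G), x ∈ NP P → (orderOf x).Coprime p → a ∈ P → a ≠ 1 → x * a = a * x → x ∈ CP P)
    (M : Subgroup G) [M.Normal] (hM1 : M ≠ ⊥) (hMp : ¬ p ∣ Nat.card M) : Concl p G :=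
  Cfsg.Agent.Helper20.CYC.concl_of_normal_p' h ih hq hB hfpf M hM1 hMp

/-- (R4) no nontrivial normal `p'`-subgroup (h1), `R ≠ 1` a normal `p`-subgroup.  `R ≤ P` for every Sylow `P`; `C = C_G(R) ⊴ G` contains
the abelian `P`.  If `C ≠ ⊤`: `Concl p C` by `ih` (`hs` gives `Hyp p C`).  A normal `p`-complement `T` of `C` is the set of `p'`-elements
of `C`, so normal in `G`, so trivial by `h1`: `C` is a `p`-group, `C = P ⊴ G`.  If instead `C` has a normal Sylow `p`-subgroup it is `P`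
(`P ≤ C` is Sylow in `C`), the unique one, so `P ⊴ G`.  If `C = ⊤`: `R ≤ Z(G)`; if `Concl p G` fails take `x` from `hB`; `x` centralises
`1 ≠ a ∈ R ≤ P`, so `x ∈ C_G(P)` by `hfpf`: contradiction. -/
theorem concl_of_normal_p (h : Hyp p G)
    (ih : ∀ (H : Type u) [Group H] [Finite H], Nat.card H < Nat.card G → Hyp p H → Concl p H)
    (hs : ∀ H : Subgroup G, Hyp p H)
    (hB : ¬ Cfsg.HasNormalPComplement p G → ∀ P : Sylow p G, ∃ x ∈ NP P, (orderOf x).Coprime p ∧ x ∉ CP P)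
    (hfpf : ∀ (P : Sylow p G) (x a : G), x ∈ NP P → (orderOf x).Coprime p → a ∈ P → a ≠ 1 → x * a = a * x → x ∈ CP P)
    (h1 : ∀ M : Subgroup G, M.Normal → ¬ p ∣ Nat.card M → M = ⊥)
    (R : Subgroup G) [R.Normal] (hR1 : R ≠ ⊥) (hRp : IsPGroup p R) : Concl p G :=
  Cfsg.Agent.Helper20.CYC.concl_of_normal_p h ih hs hB hfpf h1 R hR1 hRp

/-- (R5) a proper nontrivial normal subgroup `M`.  `Concl p M` by `ih`.  A normal `p`-complement `T` of `M` (= the `p'`-elements of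
`M`) is normal in `G`: if `T ≠ 1` use `h1`, else `M` is a nontrivial normal `p`-group: `h2`.  A normal Sylow `p`-subgroup `Q` of `M` is
the set of `p`-elements of `M`, normal in `G`: if `Q ≠ 1` use `h2`, else `M` is a `p'`-group: `h1`. -/
theorem concl_of_normal (h : Hyp p G)
    (ih : ∀ (H : Type u) [Group H] [Finite H], Nat.card H < Nat.card G → Hyp p H → Concl p H)
    (hs : ∀ H : Subgroup G, Hyp p H)
    (h1 : ∀ M : Subgroup G, M.Normal → M ≠ ⊥ → ¬ p ∣ Nat.card M → Concl p G)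
    (h2 : ∀ M : Subgroup G, M.Normal → M ≠ ⊥ → IsPGroup p M → Concl p G)
    (M : Subgroup G) [M.Normal] (hM1 : M ≠ ⊥) (hM2 : M ≠ ⊤) : Concl p G :=
  Cfsg.Agent.Helper34.CYC.concl_of_normal h ih hs h1 h2 M hM1 hM2

/-! ## Part C: `Min ⟹ Core1 ⟹ Core` -/

/-- (C0) a `Min` group has no normal `p`-complement: `N ⊴ G` complement of `P`: `N = ⊥` ⟹ `P = ⊤`, `G ≅ P` cyclic, abelian;
`N = ⊤` ⟹ `P = ⊥`, `p ∤ |G|`. -/
theorem not_compl_of_min (hM : Min p G) : ¬ Cfsg.HasNormalPComplement p G :=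
  Cfsg.Agent.Helper69.CYC.not_compl_of_min hM

/-- (C2) `N_G(P)` is maximal.  `H ≥ N_G(P)` proper is `p`-nilpotent or `p`-closed (`hM.sub`).  `PNilp`: `x ∈ T`, and for `a ∈ P`,
`a x a⁻¹ x⁻¹ ∈ T ∩ P = 1`, so `x ∈ C_G(P)`: no.  `PClosed`: `Q ⊇ P`, `Q = P` (Sylow), `H ≤ N_G(Q) = N_G(P)`. -/
theorem max_of_nc (hM : Min p G) (P : Sylow p G) (x : G) (hx : x ∈ NP P) (hxp : (orderOf x).Coprime p) (hxc : x ∉ CP P)
    (H : Subgroup G) (hNH : NP P ≤ H) (hH : H ≠ ⊤) : H = NP P :=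
  Cfsg.Agent.Helper47.CYC.max_of_nc hM P x hx hxp hxc H hNH hH

/-- (C3) `N_G(Q) = N_G(P)` for `1 ≠ Q ≤ P`: `N_G(P) ≤ N_G(Q)` (`Q` is the only subgroup of its order in the cyclic `P`);
`N_G(Q) ≠ ⊤` (simple; `Q = ⊤` would make `G` cyclic). -/
theorem normalizer_eq_of_max (hM : Min p G) (P : Sylow p G)
    (hmax : ∀ H : Subgroup G, NP P ≤ H → H ≠ ⊤ → H = NP P) (Q : Subgroup G) (hQP : Q ≤ P) (hQ : Q ≠ ⊥) :
    nrm Q = NP P :=
  Cfsg.Agent.Helper47.CYC.normalizer_eq_of_max hM P hmax Q hQP hQ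

/-- (C4) TI: `⟨a⟩ ≤ P ⊓ Q` so `N_G(P) = N_G(⟨a⟩) = N_G(Q)`; `Q ≤ N_G(P)` is a `p`-subgroup, so `Q ≤ P`, `Q = P`. -/
theorem ti_of_nq (hnq : ∀ (P : Sylow p G) (Q : Subgroup G), Q ≤ P → Q ≠ ⊥ → nrm Q = NP P)
    (P Q : Sylow p G) (a : G) (haP : a ∈ P) (haQ : a ∈ Q) (ha : a ≠ 1) : P = Q :=
  Cfsg.Agent.Helper47.CYC.ti_of_nq hnq P Q a haP haQ ha

/-- (C5) `p ≠ 2`: else `P ≠ 1` (cyclic) has exactly one involution `a`, so `x a x⁻¹ = a`, and `x ∈ C_G(P)` by `hfpf`. -/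
theorem podd_of_nc (hM : Min p G) (P : Sylow p G) (x : G) (hx : x ∈ NP P) (hxp : (orderOf x).Coprime p) (hxc : x ∉ CP P)
    (hfpf : ∀ a : G, a ∈ P → a ≠ 1 → x * a = a * x → x ∈ CP P) : p ≠ 2 :=
  Cfsg.Agent.Helper47.CYC.podd_of_nc hM P x hx hxp hxc hfpf

/-- (C6) `Z(G) = 1`. -/
theorem center_of_min (hM : Min p G) (z : G) (hz : ∀ g : G, g * z = z * g) : z = 1 :=
  Cfsg.Agent.Helper69.CYC.center_of_min hM z hz

/-- (C8) Schur-Zassenhaus (`Subgroup.exists_right_complement'_of_coprime` in the group `↥(N_G(P))`): a complement `K`.  `K` is a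
`p'`-group so abelian, `N/P ≅ K` abelian.  For a `p'`-element `t ∈ C_G(P)` and `y ∈ K`: `c = t y t⁻¹ y⁻¹ ∈ P` commutes with `t` and
`y t⁻¹ y⁻¹ = t⁻¹ c` has order `o(t)`, so `c^(o(t)) = 1`, `c = 1`: `K` centralises `t`, `K⟨t⟩` is a `p'`-subgroup of `N` of order
dividing `|K|`, so `t ∈ K`. -/
theorem compl_of_min (hM : Min p G) (P : Sylow p G) :
    ∃ K : Subgroup G, K ≤ NP P ∧ ¬ p ∣ Nat.card K ∧ Nat.card K * Nat.card P = Nat.card (NP P) ∧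
      ∀ t ∈ CP P, (orderOf t).Coprime p → t ∈ K :=
  Cfsg.Agent.Helper20.CYC.compl_of_min hM P

/-- (C10) `p'`-elements normalising a `p'`-subgroup `R` centralise it: `⟨y⟩R` is a `p'`-group (order divides `o(y)|R|`), abelian. -/
theorem pcent_of_min (hM : Min p G) (R : Subgroup G) (hR : ¬ p ∣ Nat.card R) (y : G) (hy : y ∈ nrm R)
    (hyp : (orderOf y).Coprime p) : y ∈ ctr R :=
  Cfsg.Agent.Helper90.CYC.pcent_of_min hM R hR y hy hyp

/-- (C9) KEY.  `t ∈ C_G(a) ≤ N_G(P)` (`centp`), `t ∈ C_G(P)` (`fpf`), `t ∈ K` (`compl`), `K` abelian (`min.ab`): `K ≤ C_G(t)`, `P ≤ C_G(t)`,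
`N_G(P) = PK ≤ C_G(t) ≠ ⊤` (`center`), equality by `max`. -/
theorem key_of_core1 (h1 : Core1 p G) (P : Sylow p G) (a t : G) (ha : a ∈ P) (ha1 : a ≠ 1) (ht1 : t ≠ 1)
    (htp : (orderOf t).Coprime p) (hat : a * t = t * a) : Subgroup.centralizer {t} = NP P :=
  Cfsg.Agent.Helper90.CYC.key_of_core1 h1 P a t ha ha1 ht1 htp hat

/-- (C11) from (G2): `|N : C| = |N / ker f|` divides `|(ZMod p)ˣ| = p - 1`; `N / C` is isomorphic to a subgroup of the cyclic group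
`(ZMod p)ˣ`, so cyclic: take `y` mapping to a generator of the image. -/
theorem ediv_cycq_of_hom (P : Sylow p G) (f : ↥(NP P) →* (ZMod p)ˣ) (hf : ∀ x : ↥(NP P), f x = 1 ↔ (x : G) ∈ CP P) :
    (∃ e : ℕ, e ∣ p - 1 ∧ Nat.card (NP P) = e * Nat.card (CP P)) ∧
      ∃ y ∈ NP P, ∀ x ∈ NP P, ∃ n : ℕ, x⁻¹ * y ^ n ∈ CP P :=
  Cfsg.Agent.Helper90.CYC.ediv_cycq_of_hom P f hf

/-! ## Part O: `|G|` odd -/

/-- (OA) If no nontrivial `p'`-element commutes with an element of order `p`, `G` is a CA-group.  `x ≠ 1`: if `p ∤ |C_G(x)|` use `min.ab`.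
Else some `u` of order `p` commutes with `x`; the `p'`-part of `x` (a power of `x`) commutes with `u`, so is `1`: `x` is a `p`-element,
`x ∈ P₁`, `C_G(x) ≤ N_G(P₁)` (`centp`); for `y ∈ C_G(x)` the `p'`-part of `y` commutes with a power of `x` of order `p`, so is `1`; `y` is
a `p`-element of `N_G(P₁)`, so `y ∈ P₁`: `C_G(x) ≤ P₁` abelian.  Then `Cfsg.Agent.S0182.result` (import Cfsg.Agent.S0182): `G` solvable;
simple + solvable ⟹ commutative, against `min.nonab`. -/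
theorem odd_caseA (hC : Core p G) (hodd : Odd (Nat.card G))
    (h0 : ∀ a t : G, orderOf a = p → t ≠ 1 → (orderOf t).Coprime p → a * t ≠ t * a) : False :=
  Cfsg.Agent.Helper48.CYC.odd_caseA hC hodd h0

/-- (OB0) `t ∈ C_G(P)` (`fpf`); `g` = a power of `t` of prime order `r ≠ p`; `C_G(g) = N_G(P)` (`key`); `R` a Sylow `r`-subgroup of `G`
containing `g`; `R` is abelian (`p'`), so `R ≤ C_G(g) = N_G(P)`.  If `R ≤ C_G(P)`: `R ≤ K` (`compl`), `K` abelian, so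
`N_G(P) = PK ≤ C_G(R) ≤ N_G(R) ≠ ⊤`, and by `max` `N_G(R) = N_G(P) = C_G(R)`, against `burn`. -/
theorem odd_exists_sylow (hC : Core p G) (P : Sylow p G) (a t : G) (ha : a ∈ P) (ha1 : a ≠ 1) (ht1 : t ≠ 1)
    (htp : (orderOf t).Coprime p) (hat : a * t = t * a) :
    ∃ r : ℕ, r.Prime ∧ r ≠ p ∧ ∃ R : Sylow r G, (R : Subgroup G) ≤ NP P ∧ (∃ g ∈ R, g ≠ 1 ∧ g ∈ CP P) ∧
      ¬ (R : Subgroup G) ≤ CP P :=
  Cfsg.Agent.Helper40.CYC.odd_exists_sylow hC P a t ha ha1 ht1 htp hat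

/-- (OB1) `C_G(R)` is a complement of `P` in `N = N_G(P)`.  `C_G(R) ≤ C_G(g) = N` (`key`).  `C_P(R) = 1`: some `y ∈ R` is not in
`C_G(P)`, so by `fpf` centralises no `1 ≠ a ∈ P`.  So `|C_G(R)|` divides `|N|/|P|`.  `K` from `compl` contains a Sylow `r`-subgroup of
`N`, conjugate in `N` to `R` (Sylow in `G`, inside `N`): `R ≤ K' = n K n⁻¹`, `K'` abelian, `K' ≤ C_G(R)`: equality.  `p'`-elements of
`C_G(P) ⊴ N` lie in `K`, hence in `K'`. -/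
theorem odd_centralizer_sylow (hC : Core p G) (P : Sylow p G) (r : ℕ) (hr : r.Prime) (hrp : r ≠ p) (R : Sylow r G)
    (hRN : (R : Subgroup G) ≤ NP P) (hg : ∃ g ∈ R, g ≠ 1 ∧ g ∈ CP P) (hRC : ¬ (R : Subgroup G) ≤ CP P) :
    ctr (R : Subgroup G) ≤ NP P ∧ ¬ p ∣ Nat.card (ctr (R : Subgroup G)) ∧
      Nat.card (ctr (R : Subgroup G)) * Nat.card P = Nat.card (NP P) ∧
      ∀ t ∈ CP P, (orderOf t).Coprime p → t ∈ ctr (R : Subgroup G) :=
  Cfsg.Agent.Helper40.CYC.odd_centralizer_sylow hC P r hr hrp R hRN hg hRC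

/-- (OB2) `p'`-elements of `N_G(R)` centralise `R` (`pcent`); `¬ N_G(R) ≤ C_G(R)` (`burn`); so `p ∣ |N_G(R)|`: take `v ∈ N_G(R)` of order
`p`.  A `p`-element `1 ≠ w ∈ N_G(R)` is not in `N_G(P)`: else `w ∈ P`, `[R, w] ≤ R ∩ P = 1`, and every `y ∈ R` centralises `w`, so
`R ≤ C_G(P)` by `fpf`. -/
theorem odd_exists_v (hC : Core p G) (P : Sylow p G) (r : ℕ) (hr : r.Prime) (hrp : r ≠ p) (R : Sylow r G)
    (hRN : (R : Subgroup G) ≤ NP P) (hg : ∃ g ∈ R, g ≠ 1 ∧ g ∈ CP P) (hRC : ¬ (R : Subgroup G) ≤ CP P) :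
    ∃ v : G, orderOf v = p ∧ v ∈ nrm (R : Subgroup G) ∧ ∀ i : ℕ, 0 < i → i < p → v ^ i ∉ NP P :=
  Cfsg.Agent.Helper61.CYC.odd_exists_v hC P r hr hrp R hRN hg hRC

/-- (OB3) `K = C_G(R)` (abelian `p'`), `K₀ = K ⊓ C_G(P)`; `|C_G(P)| = |P||K₀|` (`C_G(P) = P (C_G(P) ⊓ K)`, Dedekind in `N = PK`).  The `p`
subgroups `vⁱ K₀ v⁻ⁱ ≤ K` (`v` normalises `R`, hence `K`), `0 ≤ i < p`, intersect pairwise trivially: `1 ≠ h ∈ K₀ ∩ w K₀ w⁻¹`
(`w = v^i`, `0 < i < p`) has `C_G(h) = N` and `C_G(h) = w N w⁻¹` (`key`), so `w P w⁻¹ = P`, `w ∈ N`: no.  Hence `p(|K₀| - 1) ≤ |K| - 1`;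
multiply by `|P|`. -/
theorem odd_count (hC : Core p G) (P : Sylow p G) (R : Subgroup G)
    (hK1 : ctr R ≤ NP P) (hK2 : ¬ p ∣ Nat.card (ctr R)) (hK3 : Nat.card (ctr R) * Nat.card P = Nat.card (NP P))
    (hK4 : ∀ t ∈ CP P, (orderOf t).Coprime p → t ∈ ctr R)
    (v : G) (hv : orderOf v = p) (hvR : v ∈ nrm R) (hvN : ∀ i : ℕ, 0 < i → i < p → v ^ i ∉ NP P) :
    p * Nat.card (CP P) + Nat.card P ≤ Nat.card (NP P) + p * Nat.card P :=
  Cfsg.Agent.Helper40.CYC.odd_count hC P R hK1 hK2 hK3 hK4 v hv hvR hvN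

/-- (OB4) arithmetic.  `c = |C_G(P)| ≥ 2|P|` (`P < C_G(P)` as `t ∉ P`, and `|P| ∣ c`), `|N| = e c`, `e ∣ p - 1` (`ediv`):
`(p - e) c ≤ (p - 1)|P|`, `2(p - e) ≤ p - 1`, `2e ≥ p + 1`, so `e = p - 1`, even (`podd`), `2 ∣ |N| ∣ |G|`. -/
theorem odd_arith (hC : Core p G) (hodd : Odd (Nat.card G)) (P : Sylow p G) (t : G) (ht : t ∈ CP P) (ht1 : t ≠ 1)
    (htp : (orderOf t).Coprime p)
    (hineq : p * Nat.card (CP P) + Nat.card P ≤ Nat.card (NP P) + p * Nat.card P) : False :=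
  Cfsg.Agent.Helper82.CYC.odd_arith hC hodd P t ht ht1 htp hineq

/-! ## Part E: `|G|` even, general facts.  `S` a Sylow 2-subgroup (abelian: `p` odd), `A = C_G(S)`. -/

/-- (E1) `C_G(S)` is a `p'`-group.  Else `u ∈ C_G(S)` of order `p`, `u ∈ P₁`; every `s ∈ S` is a `p'`-element commuting with `u`:
`S ≤ C_G(P₁)` (`centp`, `fpf`), and `C_G(t) = N_G(P₁)` for `1 ≠ t ∈ S` (`key`).  `p'`-elements of `N_G(S)` centralise `S` (`pcent`) and
`¬ N_G(S) ≤ C_G(S)` (`burn`): some `p`-element `d ∈ N_G(S) ∖ C_G(S)` (the `p`-part of an element of `N_G(S) ∖ C_G(S)`).  `d ∉ N_G(P₁)`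
(else `d ∈ P₁` is centralised by `S`).  `t' = d t d⁻¹ ∈ S`, so `C_G(t') = N_G(P₁)`, but also `C_G(t') = d N_G(P₁) d⁻¹ = N_G(d P₁ d⁻¹)`:
`d P₁ d⁻¹ = P₁` (unique Sylow `p` of its normaliser), `d ∈ N_G(P₁)`: contradiction. -/
theorem centS_coprime (hC : Core p G) (S : Sylow 2 G) (hS : (S : Subgroup G) ≠ ⊥) :
    ¬ p ∣ Nat.card (ctr (S : Subgroup G)) :=
  Cfsg.Agent.Helper61.CYC.centS_coprime hC S hS

/-- (E2) `N_G(S) = A D`, `D ≠ 1` a `p`-group.  `p'`-elements of `N_G(S)` lie in `A` (`pcent`), so `N_G(S)/A` is a `p`-group, nontrivial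
(`burn`); `D` = a Sylow `p`-subgroup of `N_G(S)`; `|N_G(S)| = |A| |N_G(S) : A|` with `p ∤ |A|`. -/
theorem normS (hC : Core p G) (S : Sylow 2 G) (hS : (S : Subgroup G) ≠ ⊥) (hA : ¬ p ∣ Nat.card (ctr (S : Subgroup G))) :
    ∃ D : Subgroup G, D ≤ nrm (S : Subgroup G) ∧ IsPGroup p D ∧ D ≠ ⊥ ∧
      Nat.card (ctr (S : Subgroup G)) * Nat.card D = Nat.card (nrm (S : Subgroup G)) :=
  Cfsg.Agent.Helper61.CYC.normS hC S hS hA

/-- (E3) elements of order `p` of `N_G(S)` act fixed-point-freely on `S`.  If `1 ≠ t ∈ S` commutes with `u ∈ P'`: `C_G(t) = N_G(P')`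
(`key`) contains the abelian `S`; for `s ∈ S`, `s u s⁻¹ u⁻¹ ∈ P' ∩ S = 1` (`P' ⊴ N_G(P')`, `u` normalises `S`): `u ∈ C_G(S)`, against `hA`. -/
theorem fpf_on_S (hC : Core p G) (S : Sylow 2 G) (hA : ¬ p ∣ Nat.card (ctr (S : Subgroup G)))
    (u : G) (hu : orderOf u = p) (huS : u ∈ nrm (S : Subgroup G)) (t : G) (ht : t ∈ S) (htu : t * u = u * t) : t = 1 :=
  Cfsg.Agent.Helper61.CYC.fpf_on_S hC S hA u hu huS t ht htu

/-- (E5) two non-commuting involutions lie in `Ivs P` for exactly one `P`.  Existence: `H = ⟨s,t⟩` is nonabelian so `p ∣ |H|`; `⟨st⟩ ⊴ H`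
of index `≤ 2`, so `p ∣ o(st)`; `u` = a power of `st` of order `p`, inverted by `s` and `t`; `u ∈ P`, `s, t ∈ N_G(⟨u⟩) = N_G(P)` (`nq`),
`s u s⁻¹ = u⁻¹ ≠ u`.  Uniqueness: `s, t ∈ Ivs P₁ ∩ Ivs P₂` invert `P₁`, `P₂` (`invert`), so `w = st ≠ 1` centralises both; if the `p'`-part
of `w` is `≠ 1`, `N_G(P₁) = C_G(w_{p'}) = N_G(P₂)` (`key`), so `P₁ = P₂`; else `w` is a `p`-element of `N_G(Pᵢ)`, so `w ∈ P₁ ∩ P₂`: `ti`. -/
theorem exists_unique_sylow_of_not_comm (hC : Core p G) (s t : G) (hs : s * s = 1) (ht : t * t = 1) (hst : s * t ≠ t * s) :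
    ∃! P : Sylow p G, s ∈ Ivs P ∧ t ∈ Ivs P :=
  Cfsg.Agent.Helper56.CYC.exists_unique_sylow_of_not_comm hC s t hs ht hst

/-- (E6a) structure of `Ivs P`.  `K` from `compl` (abelian), every element of `N_G(P)` is uniquely `b k` (`b ∈ P`, `k ∈ K`).
`b k ∈ Ivs P ⟺ k ∈ J := {k ∈ K | k*k = 1 ∧ k ∉ C_G(P)}` (`(bk)² = b (k b k⁻¹) k²`; `k ∈ J` inverts `P` (`invert`); `k ∈ C_G(P)`, `k² = 1`
forces `b² = 1`, `b = 1`, `bk ∈ C_G(P)`).  So `|Ivs P| = |P| j`, `j = |J|`.  `b k`, `b' k'` commute iff `b = b'`: `j` of them.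
`Ω = {k ∈ K | k² = 1}` is a `2`-group, `Ω/(Ω ∩ C_G(P))` embeds in the cyclic `N/C` (`cycq`) and has exponent 2, so order `≤ 2`: `J = ∅`
or `j = |Ω|/2`, a power of `2`. -/
theorem inv_count (hC : Core p G) (P : Sylow p G) :
    ∃ j : ℕ, (j = 0 ∨ ∃ m : ℕ, j = 2 ^ m) ∧ Nat.card (Ivs P) = Nat.card P * j ∧
      ∀ s ∈ Ivs P, Nat.card {t : G // t ∈ Ivs P ∧ s * t = t * s} = j :=
  Cfsg.Agent.Helper56.CYC.inv_count hC P

/-- (E6b) `Ivs` is conjugation-equivariant (`Sylow.coe_smul`, `g • P = g P g⁻¹`). -/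
theorem inv_conj (P : Sylow p G) (g : G) : Ivs (g • P) = (fun x => g * x * g⁻¹) '' Ivs P :=
  Cfsg.Agent.Helper69.CYC.inv_conj P g

/-- (E7) pure counting.  `{t | t*t = 1 ∧ s*t ≠ t*s} ≃ Σ P : {P // s ∈ Ivs P}, {t ∈ Ivs P | s*t ≠ t*s}` (`h5`), and each fibre has
`π j - j` elements (`h6`). -/
theorem card_noncomm (π j : ℕ)
    (h5 : ∀ s t : G, s * s = 1 → t * t = 1 → s * t ≠ t * s → ∃! P : Sylow p G, s ∈ Ivs P ∧ t ∈ Ivs P)
    (h6 : ∀ P : Sylow p G, Nat.card (Ivs P) = π * j ∧ ∀ s ∈ Ivs P, Nat.card {t : G // t ∈ Ivs P ∧ s * t = t * s} = j)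
    (s : G) (hs : s * s = 1) :
    Nat.card {t : G // t * t = 1 ∧ s * t ≠ t * s} = Nat.card {P : Sylow p G // s ∈ Ivs P} * (π * j - j) :=
  Cfsg.Agent.Helper60.CYC.card_noncomm π j h5 h6 s hs

/-! ## Case I: no involution commutes with an element of order `p` -/

/-- (I1) `C_G(s)` is a `p'`-group (Cauchy + `hI`), so abelian, and contains `S`; a `2`-element `t` of it generates with `S` a `2`-group,
so `t ∈ S`. -/
theorem caseI_comm_iff (hC : Core p G) (hI : ∀ s u : G, s * s = 1 → s ≠ 1 → orderOf u = p → s * u ≠ u * s)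
    (S : Sylow 2 G) (s : G) (hsS : s ∈ S) (hs : s * s = 1) (hs1 : s ≠ 1) (t : G) (ht : t * t = 1) :
    s * t = t * s ↔ t ∈ S :=
  Cfsg.Agent.Helper48.CYC.caseI_comm_iff hC hI S s hsS hs hs1 t ht

/-- (I2) every involution lies in exactly one Sylow 2-subgroup (two of them containing `t` are Sylow 2-subgroups of the abelian
`p'`-group `C_G(t)`), and all Sylow 2-subgroups are conjugate: `i = n₂ ω`. -/
theorem caseI_card_invol (hC : Core p G) (hI : ∀ s u : G, s * s = 1 → s ≠ 1 → orderOf u = p → s * u ≠ u * s)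
    (S : Sylow 2 G) :
    Nat.card {t : G // t * t = 1 ∧ t ≠ 1} =
      Nat.card (Sylow 2 G) * Nat.card {t : G // t ∈ S ∧ t * t = 1 ∧ t ≠ 1} :=
  Cfsg.Agent.Helper48.CYC.caseI_card_invol hC hI S

/-- (I3) `D` acts by conjugation on the involutions of `S`, freely (a nontrivial `d ∈ D` has a power of order `p`): `|D| ∣ ω`. -/
theorem caseI_dvd (S : Sylow 2 G) (D : Subgroup G) (hDN : D ≤ nrm (S : Subgroup G)) (hDp : IsPGroup p D)
    (hfpf : ∀ u : G, orderOf u = p → u ∈ nrm (S : Subgroup G) → ∀ t ∈ S, t * u = u * t → t = 1) :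
    Nat.card D ∣ Nat.card {t : G // t ∈ S ∧ t * t = 1 ∧ t ≠ 1} :=
  Cfsg.Agent.Helper10.CYC.caseI_dvd S D hDN hDp hfpf

/-- (I5) double counting.  For an involution `s`: `i = ω + m_s (π j - j)` (`h7`; `t = 1` commutes with `s`), and
`∑_s m_s = #{(s, P) | s ∈ Ivs P} = n_p π j` (elements of `Ivs P` are involutions `≠ 1`).  Sum over the `i` involutions. -/
theorem caseI_sum (π j ω : ℕ)
    (h6 : ∀ P : Sylow p G, Nat.card (Ivs P) = π * j)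
    (h7 : ∀ s : G, s * s = 1 → s ≠ 1 →
      Nat.card {t : G // t * t = 1 ∧ s * t ≠ t * s} = Nat.card {P : Sylow p G // s ∈ Ivs P} * (π * j - j))
    (hcomm : ∀ s : G, s * s = 1 → s ≠ 1 → Nat.card {t : G // t * t = 1 ∧ t ≠ 1 ∧ s * t = t * s} = ω) :
    Nat.card (Sylow p G) * (π * j) * (π * j - j) =
      Nat.card {t : G // t * t = 1 ∧ t ≠ 1} * (Nat.card {t : G // t * t = 1 ∧ t ≠ 1} - ω) :=
  Cfsg.Agent.Helper60.CYC.caseI_sum π j ω h6 h7 hcomm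

/-- (I4) arithmetic: multiply `hsum` by `π κ α δ`, cancel `g π`: `α δ j² (π - 1) = κ ω² (n₂ - 1)`; with `ω = c δ`:
`α j² (π - 1) = κ c² δ (n₂ - 1)`.  If `n₂ ≠ 1` the right side is `≠ 0` and divisible by `p`, but `p ∤ α`, `p ∤ j` (`j = 2^m`, `p` odd),
`p ∤ π - 1`. -/
theorem caseI_arith {q π j α δ κ ω i n2 np g : ℕ} (hq : q.Prime) (hq2 : q ≠ 2) (hπ : ∃ n : ℕ, n ≠ 0 ∧ π = q ^ n)
    (hj : j = 0 ∨ ∃ m : ℕ, j = 2 ^ m) (hα : ¬ q ∣ α) (hδq : q ∣ δ) (hδω : δ ∣ ω) (hω : ω ≠ 0) (hκ : κ ≠ 0) (hg : g ≠ 0)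
    (hnp : np * (π * κ) = g) (hn2 : n2 * (α * δ) = g) (hi : i = n2 * ω)
    (hsum : np * (π * j) * (π * j - j) = i * (i - ω)) : n2 = 1 :=
  Cfsg.Agent.Helper10.CYC.caseI_arith hq hq2 hπ hj hα hδq hδω hω hκ hg hnp hn2 hi hsum

/-! ## Case II: some involution `s` commutes with an element of order `p`; then `s ∈ C_G(P)`, `C_G(s) = N_G(P)` for some `P` -/

/-- (IIA) `A = C_G(S)` is a complement to `P` in `N = N_G(P) = C_G(s)` (`key`; `S` abelian so `S ≤ N`).  `K` from `compl` contains a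
Sylow 2-subgroup of `N` (`|N : K| = |P|` odd), conjugate in `N` to `S`: `S ≤ K' = n K n⁻¹` abelian, `K' ≤ A`; `A ∩ P = 1` (`hA`) and
`A P ≤ N` give `|A| ≤ |K|`.  `p'`-elements of `C_G(P) ⊴ N` lie in `K`, hence in `K'`. -/
theorem caseII_compl (hC : Core p G) (S : Sylow 2 G) (hA : ¬ p ∣ Nat.card (ctr (S : Subgroup G)))
    (P : Sylow p G) (s : G) (hsS : s ∈ S) (hs1 : s ≠ 1) (hsC : s ∈ CP P) :
    ctr (S : Subgroup G) ≤ NP P ∧ Nat.card (ctr (S : Subgroup G)) * Nat.card P = Nat.card (NP P) ∧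
      ∀ t ∈ CP P, (orderOf t).Coprime p → t ∈ ctr (S : Subgroup G) :=
  Cfsg.Agent.Helper88.CYC.caseII_compl hC S hA P s hsS hs1 hsC

/-- (IIB1) `Ω = {t ∈ S | t² = 1}`, `Ω₀ = Ω ∩ C_G(P) ∋ s`, `|Ω : Ω₀| ≤ 2` (`cycq`; `S ≤ C_G(s) = N`).  `v ∈ D` of order `p`; `v ∉ N` (else
`v ∈ P`, `[S, v] ≤ S ∩ P = 1`, `v ∈ C_G(S)`: `hA`).  `Ω₀ ∩ v Ω₀ v⁻¹ = 1` (`1 ≠ h` in it: `C_G(h) = N = v N v⁻¹` by `key`, so `v ∈ N`).
`v Ω v⁻¹ = Ω`, so `|Ω₀|² ≤ |Ω| ≤ 2|Ω₀|`: `|Ω₀| = 2`, `|Ω| = 4`.  `D` acts freely on the 3 involutions (`hfpf`): `|D| = 3 = p`, transitive. -/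
theorem caseII_four (hC : Core p G) (S : Sylow 2 G) (hA : ¬ p ∣ Nat.card (ctr (S : Subgroup G)))
    (P : Sylow p G) (s : G) (hsS : s ∈ S) (hs : s * s = 1) (hs1 : s ≠ 1) (hsC : s ∈ CP P)
    (D : Subgroup G) (hDN : D ≤ nrm (S : Subgroup G)) (hDp : IsPGroup p D) (hD1 : D ≠ ⊥)
    (hfpf : ∀ u : G, orderOf u = p → u ∈ nrm (S : Subgroup G) → ∀ t ∈ S, t * u = u * t → t = 1) :
    p = 3 ∧ Nat.card {t : G // t ∈ S ∧ t * t = 1} = 4 ∧
      ∀ t ∈ S, t * t = 1 → t ≠ 1 → ∃ g : G, g * s * g⁻¹ = t :=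
  Cfsg.Agent.Helper51.CYC.caseII_four hC S hA P s hsS hs hs1 hsC D hDN hDp hD1 hfpf

/-- (IIB2) `K = A = C_G(S)` (`hA1..hA3`), `K₀ = A ⊓ C_G(P) ∋ s`, `|C_G(P)| = |P||K₀|`, `|A : K₀| = |N : C_G(P)| = e ∣ p - 1 = 2`, `e ≠ 1`
(`nc`).  `v ∈ D` of order `p = 3`, `v ∉ N` (as in IIB1), `v` normalises `A`; `K₀ ∩ v K₀ v⁻¹ = 1` (`key`), so `|K₀|² ≤ |A| = 2|K₀|`:
`|K₀| = 2`, `|A| = 4`. -/
theorem caseII_orders (hC : Core p G) (hp3 : p = 3) (S : Sylow 2 G) (hA : ¬ p ∣ Nat.card (ctr (S : Subgroup G)))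
    (P : Sylow p G) (s : G) (hsS : s ∈ S) (hs : s * s = 1) (hs1 : s ≠ 1) (hsC : s ∈ CP P)
    (hA1 : ctr (S : Subgroup G) ≤ NP P) (hA2 : Nat.card (ctr (S : Subgroup G)) * Nat.card P = Nat.card (NP P))
    (hA3 : ∀ t ∈ CP P, (orderOf t).Coprime p → t ∈ ctr (S : Subgroup G))
    (D : Subgroup G) (hDN : D ≤ nrm (S : Subgroup G)) (hDp : IsPGroup p D) (hD1 : D ≠ ⊥) :
    Nat.card (CP P) = 2 * Nat.card P ∧ Nat.card (NP P) = 4 * Nat.card P :=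
  Cfsg.Agent.Helper88.CYC.caseII_orders hC hp3 S hA P s hsS hs hs1 hsC hA1 hA2 hA3 D hDN hDp hD1

/-- (IIC) all involutions are conjugate to `s` (Sylow + `hconj`), so have centraliser `N_G(g P₀ g⁻¹)`; cardinalities are conjugation
invariant; `Ivs P₀ ≠ ∅`: `S ≤ C_G(s) = N_G(P₀)` has 4 elements of square 1, at most 2 of them in `C_G(P₀)` (order `2|P₀|`, `|P₀|` odd:
a central Sylow 2-subgroup `⟨s⟩`). -/
theorem caseII_all (hC : Core p G) (S : Sylow 2 G) (P₀ : Sylow p G) (s : G) (hsS : s ∈ S) (hs : s * s = 1) (hs1 : s ≠ 1)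
    (hsC : s ∈ CP P₀) (h4 : Nat.card {t : G // t ∈ S ∧ t * t = 1} = 4)
    (hconj : ∀ t ∈ S, t * t = 1 → t ≠ 1 → ∃ g : G, g * s * g⁻¹ = t)
    (hcard : Nat.card (CP P₀) = 2 * Nat.card P₀ ∧ Nat.card (NP P₀) = 4 * Nat.card P₀) :
    (∀ z : G, z * z = 1 → z ≠ 1 → ∃ P : Sylow p G, Subgroup.centralizer {z} = NP P ∧ z ∈ CP P) ∧
      ∀ P : Sylow p G, Nat.card (CP P) = 2 * Nat.card P ∧ Nat.card (NP P) = 4 * Nat.card P ∧ (Ivs P).Nonempty :=
  Cfsg.Agent.Helper48.CYC.caseII_all hC S P₀ s hsS hs hs1 hsC h4 hconj hcard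

/-- (GR0) `j = 2`: for `s ∈ Ivs P` and `z` the involution of `C_G(P)` (Cauchy; `C_G(z) = N_G(P)` by `key`), `s` and `s z` are two elements of
`Ivs P` commuting with `s`: `j ≥ 2`; `Ivs P ⊆ N ∖ C_G(P)` has at most `2|P|` elements: `j ≤ 2`. -/
theorem caseII_j (hC : Core p G)
    (hII1 : ∀ P : Sylow p G, Nat.card (CP P) = 2 * Nat.card P ∧ Nat.card (NP P) = 4 * Nat.card P ∧ (Ivs P).Nonempty)
    (j : ℕ) (h6 : ∀ P : Sylow p G, Nat.card (Ivs P) = Nat.card P * j ∧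
      ∀ s ∈ Ivs P, Nat.card {t : G // t ∈ Ivs P ∧ s * t = t * s} = j) : j = 2 :=
  Cfsg.Agent.Helper11.CYC.caseII_j hC hII1 j h6

/-- (GR1) valency.  `C_G(z) = N_G(P)`, `z ∈ C_G(P)` (`hII2`); the involutions `t ≠ z` of `N_G(P)` are exactly `Ivs P` (an involution of
`C_G(P)`, of order `2|P|` with central Sylow 2-subgroup `⟨z⟩`, equals `z`); `|Ivs P| = 2|P|` (`h6`, `j = 2`). -/
theorem caseII_degree (hC : Core p G)
    (hII1 : ∀ P : Sylow p G, Nat.card (CP P) = 2 * Nat.card P ∧ Nat.card (NP P) = 4 * Nat.card P ∧ (Ivs P).Nonempty)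
    (hII2 : ∀ z : G, z * z = 1 → z ≠ 1 → ∃ P : Sylow p G, Subgroup.centralizer {z} = NP P ∧ z ∈ CP P)
    (π : ℕ) (hπ : ∀ P : Sylow p G, Nat.card P = π) (h6 : ∀ P : Sylow p G, Nat.card (Ivs P) = π * 2)
    (z : G) (hz : z * z = 1) (hz1 : z ≠ 1) :
    Nat.card {t : G // t * t = 1 ∧ t ≠ 1 ∧ t ≠ z ∧ z * t = t * z} = 2 * π :=
  Cfsg.Agent.Helper22.CYC.caseII_degree hC hII1 hII2 π hπ h6 z hz hz1

/-- (GR2) adjacent involutions have exactly one common neighbour `z z'`.  A common neighbour `t` and `z'` lie in `Ivs P` (`P` from `hII2 z`,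
as in GR1), `t` commutes with `z'`, and exactly `2` elements of `Ivs P` commute with `z'` (`h6`): `z'` and `z z'`. -/
theorem caseII_lambda (hC : Core p G)
    (hII1 : ∀ P : Sylow p G, Nat.card (CP P) = 2 * Nat.card P ∧ Nat.card (NP P) = 4 * Nat.card P ∧ (Ivs P).Nonempty)
    (hII2 : ∀ z : G, z * z = 1 → z ≠ 1 → ∃ P : Sylow p G, Subgroup.centralizer {z} = NP P ∧ z ∈ CP P)
    (h6 : ∀ P : Sylow p G, ∀ s ∈ Ivs P, Nat.card {t : G // t ∈ Ivs P ∧ s * t = t * s} = 2)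
    (z z' : G) (hz : z * z = 1) (hz1 : z ≠ 1) (hz' : z' * z' = 1) (hz'1 : z' ≠ 1) (hne : z ≠ z') (hcomm : z * z' = z' * z) :
    ∃! t : G, t * t = 1 ∧ t ≠ 1 ∧ (t ≠ z ∧ z * t = t * z) ∧ (t ≠ z' ∧ z' * t = t * z') :=
  Cfsg.Agent.Helper22.CYC.caseII_lambda hC hII1 hII2 h6 z z' hz hz1 hz' hz'1 hne hcomm

/-- (GR3) non-commuting involutions have exactly one common neighbour.  `P*` from `h5`; `z*` = the involution of `C_G(P*)` (Cauchy,
`|C_G(P*)| = 2|P*|`), `C_G(z*) = N_G(P*) ∋ z, z'` (`key`).  Uniqueness: a common neighbour `t` has `C_G(t) = N_G(P_t)`, `t ∈ C_G(P_t)`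
(`hII2`); `z, z' ∈ N_G(P_t)` are not in `C_G(P_t)` (its only involution is `t`), so `z, z' ∈ Ivs P_t`, `P_t = P*` (`h5`), `t = z*`. -/
theorem caseII_mu (hC : Core p G)
    (hII1 : ∀ P : Sylow p G, Nat.card (CP P) = 2 * Nat.card P ∧ Nat.card (NP P) = 4 * Nat.card P ∧ (Ivs P).Nonempty)
    (hII2 : ∀ z : G, z * z = 1 → z ≠ 1 → ∃ P : Sylow p G, Subgroup.centralizer {z} = NP P ∧ z ∈ CP P)
    (h5 : ∀ s t : G, s * s = 1 → t * t = 1 → s * t ≠ t * s → ∃! P : Sylow p G, s ∈ Ivs P ∧ t ∈ Ivs P)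
    (z z' : G) (hz : z * z = 1) (hz1 : z ≠ 1) (hz' : z' * z' = 1) (hz'1 : z' ≠ 1) (hnc : z * z' ≠ z' * z) :
    ∃! t : G, t * t = 1 ∧ t ≠ 1 ∧ (t ≠ z ∧ z * t = t * z) ∧ (t ≠ z' ∧ z' * t = t * z') :=
  Cfsg.Agent.Helper22.CYC.caseII_mu hC hII1 hII2 h5 z z' hz hz1 hz' hz'1 hnc

end Cfsg.Agent.Helper24.CYCP
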