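import Mathlib
import Cfsg.Prelude.Def_Transfer
import Cfsg.Agent.Lib.Helper24.CYCDefs
import Cfsg.Agent.Lib.Helper24.CYCPieces

/-!
CYC server (helper24, S4016): the assembly.  `main : Hyp p G → Concl p G`.
-/

set_option autoImplicit false
set_option linter.style.haveILetI false

namespace Cfsg.Agent.Helper24.CYCMain

open Subgroup Cfsg.Agent.Helper24.CYC
open Cfsg.Agent.Helper24.CYCP

universe u

section

variable {G : Type u} [Group G] [Finite G] {p : ℕ} [Fact p.Prime]


theorem core1_of_min (hM : Min p G) : Core1 p G := by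
  have hfpf : ∀ (P : Sylow p G) (x a : G), x ∈ NP P → (orderOf x).Coprime p → a ∈ P → a ≠ 1 →
      x * a = a * x → x ∈ CP P := by
    intro P x a hx hxp ha ha1 hxa
    have h := fpf_cyclic (P : Subgroup G) P.2 (hM.cyc P) x hx hxp a ha ha1 hxa
    rw [Subgroup.mem_centralizer_iff]
    intro b hb
    exact (h b hb).symm
  have hnc : ∀ P : Sylow p G, ∃ x ∈ NP P, (orderOf x).Coprime p ∧ x ∉ CP P := fun P =>
    exists_p'_of_not_compl P (hM.cyc P) (not_compl_of_min hM)
  have hmax : ∀ (P : Sylow p G) (H : Subgroup G), NP P ≤ H → H ≠ ⊤ → H = NP P := by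
    intro P H hNH hH
    obtain ⟨x, hx, hxp, hxc⟩ := hnc P
    exact max_of_nc hM P x hx hxp hxc H hNH hH
  have hnq : ∀ (P : Sylow p G) (Q : Subgroup G), Q ≤ P → Q ≠ ⊥ → nrm Q = NP P := fun P Q hQP hQ =>
    normalizer_eq_of_max hM P (hmax P) Q hQP hQ
  refine
    { min := hM
      podd := ?_
      center := center_of_min hM
      burn := fun r _ R hR => burnside_simple hM.simple hM.nonab r R hR
      pcent := fun R hR y hy hyp => pcent_of_min hM R hR y hy hyp
      nc := hnc
      max := hmax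
      nq := hnq
      ti := ti_of_nq hnq
      centp := ?_
      fpf := hfpf
      compl := compl_of_min hM }
  · obtain ⟨P⟩ : Nonempty (Sylow p G) := inferInstance
    obtain ⟨x, hx, hxp, hxc⟩ := hnc P
    exact podd_of_nc hM P x hx hxp hxc (fun a ha ha1 hxa => hfpf P x a hx hxp ha ha1 hxa)
  · intro P a ha ha1
    have hz : Subgroup.zpowers a ≤ (P : Subgroup G) := (Subgroup.zpowers_le).2 ha
    have hz1 : Subgroup.zpowers a ≠ ⊥ := by
      intro h
      exact ha1 ((Subgroup.zpowers_eq_bot).1 h)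
    rw [← hnq P _ hz hz1]
    intro y hy
    rw [Subgroup.mem_centralizer_iff] at hy
    have hya : y * a = a * y := (hy a rfl).symm
    rw [Subgroup.mem_normalizer_iff]
    intro h
    have hc : ∀ h : G, h ∈ Subgroup.zpowers a → y * h * y⁻¹ = h := by
      intro h hh
      obtain ⟨k, rfl⟩ := Subgroup.mem_zpowers_iff.1 hh
      have : Commute y (a ^ k) := (show Commute y a from hya).zpow_right k
      rw [this.eq, mul_inv_cancel_right]
    constructor
    · intro hh
      rw [hc h hh]; exact hh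
    · intro hh
      have h2 : y⁻¹ * (y * h * y⁻¹) * y = h := by group
      have hc' : ∀ h : G, h ∈ Subgroup.zpowers a → y⁻¹ * h * y = h := by
        intro h hh
        obtain ⟨k, rfl⟩ := Subgroup.mem_zpowers_iff.1 hh
        have : Commute y (a ^ k) := (show Commute y a from hya).zpow_right k
        have h3 : y⁻¹ * a ^ k * y = y⁻¹ * (a ^ k * y) := by group
        rw [h3, ← this.eq, inv_mul_cancel_left]
      rw [← h2, hc' _ hh]; exact hh

theorem core_of_min (hM : Min p G) : Core p G := by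
  have h1 := core1_of_min hM
  have hh : ∀ P : Sylow p G, (∃ e : ℕ, e ∣ p - 1 ∧ Nat.card (NP P) = e * Nat.card (CP P)) ∧
      ∃ y ∈ NP P, ∀ x ∈ NP P, ∃ n : ℕ, x⁻¹ * y ^ n ∈ CP P := by
    intro P
    obtain ⟨f, hf⟩ := exists_hom_units P (hM.cyc P)
    exact ediv_cycq_of_hom P f hf
  refine
    { c1 := h1
      key := fun P a t ha ha1 ht1 htp hat => key_of_core1 h1 P a t ha ha1 ht1 htp hat
      ediv := fun P => (hh P).1
      cycq := fun P => (hh P).2
      invert := ?_ }
  intro P s hs b hb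
  obtain ⟨hs2, hsN, hsC⟩ := hs
  have hsc : ∃ a ∈ (P : Subgroup G), s * a ≠ a * s := by
    by_contra hcon
    push Not at hcon
    apply hsC
    rw [Subgroup.mem_centralizer_iff]
    intro a ha
    exact (hcon a ha).symm
  exact inverts_cyclic h1.podd (P : Subgroup G) P.2 (hM.cyc P) s hsN hs2 hsc b hb



theorem hfpf_of_hyp (h : Hyp p G) : ∀ (P : Sylow p G) (x a : G), x ∈ NP P → (orderOf x).Coprime p → a ∈ P → a ≠ 1 →
      x * a = a * x → x ∈ CP P := by
  intro P x a hx hxp ha ha1 hxa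
  have h' := fpf_cyclic (P : Subgroup G) P.2 (h.1 P) x hx hxp a ha ha1 hxa
  rw [Subgroup.mem_centralizer_iff]
  intro b hb
  exact (h' b hb).symm

theorem min_of_not_concl (h : Hyp p G)
    (ih : ∀ (H : Type u) [Group H] [Finite H], Nat.card H < Nat.card G → Hyp p H → Concl p H)
    (hn : ¬ Concl p G) : Min p G := by
  have hs : ∀ H : Subgroup G, Hyp p H := fun H => hyp_subgroup h H
  have hq : ∀ (M : Subgroup G) [M.Normal], ¬ p ∣ Nat.card M → Hyp p (G ⧸ M) := fun M _ hM => hyp_quotient h M hM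
  have hB : ¬ Cfsg.HasNormalPComplement p G → ∀ P : Sylow p G, ∃ x ∈ NP P, (orderOf x).Coprime p ∧ x ∉ CP P :=
    fun hnc P => exists_p'_of_not_compl P (h.1 P) hnc
  have hfpf := hfpf_of_hyp h
  have h1 : ∀ M : Subgroup G, M.Normal → M ≠ ⊥ → ¬ p ∣ Nat.card M → Concl p G := by
    intro M hMn hM1 hMp
    haveI := hMn
    exact concl_of_normal_p' h ih hq hB hfpf M hM1 hMp
  have h1' : ∀ M : Subgroup G, M.Normal → ¬ p ∣ Nat.card M → M = ⊥ := by
    intro M hMn hMp
    by_contra hM1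
    exact hn (h1 M hMn hM1 hMp)
  have h2 : ∀ M : Subgroup G, M.Normal → M ≠ ⊥ → IsPGroup p M → Concl p G := by
    intro M hMn hM1 hMp
    haveI := hMn
    exact concl_of_normal_p h ih hs hB hfpf h1' M hM1 hMp
  have hab : ∀ H : Subgroup G, ¬ p ∣ Nat.card H → ∀ a ∈ H, ∀ b ∈ H, a * b = b * a := by
    intro H hH a ha b hb
    have := (h.2 H hH).is_comm.comm (⟨a, ha⟩ : H) ⟨b, hb⟩
    exact congrArg Subtype.val this
  have hnonab : ∃ a b : G, a * b ≠ b * a := by
    by_contra hc
    push Not at hc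
    apply hn
    right
    intro P
    constructor
    intro n hn' g
    have : g * n * g⁻¹ = n := by rw [hc g n, mul_inv_cancel_right]
    rw [this]; exact hn'
  have hpdvd : p ∣ Nat.card G := by
    by_contra hc
    apply hn
    left
    obtain ⟨P⟩ : Nonempty (Sylow p G) := inferInstance
    refine ⟨P, ⊤, inferInstance, ?_⟩
    have hP : (P : Subgroup G) = ⊥ := by
      have hdvd : Nat.card (P : Subgroup G) ∣ Nat.card G := Subgroup.card_subgroup_dvd_card _
      obtain ⟨k, hk⟩ := (IsPGroup.iff_card.1 P.2)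
      rw [hk] at hdvd
      rcases Nat.eq_zero_or_pos k with rfl | hk0
      · rw [pow_zero] at hk
        exact (Subgroup.card_eq_one).1 hk
      · exact absurd (dvd_trans (dvd_pow_self p hk0.ne') hdvd) hc
    rw [hP]
    exact Subgroup.isComplement'_top_bot
  have hnt : Nontrivial G := by
    by_contra hc
    rw [not_nontrivial_iff_subsingleton] at hc
    obtain ⟨a, b, hab'⟩ := hnonab
    exact hab' (Subsingleton.elim _ _)
  refine
    { simple := ?_
      nonab := hnonab
      pdvd := hpdvd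
      cyc := h.1
      ab := hab
      sub := ?_ }
  · refine { exists_pair_ne := hnt.exists_pair_ne, eq_bot_or_eq_top_of_normal := ?_ }
    intro M hMn
    by_contra hc
    push Not at hc
    haveI := hMn
    exact hn (concl_of_normal h ih hs h1 h2 M hc.1 hc.2)
  · intro H hH
    apply pnilp_or_pclosed_of_concl H
    apply ih H _ (hs H)
    by_contra hge
    exact hH (Subgroup.eq_top_of_le_card H (not_lt.1 hge))

/-- The reduction: if no `Min` configuration exists, the theorem holds. -/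
theorem main_of_min_false
    (hmin : ∀ (G : Type u) [Group G] [Finite G] (p : ℕ) [Fact p.Prime], Min p G → False)
    (p : ℕ) [Fact p.Prime] :
    ∀ (n : ℕ) (G : Type u) [Group G] [Finite G], Nat.card G = n → Hyp p G → Concl p G := by
  intro n
  induction n using Nat.strong_induction_on with
  | _ n IH =>
    intro G _ _ hn h
    by_contra hc
    refine hmin G p (min_of_not_concl h ?_ hc)
    intro H _ _ hlt hH
    exact IH (Nat.card H) (hn ▸ hlt) H rfl hH



theorem odd_false (hC : Core p G) (hodd : Odd (Nat.card G)) : False := by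
  by_cases h0 : ∀ a t : G, orderOf a = p → t ≠ 1 → (orderOf t).Coprime p → a * t ≠ t * a
  · exact odd_caseA hC hodd h0
  · push Not at h0
    obtain ⟨a, t, hap, ht1, htp, hat⟩ := h0
    have hp : p.Prime := Fact.out
    have ha1 : a ≠ 1 := by
      intro h
      rw [h, orderOf_one] at hap
      exact hp.one_lt.ne hap
    -- a lies in a Sylow p-subgroup
    have hpg : IsPGroup p (Subgroup.zpowers a) := by
      rw [IsPGroup.iff_card, Nat.card_zpowers, hap]
      exact ⟨1, (pow_one p).symm⟩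
    obtain ⟨P, hP⟩ := hpg.exists_le_sylow
    have ha : a ∈ (P : Subgroup G) := hP (Subgroup.mem_zpowers a)
    -- t ∈ C_G(P)
    have htN : t ∈ NP P := by
      apply hC.c1.centp P a ha ha1
      rw [Subgroup.mem_centralizer_iff]
      intro x hx
      rw [Set.mem_singleton_iff] at hx
      rw [hx]; exact hat
    have htC : t ∈ CP P := hC.c1.fpf P t a htN htp ha ha1 hat.symm
    obtain ⟨r, hr, hrp, R, hRN, hg, hRC⟩ := odd_exists_sylow hC P a t ha ha1 ht1 htp hat
    obtain ⟨hK1, hK2, hK3, hK4⟩ := odd_centralizer_sylow hC P r hr hrp R hRN hg hRC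
    obtain ⟨v, hv, hvR, hvN⟩ := odd_exists_v hC P r hr hrp R hRN hg hRC
    have hineq := odd_count hC P (R : Subgroup G) hK1 hK2 hK3 hK4 v hv hvR hvN
    exact odd_arith hC hodd P t htC ht1 htp hineq



theorem card_sylow_eq (P Q : Sylow p G) : Nat.card (P : Subgroup G) = Nat.card (Q : Subgroup G) := by
  rw [Sylow.card_eq_multiplicity, Sylow.card_eq_multiplicity]

theorem card_sylow_pos (P : Sylow p G) : 0 < Nat.card (P : Subgroup G) := Nat.card_pos

/-- a uniform `j`. -/
theorem exists_j (hC : Core p G) : ∃ j : ℕ, (j = 0 ∨ ∃ m : ℕ, j = 2 ^ m) ∧ ∀ P : Sylow p G,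
    Nat.card (Ivs P) = Nat.card P * j ∧ ∀ s ∈ Ivs P, Nat.card {t : G // t ∈ Ivs P ∧ s * t = t * s} = j := by
  obtain ⟨P₀⟩ : Nonempty (Sylow p G) := inferInstance
  obtain ⟨j, hj, hj1, hj2⟩ := inv_count hC P₀
  refine ⟨j, hj, ?_⟩
  intro P
  obtain ⟨j', hj', hj1', hj2'⟩ := inv_count hC P
  obtain ⟨g, hg⟩ := MulAction.exists_smul_eq G P₀ P
  have h1 : Nat.card (Ivs P) = Nat.card (Ivs P₀) := by
    rw [← hg, inv_conj P₀ g]
    apply Nat.card_image_of_injective
    intro x y hxy
    simpa using hxy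
  have h2 : Nat.card (P : Subgroup G) = Nat.card (P₀ : Subgroup G) := card_sylow_eq P P₀
  have h3 : j' = j := by
    have : Nat.card (P₀ : Subgroup G) * j' = Nat.card (P₀ : Subgroup G) * j := by
      rw [← hj1, ← h1, hj1', h2]
    exact Nat.eq_of_mul_eq_mul_left (card_sylow_pos P₀) this
  subst h3
  exact ⟨hj1', hj2'⟩

theorem caseI_false (hC : Core p G) (heven : 2 ∣ Nat.card G)
    (hI : ∀ s u : G, s * s = 1 → s ≠ 1 → orderOf u = p → s * u ≠ u * s) : False := by
  have hp : p.Prime := Fact.out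
  have hM := hC.c1.min
  obtain ⟨S⟩ : Nonempty (Sylow 2 G) := inferInstance
  have hS : (S : Subgroup G) ≠ ⊥ := Sylow.ne_bot_of_dvd_card S heven
  have hA := centS_coprime hC S hS
  obtain ⟨D, hDN, hDp, hD1, hcard⟩ := normS hC S hS hA
  have hfpf := fpf_on_S hC S hA
  have hδω := caseI_dvd S D hDN hDp hfpf
  obtain ⟨P₀⟩ : Nonempty (Sylow p G) := inferInstance
  set π := Nat.card (P₀ : Subgroup G) with hπdef
  have hπ : ∀ P : Sylow p G, Nat.card (P : Subgroup G) = π := fun P => card_sylow_eq P P₀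
  obtain ⟨j, hj, h6⟩ := exists_j hC
  have h6' : ∀ P : Sylow p G, Nat.card (Ivs P) = π * j ∧
      ∀ s ∈ Ivs P, Nat.card {t : G // t ∈ Ivs P ∧ s * t = t * s} = j := by
    intro P
    have := h6 P
    rw [hπ P] at this
    exact this
  have h5 := exists_unique_sylow_of_not_comm hC
  have h7 := card_noncomm π j h5 h6'
  set ω := Nat.card {t : G // t ∈ S ∧ t * t = 1 ∧ t ≠ 1} with hωdef
  set i := Nat.card {t : G // t * t = 1 ∧ t ≠ 1} with hidef
  have hi : i = Nat.card (Sylow 2 G) * ω := caseI_card_invol hC hI S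
  have hn2pos : 0 < Nat.card (Sylow 2 G) := Nat.card_pos
  -- every Sylow 2-subgroup has ω involutions
  have hω' : ∀ S' : Sylow 2 G, Nat.card {t : G // t ∈ S' ∧ t * t = 1 ∧ t ≠ 1} = ω := by
    intro S'
    have h' : i = Nat.card (Sylow 2 G) * Nat.card {t : G // t ∈ S' ∧ t * t = 1 ∧ t ≠ 1} :=
      caseI_card_invol hC hI S'
    rw [hi] at h'
    exact (Nat.eq_of_mul_eq_mul_left hn2pos h').symm
  have hcomm : ∀ s : G, s * s = 1 → s ≠ 1 →
      Nat.card {t : G // t * t = 1 ∧ t ≠ 1 ∧ s * t = t * s} = ω := by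
    intro s hs hs1
    have hpg : IsPGroup 2 (Subgroup.zpowers s) := by
      rw [IsPGroup.iff_card, Nat.card_zpowers]
      have : orderOf s = 2 := orderOf_eq_prime (by rw [pow_two]; exact hs) hs1
      exact ⟨1, by rw [this, pow_one]⟩
    obtain ⟨S', hS'⟩ := hpg.exists_le_sylow
    have hsS' : s ∈ (S' : Subgroup G) := hS' (Subgroup.mem_zpowers s)
    rw [← hω' S']
    apply Nat.card_congr
    refine
      { toFun := fun t => ⟨t.1, (caseI_comm_iff hC hI S' s hsS' hs hs1 t.1 t.2.1).1 t.2.2.2, t.2.1, t.2.2.1⟩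
        invFun := fun t => ⟨t.1, t.2.2.1, t.2.2.2, (caseI_comm_iff hC hI S' s hsS' hs hs1 t.1 t.2.2.1).2 t.2.1⟩
        left_inv := fun t => rfl
        right_inv := fun t => rfl }
  have hsum := caseI_sum π j ω (fun P => (h6' P).1) (fun s hs _ => h7 s hs) hcomm
  -- the arithmetic data
  obtain ⟨K, hKN, hKp, hKcard, -⟩ := hC.c1.compl P₀
  have hnp : Nat.card (Sylow p G) * (π * Nat.card K) = Nat.card G := by
    rw [Sylow.card_eq_index_normalizer P₀, mul_comm π, hKcard]
    exact Subgroup.index_mul_card _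
  have hn2 : Nat.card (Sylow 2 G) * (Nat.card (ctr (S : Subgroup G)) * Nat.card D) = Nat.card G := by
    rw [Sylow.card_eq_index_normalizer S, hcard]
    exact Subgroup.index_mul_card _
  have hπ' : ∃ n : ℕ, n ≠ 0 ∧ π = p ^ n := by
    refine ⟨(Nat.card G).factorization p, ?_, Sylow.card_eq_multiplicity P₀⟩
    intro h0
    have := (hp.dvd_iff_one_le_factorization (Nat.card_pos (α := G)).ne').1 hM.pdvd
    omega
  have hδq : p ∣ Nat.card D := by
    obtain ⟨k, hk⟩ := IsPGroup.iff_card.1 hDp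
    rcases Nat.eq_zero_or_pos k with rfl | hk0
    · rw [pow_zero] at hk
      exact absurd ((Subgroup.card_eq_one).1 hk) hD1
    · rw [hk]; exact dvd_pow_self p hk0.ne'
  have hω : ω ≠ 0 := by
    have h2 : 2 ∣ Nat.card (S : Subgroup G) := by
      obtain ⟨k, hk⟩ := IsPGroup.iff_card.1 S.2
      rcases Nat.eq_zero_or_pos k with rfl | hk0
      · rw [pow_zero] at hk
        exact absurd ((Subgroup.card_eq_one).1 hk) hS
      · rw [hk]; exact dvd_pow_self 2 hk0.ne'
    obtain ⟨x, hx⟩ := exists_prime_orderOf_dvd_card' (G := (S : Subgroup G)) 2 h2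
    have hx1 : x ≠ 1 := by
      intro h; rw [h, orderOf_one] at hx; omega
    have hx2 : x * x = 1 := by
      have h3 := pow_orderOf_eq_one x
      rw [hx, pow_two] at h3
      exact h3
    have : Nonempty {t : G // t ∈ S ∧ t * t = 1 ∧ t ≠ 1} :=
      ⟨⟨x.1, x.2, by exact_mod_cast congrArg Subtype.val hx2, fun h => hx1 (Subtype.ext h)⟩⟩
    exact (Nat.card_pos (α := {t : G // t ∈ S ∧ t * t = 1 ∧ t ≠ 1})).ne'
  have hn21 : Nat.card (Sylow 2 G) = 1 :=
    caseI_arith (q := p) (π := π) (j := j) (α := Nat.card (ctr (S : Subgroup G))) (δ := Nat.card D)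
      (κ := Nat.card K) (ω := ω) (i := i) (n2 := Nat.card (Sylow 2 G)) (np := Nat.card (Sylow p G))
      (g := Nat.card G) hp hC.c1.podd hπ' hj hA hδq hδω hω (Nat.card_pos (α := K)).ne'
      (Nat.card_pos (α := G)).ne' hnp hn2 hi hsum
  -- S is normal
  haveI : Subsingleton (Sylow 2 G) := (Nat.card_eq_one_iff_unique.1 hn21).1
  have hSn : (S : Subgroup G).Normal := Sylow.normal_of_subsingleton S
  haveI := hM.simple
  rcases hSn.eq_bot_or_eq_top with h | h
  · exact hS h
  · -- G is a 2-group, so p = 2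
    have hG2 : IsPGroup 2 G := by
      have := S.2
      rw [h] at this
      exact IsPGroup.of_equiv this Subgroup.topEquiv  -- placeholder
    obtain ⟨k, hk⟩ := IsPGroup.iff_card.1 hG2
    have hpd := hM.pdvd
    rw [hk] at hpd
    have := (Nat.prime_dvd_prime_iff_eq hp Nat.prime_two).1 (hp.dvd_of_dvd_pow hpd)
    exact hC.c1.podd this



/-- The commuting graph on the involutions. -/
def commGraph (G : Type u) [Group G] : SimpleGraph {z : G // z * z = 1 ∧ z ≠ 1} :=
  SimpleGraph.fromRel (fun a b => a.1 * b.1 = b.1 * a.1)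

theorem commGraph_adj (a b : {z : G // z * z = 1 ∧ z ≠ 1}) :
    (commGraph G).Adj a b ↔ a ≠ b ∧ a.1 * b.1 = b.1 * a.1 := by
  unfold commGraph
  rw [SimpleGraph.fromRel_adj]
  constructor
  · rintro ⟨h1, h2 | h2⟩
    · exact ⟨h1, h2⟩
    · exact ⟨h1, h2.symm⟩
  · rintro ⟨h1, h2⟩
    exact ⟨h1, Or.inl h2⟩

theorem graph_false (π : ℕ) (hπ3 : 3 ≤ 2 * π) (hne : ∃ z : G, z * z = 1 ∧ z ≠ 1)
    (hdeg : ∀ z : G, z * z = 1 → z ≠ 1 → Nat.card {t : G // t * t = 1 ∧ t ≠ 1 ∧ t ≠ z ∧ z * t = t * z} = 2 * π)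
    (hfr : ∀ z z' : G, z * z = 1 → z ≠ 1 → z' * z' = 1 → z' ≠ 1 → z ≠ z' →
      ∃! t : G, t * t = 1 ∧ t ≠ 1 ∧ (t ≠ z ∧ z * t = t * z) ∧ (t ≠ z' ∧ z' * t = t * z')) : False := by
  classical
  obtain ⟨z₀, hz₀, hz₀1⟩ := hne
  haveI : Nonempty {z : G // z * z = 1 ∧ z ≠ 1} := ⟨⟨z₀, hz₀, hz₀1⟩⟩
  haveI : Fintype {z : G // z * z = 1 ∧ z ≠ 1} := Fintype.ofFinite _
  refine no_regular_friendship (commGraph G) (2 * π) ?_ ?_ hπ3
  · intro v w hvw
    obtain ⟨t, ht, htu⟩ := hfr v.1 w.1 v.2.1 v.2.2 w.2.1 w.2.2 (fun h => hvw (Subtype.ext h))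
    refine ⟨⟨t, ht.1, ht.2.1⟩, ?_, ?_⟩
    · refine ⟨(commGraph_adj _ _).2 ⟨fun h => ht.2.2.1.1 (congrArg Subtype.val h).symm, ht.2.2.1.2⟩,
        (commGraph_adj _ _).2 ⟨fun h => ht.2.2.2.1 (congrArg Subtype.val h).symm, ht.2.2.2.2⟩⟩
    · intro x hx
      have hx1 := (commGraph_adj _ _).1 hx.1
      have hx2 := (commGraph_adj _ _).1 hx.2
      apply Subtype.ext
      apply htu x.1
      refine ⟨x.2.1, x.2.2, ⟨fun h => hx1.1 (Subtype.ext h.symm), hx1.2⟩,
        ⟨fun h => hx2.1 (Subtype.ext h.symm), hx2.2⟩⟩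
  · intro v
    rw [← SimpleGraph.card_neighborSet_eq_degree, ← Nat.card_eq_fintype_card, ← hdeg v.1 v.2.1 v.2.2]
    apply Nat.card_congr
    refine
      { toFun := fun w => ⟨w.1.1, w.1.2.1, w.1.2.2,
          fun h => ((commGraph_adj _ _).1 w.2).1 (Subtype.ext h.symm), ((commGraph_adj _ _).1 w.2).2⟩
        invFun := fun t => ⟨⟨t.1, t.2.1, t.2.2.1⟩,
          (commGraph_adj _ _).2 ⟨fun h => t.2.2.2.1 (congrArg Subtype.val h).symm, t.2.2.2.2⟩⟩
        left_inv := fun w => rfl
        right_inv := fun t => rfl }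

theorem caseII_false (hC : Core p G) (s u : G) (hs : s * s = 1) (hs1 : s ≠ 1) (hu : orderOf u = p)
    (hsu : s * u = u * s) : False := by
  have hp : p.Prime := Fact.out
  have hM := hC.c1.min
  have hu1 : u ≠ 1 := by
    intro h
    rw [h, orderOf_one] at hu
    exact hp.one_lt.ne hu
  -- u lies in a Sylow p-subgroup P
  have hpg : IsPGroup p (Subgroup.zpowers u) := by
    rw [IsPGroup.iff_card, Nat.card_zpowers, hu]
    exact ⟨1, (pow_one p).symm⟩
  obtain ⟨P, hP⟩ := hpg.exists_le_sylow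
  have huP : u ∈ (P : Subgroup G) := hP (Subgroup.mem_zpowers u)
  have hs_ord : orderOf s = 2 := orderOf_eq_prime (by rw [pow_two]; exact hs) hs1
  have hsp : (orderOf s).Coprime p := by
    rw [hs_ord]
    exact (Nat.coprime_primes Nat.prime_two hp).2 (fun h => hC.c1.podd h.symm)
  have hsN : s ∈ NP P := by
    apply hC.c1.centp P u huP hu1
    rw [Subgroup.mem_centralizer_iff]
    intro x hx
    rw [Set.mem_singleton_iff] at hx
    rw [hx]; exact hsu.symm
  have hsC : s ∈ CP P := hC.c1.fpf P s u hsN hsp huP hu1 hsu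
  -- a Sylow 2-subgroup containing s
  have hpg2 : IsPGroup 2 (Subgroup.zpowers s) := by
    rw [IsPGroup.iff_card, Nat.card_zpowers, hs_ord]
    exact ⟨1, (pow_one 2).symm⟩
  obtain ⟨S, hS'⟩ := hpg2.exists_le_sylow
  have hsS : s ∈ (S : Subgroup G) := hS' (Subgroup.mem_zpowers s)
  have hS : (S : Subgroup G) ≠ ⊥ := by
    intro h
    rw [h, Subgroup.mem_bot] at hsS
    exact hs1 hsS
  have hA := centS_coprime hC S hS
  obtain ⟨D, hDN, hDp, hD1, hcard⟩ := normS hC S hS hA
  have hfpf := fpf_on_S hC S hA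
  obtain ⟨hA1, hA2, hA3⟩ := caseII_compl hC S hA P s hsS hs1 hsC
  obtain ⟨hp3, h4, hconj⟩ := caseII_four hC S hA P s hsS hs hs1 hsC D hDN hDp hD1 hfpf
  have hcd := caseII_orders hC hp3 S hA P s hsS hs hs1 hsC hA1 hA2 hA3 D hDN hDp hD1
  obtain ⟨hII2, hII1⟩ := caseII_all hC S P s hsS hs hs1 hsC h4 hconj hcd
  obtain ⟨j, hj, h6⟩ := exists_j hC
  have hj2 : j = 2 := caseII_j hC hII1 j h6
  subst hj2
  set π := Nat.card (P : Subgroup G) with hπdef
  have hπ : ∀ Q : Sylow p G, Nat.card (Q : Subgroup G) = π := fun Q => card_sylow_eq Q P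
  have h5 := exists_unique_sylow_of_not_comm hC
  have h6a : ∀ Q : Sylow p G, Nat.card (Ivs Q) = π * 2 := by
    intro Q
    rw [(h6 Q).1, hπ Q]
  have h6b : ∀ Q : Sylow p G, ∀ s ∈ Ivs Q, Nat.card {t : G // t ∈ Ivs Q ∧ s * t = t * s} = 2 :=
    fun Q => (h6 Q).2
  have hπ3 : 3 ≤ 2 * π := by
    have hpπ : p ∣ π := by
      rw [hπdef, Sylow.card_eq_multiplicity]
      apply dvd_pow_self
      intro h0
      have := (hp.dvd_iff_one_le_factorization (Nat.card_pos (α := G)).ne').1 hM.pdvd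
      omega
    have : p ≤ π := Nat.le_of_dvd (card_sylow_pos P) hpπ
    have := hp.two_le
    omega
  refine graph_false π hπ3 ⟨s, hs, hs1⟩ (fun z hz hz1 => caseII_degree hC hII1 hII2 π hπ h6a z hz hz1) ?_
  intro z z' hz hz1 hz' hz'1 hne
  by_cases hc : z * z' = z' * z
  · exact caseII_lambda hC hII1 hII2 h6b z z' hz hz1 hz' hz'1 hne hc
  · exact caseII_mu hC hII1 hII2 h5 z z' hz hz1 hz' hz'1 hc

theorem even_false (hC : Core p G) (heven : 2 ∣ Nat.card G) : False := by
  by_cases hI : ∀ s u : G, s * s = 1 → s ≠ 1 → orderOf u = p → s * u ≠ u * s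
  · exact caseI_false hC heven hI
  · push Not at hI
    obtain ⟨s, u, hs, hs1, hu, hsu⟩ := hI
    exact caseII_false hC s u hs hs1 hu hsu


end


theorem min_false (G : Type u) [Group G] [Finite G] (p : ℕ) [Fact p.Prime] (hM : Min p G) : False := by
  have hC := core_of_min hM
  rcases Nat.even_or_odd (Nat.card G) with h | h
  · exact even_false hC h.two_dvd
  · exact odd_false hC h

theorem main (G : Type u) [Group G] [Finite G] (p : ℕ) [Fact p.Prime] (h : Hyp p G) : Concl p G :=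
  main_of_min_false (fun G _ _ p _ hM => min_false G p hM) p (Nat.card G) G rfl h


end Cfsg.Agent.Helper24.CYCMain
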