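import Mathlib
import Cfsg.Agent.Lib.Helper32.N5Defs

set_option autoImplicit false
set_option linter.unusedVariables false
set_option linter.unusedSectionVars false

/-!
N5 server (helper32, S1904), piece (A3b) `alpha_three_false`: a pure element of the last layer
gives a normal elementary abelian subgroup of order 8, contradicting `hP1`.

Route (a shortening of the sketch of the server): with `ρ b = b ^ 2 ^ (k-1)` (`2 ^ k` the exponent of
`B`) one has `ρ : B → V` onto with kernel the squares `S` of `B` (one counting argument); `X`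
centralises `B / S`; the kernel of `b ↦ ⁅b, l⁆` is `σ`-invariant by purity, hence equal to `S`;
`l ^ 2 ∈ S`, so `l B` contains an involution `t`; and `V ∪ t V` is normal in `X`.
-/

namespace Cfsg.Agent.Helper24.N5

open Cfsg Cfsg.Agent.Helper32.N5
open scoped commutatorElement

universe u

variable {X : Type u} [Group X] [Finite X]

/-- a nontrivial element of a 2-group has a power which is an involution -/
theorem h24_exists_pow_invol (hX : IsPGroup 2 X) {f : X} (hf : f ≠ 1) :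
    ∃ m : ℕ, f ^ m ≠ 1 ∧ (f ^ m) ^ 2 = 1 := by
  obtain ⟨j, hj⟩ := (IsPGroup.iff_orderOf.mp hX) f
  have hj0 : j ≠ 0 := by
    rintro rfl
    rw [pow_zero, orderOf_eq_one_iff] at hj
    exact hf hj
  refine ⟨2 ^ (j - 1), ?_, ?_⟩
  · apply pow_ne_one_of_lt_orderOf (by positivity)
    rw [hj]
    exact Nat.pow_lt_pow_right (by norm_num) (by omega)
  · rw [← pow_mul, ← pow_succ, Nat.sub_add_cancel (by omega), ← hj, pow_orderOf_eq_one]

/-- the four elements of `V` -/
theorem h24_orbit {V : Subgroup X} {σ : MulAut X} (hV : VData V σ)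
    (hσ3 : ∀ x : X, σ (σ (σ x)) = x) {u : X} (hu : u ∈ V) (hu1 : u ≠ 1) :
    ∀ v ∈ V, v = 1 ∨ v = u ∨ v = σ u ∨ v = σ (σ u) := by
  classical
  have : Fintype V := Fintype.ofFinite V
  have hsu : σ u ∈ V := hV.inv u hu
  have hssu : σ (σ u) ∈ V := hV.inv _ hsu
  have h1 : σ u ≠ u := fun h => hu1 (hV.fpf u hu h)
  have h2 : σ u ≠ 1 := fun h => hu1 (by simpa using h)
  have h3 : σ (σ u) ≠ 1 := fun h => h2 (by simpa using h)
  have h4 : σ (σ u) ≠ σ u := fun h => h1 (σ.injective h)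
  have h5 : σ (σ u) ≠ u := by
    intro h
    apply h1
    have := congrArg σ h
    rw [hσ3] at this
    exact this.symm
  let T : Finset V := {1, ⟨u, hu⟩, ⟨σ u, hsu⟩, ⟨σ (σ u), hssu⟩}
  have hT : T.card = 4 := by
    have e1 : (⟨σ u, hsu⟩ : V) ∉ ({⟨σ (σ u), hssu⟩} : Finset V) := by
      simp only [Finset.mem_singleton, Subtype.mk.injEq]; exact fun h => h4 h.symm
    have e2 : (⟨u, hu⟩ : V) ∉ ({⟨σ u, hsu⟩, ⟨σ (σ u), hssu⟩} : Finset V) := by
      simp only [Finset.mem_insert, Finset.mem_singleton, Subtype.mk.injEq, not_or]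
      exact ⟨fun h => h1 h.symm, fun h => h5 h.symm⟩
    have e3 : (1 : V) ∉ ({⟨u, hu⟩, ⟨σ u, hsu⟩, ⟨σ (σ u), hssu⟩} : Finset V) := by
      simp only [Finset.mem_insert, Finset.mem_singleton, not_or]
      refine ⟨fun h => hu1 ?_, fun h => h2 ?_, fun h => h3 ?_⟩
      · exact (congrArg Subtype.val h).symm
      · exact (congrArg Subtype.val h).symm
      · exact (congrArg Subtype.val h).symm
    show (insert (1 : V) (insert (⟨u, hu⟩ : V) (insert (⟨σ u, hsu⟩ : V)
      ({⟨σ (σ u), hssu⟩} : Finset V)))).card = 4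
    rw [Finset.card_insert_of_notMem e3, Finset.card_insert_of_notMem e2,
      Finset.card_insert_of_notMem e1, Finset.card_singleton]
  have hcard : Fintype.card V = 4 := by rw [← Nat.card_eq_fintype_card]; exact hV.card
  have hTu : T = Finset.univ := Finset.eq_univ_of_card T (by rw [hT, hcard])
  intro v hv
  have hmem : (⟨v, hv⟩ : V) ∈ T := by rw [hTu]; exact Finset.mem_univ _
  simp only [T, Finset.mem_insert, Finset.mem_singleton, Subtype.ext_iff] at hmem
  exact hmem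

/-- `b σ(b) σ²(b) = 1` on `B` -/
theorem h24_norm_eq_one (hX : IsPGroup 2 X) {σ : MulAut X} (hσ3 : ∀ x : X, σ (σ (σ x)) = x)
    {V : Subgroup X} (hV : VData V σ) {B : Subgroup X} (hBσ : ∀ b ∈ B, σ b ∈ B) (hBab : Ab B)
    (hVΩ : ∀ b ∈ B, b ^ 2 = 1 → b ∈ V) {b : X} (hb : b ∈ B) : b * σ b * σ (σ b) = 1 := by
  by_contra hne
  set f := b * σ b * σ (σ b) with hf
  have hsb := hBσ b hb
  have hssb := hBσ _ hsb
  have hfB : f ∈ B := B.mul_mem (B.mul_mem hb hsb) hssb
  have hσf : σ f = f := by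
    rw [hf, map_mul, map_mul, hσ3]
    rw [mul_assoc b]
    exact (hBab b hb _ (B.mul_mem hsb hssb)).symm
  obtain ⟨m, hm1, hm2⟩ := h24_exists_pow_invol hX hne
  have hgB : f ^ m ∈ B := B.pow_mem hfB m
  have hgV : f ^ m ∈ V := hVΩ _ hgB hm2
  have hσg : σ (f ^ m) = f ^ m := by rw [map_pow, hσf]
  exact hm1 (hV.fpf _ hgV hσg)

/-- the structure of `B`: `ρ b = b ^ e` maps `B` onto `V` with kernel the squares -/
theorem h24_key (hX : IsPGroup 2 X) {σ : MulAut X} (hσ3 : ∀ x : X, σ (σ (σ x)) = x)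
    {V : Subgroup X} (hV : VData V σ) {B : Subgroup X} (hBσ : ∀ b ∈ B, σ b ∈ B) (hBab : Ab B)
    (hVB : V ≤ B) (hVΩ : ∀ b ∈ B, b ^ 2 = 1 → b ∈ V) {b₀ : X} (hb₀ : b₀ ∈ B)
    (hb₀4 : b₀ ^ 4 ≠ 1) :
    ∃ e : ℕ, 4 ∣ e ∧ (∀ b ∈ B, b ^ e ∈ V) ∧ (∀ v ∈ V, ∃ b ∈ B, b ^ e = v) ∧
      (∀ b ∈ B, b ^ e = 1 → ∃ a ∈ B, a ^ 2 = b) := by
  classical
  have hex : ∃ n : ℕ, ∀ b ∈ B, b ^ 2 ^ n = 1 := by
    obtain ⟨n, hn⟩ := (IsPGroup.iff_card (p := 2) (G := X)).mp hX
    exact ⟨n, fun b _ => by rw [← hn]; exact pow_card_eq_one'⟩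
  let k := Nat.find hex
  have hk : ∀ b ∈ B, b ^ 2 ^ k = 1 := Nat.find_spec hex
  have hk3 : 3 ≤ k := by
    by_contra h
    push Not at h
    apply hb₀4
    have h1 := hk b₀ hb₀
    obtain ⟨d, hd⟩ : 2 ^ k ∣ 4 := by
      have : k ≤ 2 := by omega
      calc 2 ^ k ∣ 2 ^ 2 := pow_dvd_pow 2 this
        _ = 4 := by norm_num
    rw [hd, pow_mul, h1, one_pow]
  have hmin : ∃ b₁ ∈ B, b₁ ^ 2 ^ (k - 1) ≠ 1 := by
    by_contra h
    push Not at h
    have := Nat.find_min' hex h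
    omega
  obtain ⟨b₁, hb₁, hb₁ne⟩ := hmin
  set e := 2 ^ (k - 1) with he
  have he2 : e * 2 = 2 ^ k := by rw [he, ← pow_succ, Nat.sub_add_cancel (by omega)]
  have h4e : 4 ∣ e := by
    rw [he]
    calc 4 = 2 ^ 2 := by norm_num
      _ ∣ 2 ^ (k - 1) := pow_dvd_pow 2 (by omega)
  have hρV : ∀ b ∈ B, b ^ e ∈ V := by
    intro b hb
    apply hVΩ _ (B.pow_mem hb e)
    rw [← pow_mul, he2]; exact hk b hb
  have hρsurj : ∀ v ∈ V, ∃ b ∈ B, b ^ e = v := by
    intro v hv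
    have hu := hρV b₁ hb₁
    rcases h24_orbit hV hσ3 hu hb₁ne v hv with h | h | h | h
    · exact ⟨1, B.one_mem, by rw [one_pow, h]⟩
    · exact ⟨b₁, hb₁, h.symm⟩
    · exact ⟨σ b₁, hBσ _ hb₁, by rw [h, map_pow]⟩
    · exact ⟨σ (σ b₁), hBσ _ (hBσ _ hb₁), by rw [h, map_pow, map_pow]⟩
  refine ⟨e, h4e, hρV, hρsurj, ?_⟩
  -- counting
  let _ : CommGroup B := { (inferInstance : Group B) with
    mul_comm := fun a b => Subtype.ext (hBab a a.2 b b.2) }
  let sq : B →* B := powMonoidHom 2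
  let ρ : B →* B := powMonoidHom e
  have hsqv : ∀ b : B, ((sq b : B) : X) = (b : X) ^ 2 := fun b => rfl
  have hρv : ∀ b : B, ((ρ b : B) : X) = (b : X) ^ e := fun b => rfl
  have hsqker : sq.ker = V.subgroupOf B := by
    ext b
    rw [MonoidHom.mem_ker, Subgroup.mem_subgroupOf]
    constructor
    · intro h
      apply hVΩ _ b.2
      rw [← hsqv, h]; rfl
    · intro h
      apply Subtype.ext
      rw [hsqv]
      exact hV.el _ h
  have hρrange : ρ.range = V.subgroupOf B := by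
    ext b
    rw [MonoidHom.mem_range, Subgroup.mem_subgroupOf]
    constructor
    · rintro ⟨a, rfl⟩
      rw [hρv]
      exact hρV _ a.2
    · intro h
      obtain ⟨a, ha, hae⟩ := hρsurj _ h
      exact ⟨⟨a, ha⟩, Subtype.ext (by rw [hρv]; exact hae)⟩
  have hcardV : Nat.card (V.subgroupOf B) = 4 := by
    rw [Nat.card_congr (Subgroup.subgroupOfEquivOfLe hVB).toEquiv]; exact hV.card
  have h1 : Nat.card sq.ker * Nat.card sq.range = Nat.card B := by
    rw [← Subgroup.index_ker, Subgroup.card_mul_index]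
  have h2 : Nat.card ρ.ker * Nat.card ρ.range = Nat.card B := by
    rw [← Subgroup.index_ker, Subgroup.card_mul_index]
  rw [hsqker, hcardV] at h1
  rw [hρrange, hcardV] at h2
  have hle : sq.range ≤ ρ.ker := by
    rintro _ ⟨a, rfl⟩
    rw [MonoidHom.mem_ker]
    apply Subtype.ext
    rw [hρv, hsqv, ← pow_mul, mul_comm, he2]
    exact hk _ a.2
  have heq : sq.range = ρ.ker := Subgroup.eq_of_le_of_card_ge hle (by omega)
  intro b hb hbe
  have hmem : (⟨b, hb⟩ : B) ∈ ρ.ker := by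
    rw [MonoidHom.mem_ker]
    apply Subtype.ext
    rw [hρv]
    exact hbe
  rw [← heq] at hmem
  obtain ⟨a, ha⟩ := hmem
  refine ⟨a, a.2, ?_⟩
  rw [← hsqv, ha]

/-- `⁅b b', l⁆ = ⁅b, l⁆ ⁅b', l⁆` when `⁅b', l⁆` is central -/
theorem h24_comm_mul_left {V : Subgroup X} (hcen : V ≤ Subgroup.center X) {l b b' : X}
    (h' : ⁅b', l⁆ ∈ V) : ⁅b * b', l⁆ = ⁅b, l⁆ * ⁅b', l⁆ := by
  have hz : ∀ g : X, g * ⁅b', l⁆ = ⁅b', l⁆ * g := Subgroup.mem_center_iff.mp (hcen h')
  have e1 : ⁅b * b', l⁆ = b * ⁅b', l⁆ * (l * b⁻¹ * l⁻¹) := by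
    simp only [commutatorElement_def]; group
  have e2 : ⁅b, l⁆ = b * (l * b⁻¹ * l⁻¹) := by
    simp only [commutatorElement_def]; group
  rw [e1, e2, hz b, mul_assoc, ← hz]

/-- `⁅b, x y⁆ = ⁅b, x⁆ ⁅b, y⁆` when `⁅b, y⁆` is central -/
theorem h24_comm_mul_right {V : Subgroup X} (hcen : V ≤ Subgroup.center X) {b x y : X}
    (h' : ⁅b, y⁆ ∈ V) : ⁅b, x * y⁆ = ⁅b, x⁆ * ⁅b, y⁆ := by
  have hz : ∀ g : X, g * ⁅b, y⁆ = ⁅b, y⁆ * g := Subgroup.mem_center_iff.mp (hcen h')
  have e1 : ⁅b, x * y⁆ = b * x * b⁻¹ * ⁅b, y⁆ * x⁻¹ := by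
    simp only [commutatorElement_def]; group
  have e2 : ⁅b, x⁆ = b * x * b⁻¹ * x⁻¹ := by
    simp only [commutatorElement_def]
  rw [e1, e2, mul_assoc (b * x * b⁻¹), ← hz x⁻¹, ← mul_assoc]

/-- conjugation formula: `l b l⁻¹ = b ⁅b, l⁆` when `⁅b, l⁆` is a central involution -/
theorem h24_conj_eq {V : Subgroup X} (hcen : V ≤ Subgroup.center X) (hel : ∀ v ∈ V, v ^ 2 = 1)
    {l b : X} (h : ⁅b, l⁆ ∈ V) : l * b * l⁻¹ = b * ⁅b, l⁆ := by
  have hz : ∀ g : X, g * ⁅b, l⁆ = ⁅b, l⁆ * g := Subgroup.mem_center_iff.mp (hcen h)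
  have h2 : ⁅b, l⁆ * ⁅b, l⁆ = 1 := by rw [← pow_two]; exact hel _ h
  have e1 : l * b * l⁻¹ = (⁅b, l⁆)⁻¹ * b := by
    simp only [commutatorElement_def]; group
  have e2 : (⁅b, l⁆)⁻¹ = ⁅b, l⁆ := inv_eq_of_mul_eq_one_left h2
  rw [e1, e2, hz]

theorem alpha_three_false (hX : IsPGroup 2 X)
    (hP1 : ∀ E : Subgroup X, E.Normal → Cfsg.IsElementaryAbelian 2 E → Nat.card E ≤ 4)
    (σ : MulAut X) (hσ3 : ∀ x : X, σ (σ (σ x)) = x) (V : Subgroup X) (hV : VData V σ)
    (B : Subgroup X) (hBn : B.Normal) (hBσ : ∀ b ∈ B, σ b ∈ B) (hBab : Ab B)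
    (hBc : Subgroup.centralizer (B : Set X) = B) (hVB : V ≤ B)
    (hVΩ : ∀ b ∈ B, b ^ 2 = 1 → b ∈ V) (b₀ : X) (hb₀ : b₀ ∈ B) (hb₀4 : b₀ ^ 4 ≠ 1)
    (l : X) (hl : l ∉ B) (hlV : ∀ b ∈ B, ⁅b, l⁆ ∈ V) (hlp : l * σ l * σ (σ l) ∈ B) : False := by
  classical
  have hcen := hV.cen
  have hVc : ∀ v ∈ V, ∀ g : X, g * v = v * g := fun v hv => Subgroup.mem_center_iff.mp (hcen hv)
  have hVsq : ∀ v ∈ V, v * v = 1 := fun v hv => by rw [← pow_two]; exact hV.el v hv
  have hVinv : ∀ v ∈ V, v⁻¹ = v := fun v hv => inv_eq_of_mul_eq_one_left (hVsq v hv)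
  -- membership in `B` via the centraliser
  have hmemB : ∀ g : X, (∀ b ∈ B, ⁅b, g⁆ = 1) → g ∈ B := by
    intro g hg
    rw [← hBc, Subgroup.mem_centralizer_iff]
    intro b hb
    exact (commutatorElement_eq_one_iff_commute.mp (hg b hb)).eq
  have hcommB : ∀ b ∈ B, ∀ g ∈ B, ⁅b, g⁆ = 1 := by
    intro b hb g hg
    rw [commutatorElement_eq_one_iff_commute]
    exact hBab b hb g hg
  -- squares lie in the kernel of `⁅·, g⁆` whenever the values are in `V`
  have hsqker : ∀ g : X, ∀ a : X, ⁅a, g⁆ ∈ V → ⁅a ^ 2, g⁆ = 1 := by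
    intro g a ha
    rw [pow_two, h24_comm_mul_left hcen ha]
    exact hVsq _ ha
  -- the structure of `B`
  obtain ⟨e, h4e, hρV, hρsurj, hρker⟩ := h24_key hX hσ3 hV hBσ hBab hVB hVΩ hb₀ hb₀4
  have hV4 : ∀ v ∈ V, ∃ c ∈ B, c ^ 4 = v := by
    intro v hv
    obtain ⟨b, hb, hbe⟩ := hρsurj v hv
    obtain ⟨d, hd⟩ := h4e
    exact ⟨b ^ d, B.pow_mem hb d, by rw [← pow_mul, mul_comm, ← hd, hbe]⟩
  have hΩ2 : ∀ w ∈ B, w ^ 4 = 1 → ∃ a ∈ B, a ^ 2 = w := by
    intro w hw hw4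
    have hw2 : w ^ 2 ∈ V := hVΩ _ (B.pow_mem hw 2) (by rw [← pow_mul]; exact hw4)
    obtain ⟨c, hc, hc4⟩ := hV4 _ hw2
    have hcw : Commute w c := hBab w hw c hc
    have h1 : (w * (c ^ 2)⁻¹) ^ 2 = 1 := by
      rw [(hcw.pow_right 2).inv_right.mul_pow, inv_pow, ← pow_mul, hc4, mul_inv_cancel]
    have h2 : w * (c ^ 2)⁻¹ ∈ V :=
      hVΩ _ (B.mul_mem hw (B.inv_mem (B.pow_mem hc 2))) h1
    obtain ⟨f, hf, hf4⟩ := hV4 _ h2
    refine ⟨f ^ 2 * c, B.mul_mem (B.pow_mem hf 2) hc, ?_⟩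
    have hfc : Commute (f ^ 2) c := hBab _ (B.pow_mem hf 2) c hc
    rw [hfc.mul_pow, ← pow_mul, hf4]
    group
  -- `X` centralises `B` modulo squares
  have hBX : ∀ b ∈ B, ∀ x : X, ∃ a ∈ B, a ^ 2 = ⁅b, x⁆ := by
    intro b hb x
    have hconj : x * b * x⁻¹ ∈ B := hBn.conj_mem b hb x
    have heq : ⁅b, x⁆ = b * (x * b * x⁻¹)⁻¹ := by
      simp only [commutatorElement_def]; group
    have hmem : ⁅b, x⁆ ∈ B := by rw [heq]; exact B.mul_mem hb (B.inv_mem hconj)
    apply hρker _ hmem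
    have hc : Commute b (x * b * x⁻¹) := hBab b hb _ hconj
    rw [heq, hc.inv_right.mul_pow, inv_pow, conj_pow]
    have hz := hVc _ (hρV b hb)
    rw [hz x, mul_assoc, mul_inv_cancel, mul_one, mul_inv_cancel]
  -- purity
  have hσl : ∀ b : X, ⁅b, σ l⁆ = σ ⁅σ (σ b), l⁆ := by
    intro b; rw [map_commutatorElement, hσ3]
  have hσσl : ∀ b : X, ⁅b, σ (σ l)⁆ = σ (σ ⁅σ b, l⁆) := by
    intro b; rw [map_commutatorElement, map_commutatorElement, hσ3]
  have hσlV : ∀ b ∈ B, ⁅b, σ l⁆ ∈ V := by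
    intro b hb; rw [hσl]; exact hV.inv _ (hlV _ (hBσ _ (hBσ _ hb)))
  have hσσlV : ∀ b ∈ B, ⁅b, σ (σ l)⁆ ∈ V := by
    intro b hb; rw [hσσl]; exact hV.inv _ (hV.inv _ (hlV _ (hBσ _ hb)))
  have hpure : ∀ b ∈ B, ⁅b, l⁆ * ⁅b, σ l⁆ * ⁅b, σ (σ l)⁆ = 1 := by
    intro b hb
    rw [← h24_comm_mul_right hcen (hσlV b hb), ← h24_comm_mul_right hcen (hσσlV b hb)]
    exact hcommB b hb _ hlp
  -- the kernel of `⁅·, l⁆` is `σ`-invariant
  have hσK : ∀ b ∈ B, ⁅b, l⁆ = 1 → ⁅σ b, l⁆ = 1 ∧ ⁅σ (σ b), l⁆ = 1 := by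
    intro b hb hbl
    have hsb := hBσ b hb
    have hssb := hBσ _ hsb
    have hn := h24_norm_eq_one hX hσ3 hV hBσ hBab hVΩ hb
    have h1 : ⁅b, l⁆ * ⁅σ b, l⁆ * ⁅σ (σ b), l⁆ = 1 := by
      rw [← h24_comm_mul_left hcen (hlV _ hsb), ← h24_comm_mul_left hcen (hlV _ hssb), hn,
        commutatorElement_one_left]
    rw [hbl, one_mul] at h1
    -- `w = ⁅σ b, l⁆ = ⁅σ² b, l⁆`
    have hw : ⁅σ b, l⁆ = ⁅σ (σ b), l⁆ := by
      have := eq_inv_of_mul_eq_one_left h1
      rw [this, hVinv _ (hlV _ hssb)]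
    have h2 := hpure b hb
    rw [hbl, one_mul, hσl, hσσl, ← hw, ← map_mul] at h2
    have h3 : ⁅σ b, l⁆ * σ ⁅σ b, l⁆ = 1 := by
      have := congrArg σ.symm h2
      simpa using this
    have h4 : σ ⁅σ b, l⁆ = ⁅σ b, l⁆ := by
      have := eq_inv_of_mul_eq_one_right h3
      rw [this, hVinv _ (hlV _ hsb)]
    have h5 : ⁅σ b, l⁆ = 1 := hV.fpf _ (hlV _ hsb) h4
    exact ⟨h5, by rw [← hw, h5]⟩
  -- the kernel of `⁅·, l⁆` consists of squares
  have hker : ∀ b ∈ B, ⁅b, l⁆ = 1 → ∃ a ∈ B, a ^ 2 = b := by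
    intro b hb hbl
    by_contra hno
    have hbe : b ^ e ≠ 1 := fun h => hno (hρker b hb h)
    have hsb := hBσ b hb
    have hssb := hBσ _ hsb
    obtain ⟨hσb, hσσb⟩ := hσK b hb hbl
    apply hl
    apply hmemB
    intro b' hb'
    -- `b'` is congruent modulo squares to one of `1, b, σ b, σ² b`
    have key : ∀ b'' ∈ B, ⁅b'', l⁆ = 1 → b' ^ e = b'' ^ e → ⁅b', l⁆ = 1 := by
      intro b'' hb'' hb''l hee
      have hc : Commute b' b'' := hBab b' hb' b'' hb''
      have h1 : (b' * b''⁻¹) ^ e = 1 := by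
        rw [hc.inv_right.mul_pow, inv_pow, hee, mul_inv_cancel]
      obtain ⟨a, ha, ha2⟩ := hρker _ (B.mul_mem hb' (B.inv_mem hb'')) h1
      have h2 : b' = a ^ 2 * b'' := by rw [ha2]; group
      rw [h2, h24_comm_mul_left hcen (by rw [hb''l]; exact V.one_mem), hb''l,
        hsqker l a (hlV a ha), one_mul]
    rcases h24_orbit hV hσ3 (hρV b hb) hbe _ (hρV b' hb') with h | h | h | h
    · exact key 1 B.one_mem (commutatorElement_one_left l) (by rw [h, one_pow])
    · exact key b hb hbl h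
    · exact key (σ b) hsb hσb (by rw [h, map_pow])
    · exact key (σ (σ b)) hssb hσσb (by rw [h, map_pow, map_pow])
  -- `l ^ 2` is a square in `B`
  have hl2B : l * l ∈ B := by
    apply hmemB
    intro b hb
    rw [h24_comm_mul_right hcen (hlV b hb)]
    exact hVsq _ (hlV b hb)
  have hl2l : ⁅l * l, l⁆ = 1 := by
    rw [commutatorElement_eq_one_iff_commute]
    exact (Commute.refl l).mul_left (Commute.refl l)
  obtain ⟨a₀, ha₀, ha₀2⟩ := hker _ hl2B hl2l
  -- the correction term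
  set za := ⁅a₀⁻¹, l⁆ with hza
  have hzaV : za ∈ V := hlV _ (B.inv_mem ha₀)
  obtain ⟨c, hc, hc4⟩ := hV4 _ hzaV
  set b := a₀⁻¹ * c ^ 2 with hb
  have hbB : b ∈ B := B.mul_mem (B.inv_mem ha₀) (B.pow_mem hc 2)
  have hbl : ⁅b, l⁆ = za := by
    rw [hb, h24_comm_mul_left hcen (by rw [hsqker l c (hlV c hc)]; exact V.one_mem),
      hsqker l c (hlV c hc), mul_one]
  have hbb : b * b = (l * l)⁻¹ * za := by
    have hcc : Commute a₀⁻¹ (c ^ 2) := hBab _ (B.inv_mem ha₀) _ (B.pow_mem hc 2)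
    rw [hb, ← pow_two, hcc.mul_pow, inv_pow, ha₀2, ← pow_mul, hc4]
  -- the involution `t`
  set t := l * b with ht
  have htB : t ∉ B := by
    intro h
    apply hl
    have : l = t * b⁻¹ := by rw [ht]; group
    rw [this]
    exact B.mul_mem h (B.inv_mem hbB)
  have htt : t * t = 1 := by
    have hconj : l * b * l⁻¹ = b * za := by
      rw [← hbl]; exact h24_conj_eq hcen hV.el (hlV b hbB)
    have h1 : l * b = b * za * l := by rw [← hconj]; group
    have h2 : (l * l) * b = b * (l * l) := hBab _ hl2B b hbB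
    calc t * t = (l * b) * (l * b) := rfl
      _ = b * za * l * (l * b) := by rw [h1]
      _ = b * za * ((l * l) * b) := by group
      _ = b * za * (b * (l * l)) := by rw [h2]
      _ = b * (za * b) * (l * l) := by group
      _ = b * (b * za) * (l * l) := by rw [hVc za hzaV b]
      _ = (b * b) * za * (l * l) := by group
      _ = (l * l)⁻¹ * za * za * (l * l) := by rw [hbb]
      _ = (l * l)⁻¹ * (za * za) * (l * l) := by group
      _ = 1 := by rw [hVsq za hzaV]; group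
  have htinv : t⁻¹ = t := inv_eq_of_mul_eq_one_left htt
  have hct : ∀ b' ∈ B, ⁅b', t⁆ = ⁅b', l⁆ := by
    intro b' hb'
    rw [ht, h24_comm_mul_right hcen (by rw [hcommB b' hb' b hbB]; exact V.one_mem),
      hcommB b' hb' b hbB, mul_one]
  have htV : ∀ b' ∈ B, ⁅b', t⁆ ∈ V := fun b' hb' => by rw [hct b' hb']; exact hlV b' hb'
  -- the kernel of `d ↦ d² ⁅d, t⁆`
  have hmker : ∀ d ∈ B, d * d * ⁅d, t⁆ = 1 → d ∈ V := by
    intro d hd h
    have h1 : d * d = ⁅d, t⁆ := by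
      have := eq_inv_of_mul_eq_one_left h
      rw [this, hVinv _ (htV d hd)]
    have h2 : d ^ 4 = 1 := by
      have : d ^ 4 = (d * d) * (d * d) := by
        simp only [pow_succ, pow_zero, one_mul, mul_assoc]
      rw [this, h1]
      exact hVsq _ (htV d hd)
    obtain ⟨a, ha, ha2⟩ := hΩ2 d hd h2
    have h3 : ⁅d, t⁆ = 1 := by rw [← ha2]; exact hsqker t a (htV a ha)
    apply hVΩ d hd
    rw [pow_two, h1, h3]
  -- conjugates of `t`
  have hmain : ∀ x : X, ∃ v ∈ V, x * t * x⁻¹ = t * v := by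
    intro x
    set t' := x * t * x⁻¹ with ht'
    have hct' : ∀ b' ∈ B, ⁅b', t'⁆ = ⁅b', t⁆ := by
      intro b' hb'
      have hcb : x⁻¹ * b' * x ∈ B := by
        have := hBn.conj_mem b' hb' x⁻¹
        simpa using this
      have h1 : ⁅b', t'⁆ = x * ⁅x⁻¹ * b' * x, t⁆ * x⁻¹ := by
        simp only [commutatorElement_def, ht']; group
      have h2 : ⁅x⁻¹ * b' * x, t⁆ ∈ V := htV _ hcb
      have h3 : x * ⁅x⁻¹ * b' * x, t⁆ * x⁻¹ = ⁅x⁻¹ * b' * x, t⁆ := by
        rw [hVc _ h2 x, mul_assoc, mul_inv_cancel, mul_one]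
      rw [h1, h3]
      obtain ⟨a, ha, ha2⟩ := hBX b'⁻¹ (B.inv_mem hb') x⁻¹
      have h4 : x⁻¹ * b' * x = b' * a ^ 2 := by
        rw [ha2]; simp only [commutatorElement_def]; group
      rw [h4, h24_comm_mul_left hcen (by rw [hsqker t a (htV a ha)]; exact V.one_mem),
        hsqker t a (htV a ha), mul_one]
    have hdB : t * t' ∈ B := by
      apply hmemB
      intro b' hb'
      rw [h24_comm_mul_right hcen (by rw [hct' b' hb']; exact htV b' hb'), hct' b' hb']
      exact hVsq _ (htV b' hb')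
    set d := t * t' with hd
    have ht'd : t' = t * d := by rw [hd, ← mul_assoc, htt, one_mul]
    have ht't' : t' * t' = 1 := by
      rw [ht']
      calc x * t * x⁻¹ * (x * t * x⁻¹) = x * (t * t) * x⁻¹ := by group
        _ = 1 := by rw [htt]; group
    have hconj : t * d * t⁻¹ = d * ⁅d, t⁆ := h24_conj_eq hcen hV.el (htV d hdB)
    have hdd : d * d * ⁅d, t⁆ = 1 := by
      have h1 : t * d = d * ⁅d, t⁆ * t := by rw [← hconj]; group
      have hz := hVc _ (htV d hdB)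
      calc d * d * ⁅d, t⁆ = d * (d * ⁅d, t⁆) := by group
        _ = d * (⁅d, t⁆ * d) := by rw [hz d]
        _ = (d * ⁅d, t⁆ * t) * (t * d) := by
            rw [show d * ⁅d, t⁆ * t * (t * d) = d * ⁅d, t⁆ * (t * t) * d by group, htt]; group
        _ = (t * d) * (t * d) := by rw [← h1]
        _ = t' * t' := by rw [← ht'd]
        _ = 1 := ht't'
    exact ⟨d, hmker d hdB hdd, ht'd⟩
  -- the normal elementary abelian subgroup `V ∪ t V`
  let E : Subgroup X :=
    { carrier := {g | g ∈ V ∨ t * g ∈ V}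
      one_mem' := Or.inl V.one_mem
      mul_mem' := by
        rintro g h (hg | hg) (hh | hh)
        · exact Or.inl (V.mul_mem hg hh)
        · right
          have : t * (g * h) = g * (t * h) := by
            rw [← mul_assoc, hVc g hg t, mul_assoc]
          rw [this]; exact V.mul_mem hg hh
        · right
          rw [← mul_assoc]; exact V.mul_mem hg hh
        · left
          have : g * h = (t * g) * (t * h) := by
            calc g * h = (t * t) * g * h := by rw [htt, one_mul]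
              _ = t * (t * g) * h := by group
              _ = (t * g) * t * h := by rw [hVc _ hg t]
              _ = (t * g) * (t * h) := by group
          rw [this]; exact V.mul_mem hg hh
      inv_mem' := by
        rintro g (hg | hg)
        · exact Or.inl (V.inv_mem hg)
        · right
          have : t * g⁻¹ = (t * g)⁻¹ := by
            calc t * g⁻¹ = t * (t * g)⁻¹ * t := by group
              _ = (t * g)⁻¹ * t * t := by rw [hVc _ (V.inv_mem hg) t]
              _ = (t * g)⁻¹ := by rw [mul_assoc, htt, mul_one]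
          rw [this]; exact V.inv_mem hg }
  have hEmem : ∀ g : X, g ∈ E ↔ (g ∈ V ∨ t * g ∈ V) := fun g => Iff.rfl
  have hEn : E.Normal := by
    constructor
    intro g hg x
    rcases (hEmem g).mp hg with h | h
    · have : x * g * x⁻¹ = g := by rw [hVc g h x, mul_assoc, mul_inv_cancel, mul_one]
      rw [this]; exact hg
    · obtain ⟨v, hv, hxv⟩ := hmain x
      apply (hEmem _).mpr
      right
      have hg' : g = t * (t * g) := by rw [← mul_assoc, htt, one_mul]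
      have hc1 : x * (t * g) * x⁻¹ = t * g := by
        rw [hVc _ h x, mul_assoc, mul_inv_cancel, mul_one]
      have : t * (x * g * x⁻¹) = v * (t * g) := by
        calc t * (x * g * x⁻¹) = t * (x * (t * (t * g)) * x⁻¹) := by rw [← hg']
          _ = t * ((x * t * x⁻¹) * (x * (t * g) * x⁻¹)) := by group
          _ = t * ((t * v) * (t * g)) := by rw [hxv, hc1]
          _ = (t * t) * v * (t * g) := by group
          _ = v * (t * g) := by rw [htt, one_mul]
      rw [this]; exact V.mul_mem hv h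
  have hEcomm : ∀ g ∈ E, ∀ h ∈ E, g * h = h * g := by
    intro g hg h hh
    rcases (hEmem g).mp hg with hg1 | hg1
    · exact (hVc g hg1 h).symm
    · rcases (hEmem h).mp hh with hh1 | hh1
      · exact hVc h hh1 g
      · have hg' : g = t * (t * g) := by rw [← mul_assoc, htt, one_mul]
        have hh' : h = t * (t * h) := by rw [← mul_assoc, htt, one_mul]
        have e1 : t * (t * g) * (t * (t * h)) = (t * g) * (t * h) := by
          calc t * (t * g) * (t * (t * h)) = (t * g) * t * (t * (t * h)) := by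
                rw [hVc _ hg1 t]
            _ = (t * g) * (t * t) * (t * h) := by group
            _ = (t * g) * (t * h) := by rw [htt, mul_one]
        have e2 : t * (t * h) * (t * (t * g)) = (t * h) * (t * g) := by
          calc t * (t * h) * (t * (t * g)) = (t * h) * t * (t * (t * g)) := by
                rw [hVc _ hh1 t]
            _ = (t * h) * (t * t) * (t * g) := by group
            _ = (t * h) * (t * g) := by rw [htt, mul_one]
        rw [hg', hh', e1, e2]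
        exact hVc _ hh1 _
  have hEsq : ∀ g ∈ E, g ^ 2 = 1 := by
    intro g hg
    rcases (hEmem g).mp hg with hg1 | hg1
    · exact hV.el g hg1
    · have hg' : g = t * (t * g) := by rw [← mul_assoc, htt, one_mul]
      rw [pow_two, hg']
      calc t * (t * g) * (t * (t * g)) = (t * g) * t * (t * (t * g)) := by rw [hVc _ hg1 t]
        _ = (t * g) * (t * t) * (t * g) := by group
        _ = (t * g) * (t * g) := by rw [htt, mul_one]
        _ = 1 := hVsq _ hg1
  have hEel : Cfsg.IsElementaryAbelian 2 E :=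
    ⟨⟨⟨fun a b => Subtype.ext (hEcomm a a.2 b b.2)⟩⟩, hEsq⟩
  have hcardE := hP1 E hEn hEel
  have hVE : V ≤ E := fun g hg => (hEmem g).mpr (Or.inl hg)
  have hVeqE : V = E := Subgroup.eq_of_le_of_card_ge hVE (by rw [hV.card]; exact hcardE)
  have htE : t ∈ E := (hEmem t).mpr (Or.inr (by rw [htt]; exact V.one_mem))
  rw [← hVeqE] at htE
  exact htB (hVB htE)

end Cfsg.Agent.Helper24.N5
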