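import Mathlib

set_option autoImplicit false

/-!
Norm on a line: in characteristic `p`, if all `p` points `a + j b` (`j` in the prime field) of a
line have `x ^ (1 + p + ... + p^(q-1)) = 1` and `q < p`, then `b = 0`.
(The "norm polynomial of degree `q` with `p` roots" step of B-G Appendix C / Peterfalvi.)
-/

namespace Cfsg.Agent.Helper24.NormLine

open Polynomial

variable {F : Type*} [Field F]

/-- `x ^ (∑ i < q, p^i) = ∏ i < q, x ^ p^i` -/
theorem pow_geomSum (p q : ℕ) (x : F) :
    x ^ (∑ i ∈ Finset.range q, p ^ i) = ∏ i ∈ Finset.range q, x ^ p ^ i := by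
  rw [Finset.prod_pow_eq_pow_sum]

/-- the norm polynomial along the line `a + X b` -/
noncomputable def linePoly (p q : ℕ) (a b : F) : F[X] :=
  ∏ i ∈ Finset.range q, (C (a ^ p ^ i) + C (b ^ p ^ i) * X)

theorem linePoly_natDegree_le (p q : ℕ) (a b : F) : (linePoly p q a b).natDegree ≤ q := by
  unfold linePoly
  refine (Polynomial.natDegree_prod_le _ _).trans ?_
  calc ∑ i ∈ Finset.range q, (C (a ^ p ^ i) + C (b ^ p ^ i) * X).natDegree
      ≤ ∑ _i ∈ Finset.range q, 1 := by
        apply Finset.sum_le_sum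
        intro i _
        compute_degree
    _ = q := by simp

theorem linePoly_coeff (p q : ℕ) (a b : F) :
    (linePoly p q a b).coeff q = ∏ i ∈ Finset.range q, b ^ p ^ i := by
  unfold linePoly
  have h := Polynomial.coeff_prod_of_natDegree_le (s := Finset.range q)
    (fun i => (C (a ^ p ^ i) + C (b ^ p ^ i) * X : F[X])) 1 (by
      intro i _
      compute_degree)
  simp only [Finset.card_range, mul_one] at h
  rw [h]
  apply Finset.prod_congr rfl
  intro i _
  rw [coeff_add, coeff_C_mul, coeff_X_one, mul_one, coeff_C_of_ne_zero (by norm_num), zero_add]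

theorem natCast_pow_char_pow (p : ℕ) [Fact p.Prime] [CharP F p] (j i : ℕ) :
    ((j : F)) ^ p ^ i = (j : F) := by
  induction i with
  | zero => simp
  | succ i ih =>
    rw [pow_succ, pow_mul, ih]
    rw [← frobenius_def, map_natCast]

theorem linePoly_eval (p q : ℕ) [Fact p.Prime] [CharP F p]
    (a b : F) (j : ℕ) :
    (linePoly p q a b).eval (j : F) = (a + (j : F) * b) ^ (∑ i ∈ Finset.range q, p ^ i) := by
  unfold linePoly
  rw [pow_geomSum, Polynomial.eval_prod]
  apply Finset.prod_congr rfl
  intro i _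
  simp only [eval_add, eval_C, eval_mul, eval_X]
  rw [add_pow_char_pow, mul_pow]
  rw [natCast_pow_char_pow, mul_comm]

/-- if the `p` points `a + j b` of a line all have "norm" one and `q < p`, then `b = 0` -/
theorem eq_zero_of_norm_line (p q : ℕ) [Fact p.Prime] [CharP F p] (hq : 1 ≤ q) (hqp : q < p)
    (a b : F) (h : ∀ j : ℕ, j < p → (a + (j : F) * b) ^ (∑ i ∈ Finset.range q, p ^ i) = 1) :
    b = 0 := by
  have hP : linePoly p q a b - 1 = 0 := by
    apply Polynomial.eq_zero_of_natDegree_lt_card_of_eval_eq_zero (ι := Fin p)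
      (f := fun j : Fin p => ((j : ℕ) : F))
    · intro x y hxy
      have := CharP.natCast_injOn_Iio F p (Set.mem_Iio.mpr x.2) (Set.mem_Iio.mpr y.2) hxy
      exact Fin.ext this
    · intro j
      rw [eval_sub, eval_one, linePoly_eval, h j j.2, sub_self]
    · rw [Fintype.card_fin]
      refine lt_of_le_of_lt ?_ hqp
      refine (Polynomial.natDegree_sub_le _ _).trans ?_
      rw [natDegree_one]
      exact max_le (linePoly_natDegree_le p q a b) (Nat.zero_le _)
  have hc := congrArg (fun P : F[X] => P.coeff q) hP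
  simp only [coeff_sub, coeff_zero] at hc
  rw [linePoly_coeff, coeff_one, if_neg (by omega), sub_zero] at hc
  obtain ⟨i, _, hi⟩ := Finset.prod_eq_zero_iff.mp hc
  exact pow_eq_zero_iff (pow_ne_zero _ (Fact.out : p.Prime).ne_zero) |>.mp hi

/-- the same with the exponent written as `(p ^ q - 1) / (p - 1)` -/
theorem eq_zero_of_norm_line' (p q : ℕ) [hp : Fact p.Prime] [CharP F p] (hq : 1 ≤ q) (hqp : q < p)
    (a b : F) (h : ∀ j : ℕ, j < p → (a + (j : F) * b) ^ ((p ^ q - 1) / (p - 1)) = 1) :
    b = 0 := by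
  apply eq_zero_of_norm_line p q hq hqp a b
  intro j hj
  rw [Nat.geomSum_eq hp.out.two_le]
  exact h j hj

end Cfsg.Agent.Helper24.NormLine
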