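import Mathlib
import Cfsg.Agent.Lib.Helper17.Simple
import Cfsg.Agent.Lib.Helper17.Sieve
import Cfsg.Agent.Lib.Helper52.CoprimeSylow
import Cfsg.Agent.Lib.Helper97.SVFix

/-!
# O175560 reduction (S4274): groups of order `19 * n`, `n ∣ 9240`

If no nonabelian simple group has order `19 * m` for the proper divisors `m` of `9240`, then every
group of order `19 * n` (`n ∣ 9240`, `n ≠ 9240`) has a normal Sylow 19-subgroup, and every non-simple
group of order `19 * 9240 = 175560` has a normal Sylow 19-subgroup.
-/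

set_option autoImplicit false
set_option linter.style.haveILetI false
set_option linter.unnecessarySeqFocus false

universe u

namespace Cfsg.Agent.Helper24.O175560

open Cfsg.Agent.Helper17 Cfsg.Agent.Helper17.Sieve

theorem h24_not_dvd_of_dvd {n : ℕ} (hn : n ∣ 9240) : ¬ 19 ∣ n := by
  intro h
  have : 19 ∣ 9240 := h.trans hn
  revert this
  decide

theorem h24_fact19 : Fact (Nat.Prime 19) := ⟨by norm_num⟩

/-- prime powers dividing `9240` are `< 19` -/
theorem h24_pp_small {r k : ℕ} (hr : r.Prime) (h : r ^ k ∣ 9240) : r ^ k < 19 := by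
  rcases Nat.eq_zero_or_pos k with hk | hk
  · subst hk; norm_num
  have hr9 : r ∣ 9240 := (dvd_pow_self r hk.ne').trans h
  have h9 : (9240 : ℕ) = 2 ^ 3 * 3 * 5 * 7 * 11 := by norm_num
  rw [h9] at hr9
  have hcases : r = 2 ∨ r = 3 ∨ r = 5 ∨ r = 7 ∨ r = 11 := by
    rcases (Nat.Prime.dvd_mul hr).1 hr9 with h1 | h1
    · rcases (Nat.Prime.dvd_mul hr).1 h1 with h2 | h2
      · rcases (Nat.Prime.dvd_mul hr).1 h2 with h3 | h3
        · rcases (Nat.Prime.dvd_mul hr).1 h3 with h4 | h4
          · left
            exact (Nat.prime_dvd_prime_iff_eq hr Nat.prime_two).1 (hr.dvd_of_dvd_pow h4)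
          · right; left
            exact (Nat.prime_dvd_prime_iff_eq hr Nat.prime_three).1 h4
        · right; right; left
          exact (Nat.prime_dvd_prime_iff_eq hr Nat.prime_five).1 h3
      · right; right; right; left
        exact (Nat.prime_dvd_prime_iff_eq hr (by norm_num)).1 h2
    · right; right; right; right
      exact (Nat.prime_dvd_prime_iff_eq hr (by norm_num)).1 h1
  rcases hcases with rfl | rfl | rfl | rfl | rfl
  · have hk3 : k ≤ 3 := by
      by_contra hlt
      push Not at hlt
      have : 2 ^ 4 ∣ 9240 := (pow_dvd_pow 2 hlt).trans h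
      revert this; decide
    interval_cases k <;> norm_num
  · have hk1 : k ≤ 1 := by
      by_contra hlt
      push Not at hlt
      have : 3 ^ 2 ∣ 9240 := (pow_dvd_pow 3 hlt).trans h
      revert this; decide
    interval_cases k <;> norm_num
  · have hk1 : k ≤ 1 := by
      by_contra hlt
      push Not at hlt
      have : 5 ^ 2 ∣ 9240 := (pow_dvd_pow 5 hlt).trans h
      revert this; decide
    interval_cases k <;> norm_num
  · have hk1 : k ≤ 1 := by
      by_contra hlt
      push Not at hlt
      have : 7 ^ 2 ∣ 9240 := (pow_dvd_pow 7 hlt).trans h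
      revert this; decide
    interval_cases k <;> norm_num
  · have hk1 : k ≤ 1 := by
      by_contra hlt
      push Not at hlt
      have : 11 ^ 2 ∣ 9240 := (pow_dvd_pow 11 hlt).trans h
      revert this; decide
    interval_cases k <;> norm_num

/-- a normal subgroup of order `19` forces every Sylow 19-subgroup to be normal -/
theorem h24_normal_of_normal_card {X : Type u} [Group X] [Finite X] {n : ℕ} (hn : ¬ 19 ∣ n)
    (hX : Nat.card X = 19 * n) (Q : Subgroup X) [hQn : Q.Normal] (hQ : Nat.card Q = 19) :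
    ∀ P : Sylow 19 X, (P : Subgroup X).Normal := by
  haveI := h24_fact19
  have hX' : Nat.card X = 19 ^ 1 * n := by rw [hX]; norm_num
  have hQp : IsPGroup 19 Q := IsPGroup.of_card (n := 1) (by rw [hQ]; norm_num)
  obtain ⟨P', hQP'⟩ := hQp.exists_le_sylow
  have hP'c : Nat.card (P' : Subgroup X) = 19 := by
    have := sylow_card_eq P' hX' hn
    simpa using this
  have hQP : Q = (P' : Subgroup X) := Subgroup.eq_of_le_of_card_ge hQP' (by rw [hQ, hP'c])
  have hP'n : (P' : Subgroup X).Normal := hQP ▸ hQn
  intro P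
  have huniq := Sylow.unique_of_normal P' hP'n
  have : P = P' := Subsingleton.elim _ _
  rw [this]
  exact hP'n

/-- if a normal subgroup `M` with `19 ∣ |M|` has a normal Sylow 19-subgroup, so does `X` -/
theorem h24_step_alpha {X : Type u} [Group X] [Finite X] {n : ℕ} (hn : ¬ 19 ∣ n)
    (hX : Nat.card X = 19 * n) (M : Subgroup X) [hMn : M.Normal] (h19 : 19 ∣ Nat.card M)
    (hM : ∀ Q : Sylow 19 ↥M, (Q : Subgroup ↥M).Normal) :
    ∀ P : Sylow 19 X, (P : Subgroup X).Normal := by
  haveI := h24_fact19
  obtain ⟨Q₀⟩ : Nonempty (Sylow 19 ↥M) := inferInstance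
  have hQ₀n := hM Q₀
  haveI hchar : (Q₀ : Subgroup ↥M).Characteristic := Sylow.characteristic_of_normal Q₀ hQ₀n
  haveI hQn : ((Q₀ : Subgroup ↥M).map M.subtype).Normal :=
    ConjAct.normal_of_characteristic_of_normal
  -- the order of `Q₀`
  obtain ⟨n', hn'⟩ := h19
  have hMd : Nat.card M ∣ Nat.card X := Subgroup.card_subgroup_dvd_card M
  have hn'n : n' ∣ n := by
    rw [hn', hX] at hMd
    exact Nat.dvd_of_mul_dvd_mul_left (by norm_num) hMd
  have hn'19 : ¬ 19 ∣ n' := fun h => hn (h.trans hn'n)
  have hQ₀c : Nat.card (Q₀ : Subgroup ↥M) = 19 := by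
    have := sylow_card_eq Q₀ (k := 1) (m := n') (by rw [hn']; norm_num) hn'19
    simpa using this
  refine h24_normal_of_normal_card hn hX ((Q₀ : Subgroup ↥M).map M.subtype) ?_
  rw [Subgroup.card_map_of_injective M.subtype_injective, hQ₀c]

/-- the split case: a normal complement of order `n ∣ 9240` is centralized by a Sylow 19-subgroup -/
theorem h24_normal_of_complement {X : Type u} [Group X] [Finite X] {n : ℕ} (hn : n ∣ 9240)
    (hX : Nat.card X = 19 * n) (N : Subgroup X) [hNn : N.Normal] (hN : Nat.card N = n) :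
    ∀ P : Sylow 19 X, (P : Subgroup X).Normal := by
  haveI := h24_fact19
  have hn19 := h24_not_dvd_of_dvd hn
  have hX' : Nat.card X = 19 ^ 1 * n := by rw [hX]; norm_num
  have hn0 : n ≠ 0 := by rintro rfl; simp at hn
  intro P
  have hPc : Nat.card (P : Subgroup X) = 19 := by
    have := sylow_card_eq P hX' hn19
    simpa using this
  -- a generator
  obtain ⟨x', hx'⟩ := exists_prime_orderOf_dvd_card' (G := ↥(P : Subgroup X)) 19 (by rw [hPc])
  obtain ⟨x, hxe⟩ : ∃ x : X, x = (x' : X) := ⟨_, rfl⟩
  have hxo : orderOf x = 19 := by rw [hxe, Subgroup.orderOf_coe, hx']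
  have hxP : x ∈ (P : Subgroup X) := hxe ▸ x'.2
  have hzP : Subgroup.zpowers x = (P : Subgroup X) := by
    apply Subgroup.eq_of_le_of_card_ge (Subgroup.zpowers_le.2 hxP)
    rw [Nat.card_zpowers, hxo, hPc]
  -- coprime action
  have hAK : (P : Subgroup X) ≤ Subgroup.normalizer (N : Set X) := by
    rw [Subgroup.normalizer_eq_top_iff.2 hNn]; exact le_top
  have hcop : (Nat.card (P : Subgroup X)).Coprime (Nat.card N) := by
    rw [hPc, hN]
    exact (Nat.Prime.coprime_iff_not_dvd (by norm_num)).2 hn19
  have hsolv : Group.IsSolvable ↥(P : Subgroup X) := by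
    have hcyc : IsCyclic ↥(P : Subgroup X) := isCyclic_of_prime_card hPc
    exact Group.isSolvable_of_comm (fun a b => IsCyclic.commGroup.mul_comm a b)
  set C : Subgroup X := N ⊓ Subgroup.centralizer ({x} : Set X) with hC
  have hC0 : Nat.card C ≠ 0 := Nat.card_pos.ne'
  have hdvd : n ∣ Nat.card C := by
    rw [← Nat.factorization_prime_le_iff_dvd hn0 hC0]
    intro r hr
    haveI : Fact r.Prime := ⟨hr⟩
    obtain ⟨Q, hQN, hQc, hAQ⟩ := Cfsg.Agent.Helper52.exists_invariant_sylow (P : Subgroup X) N hAK
      hcop (Or.inl hsolv) r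
    rw [Cfsg.Agent.Helper52.sylCard, hN] at hQc
    have hpp : r ^ n.factorization r ∣ 9240 := (Nat.ordProj_dvd n r).trans hn
    have hsmall := h24_pp_small hr hpp
    have hQcent : Q ≤ Subgroup.centralizer ({x} : Set X) := by
      apply Cfsg.Agent.Helper97.SV.le_centralizer_of_modEq Q x hr hxo (hAQ hxP) hQc
      intro j hj hmod
      have hlt : r ^ j < r ^ n.factorization r := Nat.pow_lt_pow_right hr.one_lt hj
      have h1 : r ^ n.factorization r % 19 = r ^ n.factorization r := Nat.mod_eq_of_lt hsmall
      have h2 : r ^ j % 19 = r ^ j := Nat.mod_eq_of_lt (hlt.trans hsmall)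
      unfold Nat.ModEq at hmod
      rw [h1, h2] at hmod
      omega
    have hQC : Q ≤ C := le_inf hQN hQcent
    have := Subgroup.card_dvd_of_le hQC
    rw [hQc] at this
    exact (hr.pow_dvd_iff_le_factorization hC0).1 this
  have hCN : C = N := by
    apply Subgroup.eq_of_le_of_card_ge inf_le_left
    rw [hN]
    exact Nat.le_of_dvd Nat.card_pos hdvd
  have hNcent : N ≤ Subgroup.centralizer ({x} : Set X) := by
    rw [← hCN]; exact inf_le_right
  -- the normalizer of `P` is everything
  have hNnorm : N ≤ Subgroup.normalizer ((P : Subgroup X) : Set X) := by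
    intro g hg
    have hgx : g * x = x * g := by
      have := Subgroup.mem_centralizer_iff.1 (hNcent hg) x (Set.mem_singleton x)
      exact this.symm
    rw [Subgroup.mem_normalizer_iff]
    intro h
    rw [← hzP]
    have hcomm : Commute g x := hgx
    constructor
    · intro hh
      obtain ⟨k, rfl⟩ := Subgroup.mem_zpowers_iff.1 hh
      have : g * x ^ k * g⁻¹ = x ^ k := by
        have := (hcomm.zpow_right k).eq
        rw [this, mul_inv_cancel_right]
      rw [this]
      exact Subgroup.zpow_mem_zpowers x k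
    · intro hh
      obtain ⟨k, hk⟩ := Subgroup.mem_zpowers_iff.1 hh
      have : h = x ^ k := by
        have h3 := (hcomm.zpow_right k).eq
        have : g * h * g⁻¹ = g * x ^ k * g⁻¹ := by
          rw [← hk, h3, mul_inv_cancel_right]
        exact mul_left_cancel (mul_right_cancel this)
      rw [this]
      exact Subgroup.zpow_mem_zpowers x k
  have hsup : N ⊔ (P : Subgroup X) ≤ Subgroup.normalizer ((P : Subgroup X) : Set X) :=
    sup_le hNnorm Subgroup.le_normalizer
  have hsupc : Nat.card X ∣ Nat.card ↥(N ⊔ (P : Subgroup X)) := by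
    rw [hX]
    apply Nat.Coprime.mul_dvd_of_dvd_of_dvd ((Nat.Prime.coprime_iff_not_dvd (by norm_num)).2 hn19)
    · have h1 := Subgroup.card_dvd_of_le (le_sup_right : (P : Subgroup X) ≤ N ⊔ (P : Subgroup X))
      rwa [hPc] at h1
    · have h1 := Subgroup.card_dvd_of_le (le_sup_left : N ≤ N ⊔ (P : Subgroup X))
      rwa [hN] at h1
  have htop : N ⊔ (P : Subgroup X) = ⊤ := by
    apply Subgroup.eq_top_of_le_card
    exact Nat.le_of_dvd Nat.card_pos hsupc
  rw [htop, top_le_iff] at hsup
  exact Subgroup.normalizer_eq_top_iff.1 hsup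

end Cfsg.Agent.Helper24.O175560
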