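import Mathlib
import Cfsg.Agent.Lib.Helper17.Simple
import Cfsg.Agent.Lib.Helper17.Sieve
import Cfsg.Agent.Lib.Helper75.SVOrdersA
import Cfsg.Agent.Lib.Helper24.O175560Red

/-!
# O175560 (S4274): induction, sieve table and main theorem

`h24_main`: if no simple group has one of the 8 orders 7980, 11704, 15960, 17556, 29260, 35112, 58520,
87780, then every group of order 175560 is simple or has a normal Sylow 19-subgroup.
-/

set_option autoImplicit false
set_option linter.style.haveILetI false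

universe u

namespace Cfsg.Agent.Helper24.O175560

open Cfsg.Agent.Helper17 Cfsg.Agent.Helper17.Sieve

/-- induction step: a non-simple group of order `19 * n` -/
theorem h24_step {X : Type u} [Group X] [Finite X] {n : ℕ} (hn : n ∣ 9240)
    (hX : Nat.card X = 19 * n)
    (IH : ∀ (Y : Type u) [Group Y] [Finite Y] (n' : ℕ), n' ∣ n → n' < n → Nat.card Y = 19 * n' →
      ∀ P : Sylow 19 Y, (P : Subgroup Y).Normal)
    (N : Subgroup X) [hNn : N.Normal] (hN1 : N ≠ ⊥) (hN2 : N ≠ ⊤) :
    ∀ P : Sylow 19 X, (P : Subgroup X).Normal := by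
  haveI := h24_fact19
  have hn19 := h24_not_dvd_of_dvd hn
  have hn0 : 0 < n := Nat.pos_of_ne_zero (by rintro rfl; simp at hn)
  have hNd : Nat.card N ∣ 19 * n := hX ▸ Subgroup.card_subgroup_dvd_card N
  have hNlt : Nat.card N < 19 * n := by
    rw [← hX]
    by_contra hge
    push Not at hge
    exact hN2 (Subgroup.eq_top_of_le_card N hge)
  have hkpos : 0 < Nat.card N := Nat.card_pos
  by_cases h19 : 19 ∣ Nat.card N
  · obtain ⟨n', hn'⟩ := h19
    have hn'n : n' ∣ n := by
      rw [hn'] at hNd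
      exact Nat.dvd_of_mul_dvd_mul_left (by norm_num) hNd
    have hn'lt : n' < n := by rw [hn'] at hNlt; omega
    exact h24_step_alpha hn19 hX N ⟨n', hn'⟩ (IH ↥N n' hn'n hn'lt hn')
  · have hcopN : Nat.Coprime (Nat.card N) 19 :=
      ((Nat.Prime.coprime_iff_not_dvd (by norm_num)).2 h19).symm
    have hNn' : Nat.card N ∣ n := hcopN.dvd_of_dvd_mul_left hNd
    obtain ⟨n'', hn''⟩ := hNn'
    have hk2 : 2 ≤ Nat.card N := by
      have h1 : Nat.card N ≠ 1 := fun h => hN1 (Subgroup.card_eq_one.1 h)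
      omega
    have hn''pos : 0 < n'' := by
      rcases Nat.eq_zero_or_pos n'' with h | h
      · rw [h, mul_zero] at hn''; omega
      · exact h
    have hq : Nat.card (X ⧸ N) = 19 * n'' := by
      have h1 := Subgroup.card_eq_card_quotient_mul_card_subgroup N
      rw [hX, hn''] at h1
      apply Nat.eq_of_mul_eq_mul_right hkpos
      rw [← h1]; ring
    have hn''n : n'' ∣ n := ⟨Nat.card N, by rw [hn'']; ring⟩
    have hn''lt : n'' < n := by rw [hn'']; nlinarith
    have hn''19 : ¬ 19 ∣ n'' := fun h => hn19 (h.trans hn''n)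
    obtain ⟨S⟩ : Nonempty (Sylow 19 (X ⧸ N)) := inferInstance
    have hSn := IH (X ⧸ N) n'' hn''n hn''lt hq S
    set M : Subgroup X := (S : Subgroup (X ⧸ N)).comap (QuotientGroup.mk' N) with hM
    haveI hMn : M.Normal := hSn.comap _
    have hMidx : M.index = (S : Subgroup (X ⧸ N)).index :=
      Subgroup.index_comap_of_surjective _ (QuotientGroup.mk'_surjective N)
    have hSidx : (S : Subgroup (X ⧸ N)).index = n'' :=
      sylow_index_eq S (k := 1) (by rw [hq]; norm_num) hn''19
    have hMc : Nat.card M * n'' = 19 * n := by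
      rw [← hX, ← hSidx, ← hMidx]; exact M.card_mul_index
    have hMcard : Nat.card M = 19 * Nat.card N := by
      rw [hn''] at hMc
      apply Nat.eq_of_mul_eq_mul_right hn''pos
      rw [hMc]; ring
    by_cases hMtop : M = ⊤
    · have h1 : n'' = 1 := by rw [← hSidx, ← hMidx, hMtop, Subgroup.index_top]
      have hNc : Nat.card N = n := by rw [hn'', h1, mul_one]
      exact h24_normal_of_complement hn hX N hNc
    · have hn''1 : n'' ≠ 1 := by
        intro h1
        apply hMtop
        rw [← Subgroup.index_eq_one, hMidx, hSidx, h1]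
      have hlt : Nat.card N < n := by rw [hn'']; nlinarith [Nat.lt_of_le_of_ne hn''pos hn''1.symm]
      exact h24_step_alpha hn19 hX M ⟨Nat.card N, hMcard⟩
        (IH ↥M (Nat.card N) ⟨n'', hn''⟩ hlt hMcard)

theorem h24_exists_normal {X : Type u} [Group X] [Finite X] (h1 : 1 < Nat.card X)
    (hs : ¬ IsSimpleGroup X) : ∃ N : Subgroup X, N.Normal ∧ N ≠ ⊥ ∧ N ≠ ⊤ := by
  by_contra hno
  push Not at hno
  apply hs
  have hnt : Nontrivial X := Finite.one_lt_card_iff_nontrivial.1 h1
  exact { toNontrivial := hnt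
          eq_bot_or_eq_top_of_normal := fun N hN => by
            by_contra h
            push Not at h
            exact h.2 (hno N hN h.1) }

/-- every group of order `19 * n`, `n` a proper divisor of `9240`, has a normal Sylow 19-subgroup -/
theorem h24_normal_of_dvd (hNS : ∀ m, m ∣ 9240 → m ≠ 9240 → NoSimple.{u} (19 * m)) :
    ∀ (n : ℕ), n ∣ 9240 → n ≠ 9240 → ∀ (X : Type u) [Group X] [Finite X],
      Nat.card X = 19 * n → ∀ P : Sylow 19 X, (P : Subgroup X).Normal := by
  intro n
  induction n using Nat.strong_induction_on with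
  | _ n ih =>
    intro hn hne X _ _ hX
    have hn0 : 0 < n := Nat.pos_of_ne_zero (by rintro rfl; simp at hn)
    by_cases hs : IsSimpleGroup X
    · by_cases hc : IsMulCommutative X
      · intro P
        refine ⟨fun a ha g => ?_⟩
        have : g * a * g⁻¹ = a := by
          rw [hc.is_comm.comm g a, mul_inv_cancel_right]
        rw [this]; exact ha
      · exact absurd hX (hNS n hn hne X hc)
    · obtain ⟨N, hNn, hN1, hN2⟩ := h24_exists_normal (X := X) (by rw [hX]; omega) hs
      exact h24_step hn hX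
        (fun Y _ _ n' hn'n hn'lt hY =>
          ih n' hn'lt (hn'n.trans hn) (fun h => by
            have := Nat.le_of_dvd (by norm_num) hn
            omega) Y hY) N hN1 hN2

/-- Certificates `(19 m, p, k, m', q, b)` for the proper divisors `m` of `9240` handled by the sieve. -/
def h24_table : List (ℕ × ℕ × ℕ × ℕ × ℕ × ℕ) :=
  [(19,19,1,0,2,0),
  (38,2,1,0,19,1),
  (57,3,1,0,19,1),
  (76,2,2,0,19,1),
  (95,5,1,0,19,1),
  (114,19,1,6,0,0),
  (133,7,1,0,19,1),
  (152,2,3,0,19,1),
  (190,19,1,10,0,0),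
  (209,11,1,0,19,1),
  (228,19,1,12,0,0),
  (266,19,1,14,0,0),
  (285,19,1,15,0,0),
  (380,19,1,20,0,0),
  (399,19,1,21,0,0),
  (418,19,1,22,0,0),
  (456,19,1,24,0,0),
  (532,19,1,28,0,0),
  (570,19,1,30,0,0),
  (627,19,1,33,0,0),
  (665,19,1,35,0,0),
  (760,19,1,40,0,0),
  (798,19,1,42,0,0),
  (836,19,1,44,0,0),
  (1045,19,1,55,0,0),
  (1064,19,1,56,0,0),
  (1140,5,1,228,0,0),
  (1254,19,1,66,0,0),
  (1330,19,1,70,0,0),
  (1463,19,1,77,0,0),
  (1596,19,1,84,0,0),
  (1672,19,1,88,0,0),
  (1995,19,1,105,0,0),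
  (2090,19,1,110,0,0),
  (2280,19,1,120,0,0),
  (2508,19,1,132,0,0),
  (2660,19,1,140,0,0),
  (2926,7,1,418,0,0),
  (3135,19,1,165,0,0),
  (3192,19,1,168,0,0),
  (3990,19,1,210,0,0),
  (4180,19,1,220,0,0),
  (4389,11,1,399,0,0),
  (5016,19,1,264,0,0),
  (5320,19,1,280,0,0),
  (6270,19,1,330,0,0),
  (7315,19,1,385,0,0),
  (8360,19,1,440,0,0),
  (8778,2,1,4389,0,0),
  (12540,19,1,660,0,0),
  (14630,7,1,2090,0,0),
  (21945,7,1,3135,0,0),
  (25080,19,1,1320,0,0),
  (43890,2,1,21945,0,0)]

def h24_CertT (e : ℕ × ℕ × ℕ × ℕ × ℕ × ℕ) : Prop :=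
  Cert e.1 e.2.1 e.2.2.1 e.2.2.2.1 e.2.2.2.2.1 e.2.2.2.2.2

instance (e : ℕ × ℕ × ℕ × ℕ × ℕ × ℕ) : Decidable (h24_CertT e) := by
  unfold h24_CertT; infer_instance

set_option maxRecDepth 100000 in
theorem h24_table_ok : ∀ e ∈ h24_table, h24_CertT e := by decide +kernel

set_option maxRecDepth 100000 in
theorem h24_table_cover : ∀ m ∈ Nat.divisors 9240, m ≠ 9240 →
    m ∉ [308, 420, 616, 840, 924, 1540, 1848, 3080, 4620] →
    ∃ e ∈ h24_table, e.1 = 19 * m := by decide +kernel

/-- **Main theorem of the O175560 server.** -/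
theorem h24_main
    (h7980 : ∀ (G : Type u) [Group G] [Finite G] [IsSimpleGroup G], Nat.card G ≠ 7980)
    (h11704 : ∀ (G : Type u) [Group G] [Finite G] [IsSimpleGroup G], Nat.card G ≠ 11704)
    (h15960 : ∀ (G : Type u) [Group G] [Finite G] [IsSimpleGroup G], Nat.card G ≠ 15960)
    (h17556 : ∀ (G : Type u) [Group G] [Finite G] [IsSimpleGroup G], Nat.card G ≠ 17556)
    (h29260 : ∀ (G : Type u) [Group G] [Finite G] [IsSimpleGroup G], Nat.card G ≠ 29260)
    (h35112 : ∀ (G : Type u) [Group G] [Finite G] [IsSimpleGroup G], Nat.card G ≠ 35112)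
    (h58520 : ∀ (G : Type u) [Group G] [Finite G] [IsSimpleGroup G], Nat.card G ≠ 58520)
    (h87780 : ∀ (G : Type u) [Group G] [Finite G] [IsSimpleGroup G], Nat.card G ≠ 87780)
    {G : Type u} [Group G] [Finite G] (hG : Nat.card G = 175560) :
    IsSimpleGroup G ∨ ∀ P : Sylow 19 G, (P : Subgroup G).Normal := by
  have hNS : ∀ m, m ∣ 9240 → m ≠ 9240 → NoSimple.{u} (19 * m) := by
    intro m hm hne
    have hmem : m ∈ Nat.divisors 9240 := Nat.mem_divisors.2 ⟨hm, by norm_num⟩
    by_cases hsp : m ∈ [308, 420, 616, 840, 924, 1540, 1848, 3080, 4620]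
    · simp only [List.mem_cons, List.not_mem_nil, or_false] at hsp
      rcases hsp with rfl | rfl | rfl | rfl | rfl | rfl | rfl | rfl | rfl
      · exact Cfsg.Agent.Helper75.SV.no_5852.{u}
      · intro X _ _ _ _ hX; exact h7980 X hX
      · intro X _ _ _ _ hX; exact h11704 X hX
      · intro X _ _ _ _ hX; exact h15960 X hX
      · intro X _ _ _ _ hX; exact h17556 X hX
      · intro X _ _ _ _ hX; exact h29260 X hX
      · intro X _ _ _ _ hX; exact h35112 X hX
      · intro X _ _ _ _ hX; exact h58520 X hX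
      · intro X _ _ _ _ hX; exact h87780 X hX
    · obtain ⟨e, he, hen⟩ := h24_table_cover m hmem hne hsp
      have := h24_table_ok e he
      rw [← hen]
      exact cert_sound this
  by_cases hs : IsSimpleGroup G
  · exact Or.inl hs
  · right
    obtain ⟨N, hNn, hN1, hN2⟩ := h24_exists_normal (X := G) (by rw [hG]; norm_num) hs
    exact h24_step (n := 9240) dvd_rfl (by rw [hG])
      (fun Y _ _ n' hn'n hn'lt hY => h24_normal_of_dvd hNS n' hn'n (Nat.ne_of_lt hn'lt) Y hY)
      N hN1 hN2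

end Cfsg.Agent.Helper24.O175560
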