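import Mathlib
import Cfsg.Agent.Lib.Helper17.Sieve
import Cfsg.Agent.Lib.Helper17.IndexNormalizer
import Cfsg.Agent.Lib.Helper24.SVInter

/-!
# No simple group of order 4212 = 2^2 * 3^4 * 13

`n_13 = 27`, so `|N(P_13)| = 156` and there is no proper subgroup of index `13`.  `n_3 ∈ {4, 13, 52}`:
`4` is excluded by the factorial bound, `13` gives a normalizer of index `13`, and `52 ≢ 1 (mod 9)`
gives a proper subgroup of index `b ∣ 52`, `b ≤ 17`, so `b = 13` again.
-/

set_option autoImplicit false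

namespace Cfsg.Agent.Helper24.SV

open Nat Cfsg.Agent.Helper17 Cfsg.Agent.Helper17.Sieve

theorem no_4212.{u} : NoSimple.{u} 4212 := by
  intro G _ _ _ hna hn
  have hp13 : Fact (Nat.Prime 13) := ⟨by norm_num⟩
  have hp3 : Fact (Nat.Prime 3) := ⟨by norm_num⟩
  have hn13 : Nat.card G = 13 ^ 1 * 324 := by rw [hn]; norm_num
  have hn3 : Nat.card G = 3 ^ 4 * 52 := by rw [hn]; norm_num
  -- Sylow 13
  obtain ⟨hd13, hm13⟩ := sylow_count (G := G) (p := 13) hn13 (by norm_num)
  have hne13 := sylow_count_ne_one (G := G) (p := 13) hn13 (by norm_num) (by norm_num)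
    (by norm_num)
  have key13 : ∀ d ∈ List.range 325, d ∣ 324 → d % 13 = 1 → d ≠ 1 → d = 27 := by decide +kernel
  have h27 : Nat.card (Sylow 13 G) = 27 :=
    key13 _ (List.mem_range.2 (Nat.lt_succ_of_le (Nat.le_of_dvd (by norm_num) hd13))) hd13 hm13
      hne13
  have hno13 : ∀ H : Subgroup G, H ≠ ⊤ → H.index ≠ 13 := by
    intro H hH hidx
    obtain ⟨P⟩ : Nonempty (Sylow 13 G) := inferInstance
    have hPc : Nat.card (P : Subgroup G) = 13 := by
      have := sylow_card_eq P hn13 (by norm_num)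
      simpa using this
    have h2 := two_mul_card_normalizer_dvd_of_index hna (p := 13) (by norm_num) P hPc H hH
      (Or.inl hidx)
    have hN := card_normalizer_mul_sylow_count P
    rw [h27, hn] at hN
    have h156 : Nat.card ↥(Subgroup.normalizer ((P : Subgroup G) : Set G)) = 156 := by omega
    rw [h156] at h2
    revert h2
    decide
  -- Sylow 3
  obtain ⟨hd3, hm3⟩ := sylow_count (G := G) (p := 3) hn3 (by norm_num)
  have hne3 := sylow_count_ne_one (G := G) (p := 3) hn3 (by norm_num) (by norm_num) (by norm_num)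
  have key3 : ∀ d ∈ List.range 53, d ∣ 52 → d % 3 = 1 → d ≠ 1 → d = 4 ∨ d = 13 ∨ d = 52 := by
    decide +kernel
  rcases key3 _ (List.mem_range.2 (Nat.lt_succ_of_le (Nat.le_of_dvd (by norm_num) hd3))) hd3 hm3
    hne3 with h | h | h
  · have hfac := sylow_count_factorial hna (p := 3) hne3
    rw [h, hn] at hfac
    revert hfac
    decide
  · obtain ⟨P⟩ : Nonempty (Sylow 3 G) := inferInstance
    have hidx : (Subgroup.normalizer ((P : Subgroup G) : Set G)).index = 13 := by
      rw [← h]; exact P.card_eq_index_normalizer.symm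
    refine hno13 _ ?_ hidx
    intro htop
    rw [htop, Subgroup.index_top] at hidx
    omega
  · have hmod : ¬ Nat.card (Sylow 3 G) ≡ 1 [MOD 3 ^ 2] := by rw [h]; decide
    obtain ⟨N, hNtop, a, hab, ha⟩ :=
      exists_normalizer_of_large_inter (G := G) 3 4 52 (by norm_num) hn3 (by norm_num) hmod
    have hfac := two_mul_card_dvd_factorial hna N hNtop
    have hb : N.index ∣ 52 := ⟨a, by rw [← hab]; ring⟩
    have ha' : a ∣ 52 := ⟨N.index, hab.symm⟩
    have keyb : ∀ b ∈ List.range 53, ∀ a ∈ List.range 53, a * b = 52 → 3 ≤ a →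
        b = 1 ∨ b = 2 ∨ b = 4 ∨ b = 13 := by decide +kernel
    rcases keyb _ (List.mem_range.2 (Nat.lt_succ_of_le (Nat.le_of_dvd (by norm_num) hb))) a
      (List.mem_range.2 (Nat.lt_succ_of_le (Nat.le_of_dvd (by norm_num) ha'))) hab ha with
      h1 | h1 | h1 | h1
    · exact hNtop (Subgroup.index_eq_one.1 h1)
    · rw [h1, hn] at hfac
      revert hfac
      decide
    · rw [h1, hn] at hfac
      revert hfac
      decide
    · exact hno13 N hNtop h1

end Cfsg.Agent.Helper24.SV
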