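import Mathlib
import Cfsg.Agent.Lib.Helper17.Simple
import Cfsg.Agent.Lib.Helper17.Sieve
import Cfsg.Agent.Lib.Helper24.SV4212

/-!
# O6232 (N4212): no simple group of order 4212 (server shape of `Helper24.SV.no_4212`)
-/

set_option autoImplicit false

universe u

namespace Cfsg.Agent.Helper24.O6232

theorem no_4212 {G : Type u} [Group G] [Finite G] [IsSimpleGroup G] : Nat.card G ≠ 4212 := by
  intro hn
  have hna : ¬ IsMulCommutative G := by
    apply Cfsg.Agent.Helper17.not_comm_of_not_prime
    rw [hn]
    norm_num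
  exact Cfsg.Agent.Helper24.SV.no_4212.{u} G hna hn

end Cfsg.Agent.Helper24.O6232
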