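import Mathlib
import Cfsg.Agent.Lib.Helper17.Simple
import Cfsg.Agent.Lib.Helper17.PrimeTI
import Cfsg.Agent.Lib.Helper17.PrimeTIApp
import Cfsg.Agent.Lib.Helper17.PrimeTIOrders
import Cfsg.Agent.Lib.Helper79.Inflation
import Cfsg.Agent.Lib.Helper79.Codegree

/-!
# O6232 (N4960): no simple group of order 4960 = 2^5 * 5 * 31

`n_31 = 32` is forced, so a Sylow 31-subgroup `P` is self-centralizing with `|N(P)| = 31 * 5`.  The
degree equation for `p = 31`, `e = 5`, `t = 6` (`Helper17.PrimeTI.prime_degree_equation`) gives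
`6 * Σ a² + w² = 31`.  A non-exceptional `ψ ≠ 1` with `a ψ ≠ 0` has `|a ψ| ≤ 2`, `deg ψ ∣ 4960` and
`deg ψ ≡ a ψ (mod 31)`, which forces `(a, deg) ∈ {(1,1), (1,32), (2,2)}`; degree `1` is impossible in
a perfect group and `(2,2)` means a nonidentity element of `P` lies in the kernel of `ψ`, so `ψ` is
trivial.  With `c` such characters, `6 (1 + c) + w² = 31` and `1 + 32 c + d w = 0` with `d ∣ 4960`
have no solution.
-/

set_option autoImplicit false

universe u

namespace Cfsg.Agent.Helper24.O6232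

open Cfsg Cfsg.Agent.Helper17.PrimeTI

theorem h24_count4960_aux : ∀ n ∈ Nat.divisors 160, n % 31 = 1 → n ≠ 1 → n * 5 = 160 := by
  decide +kernel

theorem h24_arith4960_aux : ∀ x ∈ Nat.divisors 4960,
    (x % 31 = 1 → x = 1 ∨ x = 32) ∧ (x % 31 = 2 → x = 2) ∧ x % 31 ≠ 30 ∧ x % 31 ≠ 29 := by
  decide +kernel

/-- In a simple group, an irreducible character taking its degree as value at a nonidentity element
has degree `1`. -/
theorem h24_degree_one_of_value {G : Type u} [Group G] [Finite G] [IsSimpleGroup G]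
    (ψ : IrrCharacter G) (k : G) (hk1 : k ≠ 1) (h : (ψ : G → ℂ) k = (ψ : G → ℂ) 1) :
    charDegree (ψ : G → ℂ) = 1 := by
  have hmem : k ∈ Cfsg.Agent.Helper79.irrKer ψ := (Cfsg.Agent.Helper79.mem_irrKer ψ k).2 h
  have htop : Cfsg.Agent.Helper79.irrKer ψ = ⊤ := by
    rcases (Cfsg.Agent.Helper79.irrKer_normal ψ).eq_bot_or_eq_top with hb | ht
    · exfalso
      rw [hb, Subgroup.mem_bot] at hmem
      exact hk1 hmem
    · exact ht
  have hdvd := Cfsg.Agent.Helper79.degree_dvd_index_irrKer ψ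
  rw [htop, Subgroup.index_top] at hdvd
  exact Nat.dvd_one.1 hdvd

set_option maxHeartbeats 1000000 in
theorem no_4960 {G : Type u} [Group G] [Finite G] [IsSimpleGroup G] : Nat.card G ≠ 4960 := by
  intro hG
  classical
  have : Fact (Nat.Prime 31) := ⟨by norm_num⟩
  have := Fintype.ofFinite G
  obtain ⟨P⟩ : Nonempty (Sylow 31 G) := inferInstance
  obtain ⟨hP, hN, hC⟩ := forced_sylow 31 160 5 (by norm_num)
    (by rw [hG]) (by norm_num) (by norm_num)
    (fun n hn => h24_count4960_aux n (Nat.mem_divisors.2 ⟨hn, by norm_num⟩)) P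
  have hperf : commutator G = ⊤ := perfect_of_simple (by rw [hG]; norm_num)
  obtain ⟨w, d, E, a, hEcard, hEdeg, hEne, haE, haK, hcong, hnorm, hdegeq⟩ :=
    prime_degree_equation (P : Subgroup G) 31 5 6 hP hC hN (by norm_num) (by norm_num)
      (by norm_num)
  set ψ1 : IrrCharacter G := ⟨fun _ => 1, Cfsg.Agent.Helper81.isIrrCharacter_one⟩ with hψ1
  have hψ1E : ψ1 ∉ E := fun h => hEne ψ1 h rfl
  obtain ⟨k, hk, hk1⟩ := exists_ne_one_of_prime_card (P : Subgroup G) hP
  have ha1 : a ψ1 = 1 := by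
    have h := haK ψ1 hψ1E k hk hk1
    have h' : ((1 : ℤ) : ℂ) = ((a ψ1 : ℤ) : ℂ) := by
      rw [← h]; simp [hψ1]
    exact_mod_cast h'.symm
  have hdeg1 : charDegree (ψ1 : G → ℂ) = 1 := charDegree_one
  have hd : d ∣ Nat.card G := by
    obtain ⟨ψ, hψ⟩ := Finset.card_pos.1 (by omega : 0 < E.card)
    rw [← hEdeg ψ hψ]
    exact Cfsg.Agent.Helper79.irr_degree_dvd_card ψ
  have hsplit1 := Finset.add_sum_erase Finset.univ (fun ψ => (a ψ) ^ 2) (Finset.mem_univ ψ1)
  have hsplit2 := Finset.add_sum_erase Finset.univ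
    (fun ψ => a ψ * (charDegree (ψ : G → ℂ) : ℤ)) (Finset.mem_univ ψ1)
  simp only [ha1, hdeg1] at hsplit1 hsplit2
  rw [← hsplit1] at hnorm
  rw [← hsplit2] at hdegeq
  push_cast at hnorm hdegeq
  have hrest : 0 ≤ ∑ ψ ∈ Finset.univ.erase ψ1, (a ψ) ^ 2 :=
    Finset.sum_nonneg (fun i _ => sq_nonneg _)
  have hS : ∑ ψ ∈ Finset.univ.erase ψ1, (a ψ) ^ 2 ≤ 4 := by nlinarith [sq_nonneg w]
  have hbound : ∀ ψ ∈ Finset.univ.erase ψ1, (a ψ) ^ 2 ≤ 4 := fun ψ hψ =>
    le_trans (Finset.single_le_sum (f := fun ψ => (a ψ) ^ 2) (fun i _ => sq_nonneg _) hψ) hS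
  set T : Finset (IrrCharacter G) := (Finset.univ.erase ψ1).filter (fun ψ => a ψ ≠ 0) with hT
  have hkey : ∀ ψ ∈ T, a ψ = 1 ∧ charDegree (ψ : G → ℂ) = 32 := by
    intro ψ hψ
    obtain ⟨hψe, hane⟩ := Finset.mem_filter.1 hψ
    have hne1 : ψ ≠ ψ1 := (Finset.mem_erase.1 hψe).1
    have hψE : ψ ∉ E := fun h => hane (haE ψ h)
    have hb := hbound ψ hψe
    have hdv := Cfsg.Agent.Helper79.irr_degree_dvd_card ψ
    rw [hG] at hdv
    have hcg := hcong ψ hψE
    have ha_le : a ψ ≤ 2 := by nlinarith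
    have ha_ge : -2 ≤ a ψ := by nlinarith
    obtain ⟨h1, h2, h3, h4⟩ := h24_arith4960_aux (charDegree (ψ : G → ℂ))
      (Nat.mem_divisors.2 ⟨hdv, by norm_num⟩)
    have hpos := (Cfsg.Agent.Helper79.irr_one_eq ψ).2
    have hcases : a ψ = -2 ∨ a ψ = -1 ∨ a ψ = 1 ∨ a ψ = 2 := by omega
    rcases hcases with h | h | h | h
    · exfalso; rw [h] at hcg; apply h4; omega
    · exfalso; rw [h] at hcg; apply h3; omega
    · rw [h] at hcg
      have hm : charDegree (ψ : G → ℂ) % 31 = 1 := by omega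
      rcases h1 hm with hx | hx
      · exfalso
        apply hne1
        apply Subtype.ext
        exact linear_trivial_of_perfect hperf ψ hx
      · exact ⟨h, hx⟩
    · exfalso
      rw [h] at hcg
      have hm : charDegree (ψ : G → ℂ) % 31 = 2 := by omega
      have hx := h2 hm
      have hval : (ψ : G → ℂ) k = (ψ : G → ℂ) 1 := by
        rw [haK ψ hψE k hk hk1, (Cfsg.Agent.Helper79.irr_one_eq ψ).1, h, hx]
        norm_num
      have := h24_degree_one_of_value ψ k hk1 hval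
      omega
  have hR1 : ∑ ψ ∈ Finset.univ.erase ψ1, (a ψ) ^ 2 = (T.card : ℤ) := by
    rw [← Finset.sum_filter_of_ne (p := fun ψ => a ψ ≠ 0)
      (fun ψ _ h h0 => h (by rw [h0]; norm_num))]
    rw [Finset.sum_congr rfl (fun ψ hψ => by rw [(hkey ψ hψ).1])]
    simp
    rfl
  have hR2 : ∑ ψ ∈ Finset.univ.erase ψ1, a ψ * (charDegree (ψ : G → ℂ) : ℤ) =
      32 * (T.card : ℤ) := by
    rw [← Finset.sum_filter_of_ne (p := fun ψ => a ψ ≠ 0)
      (fun ψ _ h h0 => h (by rw [h0]; norm_num))]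
    rw [Finset.sum_congr rfl (fun ψ hψ => by rw [(hkey ψ hψ).1, (hkey ψ hψ).2])]
    simp [mul_comm]
    rfl
  rw [hR1] at hnorm
  rw [hR2] at hdegeq
  rw [hG] at hd
  generalize T.card = c at hnorm hdegeq
  have hc4 : c ≤ 4 := by
    have : (c : ℤ) ≤ 4 := by nlinarith [sq_nonneg w]
    exact_mod_cast this
  have hw5 : w ≤ 5 := by nlinarith
  have hw5' : -5 ≤ w := by nlinarith
  interval_cases c <;> interval_cases w <;> simp at hnorm <;> first
    | omega
    | (have hd129 : d = 129 := by omega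
       rw [hd129] at hd
       revert hd
       decide)

end Cfsg.Agent.Helper24.O6232
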