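import Mathlib

/-!
# Quadratic offenders: generic finite linear algebra counting lemmas
-/

set_option autoImplicit false

namespace Cfsg.Agent.Helper24.QOff

open Submodule LinearMap

section generic

variable {F : Type*} [Field F] {V W : Type*} [AddCommGroup V] [Module F V]
  [AddCommGroup W] [Module F W]

theorem card_le_of_le [Finite V] {S T : Submodule F V} (h : S ≤ T) :
    Nat.card S ≤ Nat.card T :=
  Nat.card_le_card_of_injective (Submodule.inclusion h) (Submodule.inclusion_injective h)

theorem card_pos_sub [Finite V] (S : Submodule F V) : 0 < Nat.card S := Nat.card_pos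

theorem eq_of_le_of_card_le [Finite V] {S T : Submodule F V} (h : S ≤ T)
    (hc : Nat.card T ≤ Nat.card S) : S = T := by
  apply le_antisymm h
  have h1 : (S : Set V) = (T : Set V) := by
    apply Set.eq_of_subset_of_ncard_le h _ (Set.toFinite _)
    rw [← Nat.card_coe_set_eq, ← Nat.card_coe_set_eq]
    exact hc
  intro x hx
  have : x ∈ (S : Set V) := by rw [h1]; exact hx
  exact this

theorem card_lt_of_lt [Finite V] {S T : Submodule F V} (h : S < T) :
    Nat.card S < Nat.card T := by
  by_contra hc
  push Not at hc
  exact (ne_of_lt h) (eq_of_le_of_card_le h.le hc)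

theorem card_map_mul_card_inf_ker [Finite V] (f : V →ₗ[F] W) (T : Submodule F V) :
    Nat.card (T.map f) * Nat.card ↥(T ⊓ LinearMap.ker f) = Nat.card T := by
  set g : ↥T →ₗ[F] W := f.domRestrict T with hg
  have hrange : LinearMap.range g = T.map f := by
    ext w
    simp only [hg, LinearMap.mem_range, Submodule.mem_map, LinearMap.domRestrict_apply,
      Subtype.exists, exists_prop]
  have hker : LinearMap.ker g = (T ⊓ LinearMap.ker f).comap T.subtype := by
    ext x
    simp only [hg, LinearMap.mem_ker, LinearMap.domRestrict_apply, Submodule.mem_comap,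
      Submodule.subtype_apply, Submodule.mem_inf, SetLike.coe_mem, true_and]
  have h1 := Submodule.card_eq_card_quotient_mul_card (LinearMap.ker g)
  have h2 : Nat.card (↥T ⧸ LinearMap.ker g) = Nat.card (LinearMap.range g) :=
    Nat.card_congr (LinearMap.quotKerEquivRange g).toEquiv
  have h3 : Nat.card (LinearMap.ker g) = Nat.card ↥(T ⊓ LinearMap.ker f) := by
    rw [hker]
    exact Nat.card_congr (Submodule.comapSubtypeEquivOfLe inf_le_left).toEquiv
  rw [h2, h3, hrange] at h1
  rw [h1, mul_comm]

theorem card_sup_mul_card_inf [Finite V] (S T : Submodule F V) :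
    Nat.card ↥(S ⊔ T) * Nat.card ↥(S ⊓ T) = Nat.card S * Nat.card T := by
  -- use the quotient map by `T`
  have h1 := card_map_mul_card_inf_ker T.mkQ S
  have h2 := card_map_mul_card_inf_ker T.mkQ (S ⊔ T)
  rw [Submodule.ker_mkQ] at h1 h2
  have h3 : (S ⊔ T).map T.mkQ = S.map T.mkQ := by
    rw [Submodule.map_sup]
    have : T.map T.mkQ = ⊥ := by
      exact Submodule.mkQ_map_self T
    rw [this, sup_bot_eq]
  have h4 : (S ⊔ T) ⊓ T = T := inf_eq_right.mpr le_sup_right
  rw [h3, h4] at h2
  -- card (S⊔T) = card(map) * card T ; card S = card(map) * card (S ⊓ T)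
  rw [← h2, ← h1]
  ring

end generic

end Cfsg.Agent.Helper24.QOff
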