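import Mathlib
import Cfsg.Agent.Lib.Helper24.QOffLin

/-!
# Quadratic offenders: the linear setting, basic definitions
-/

set_option autoImplicit false

namespace Cfsg.Agent.Helper24.QOff

open Submodule LinearMap

section setting

variable {p : ℕ} [Fact p.Prime] {V : Type*} [AddCommGroup V] [Module (ZMod p) V]

/-- the cardinality of a finite `ZMod p`-module is a power of `p`. -/
theorem card_eq_pow [Finite V] : ∃ k : ℕ, Nat.card V = p ^ k := by
  classical
  have : Fintype V := Fintype.ofFinite V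
  refine ⟨Module.finrank (ZMod p) V, ?_⟩
  rw [Nat.card_eq_fintype_card, Module.card_eq_pow_finrank (K := ZMod p) (V := V), ZMod.card]

/-- A `p`-group acting on a finite `ZMod p`-module stabilising a proper submodule `W` has a fixed
vector modulo `W` outside `W`. -/
theorem exists_fixed_mod [Finite V] {H : Type*} [Group H] [Finite H] (hH : IsPGroup p H)
    (σ : H →* Module.End (ZMod p) V) (W : Submodule (ZMod p) V)
    (hW : ∀ h, W ≤ W.comap (σ h)) (hne : W ≠ ⊤) :
    ∃ v, v ∉ W ∧ ∀ h, σ h v - v ∈ W := by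
  classical
  let φ : H →* Module.End (ZMod p) (V ⧸ W) :=
    { toFun := fun h => W.mapQ W (σ h) (hW h)
      map_one' := by
        apply LinearMap.ext
        intro x
        induction x using Submodule.Quotient.induction_on with
        | H x => simp [Submodule.mapQ_apply]
      map_mul' := by
        intro a b
        apply LinearMap.ext
        intro x
        induction x using Submodule.Quotient.induction_on with
        | H x => simp [Submodule.mapQ_apply] }
  let _ : MulAction H (V ⧸ W) := MulAction.compHom (V ⧸ W) φ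
  have : Finite (V ⧸ W) := Finite.of_surjective _ (Submodule.Quotient.mk_surjective W)
  have hsm : ∀ (h : H) (x : V ⧸ W), h • x = φ h x := fun h x => rfl
  obtain ⟨k, hk⟩ := card_eq_pow (p := p) (V := V)
  have hcard := Submodule.card_eq_card_quotient_mul_card W
  have hdvd : Nat.card (V ⧸ W) ∣ p ^ k := by
    rw [← hk, hcard]; exact Dvd.intro_left _ rfl
  obtain ⟨j, -, hj⟩ := (Nat.dvd_prime_pow (Fact.out : p.Prime)).mp hdvd
  have hj1 : j ≠ 0 := by
    intro h0
    rw [h0, pow_zero] at hj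
    have hsub : Subsingleton (V ⧸ W) := (Nat.card_eq_one_iff_unique.mp hj).1
    apply hne
    exact Submodule.Quotient.subsingleton_iff.mp hsub
  have hp : p ∣ Nat.card (V ⧸ W) := by
    rw [hj]; exact dvd_pow_self p hj1
  have h0 : (0 : V ⧸ W) ∈ MulAction.fixedPoints H (V ⧸ W) := by
    intro h
    rw [hsm, map_zero]
  obtain ⟨b, hb, hb0⟩ := hH.exists_fixed_point_of_prime_dvd_card_of_fixed_point (V ⧸ W) hp h0
  induction b using Submodule.Quotient.induction_on with
  | H v =>
    refine ⟨v, ?_, ?_⟩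
    · intro hv
      apply hb0
      exact ((Submodule.Quotient.mk_eq_zero W).mpr hv).symm
    · intro h
      have := hb h
      rw [hsm] at this
      change W.mapQ W (σ h) (hW h) (Submodule.Quotient.mk v) = _ at this
      rw [Submodule.mapQ_apply] at this
      exact (Submodule.Quotient.eq W).mp this

end setting

section defs

variable {p : ℕ} [Fact p.Prime] {V : Type*} [AddCommGroup V] [Module (ZMod p) V]
variable {G : Type*} [Group G] (ρ : G →* Module.End (ZMod p) V)

theorem rho_mul_inv (g : G) : ρ g * ρ g⁻¹ = 1 := by rw [← map_mul, mul_inv_cancel, map_one]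

theorem rho_inv_mul (g : G) : ρ g⁻¹ * ρ g = 1 := by rw [← map_mul, inv_mul_cancel, map_one]

theorem rho_inv_apply (g : G) (v : V) : ρ g⁻¹ (ρ g v) = v := by
  rw [← Module.End.mul_apply, rho_inv_mul, Module.End.one_apply]

theorem rho_apply_inv (g : G) (v : V) : ρ g (ρ g⁻¹ v) = v := by
  rw [← Module.End.mul_apply, rho_mul_inv, Module.End.one_apply]

theorem sub_one_mul_eq (g g' : G) :
    ρ (g * g') - 1 = (ρ g - 1) + (ρ g' - 1) + (ρ g - 1) * (ρ g' - 1) := by
  rw [map_mul]; noncomm_ring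

theorem sub_one_apply (g : G) (v : V) : (ρ g - 1) v = ρ g v - v := by
  rw [LinearMap.sub_apply, Module.End.one_apply]

/-- the inverse of an element acting quadratically. -/
theorem rho_inv_eq (g : G) (h : (ρ g - 1) * (ρ g - 1) = 0) : ρ g⁻¹ - 1 = -(ρ g - 1) := by
  have h1 : ρ g * (1 - (ρ g - 1)) = 1 := by
    have : ρ g * (1 - (ρ g - 1)) = 1 - (ρ g - 1) * (ρ g - 1) := by noncomm_ring
    rw [this, h, sub_zero]
  have h2 : ρ g⁻¹ = 1 - (ρ g - 1) := by
    calc ρ g⁻¹ = ρ g⁻¹ * (ρ g * (1 - (ρ g - 1))) := by rw [h1, mul_one]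
      _ = (ρ g⁻¹ * ρ g) * (1 - (ρ g - 1)) := by rw [mul_assoc]
      _ = 1 - (ρ g - 1) := by rw [rho_inv_mul, one_mul]
  rw [h2]; noncomm_ring

/-- the fixed space of a subgroup. -/
def fixS (A : Subgroup G) : Submodule (ZMod p) V where
  carrier := {v | ∀ a ∈ A, ρ a v = v}
  add_mem' := by
    intro x y hx hy a ha
    rw [map_add, hx a ha, hy a ha]
  zero_mem' := by
    intro a _
    exact map_zero _
  smul_mem' := by
    intro c x hx a ha
    rw [map_smul, hx a ha]

theorem mem_fixS {A : Subgroup G} {v : V} : v ∈ fixS ρ A ↔ ∀ a ∈ A, ρ a v = v := Iff.rfl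

theorem mem_fixS' {A : Subgroup G} {v : V} : v ∈ fixS ρ A ↔ ∀ a ∈ A, (ρ a - 1) v = 0 := by
  rw [mem_fixS]
  constructor
  · intro h a ha
    rw [sub_one_apply, h a ha, sub_self]
  · intro h a ha
    have := h a ha
    rw [sub_one_apply, sub_eq_zero] at this
    exact this

theorem fixS_anti {A B : Subgroup G} (h : A ≤ B) : fixS ρ B ≤ fixS ρ A :=
  fun _ hv a ha => hv a (h ha)

theorem fixS_bot : fixS ρ (⊥ : Subgroup G) = ⊤ := by
  rw [eq_top_iff]
  intro v _ a ha
  rw [Subgroup.mem_bot] at ha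
  rw [ha, map_one, Module.End.one_apply]

/-- quadratic action of a subgroup. -/
def Quad (A : Subgroup G) : Prop := ∀ a ∈ A, ∀ a' ∈ A, (ρ a - 1) * (ρ a' - 1) = 0

theorem Quad.mono {A B : Subgroup G} (h : A ≤ B) (hB : Quad ρ B) : Quad ρ A :=
  fun a ha a' ha' => hB a (h ha) a' (h ha')

theorem quad_bot : Quad ρ (⊥ : Subgroup G) := by
  intro a ha a' _
  rw [Subgroup.mem_bot] at ha
  rw [ha, map_one, sub_self, zero_mul]

theorem Quad.apply_mem_fixS {A : Subgroup G} (hA : Quad ρ A) {a : G} (ha : a ∈ A) (v : V) :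
    (ρ a - 1) v ∈ fixS ρ A := by
  rw [mem_fixS']
  intro a' ha'
  rw [← Module.End.mul_apply, hA a' ha' a ha, LinearMap.zero_apply]

theorem Quad.comm {A : Subgroup G} (hA : Quad ρ A) {a a' : G} (ha : a ∈ A) (ha' : a' ∈ A) :
    ρ (a * a') = ρ (a' * a) := by
  have h1 := sub_one_mul_eq ρ a a'
  have h2 := sub_one_mul_eq ρ a' a
  rw [hA a ha a' ha', add_zero] at h1
  rw [hA a' ha' a ha, add_zero] at h2
  have : ρ (a * a') - 1 = ρ (a' * a) - 1 := by rw [h1, h2, add_comm]
  exact sub_left_injective this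

/-- the subgroup `T(I,K)` of all elements `g` with `[V,g] ≤ I` and `[K,g] = 0`. -/
def TT (I K : Submodule (ZMod p) V) (hIK : I ≤ K) : Subgroup G where
  carrier := {g | (∀ v, (ρ g - 1) v ∈ I) ∧ ∀ v ∈ K, (ρ g - 1) v = 0}
  one_mem' := by
    constructor
    · intro v
      rw [map_one, sub_self, LinearMap.zero_apply]; exact I.zero_mem
    · intro v _
      rw [map_one, sub_self, LinearMap.zero_apply]
  mul_mem' := by
    rintro g g' ⟨h1, h2⟩ ⟨h1', h2'⟩
    constructor
    · intro v
      rw [sub_one_mul_eq, LinearMap.add_apply, LinearMap.add_apply, Module.End.mul_apply,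
        h2 _ (hIK (h1' v)), add_zero]
      exact I.add_mem (h1 v) (h1' v)
    · intro v hv
      rw [sub_one_mul_eq, LinearMap.add_apply, LinearMap.add_apply, Module.End.mul_apply,
        h2' v hv, h2 v hv, map_zero, add_zero, add_zero]
  inv_mem' := by
    rintro g ⟨h1, h2⟩
    have hsq : (ρ g - 1) * (ρ g - 1) = 0 := by
      apply LinearMap.ext
      intro v
      rw [Module.End.mul_apply, h2 _ (hIK (h1 v)), LinearMap.zero_apply]
    constructor
    · intro v
      rw [rho_inv_eq ρ g hsq, LinearMap.neg_apply]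
      exact I.neg_mem (h1 v)
    · intro v hv
      rw [rho_inv_eq ρ g hsq, LinearMap.neg_apply, h2 v hv, neg_zero]

theorem mem_TT {I K : Submodule (ZMod p) V} {hIK : I ≤ K} {g : G} :
    g ∈ TT ρ I K hIK ↔ (∀ v, (ρ g - 1) v ∈ I) ∧ ∀ v ∈ K, (ρ g - 1) v = 0 := Iff.rfl

theorem quad_TT (I K : Submodule (ZMod p) V) (hIK : I ≤ K) : Quad ρ (TT ρ I K hIK) := by
  intro a ha a' ha'
  apply LinearMap.ext
  intro v
  rw [Module.End.mul_apply, ha.2 _ (hIK (ha'.1 v)), LinearMap.zero_apply]

theorem le_fixS_TT (I K : Submodule (ZMod p) V) (hIK : I ≤ K) : K ≤ fixS ρ (TT ρ I K hIK) := by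
  intro v hv
  rw [mem_fixS']
  intro a ha
  exact ha.2 v hv

theorem Quad.le_TT {A : Subgroup G} (hA : Quad ρ A) :
    A ≤ TT ρ (fixS ρ A) (fixS ρ A) le_rfl := by
  intro a ha
  constructor
  · intro v
    exact hA.apply_mem_fixS ρ ha v
  · intro v hv
    exact (mem_fixS' ρ).mp hv a ha

theorem TT_mono {I K I' K' : Submodule (ZMod p) V} (hIK : I ≤ K) (hIK' : I' ≤ K')
    (hI : I ≤ I') (hK : K' ≤ K) : TT ρ I K hIK ≤ TT ρ I' K' hIK' := by
  rintro g ⟨h1, h2⟩
  exact ⟨fun v => hI (h1 v), fun v hv => h2 v (hK hv)⟩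

/-- the measure `|A| |C_V(A)|`. -/
noncomputable def meas (A : Subgroup G) : ℕ := Nat.card A * Nat.card (fixS ρ A)

end defs

end Cfsg.Agent.Helper24.QOff
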