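import Mathlib
import Cfsg.Agent.Lib.Helper24.QOffBasic

/-!
# Quadratic offenders: Thompson replacement in the linear setting
-/

set_option autoImplicit false

namespace Cfsg.Agent.Helper24.QOff

open Submodule LinearMap

section thompson

variable {p : ℕ} [Fact p.Prime] {V : Type*} [AddCommGroup V] [Module (ZMod p) V] [Finite V]
variable {G : Type*} [Group G] [Finite G] (ρ : G →* Module.End (ZMod p) V)

omit [Finite V] [Finite G] in
theorem sub_one_comm_of_comm {e e' : G} (h : e * e' = e' * e) :
    (ρ e - 1) * (ρ e' - 1) = (ρ e' - 1) * (ρ e - 1) := by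
  have h1 : ρ e * ρ e' = ρ e' * ρ e := by rw [← map_mul, ← map_mul, h]
  have : (ρ e - 1) * (ρ e' - 1) = ρ e * ρ e' - ρ e - ρ e' + 1 := by noncomm_ring
  rw [this, h1]; noncomm_ring

/-- One step of Thompson replacement. -/
theorem thompson_step (hG : IsPGroup p G) (E : Subgroup G)
    (hEc : ∀ x ∈ E, ∀ y ∈ E, x * y = y * x)
    (hEm : Nat.card V ≤ meas ρ E) (hnq : ¬ Quad ρ E) :
    ∃ E' : Subgroup G, E' ≤ E ∧ E' ≠ ⊥ ∧ Nat.card V ≤ meas ρ E' ∧
      Nat.card (fixS ρ E) < Nat.card (fixS ρ E') := by
  classical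
  set K := fixS ρ E with hK
  -- the subspace `W` of vectors moved into `K`
  let W : Submodule (ZMod p) V :=
    { carrier := {v | ∀ e ∈ E, (ρ e - 1) v ∈ K}
      add_mem' := by
        intro x y hx hy e he
        rw [map_add]; exact K.add_mem (hx e he) (hy e he)
      zero_mem' := by
        intro e _
        rw [map_zero]; exact K.zero_mem
      smul_mem' := by
        intro c x hx e he
        rw [map_smul]; exact K.smul_mem c (hx e he) }
  have hWmem : ∀ v, v ∈ W ↔ ∀ e ∈ E, (ρ e - 1) v ∈ K := fun v => Iff.rfl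
  have hKW : K ≤ W := by
    intro v hv e he
    rw [(mem_fixS' ρ).mp hv e he]; exact K.zero_mem
  have hWtop : W ≠ ⊤ := by
    intro htop
    apply hnq
    intro a ha a' ha'
    apply LinearMap.ext
    intro v
    have hv : v ∈ W := by rw [htop]; trivial
    rw [Module.End.mul_apply, LinearMap.zero_apply]
    exact (mem_fixS' ρ).mp (hv a' ha') a ha
  -- invariance of `W`
  have hWinv : ∀ h : E, W ≤ W.comap ((ρ.comp E.subtype) h) := by
    intro h v hv
    rw [Submodule.mem_comap, hWmem]
    intro e he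
    have hc := sub_one_comm_of_comm ρ (hEc e he h h.2)
    have h1 : (ρ e - 1) ((ρ h) v) = ρ h ((ρ e - 1) v) := by
      have h2 : ρ e * ρ h = ρ h * ρ e := by
        rw [← map_mul, ← map_mul, hEc e he h h.2]
      rw [sub_one_apply, sub_one_apply, map_sub, ← Module.End.mul_apply, h2,
        Module.End.mul_apply]
    change (ρ e - 1) ((ρ h) v) ∈ K
    rw [h1]
    have h3 := hv e he
    rw [(mem_fixS ρ).mp h3 h h.2]
    exact h3
  obtain ⟨v, hvW, hvfix⟩ := exists_fixed_mod (hG.to_subgroup E) (ρ.comp E.subtype) W hWinv hWtop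
  have hm : ∀ e ∈ E, (ρ e - 1) v ∈ W := by
    intro e he
    have := hvfix ⟨e, he⟩
    rw [sub_one_apply]
    exact this
  -- the replacement subgroup
  let E' : Subgroup G :=
    { carrier := {e | e ∈ E ∧ ∀ e' ∈ E, ρ e ((ρ e' - 1) v) = (ρ e' - 1) v}
      one_mem' := by
        refine ⟨E.one_mem, ?_⟩
        intro e' _
        rw [map_one, Module.End.one_apply]
      mul_mem' := by
        rintro a b ⟨ha, ha'⟩ ⟨hb, hb'⟩
        refine ⟨E.mul_mem ha hb, ?_⟩
        intro e' he'
        rw [map_mul, Module.End.mul_apply, hb' e' he', ha' e' he']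
      inv_mem' := by
        rintro a ⟨ha, ha'⟩
        refine ⟨E.inv_mem ha, ?_⟩
        intro e' he'
        have := ha' e' he'
        conv_lhs => rw [← this]
        exact rho_inv_apply ρ a _ }
  have hE'mem : ∀ e, e ∈ E' ↔ e ∈ E ∧ ∀ e' ∈ E, ρ e ((ρ e' - 1) v) = (ρ e' - 1) v :=
    fun e => Iff.rfl
  have hE'E : E' ≤ E := fun e he => he.1
  have hKE' : K ≤ fixS ρ E' := fixS_anti ρ hE'E
  have hmfix : ∀ e ∈ E, (ρ e - 1) v ∈ fixS ρ E' := by
    intro e he a ha
    exact ha.2 e he
  -- strict growth of fixed space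
  have hlt : Nat.card (fixS ρ E) < Nat.card (fixS ρ E') := by
    apply card_lt_of_lt
    refine lt_of_le_of_ne hKE' ?_
    intro heq
    apply hvW
    rw [hWmem]
    intro e he
    rw [hK, heq]
    exact hmfix e he
  -- the counting
  set X : Submodule (ZMod p) V := W ⊓ fixS ρ E' with hX
  have hmX : ∀ e ∈ E, (ρ e - 1) v ∈ X := fun e he => ⟨hm e he, hmfix e he⟩
  have hKX : K ≤ X := le_inf hKW hKE'
  let φ : E →* Multiplicative (V ⧸ K) :=
    { toFun := fun e => Multiplicative.ofAdd (Submodule.Quotient.mk ((ρ e - 1) v))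
      map_one' := by
        simp [map_one, sub_self]
      map_mul' := by
        intro a b
        have h1 : (ρ (a * b : G) - 1) v = (ρ a - 1) v + (ρ b - 1) v + (ρ a - 1) ((ρ b - 1) v) := by
          rw [sub_one_mul_eq, LinearMap.add_apply, LinearMap.add_apply, Module.End.mul_apply]
        have h2 : (ρ a - 1) ((ρ b - 1) v) ∈ K := (hm b b.2) a a.2
        change Multiplicative.ofAdd (Submodule.Quotient.mk ((ρ (a * b : G) - 1) v)) = _
        rw [h1, Submodule.Quotient.mk_add, Submodule.Quotient.mk_add,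
          (Submodule.Quotient.mk_eq_zero K).mpr h2, add_zero, ofAdd_add] }
  have hφ : ∀ e : E, φ e = Multiplicative.ofAdd (Submodule.Quotient.mk ((ρ e - 1) v)) :=
    fun e => rfl
  have hker : φ.ker ≤ E'.subgroupOf E := by
    intro e he
    rw [MonoidHom.mem_ker, hφ] at he
    have he0 : (Submodule.Quotient.mk ((ρ e - 1) v) : V ⧸ K) = 0 := by
      have := congrArg Multiplicative.toAdd he
      simpa using this
    have hek : (ρ e - 1) v ∈ K := (Submodule.Quotient.mk_eq_zero K).mp he0
    rw [Subgroup.mem_subgroupOf, hE'mem]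
    refine ⟨e.2, ?_⟩
    intro e' he'
    have hc := sub_one_comm_of_comm ρ (hEc e e.2 e' he')
    have h1 : (ρ e - 1) ((ρ e' - 1) v) = 0 := by
      rw [← Module.End.mul_apply, hc, Module.End.mul_apply]
      exact (mem_fixS' ρ).mp hek e' he'
    rw [sub_one_apply, sub_eq_zero] at h1
    exact h1
  have hcard1 : Nat.card E = Nat.card φ.ker * Nat.card φ.range := by
    rw [← Subgroup.index_ker, Subgroup.card_mul_index]
  have hcard2 : Nat.card φ.ker ≤ Nat.card E' := by
    calc Nat.card φ.ker ≤ Nat.card (E'.subgroupOf E) :=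
          Nat.card_le_card_of_injective (Subgroup.inclusion hker) (Subgroup.inclusion_injective hker)
      _ = Nat.card E' := Nat.card_congr (Subgroup.subgroupOfEquivOfLe hE'E).toEquiv
  have hcard3 : Nat.card φ.range ≤ Nat.card (X.map K.mkQ) := by
    have hmem : ∀ x : φ.range, Multiplicative.toAdd (x : Multiplicative (V ⧸ K)) ∈ X.map K.mkQ := by
      rintro ⟨x, e, he⟩
      subst he
      change Multiplicative.toAdd (φ e) ∈ X.map K.mkQ
      rw [hφ]
      exact ⟨_, hmX e e.2, rfl⟩
    have hfq : Finite (V ⧸ K) := Finite.of_surjective _ (Submodule.Quotient.mk_surjective K)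
    have : Finite (X.map K.mkQ) := Finite.of_injective (fun x => (x : V ⧸ K)) Subtype.val_injective
    apply Nat.card_le_card_of_injective (fun x : φ.range => (⟨_, hmem x⟩ : X.map K.mkQ))
    intro x y hxy
    have := congrArg Subtype.val hxy
    simp only at this
    exact Subtype.ext (Multiplicative.toAdd.injective this)
  have hcard4 : Nat.card (X.map K.mkQ) * Nat.card K = Nat.card X := by
    have := card_map_mul_card_inf_ker K.mkQ X
    rw [Submodule.ker_mkQ, inf_eq_right.mpr hKX] at this
    exact this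
  have hmain : Nat.card E * Nat.card K ≤ Nat.card E' * Nat.card X := by
    calc Nat.card E * Nat.card K = Nat.card φ.ker * (Nat.card φ.range * Nat.card K) := by
          rw [hcard1, mul_assoc]
      _ ≤ Nat.card E' * (Nat.card (X.map K.mkQ) * Nat.card K) :=
          Nat.mul_le_mul hcard2 (Nat.mul_le_mul_right _ hcard3)
      _ = Nat.card E' * Nat.card X := by rw [hcard4]
  have hVle : Nat.card V ≤ Nat.card E' * Nat.card X := le_trans hEm hmain
  refine ⟨E', hE'E, ?_, ?_, hlt⟩
  · intro hbot
    have hX' : Nat.card X ≤ Nat.card W := card_le_of_le inf_le_left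
    have hW' : Nat.card W < Nat.card V := by
      have h1 : Nat.card W < Nat.card (⊤ : Submodule (ZMod p) V) :=
        card_lt_of_lt (lt_top_iff_ne_top.mpr hWtop)
      have h2 : Nat.card (⊤ : Submodule (ZMod p) V) = Nat.card V :=
        Nat.card_congr (Submodule.topEquiv (R := ZMod p) (M := V)).toEquiv
      rw [h2] at h1; exact h1
    rw [hbot, Subgroup.card_bot, one_mul] at hVle
    omega
  · calc Nat.card V ≤ Nat.card E' * Nat.card X := hVle
      _ ≤ Nat.card E' * Nat.card (fixS ρ E') :=
          Nat.mul_le_mul_left _ (card_le_of_le inf_le_right)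

/-- Thompson replacement: an abelian offender yields a quadratic offender. -/
theorem exists_quad_offender (hG : IsPGroup p G) :
    ∀ (n : ℕ) (E : Subgroup G), Nat.card V - Nat.card (fixS ρ E) = n → E ≠ ⊥ →
      (∀ x ∈ E, ∀ y ∈ E, x * y = y * x) → Nat.card V ≤ meas ρ E →
      ∃ A : Subgroup G, A ≠ ⊥ ∧ Quad ρ A ∧ Nat.card V ≤ meas ρ A := by
  intro n
  induction n using Nat.strong_induction_on with
  | _ n ih =>
    intro E hn hE1 hEc hEm
    by_cases hq : Quad ρ E
    · exact ⟨E, hE1, hq, hEm⟩
    · obtain ⟨E', hE'E, hE'1, hE'm, hlt⟩ := thompson_step ρ hG E hEc hEm hq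
      have hle : Nat.card (fixS ρ E') ≤ Nat.card V := by
        have := card_le_of_le (le_top : fixS ρ E' ≤ ⊤)
        rwa [Nat.card_congr (Submodule.topEquiv (R := ZMod p) (M := V)).toEquiv] at this
      refine ih (Nat.card V - Nat.card (fixS ρ E')) (by omega) E' rfl hE'1 ?_ hE'm
      intro x hx y hy
      exact hEc x (hE'E hx) y (hE'E hy)

end thompson

end Cfsg.Agent.Helper24.QOff
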