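import Mathlib
import Cfsg.Agent.Lib.Helper24.QOffThompson

/-!
# Quadratic offenders: best quadratic offenders and their structure
-/

set_option autoImplicit false

namespace Cfsg.Agent.Helper24.QOff

open Submodule LinearMap

section best

variable {p : ℕ} [Fact p.Prime] {V : Type*} [AddCommGroup V] [Module (ZMod p) V] [Finite V]
variable {G : Type*} [Group G] [Finite G] (ρ : G →* Module.End (ZMod p) V)

/-- nontrivial quadratic subgroups of maximal measure (which are offenders). -/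
def IsBQ (A : Subgroup G) : Prop :=
  A ≠ ⊥ ∧ Quad ρ A ∧ Nat.card V ≤ meas ρ A ∧ ∀ B : Subgroup G, Quad ρ B → meas ρ B ≤ meas ρ A

omit [Finite V] [Finite G] in
theorem meas_bot : meas ρ (⊥ : Subgroup G) = Nat.card V := by
  unfold meas
  rw [Subgroup.card_bot, one_mul, fixS_bot]
  exact Nat.card_congr (Submodule.topEquiv (R := ZMod p) (M := V)).toEquiv

theorem exists_isBQ (hex : ∃ A : Subgroup G, A ≠ ⊥ ∧ Quad ρ A ∧ Nat.card V ≤ meas ρ A) :
    ∃ A : Subgroup G, IsBQ ρ A := by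
  classical
  obtain ⟨A₁, hA₁, hq₁, hm₁⟩ := hex
  have : Nonempty {B : Subgroup G // Quad ρ B} := ⟨⟨⊥, quad_bot ρ⟩⟩
  obtain ⟨⟨A₀, hq₀⟩, hmax⟩ := Finite.exists_max (fun B : {B : Subgroup G // Quad ρ B} => meas ρ B.1)
  have hmax' : ∀ B : Subgroup G, Quad ρ B → meas ρ B ≤ meas ρ A₀ := fun B hB => hmax ⟨B, hB⟩
  by_cases h0 : A₀ = ⊥
  · refine ⟨A₁, hA₁, hq₁, hm₁, ?_⟩
    intro B hB
    have h1 := hmax' B hB
    rw [h0, meas_bot] at h1
    exact le_trans h1 hm₁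
  · refine ⟨A₀, h0, hq₀, ?_, hmax'⟩
    exact le_trans hm₁ (hmax' A₁ hq₁)

theorem IsBQ.eq_TT {A : Subgroup G} (hA : IsBQ ρ A) :
    TT ρ (fixS ρ A) (fixS ρ A) le_rfl = A := by
  symm
  apply Subgroup.eq_of_le_of_card_ge (hA.2.1.le_TT ρ)
  have h1 := hA.2.2.2 _ (quad_TT ρ (fixS ρ A) (fixS ρ A) le_rfl)
  unfold meas at h1
  have h2 : Nat.card (fixS ρ A) ≤ Nat.card (fixS ρ (TT ρ (fixS ρ A) (fixS ρ A) le_rfl)) :=
    card_le_of_le (le_fixS_TT ρ _ _ le_rfl)
  have h3 : 0 < Nat.card (fixS ρ A) := Nat.card_pos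
  have h4 : Nat.card (TT ρ (fixS ρ A) (fixS ρ A) le_rfl) * Nat.card (fixS ρ A) ≤
      Nat.card A * Nat.card (fixS ρ A) :=
    le_trans (Nat.mul_le_mul_left _ h2) h1
  exact Nat.le_of_mul_le_mul_right h4 h3

theorem IsBQ.mem_iff {A : Subgroup G} (hA : IsBQ ρ A) (g : G) :
    g ∈ A ↔ (∀ v, (ρ g - 1) v ∈ fixS ρ A) ∧ ∀ v ∈ fixS ρ A, (ρ g - 1) v = 0 := by
  conv_lhs => rw [← hA.eq_TT ρ]
  exact mem_TT ρ

/-- a subspace of the right size carrying enough quadratic elements gives a best offender. -/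
theorem IsBQ.of_card_le {A : Subgroup G} (hA : IsBQ ρ A) (K' : Submodule (ZMod p) V)
    (hK' : Nat.card (fixS ρ A) ≤ Nat.card K') (hc : Nat.card A ≤ Nat.card (TT ρ K' K' le_rfl)) :
    IsBQ ρ (TT ρ K' K' le_rfl) ∧ fixS ρ (TT ρ K' K' le_rfl) = K' := by
  set S := TT ρ K' K' le_rfl with hS
  have hq : Quad ρ S := quad_TT ρ K' K' le_rfl
  have hle : K' ≤ fixS ρ S := le_fixS_TT ρ K' K' le_rfl
  have h1 : meas ρ A ≤ meas ρ S := by
    unfold meas
    exact Nat.mul_le_mul hc (le_trans hK' (card_le_of_le hle))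
  have h2 : meas ρ S ≤ meas ρ A := hA.2.2.2 S hq
  refine ⟨⟨?_, hq, le_trans hA.2.2.1 h1, fun B hB => le_trans (hA.2.2.2 B hB) h1⟩, ?_⟩
  · rw [← Subgroup.one_lt_card_iff_ne_bot]
    exact lt_of_lt_of_le ((Subgroup.one_lt_card_iff_ne_bot A).mpr hA.1) hc
  · symm
    apply eq_of_le_of_card_le hle
    unfold meas at h2
    have h3 : Nat.card S * Nat.card (fixS ρ S) ≤ Nat.card S * Nat.card K' :=
      le_trans h2 (Nat.mul_le_mul hc hK')
    have h4 : 0 < Nat.card S := Nat.card_pos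
    exact Nat.le_of_mul_le_mul_left h3 h4

omit [Finite V] [Finite G] in
theorem conj_sub_one (g a : G) : ρ (g * a * g⁻¹) - 1 = ρ g * (ρ a - 1) * ρ g⁻¹ := by
  rw [map_mul, map_mul, mul_sub, sub_mul, mul_one, rho_mul_inv]

omit [Finite G] in
/-- if `ρ g` maps a subspace into itself then so does `ρ g⁻¹`. -/
theorem inv_map_le (K : Submodule (ZMod p) V) (g : G) (h : ∀ v ∈ K, ρ g v ∈ K) :
    ∀ v ∈ K, ρ g⁻¹ v ∈ K := by
  let f : K → K := fun v => ⟨ρ g v, h v v.2⟩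
  have hinj : Function.Injective f := by
    intro x y hxy
    have h1 : ρ g x = ρ g y := congrArg Subtype.val hxy
    have h2 := congrArg (ρ g⁻¹) h1
    rw [rho_inv_apply, rho_inv_apply] at h2
    exact Subtype.ext h2
  have hsurj := Finite.injective_iff_surjective.mp hinj
  intro v hv
  obtain ⟨w, hw⟩ := hsurj ⟨v, hv⟩
  have h1 : ρ g w = v := congrArg Subtype.val hw
  rw [← h1, rho_inv_apply]
  exact w.2

theorem IsBQ.mem_normalizer {A : Subgroup G} (hA : IsBQ ρ A) (g : G)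
    (h : ∀ v ∈ fixS ρ A, ρ g v ∈ fixS ρ A) : g ∈ Subgroup.normalizer (A : Set G) := by
  have hinv := inv_map_le ρ (fixS ρ A) g h
  have key : ∀ x : G, (∀ v ∈ fixS ρ A, ρ x v ∈ fixS ρ A) → (∀ v ∈ fixS ρ A, ρ x⁻¹ v ∈ fixS ρ A) →
      ∀ a ∈ A, x * a * x⁻¹ ∈ A := by
    intro x hx hx' a ha
    rw [hA.mem_iff ρ] at ha ⊢
    constructor
    · intro v
      rw [conj_sub_one, Module.End.mul_apply, Module.End.mul_apply]
      exact hx _ (ha.1 _)
    · intro v hv
      rw [conj_sub_one, Module.End.mul_apply, Module.End.mul_apply, ha.2 _ (hx' v hv), map_zero]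
  rw [Subgroup.mem_normalizer_iff]
  intro a
  constructor
  · exact key g h hinv a
  · intro ha
    have := key g⁻¹ hinv (by rwa [inv_inv]) _ ha
    rw [inv_inv] at this
    have e : g⁻¹ * (g * a * g⁻¹) * g = a := by group
    rwa [e] at this

omit [Finite V] [Finite G] in
theorem map_fixS_of_mem_normalizer {A : Subgroup G} {g : G}
    (hg : g ∈ Subgroup.normalizer (A : Set G)) : ∀ v ∈ fixS ρ A, ρ g v ∈ fixS ρ A := by
  intro v hv a ha
  have h1 : g⁻¹ * a * g ∈ A := by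
    have := (Subgroup.mem_normalizer_iff.mp (Subgroup.inv_mem _ hg) a).mp ha
    rwa [inv_inv] at this
  have h2 := hv _ h1
  have h3 : ρ a (ρ g v) = ρ g (ρ (g⁻¹ * a * g) v) := by
    rw [← Module.End.mul_apply, ← Module.End.mul_apply, ← map_mul, ← map_mul]
    congr 2; group
  rw [h3, h2]

end best

end Cfsg.Agent.Helper24.QOff
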