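import Mathlib

/-!
# A normalizer-chain argument in finite `p`-groups

If `A ≤ G` (`G` a finite `p`-group) is not normalized by all of its conjugates, then some conjugate
`B = x A x⁻¹` does not normalize `A` although every conjugate `b A b⁻¹` (`b ∈ B`) does.
-/

set_option autoImplicit false

namespace Cfsg.Agent.Helper24.QOff

open Subgroup

theorem exists_conj_chain {G : Type*} [Group G] [Finite G] {p : ℕ} [Fact p.Prime]
    (hG : IsPGroup p G) (A : Subgroup G)
    (h : ¬ ∀ x : G, ∀ a ∈ A, x * a * x⁻¹ ∈ normalizer (A : Set G)) :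
    ∃ x : G, (∃ a ∈ A, x * a * x⁻¹ ∉ normalizer (A : Set G)) ∧
      ∀ a ∈ A, ∀ a' ∈ A, (x * a * x⁻¹) * a' * (x * a * x⁻¹)⁻¹ ∈ normalizer (A : Set G) := by
  classical
  set N := normalClosure (A : Set G) with hN
  have hAN : A ≤ N := subset_normalClosure
  have hNn : N.Normal := normalClosure_normal
  have hconjN : ∀ x : G, ∀ a ∈ A, x * a * x⁻¹ ∈ N := fun x a ha => hNn.conj_mem a (hAN ha) x
  set N₁ := N ⊓ normalizer (A : Set G) with hN₁
  let good : Subgroup G → Prop := fun R =>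
    N₁ ≤ R ∧ R ≤ N ∧ ∀ x : G, (∀ a ∈ A, x * a * x⁻¹ ∈ R) → ∀ a ∈ A, x * a * x⁻¹ ∈ normalizer (A : Set G)
  have hgood₁ : good N₁ := ⟨le_rfl, inf_le_left, fun x hx a ha => (hx a ha).2⟩
  have : Nonempty {R : Subgroup G // good R} := ⟨⟨N₁, hgood₁⟩⟩
  obtain ⟨⟨R, hR⟩, hmax⟩ := Finite.exists_max (fun R : {R : Subgroup G // good R} => Nat.card R.1)
  have hmax' : ∀ R' : Subgroup G, good R' → Nat.card R' ≤ Nat.card R := fun R' h' => hmax ⟨R', h'⟩
  have hRN : R ≠ N := by
    intro heq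
    apply h
    intro x a ha
    exact hR.2.2 x (fun a ha => by rw [heq]; exact hconjN x a ha) a ha
  have hRltN : R < N := lt_of_le_of_ne hR.2.1 hRN
  -- normalizer condition in `N`
  have hnil : Group.IsNilpotent N := (hG.to_subgroup N).isNilpotent
  have hnc : NormalizerCondition N := Group.normalizerCondition_of_isNilpotent
  have hlt : R.subgroupOf N < ⊤ := by
    rw [lt_top_iff_ne_top]
    intro htop
    rw [subgroupOf_eq_top] at htop
    exact hRN (le_antisymm hR.2.1 htop)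
  obtain ⟨-, hnot⟩ := (lt_iff_le_not_ge.mp (hnc _ hlt))
  obtain ⟨y, hy1, hy2⟩ := Set.not_subset.mp hnot
  have hyR : (y : G) ∉ R := fun hc => hy2 (mem_subgroupOf.mpr hc)
  have hyconj : ∀ r ∈ R, (y : G) * r * (y : G)⁻¹ ∈ R ∧ (y : G)⁻¹ * r * (y : G) ∈ R := by
    intro r hr
    have hrN : r ∈ N := hR.2.1 hr
    have h1 := (mem_normalizer_iff.mp hy1) ⟨r, hrN⟩
    have h2 := (mem_normalizer_iff.mp (inv_mem hy1)) ⟨r, hrN⟩
    rw [mem_subgroupOf, mem_subgroupOf] at h1 h2
    constructor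
    · have := h1.mp hr
      simpa using this
    · have := h2.mp hr
      simpa using this
  have hynorm : (y : G) ∈ normalizer (R : Set G) := by
    rw [mem_normalizer_iff]
    intro g
    constructor
    · intro hg; exact (hyconj g hg).1
    · intro hg
      have := (hyconj _ hg).2
      have e : (y : G)⁻¹ * ((y : G) * g * (y : G)⁻¹) * (y : G) = g := by group
      rwa [e] at this
  set R' := N ⊓ normalizer (R : Set G) with hR'
  have hRR' : R ≤ R' := le_inf hR.2.1 le_normalizer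
  have hyR' : (y : G) ∈ R' := ⟨y.2, hynorm⟩
  have hcardlt : Nat.card R < Nat.card R' := by
    have hlt' : R < R' := lt_of_le_of_ne hRR' (fun heq => hyR (by rw [heq]; exact hyR'))
    by_contra hc
    push Not at hc
    exact (ne_of_lt hlt') (Subgroup.eq_of_le_of_card_ge hRR' hc)
  have hnotgood : ¬ good R' := fun hg => absurd (hmax' R' hg) (by omega)
  have hthird : ¬ ∀ x : G, (∀ a ∈ A, x * a * x⁻¹ ∈ R') →
      ∀ a ∈ A, x * a * x⁻¹ ∈ normalizer (A : Set G) := by
    intro h3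
    exact hnotgood ⟨le_trans hR.1 hRR', inf_le_left, h3⟩
  push Not at hthird
  obtain ⟨x, hx1, a₀, ha₀, hx2⟩ := hthird
  refine ⟨x, ⟨a₀, ha₀, hx2⟩, ?_⟩
  intro a ha a' ha'
  have hb : x * a * x⁻¹ ∈ normalizer (R : Set G) := (hx1 a ha).2
  have hAR : A ≤ R := le_trans (le_inf hAN le_normalizer) hR.1
  apply hR.2.2 (x * a * x⁻¹) _ a' ha'
  intro a'' ha''
  exact (mem_normalizer_iff.mp hb _).mp (hAR ha'')

end Cfsg.Agent.Helper24.QOff
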