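import Mathlib
import Cfsg.Agent.Lib.Helper24.QOffLin

/-!
# Quadratic offenders: the limit subspace (pure linear algebra)
-/

set_option autoImplicit false
set_option linter.unusedSectionVars false

namespace Cfsg.Agent.Helper24.QOff

open Submodule LinearMap

section limS

variable {F : Type*} [Field F] {V : Type*} [AddCommGroup V] [Module F V]

/-- the limit of the subspaces `(1 - tβ) X` as `t → ∞`. -/
def limS (β : Module.End F V) (X : Submodule F V) : Submodule F V :=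
  (X ⊓ X.comap β) ⊔ X.map β

theorem limS_mono (β : Module.End F V) {X Y : Submodule F V} (h : X ≤ Y) :
    limS β X ≤ limS β Y := by
  unfold limS
  exact sup_le_sup (inf_le_inf h (Submodule.comap_mono h)) (Submodule.map_mono h)

theorem map_le_limS (β : Module.End F V) (X : Submodule F V) : X.map β ≤ limS β X := le_sup_right

theorem inf_comap_le_limS (β : Module.End F V) (X : Submodule F V) :
    X ⊓ X.comap β ≤ limS β X := le_sup_left

theorem limS_inf_le (β : Module.End F V) (K W : Submodule F V) (hW : ∀ v ∈ W, β v ∈ W) :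
    limS β (K ⊓ W) ≤ limS β K ⊓ W := by
  apply le_inf (limS_mono β inf_le_left)
  unfold limS
  apply sup_le
  · exact le_trans inf_le_left inf_le_right
  · rintro _ ⟨v, hv, rfl⟩
    exact hW v hv.2

theorem beta_sq_apply {β : Module.End F V} (hβ : β * β = 0) (v : V) : β (β v) = 0 := by
  rw [← Module.End.mul_apply, hβ, LinearMap.zero_apply]

theorem card_limS [Finite V] {β : Module.End F V} (hβ : β * β = 0) (X : Submodule F V) :
    Nat.card (limS β X) = Nat.card X := by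
  set X' := X ⊓ X.comap β with hX'
  have h1 : X' ⊓ X.map β = X'.map β := by
    apply le_antisymm
    · rintro w ⟨hw1, v, hv, rfl⟩
      exact ⟨v, ⟨hv, hw1.1⟩, rfl⟩
    · rintro _ ⟨v, hv, rfl⟩
      refine ⟨⟨hv.2, ?_⟩, v, hv.1, rfl⟩
      change β (β v) ∈ X
      rw [beta_sq_apply hβ]
      exact X.zero_mem
  have h2 : X' ⊓ LinearMap.ker β = X ⊓ LinearMap.ker β := by
    apply le_antisymm
    · exact inf_le_inf_right _ inf_le_left
    · rintro v ⟨hv1, hv2⟩
      refine ⟨⟨hv1, ?_⟩, hv2⟩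
      change β v ∈ X
      rw [LinearMap.mem_ker.mp hv2]
      exact X.zero_mem
  have e1 := card_sup_mul_card_inf X' (X.map β)
  have e2 := card_map_mul_card_inf_ker β X
  have e3 := card_map_mul_card_inf_ker β X'
  rw [h1] at e1
  rw [h2] at e3
  have hpos1 : 0 < Nat.card X' := Nat.card_pos
  have hpos2 : 0 < Nat.card ↥(X ⊓ LinearMap.ker β) := Nat.card_pos
  have hpos3 : 0 < Nat.card (X'.map β) := Nat.card_pos
  change Nat.card ↥(X' ⊔ X.map β) = Nat.card X
  -- card(lim) * card(X'.map β) = card X' * card(X.map β)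
  have e4 : Nat.card ↥(X' ⊔ X.map β) * (Nat.card (X'.map β) * Nat.card ↥(X ⊓ LinearMap.ker β)) =
      Nat.card X * (Nat.card (X'.map β) * Nat.card ↥(X ⊓ LinearMap.ker β)) := by
    calc Nat.card ↥(X' ⊔ X.map β) * (Nat.card (X'.map β) * Nat.card ↥(X ⊓ LinearMap.ker β))
        = (Nat.card ↥(X' ⊔ X.map β) * Nat.card (X'.map β)) * Nat.card ↥(X ⊓ LinearMap.ker β) := by
          ring
      _ = (Nat.card X' * Nat.card (X.map β)) * Nat.card ↥(X ⊓ LinearMap.ker β) := by rw [e1]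
      _ = Nat.card X' * (Nat.card (X.map β) * Nat.card ↥(X ⊓ LinearMap.ker β)) := by ring
      _ = Nat.card X' * Nat.card X := by rw [e2]
      _ = (Nat.card (X'.map β) * Nat.card ↥(X ⊓ LinearMap.ker β)) * Nat.card X := by rw [e3]
      _ = Nat.card X * (Nat.card (X'.map β) * Nat.card ↥(X ⊓ LinearMap.ker β)) := by ring
  exact Nat.eq_of_mul_eq_mul_right (Nat.mul_pos hpos3 hpos2) e4

/-- "`Hom(V/K, K)`": endomorphisms mapping `V` into `K` and killing `K`. -/
def homS (K : Submodule F V) : Submodule F (Module.End F V) where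
  carrier := {x | (∀ v, x v ∈ K) ∧ ∀ v ∈ K, x v = 0}
  add_mem' := by
    rintro x y ⟨hx1, hx2⟩ ⟨hy1, hy2⟩
    refine ⟨fun v => ?_, fun v hv => ?_⟩
    · rw [LinearMap.add_apply]; exact K.add_mem (hx1 v) (hy1 v)
    · rw [LinearMap.add_apply, hx2 v hv, hy2 v hv, add_zero]
  zero_mem' := ⟨fun v => by rw [LinearMap.zero_apply]; exact K.zero_mem, fun v _ => rfl⟩
  smul_mem' := by
    rintro c x ⟨hx1, hx2⟩
    refine ⟨fun v => ?_, fun v hv => ?_⟩
    · rw [LinearMap.smul_apply]; exact K.smul_mem c (hx1 v)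
    · rw [LinearMap.smul_apply, hx2 v hv, smul_zero]

theorem mem_homS {K : Submodule F V} {x : Module.End F V} :
    x ∈ homS K ↔ (∀ v, x v ∈ K) ∧ ∀ v ∈ K, x v = 0 := Iff.rfl

/-- the key computation: the three-term limit element maps `V` into the limit subspace and
kills it. -/
theorem limit_apply {K : Submodule F V} {β x y z : Module.End F V} (hβ : β * β = 0)
    (hx : x ∈ homS K) (hy : y ∈ homS K) (hz : z ∈ homS K)
    (hξ : (x * β - β * x) - β * y * β ∈ homS K) :
    (x + (y * β - β * y) - β * z * β) ∈ homS (limS β K) := by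
  have hxi1 : ∀ w, x (β w) - β (x w) - β (y (β w)) ∈ K := by
    intro w
    have := hξ.1 w
    simpa [LinearMap.sub_apply, Module.End.mul_apply] using this
  have hxi2 : ∀ k ∈ K, x (β k) - β (y (β k)) = 0 := by
    intro k hk
    have := hξ.2 k hk
    simp only [LinearMap.sub_apply, Module.End.mul_apply, hx.2 k hk, map_zero, sub_zero] at this
    exact this
  constructor
  · intro w
    have e : (x + (y * β - β * y) - β * z * β) w =
        (x w + y (β w)) - β (y w) - β (z (β w)) := by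
      simp only [LinearMap.sub_apply, LinearMap.add_apply, Module.End.mul_apply]
      abel
    rw [e]
    have h1 : x w + y (β w) ∈ K ⊓ K.comap β := by
      refine ⟨K.add_mem (hx.1 w) (hy.1 _), ?_⟩
      change β (x w + y (β w)) ∈ K
      rw [map_add]
      have h2 := hxi1 w
      have h3 : β (x w) + β (y (β w)) = x (β w) - (x (β w) - β (x w) - β (y (β w))) := by abel
      rw [h3]
      exact K.sub_mem (hx.1 _) h2
    have h2 : β (y w) ∈ K.map β := ⟨_, hy.1 w, rfl⟩
    have h3 : β (z (β w)) ∈ K.map β := ⟨_, hz.1 _, rfl⟩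
    unfold limS
    exact Submodule.sub_mem _ (Submodule.sub_mem _ (Submodule.mem_sup_left h1)
      (Submodule.mem_sup_right h2)) (Submodule.mem_sup_right h3)
  · intro v hv
    unfold limS at hv
    obtain ⟨k', hk', w, hw, rfl⟩ := Submodule.mem_sup.mp hv
    obtain ⟨k, hk, rfl⟩ := hw
    rw [map_add]
    have e1 : (x + (y * β - β * y) - β * z * β) k' = 0 := by
      simp only [LinearMap.sub_apply, LinearMap.add_apply, Module.End.mul_apply]
      have hb : β k' ∈ K := hk'.2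
      rw [hx.2 k' hk'.1, hy.2 k' hk'.1, hy.2 _ hb, hz.2 _ hb]
      simp
    have e2 : (x + (y * β - β * y) - β * z * β) (β k) = 0 := by
      simp only [LinearMap.sub_apply, LinearMap.add_apply, Module.End.mul_apply]
      rw [beta_sq_apply hβ]
      simp only [map_zero, sub_zero, zero_sub]
      have := hxi2 k hk
      rw [← this]; abel
    rw [e1, e2, add_zero]

end limS

section count

variable {F : Type*} [Field F] {W : Type*} [AddCommGroup W] [Module F W] [Finite W]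

/-- the counting lemma: the three-term limit space is at least as large as the original one. -/
theorem card_le_limit (N P : W →ₗ[F] W) (𝔞 R : Submodule F W)
    (hR : ∀ x ∈ 𝔞, ∀ y ∈ 𝔞, ∀ z ∈ 𝔞, N x + P y ∈ 𝔞 → x + N y + P z ∈ R) :
    Nat.card 𝔞 ≤ Nat.card R := by
  classical
  let 𝔵 : Submodule F (W × W) :=
    { carrier := {d | d.1 ∈ 𝔞 ∧ d.2 ∈ 𝔞 ∧ N d.1 + P d.2 ∈ 𝔞}
      add_mem' := by
        rintro d d' ⟨h1, h2, h3⟩ ⟨h1', h2', h3'⟩
        refine ⟨𝔞.add_mem h1 h1', 𝔞.add_mem h2 h2', ?_⟩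
        have : N (d + d').1 + P (d + d').2 = (N d.1 + P d.2) + (N d'.1 + P d'.2) := by
          simp only [Prod.fst_add, Prod.snd_add, map_add]; abel
        rw [this]; exact 𝔞.add_mem h3 h3'
      zero_mem' := by
        refine ⟨𝔞.zero_mem, 𝔞.zero_mem, ?_⟩
        simp
      smul_mem' := by
        rintro c d ⟨h1, h2, h3⟩
        refine ⟨𝔞.smul_mem c h1, 𝔞.smul_mem c h2, ?_⟩
        have : N (c • d).1 + P (c • d).2 = c • (N d.1 + P d.2) := by
          simp only [Prod.smul_fst, Prod.smul_snd, map_smul, smul_add]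
        rw [this]; exact 𝔞.smul_mem c h3 }
  have h𝔵 : ∀ d : W × W, d ∈ 𝔵 ↔ d.1 ∈ 𝔞 ∧ d.2 ∈ 𝔞 ∧ N d.1 + P d.2 ∈ 𝔞 := fun d => Iff.rfl
  let θ : (𝔞 × 𝔵) →ₗ[F] W :=
    { toFun := fun d => P (d.1 : W) + (d.2 : W × W).1 + N (d.2 : W × W).2
      map_add' := by
        intro d d'
        simp only [Prod.fst_add, Prod.snd_add, Submodule.coe_add, map_add]
        abel
      map_smul' := by
        intro c d
        simp only [Prod.smul_fst, Prod.smul_snd, Submodule.coe_smul, map_smul, smul_add,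
          RingHom.id_apply] }
  have hθ : ∀ d : 𝔞 × 𝔵, θ d = P (d.1 : W) + (d.2 : W × W).1 + N (d.2 : W × W).2 := fun d => rfl
  have hrange : LinearMap.range θ ≤ R := by
    rintro _ ⟨d, rfl⟩
    rw [hθ]
    have := hR _ ((h𝔵 _).mp d.2.2).1 _ ((h𝔵 _).mp d.2.2).2.1 _ d.1.2 ((h𝔵 _).mp d.2.2).2.2
    have e : P (d.1 : W) + (d.2 : W × W).1 + N (d.2 : W × W).2 =
        (d.2 : W × W).1 + N (d.2 : W × W).2 + P (d.1 : W) := by abel
    rw [e]; exact this
  -- the kernel injects into `𝔵`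
  have hkermem : ∀ d : LinearMap.ker θ,
      (((d : 𝔞 × 𝔵).2 : W × W).2, ((d : 𝔞 × 𝔵).1 : W)) ∈ 𝔵 := by
    intro d
    have hd : θ (d : 𝔞 × 𝔵) = 0 := LinearMap.mem_ker.mp d.2
    rw [hθ] at hd
    rw [h𝔵]
    refine ⟨((h𝔵 _).mp (d : 𝔞 × 𝔵).2.2).2.1, (d : 𝔞 × 𝔵).1.2, ?_⟩
    have e : N ((d : 𝔞 × 𝔵).2 : W × W).2 + P ((d : 𝔞 × 𝔵).1 : W) =
        -(((d : 𝔞 × 𝔵).2 : W × W).1) := by
      rw [eq_neg_iff_add_eq_zero, ← hd]; abel
    change N ((d : 𝔞 × 𝔵).2 : W × W).2 + P ((d : 𝔞 × 𝔵).1 : W) ∈ 𝔞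
    rw [e]
    exact 𝔞.neg_mem ((h𝔵 _).mp (d : 𝔞 × 𝔵).2.2).1
  have hkercard : Nat.card (LinearMap.ker θ) ≤ Nat.card 𝔵 := by
    apply Nat.card_le_card_of_injective (fun d : LinearMap.ker θ => (⟨_, hkermem d⟩ : 𝔵))
    intro d d' hdd
    have h1 := congrArg Subtype.val hdd
    simp only [Prod.mk.injEq] at h1
    have hd : θ (d : 𝔞 × 𝔵) = 0 := LinearMap.mem_ker.mp d.2
    have hd' : θ (d' : 𝔞 × 𝔵) = 0 := LinearMap.mem_ker.mp d'.2
    rw [hθ] at hd hd'
    have h2 : ((d : 𝔞 × 𝔵).2 : W × W).1 = ((d' : 𝔞 × 𝔵).2 : W × W).1 := by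
      have e1 : ((d : 𝔞 × 𝔵).2 : W × W).1 =
          -(P ((d : 𝔞 × 𝔵).1 : W) + N ((d : 𝔞 × 𝔵).2 : W × W).2) := by
        rw [eq_neg_iff_add_eq_zero, ← hd]; abel
      have e2 : ((d' : 𝔞 × 𝔵).2 : W × W).1 =
          -(P ((d' : 𝔞 × 𝔵).1 : W) + N ((d' : 𝔞 × 𝔵).2 : W × W).2) := by
        rw [eq_neg_iff_add_eq_zero, ← hd']; abel
      rw [e1, e2, h1.1, h1.2]
    apply Subtype.ext
    apply Prod.ext
    · exact Subtype.ext h1.2
    · apply Subtype.ext
      exact Prod.ext h2 h1.1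
  have hcard1 : Nat.card (𝔞 × 𝔵) = Nat.card (LinearMap.ker θ) * Nat.card (LinearMap.range θ) := by
    rw [Submodule.card_eq_card_quotient_mul_card (LinearMap.ker θ)]
    congr 1
    exact Nat.card_congr (LinearMap.quotKerEquivRange θ).toEquiv
  have hcard2 : Nat.card (𝔞 × 𝔵) = Nat.card 𝔞 * Nat.card 𝔵 := Nat.card_prod _ _
  have hcard3 : Nat.card (LinearMap.range θ) ≤ Nat.card R := card_le_of_le hrange
  have hpos : 0 < Nat.card 𝔵 := Nat.card_pos
  have hfin : Nat.card 𝔞 * Nat.card 𝔵 ≤ Nat.card R * Nat.card 𝔵 := by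
    rw [← hcard2, hcard1, mul_comm (Nat.card R)]
    exact Nat.mul_le_mul hkercard hcard3
  exact Nat.le_of_mul_le_mul_right hfin hpos

end count

end Cfsg.Agent.Helper24.QOff
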