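import Mathlib
import Cfsg.Agent.Lib.Helper24.QOffLimitLin

/-!
# Quadratic offenders: the cubic algebra attached to `K` and a quadratic `β`
-/

set_option autoImplicit false
set_option linter.unusedSectionVars false

namespace Cfsg.Agent.Helper24.QOff

open Submodule LinearMap

section cubic

variable {F : Type*} [Field F] {V : Type*} [AddCommGroup V] [Module F V]

/-- `U = K + βK`. -/
def uS (K : Submodule F V) (β : Module.End F V) : Submodule F V := K ⊔ K.map β

/-- `K' = K ∩ β⁻¹K`. -/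
def kS (K : Submodule F V) (β : Module.End F V) : Submodule F V := K ⊓ K.comap β

theorem kS_le (K : Submodule F V) (β : Module.End F V) : kS K β ≤ K := inf_le_left

theorem le_uS (K : Submodule F V) (β : Module.End F V) : K ≤ uS K β := le_sup_left

theorem kS_le_uS (K : Submodule F V) (β : Module.End F V) : kS K β ≤ uS K β :=
  le_trans (kS_le K β) (le_uS K β)

theorem limS_le_uS (K : Submodule F V) (β : Module.End F V) : limS β K ≤ uS K β := by
  unfold limS uS
  exact sup_le (le_trans inf_le_left le_sup_left) le_sup_right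

theorem kS_le_limS (K : Submodule F V) (β : Module.End F V) : kS K β ≤ limS β K := le_sup_left

theorem beta_mem_of_mem_kS {K : Submodule F V} {β : Module.End F V} {v : V} (hv : v ∈ kS K β) :
    β v ∈ K := hv.2

theorem beta_uS {K : Submodule F V} {β : Module.End F V} (hβ : β * β = 0) {u : V}
    (hu : u ∈ uS K β) : β u ∈ K.map β := by
  obtain ⟨k, hk, w, hw, rfl⟩ := Submodule.mem_sup.mp hu
  obtain ⟨k', hk', rfl⟩ := hw
  rw [map_add, beta_sq_apply hβ, add_zero]
  exact ⟨k, hk, rfl⟩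

theorem beta_uS' {K : Submodule F V} {β : Module.End F V} (hβ : β * β = 0) {u : V}
    (hu : u ∈ uS K β) : β u ∈ uS K β := le_sup_right (α := Submodule F V) (beta_uS hβ hu)

theorem beta_kS {K : Submodule F V} {β : Module.End F V} (hβ : β * β = 0) {v : V}
    (hv : v ∈ kS K β) : β v ∈ kS K β := by
  refine ⟨hv.2, ?_⟩
  change β (β v) ∈ K
  rw [beta_sq_apply hβ]; exact K.zero_mem

/-- the cubic algebra `𝔫`. -/
def nS (K : Submodule F V) (β : Module.End F V) : Submodule F (Module.End F V) where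
  carrier := {η | (∀ v, η v ∈ uS K β) ∧ (∀ u ∈ uS K β, η u ∈ kS K β) ∧ ∀ v ∈ kS K β, η v = 0}
  add_mem' := by
    rintro x y ⟨hx1, hx2, hx3⟩ ⟨hy1, hy2, hy3⟩
    refine ⟨fun v => ?_, fun u hu => ?_, fun v hv => ?_⟩
    · rw [LinearMap.add_apply]; exact Submodule.add_mem _ (hx1 v) (hy1 v)
    · rw [LinearMap.add_apply]; exact Submodule.add_mem _ (hx2 u hu) (hy2 u hu)
    · rw [LinearMap.add_apply, hx3 v hv, hy3 v hv, add_zero]
  zero_mem' := by
    refine ⟨fun v => ?_, fun u _ => ?_, fun v _ => rfl⟩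
    · rw [LinearMap.zero_apply]; exact Submodule.zero_mem _
    · rw [LinearMap.zero_apply]; exact Submodule.zero_mem _
  smul_mem' := by
    rintro c x ⟨hx1, hx2, hx3⟩
    refine ⟨fun v => ?_, fun u hu => ?_, fun v hv => ?_⟩
    · rw [LinearMap.smul_apply]; exact Submodule.smul_mem _ c (hx1 v)
    · rw [LinearMap.smul_apply]; exact Submodule.smul_mem _ c (hx2 u hu)
    · rw [LinearMap.smul_apply, hx3 v hv, smul_zero]

/-- the square `𝔷 = 𝔫²` (more precisely `Hom(V/U, K')`). -/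
def zS (K : Submodule F V) (β : Module.End F V) : Submodule F (Module.End F V) where
  carrier := {ζ | (∀ v, ζ v ∈ kS K β) ∧ ∀ u ∈ uS K β, ζ u = 0}
  add_mem' := by
    rintro x y ⟨hx1, hx2⟩ ⟨hy1, hy2⟩
    refine ⟨fun v => ?_, fun u hu => ?_⟩
    · rw [LinearMap.add_apply]; exact Submodule.add_mem _ (hx1 v) (hy1 v)
    · rw [LinearMap.add_apply, hx2 u hu, hy2 u hu, add_zero]
  zero_mem' := by
    refine ⟨fun v => ?_, fun u _ => rfl⟩
    rw [LinearMap.zero_apply]; exact Submodule.zero_mem _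
  smul_mem' := by
    rintro c x ⟨hx1, hx2⟩
    refine ⟨fun v => ?_, fun u hu => ?_⟩
    · rw [LinearMap.smul_apply]; exact Submodule.smul_mem _ c (hx1 v)
    · rw [LinearMap.smul_apply, hx2 u hu, smul_zero]

theorem mem_nS {K : Submodule F V} {β η : Module.End F V} :
    η ∈ nS K β ↔ (∀ v, η v ∈ uS K β) ∧ (∀ u ∈ uS K β, η u ∈ kS K β) ∧ ∀ v ∈ kS K β, η v = 0 :=
  Iff.rfl

theorem mem_zS {K : Submodule F V} {β ζ : Module.End F V} :
    ζ ∈ zS K β ↔ (∀ v, ζ v ∈ kS K β) ∧ ∀ u ∈ uS K β, ζ u = 0 := Iff.rfl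

theorem zS_le_nS (K : Submodule F V) (β : Module.End F V) : zS K β ≤ nS K β := by
  rintro ζ ⟨h1, h2⟩
  refine ⟨fun v => kS_le_uS K β (h1 v), fun u hu => ?_, fun v hv => h2 v (kS_le_uS K β hv)⟩
  rw [h2 u hu]; exact Submodule.zero_mem _

theorem zS_le_homS (K : Submodule F V) (β : Module.End F V) : zS K β ≤ homS K := by
  rintro ζ ⟨h1, h2⟩
  exact ⟨fun v => kS_le K β (h1 v), fun v hv => h2 v (le_uS K β hv)⟩

theorem mul_mem_zS {K : Submodule F V} {β η η' : Module.End F V} (h : η ∈ nS K β)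
    (h' : η' ∈ nS K β) : η * η' ∈ zS K β := by
  refine ⟨fun v => ?_, fun u hu => ?_⟩
  · rw [Module.End.mul_apply]; exact h.2.1 _ (h'.1 v)
  · rw [Module.End.mul_apply]; exact h.2.2 _ (h'.2.1 u hu)

theorem mul_beta_mem_nS {K : Submodule F V} {β η : Module.End F V} (hβ : β * β = 0)
    (h : η ∈ nS K β) : η * β ∈ nS K β := by
  refine ⟨fun v => ?_, fun u hu => ?_, fun v hv => ?_⟩
  · rw [Module.End.mul_apply]; exact h.1 _
  · rw [Module.End.mul_apply]; exact h.2.1 _ (beta_uS' hβ hu)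
  · rw [Module.End.mul_apply]; exact h.2.2 _ (beta_kS hβ hv)

theorem beta_mul_mem_nS {K : Submodule F V} {β η : Module.End F V} (hβ : β * β = 0)
    (h : η ∈ nS K β) : β * η ∈ nS K β := by
  refine ⟨fun v => ?_, fun u hu => ?_, fun v hv => ?_⟩
  · rw [Module.End.mul_apply]; exact beta_uS' hβ (h.1 v)
  · rw [Module.End.mul_apply]; exact beta_kS hβ (h.2.1 u hu)
  · rw [Module.End.mul_apply, h.2.2 v hv, map_zero]

theorem mul_beta_mem_zS {K : Submodule F V} {β ζ : Module.End F V} (hβ : β * β = 0)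
    (h : ζ ∈ zS K β) : ζ * β ∈ zS K β := by
  refine ⟨fun v => ?_, fun u hu => ?_⟩
  · rw [Module.End.mul_apply]; exact h.1 _
  · rw [Module.End.mul_apply]; exact h.2 _ (beta_uS' hβ hu)

theorem beta_mul_mem_zS {K : Submodule F V} {β ζ : Module.End F V} (hβ : β * β = 0)
    (h : ζ ∈ zS K β) : β * ζ ∈ zS K β := by
  refine ⟨fun v => ?_, fun u hu => ?_⟩
  · rw [Module.End.mul_apply]; exact beta_kS hβ (h.1 v)
  · rw [Module.End.mul_apply, h.2 u hu, map_zero]

/-- the operator `x ↦ xβ - βx`. -/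
def nMap (β : Module.End F V) : Module.End F V →ₗ[F] Module.End F V :=
  LinearMap.mulRight F β - LinearMap.mulLeft F β

/-- the operator `x ↦ -βxβ`. -/
def pMap (β : Module.End F V) : Module.End F V →ₗ[F] Module.End F V :=
  -(LinearMap.mulLeft F β ∘ₗ LinearMap.mulRight F β)

theorem nMap_apply (β x : Module.End F V) : nMap β x = x * β - β * x := by
  simp [nMap]

theorem pMap_apply (β x : Module.End F V) : pMap β x = -(β * x * β) := by
  simp [pMap, mul_assoc]

theorem nMap_mem_nS {K : Submodule F V} {β η : Module.End F V} (hβ : β * β = 0)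
    (h : η ∈ nS K β) : nMap β η ∈ nS K β := by
  rw [nMap_apply]
  exact Submodule.sub_mem _ (mul_beta_mem_nS hβ h) (beta_mul_mem_nS hβ h)

theorem pMap_mem_nS {K : Submodule F V} {β η : Module.End F V} (hβ : β * β = 0)
    (h : η ∈ nS K β) : pMap β η ∈ nS K β := by
  rw [pMap_apply]
  exact Submodule.neg_mem _ (mul_beta_mem_nS hβ (beta_mul_mem_nS hβ h))

theorem nMap_mem_zS {K : Submodule F V} {β ζ : Module.End F V} (hβ : β * β = 0)
    (h : ζ ∈ zS K β) : nMap β ζ ∈ zS K β := by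
  rw [nMap_apply]
  exact Submodule.sub_mem _ (mul_beta_mem_zS hβ h) (beta_mul_mem_zS hβ h)

theorem pMap_mem_zS {K : Submodule F V} {β ζ : Module.End F V} (hβ : β * β = 0)
    (h : ζ ∈ zS K β) : pMap β ζ ∈ zS K β := by
  rw [pMap_apply]
  exact Submodule.neg_mem _ (mul_beta_mem_zS hβ (beta_mul_mem_zS hβ h))

end cubic

end Cfsg.Agent.Helper24.QOff
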