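import Mathlib
import Cfsg.Agent.Lib.Helper24.QOffBest
import Cfsg.Agent.Lib.Helper24.QOffCubic

/-!
# Quadratic offenders: the limit of a best quadratic offender under a quadratic element
-/

set_option autoImplicit false
set_option linter.unusedSectionVars false

namespace Cfsg.Agent.Helper24.QOff

open Submodule LinearMap

section limit

variable {p : ℕ} [Fact p.Prime] {V : Type*} [AddCommGroup V] [Module (ZMod p) V] [Finite V]
variable {G : Type*} [Group G] [Finite G] (ρ : G →* Module.End (ZMod p) V)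

instance finite_end : Finite (Module.End (ZMod p) V) :=
  Finite.of_injective (fun f : Module.End (ZMod p) V => (f : V → V)) DFunLike.coe_injective

/-- conjugating by a quadratic element, first form. -/
theorem conj_expand (b a : G) (hβ : (ρ b - 1) * (ρ b - 1) = 0) :
    ρ (b⁻¹ * a * b) - 1 = (ρ a - 1) + ((ρ a - 1) * (ρ b - 1) - (ρ b - 1) * (ρ a - 1)) -
      (ρ b - 1) * (ρ a - 1) * (ρ b - 1) := by
  have hbi : ρ b⁻¹ = 1 - (ρ b - 1) := by
    have := rho_inv_eq ρ b hβ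
    rw [sub_eq_iff_eq_add] at this
    rw [this]; noncomm_ring
  set β := ρ b - 1 with hβdef
  set α := ρ a - 1 with hαdef
  have hb : ρ b = 1 + β := by rw [hβdef]; noncomm_ring
  have ha : ρ a = 1 + α := by rw [hαdef]; noncomm_ring
  rw [map_mul, map_mul, hbi, ha, hb]
  have e : (1 - β) * (1 + α) * (1 + β) - 1 = α + (α * β - β * α) - β * α * β - β * β := by
    noncomm_ring
  rw [e, hβ, sub_zero]

/-- conjugating by a quadratic element, second form. -/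
theorem conj_expand' (b a : G) (hβ : (ρ b - 1) * (ρ b - 1) = 0) :
    ρ (b * a * b⁻¹) - 1 = (ρ a - 1) - ((ρ a - 1) * (ρ b - 1) - (ρ b - 1) * (ρ a - 1)) -
      (ρ b - 1) * (ρ a - 1) * (ρ b - 1) := by
  have hbi : ρ b⁻¹ = 1 - (ρ b - 1) := by
    have := rho_inv_eq ρ b hβ
    rw [sub_eq_iff_eq_add] at this
    rw [this]; noncomm_ring
  set β := ρ b - 1 with hβdef
  set α := ρ a - 1 with hαdef
  have hb : ρ b = 1 + β := by rw [hβdef]; noncomm_ring
  have ha : ρ a = 1 + α := by rw [hαdef]; noncomm_ring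
  rw [map_mul, map_mul, hbi, ha, hb]
  have e : (1 + β) * (1 + α) * (1 - β) - 1 = α - (α * β - β * α) - β * α * β - β * β := by
    noncomm_ring
  rw [e, hβ, sub_zero]

/-- the additive group of `ρ a - 1`, `a ∈ A`, for a quadratic subgroup `A`. -/
def logS (A : Subgroup G) (hA : Quad ρ A) : Submodule (ZMod p) (Module.End (ZMod p) V) :=
  AddSubgroup.toZModSubmodule p
    { carrier := {α | ∃ a ∈ A, ρ a - 1 = α}
      zero_mem' := ⟨1, A.one_mem, by rw [map_one, sub_self]⟩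
      add_mem' := by
        rintro _ _ ⟨a, ha, rfl⟩ ⟨a', ha', rfl⟩
        refine ⟨a * a', A.mul_mem ha ha', ?_⟩
        rw [sub_one_mul_eq, hA a ha a' ha', add_zero]
      neg_mem' := by
        rintro _ ⟨a, ha, rfl⟩
        exact ⟨a⁻¹, A.inv_mem ha, rho_inv_eq ρ a (hA a ha a ha)⟩ }

theorem mem_logS {A : Subgroup G} {hA : Quad ρ A} {α : Module.End (ZMod p) V} :
    α ∈ logS ρ A hA ↔ ∃ a ∈ A, ρ a - 1 = α := Iff.rfl

theorem card_logS (hρ : Function.Injective ρ) (A : Subgroup G) (hA : Quad ρ A) :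
    Nat.card (logS ρ A hA) = Nat.card A := by
  symm
  apply Nat.card_congr
  refine Equiv.ofBijective (fun a : A => (⟨ρ a - 1, a, a.2, rfl⟩ : logS ρ A hA)) ⟨?_, ?_⟩
  · intro a a' h
    have h1 : ρ a - 1 = ρ a' - 1 := congrArg Subtype.val h
    exact Subtype.ext (hρ (sub_left_injective h1))
  · rintro ⟨_, a, ha, rfl⟩
    exact ⟨⟨a, ha⟩, rfl⟩

/-- **The limit lemma.**  If `A` is a best quadratic offender, `b` acts quadratically and
`b⁻¹ A b` normalizes `A`, then the limit subspace of `C_V(A)` under `b` carries at least `|A|`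
quadratically acting elements. -/
theorem card_le_card_TT_limS (hp2 : p ≠ 2) (hρ : Function.Injective ρ) {A : Subgroup G}
    (hA : IsBQ ρ A) (b : G) (hβ : (ρ b - 1) * (ρ b - 1) = 0)
    (hN : ∀ a ∈ A, ∀ v ∈ fixS ρ A, ρ (b⁻¹ * a * b) v ∈ fixS ρ A) :
    Nat.card A ≤ Nat.card (TT ρ (limS (ρ b - 1) (fixS ρ A)) (limS (ρ b - 1) (fixS ρ A)) le_rfl) := by
  classical
  set K := fixS ρ A with hK
  set β := ρ b - 1 with hβdef
  have hAq : Quad ρ A := hA.2.1
  -- (a) elements of `A` lie in `homS K`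
  have hαh : ∀ a ∈ A, ρ a - 1 ∈ homS K := fun a ha => (hA.mem_iff ρ a).mp ha
  -- (b) `β α β` maps `K` into `K`
  have hbab : ∀ a ∈ A, ∀ v ∈ K, β ((ρ a - 1) (β v)) ∈ K := by
    intro a ha v hv
    have h1 := hN a ha v hv
    have h2 : (ρ (b⁻¹ * a * b) - 1) v ∈ K := by
      rw [sub_one_apply]; exact K.sub_mem h1 hv
    rw [conj_expand ρ b a hβ] at h2
    simp only [LinearMap.sub_apply, LinearMap.add_apply, Module.End.mul_apply,
      (hαh a ha).2 v hv, map_zero, zero_add, sub_zero] at h2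
    have h3 : (ρ a - 1) (β v) ∈ K := (hαh a ha).1 _
    have h4 : β ((ρ a - 1) (β v)) = (ρ a - 1) (β v) - ((ρ a - 1) (β v) - β ((ρ a - 1) (β v))) := by
      abel
    rw [h4]; exact K.sub_mem h3 h2
  -- (c) elements of `A` lie in the cubic algebra
  have hαn : ∀ a ∈ A, ρ a - 1 ∈ nS K β := by
    intro a ha
    refine ⟨fun v => le_uS K β ((hαh a ha).1 v), fun u hu => ?_, fun v hv =>
      (hαh a ha).2 v (kS_le K β hv)⟩
    obtain ⟨k, hk, w, hw, rfl⟩ := Submodule.mem_sup.mp hu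
    obtain ⟨k', hk', rfl⟩ := hw
    rw [map_add, (hαh a ha).2 k hk, zero_add]
    exact ⟨(hαh a ha).1 _, hbab a ha k' hk'⟩
  -- (d) the additive group `𝔤`
  let M : AddSubmonoid (Module.End (ZMod p) V) :=
    { carrier := {η | ∃ g : G, ρ g - 1 ∈ nS K β ∧ (ρ g - 1) - η ∈ zS K β}
      zero_mem' := ⟨1, by rw [map_one, sub_self]; exact Submodule.zero_mem _,
        by rw [map_one, sub_self, sub_zero]; exact Submodule.zero_mem _⟩
      add_mem' := by
        rintro η η' ⟨g, hg1, hg2⟩ ⟨g', hg1', hg2'⟩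
        have hz := mul_mem_zS hg1 hg1'
        refine ⟨g * g', ?_, ?_⟩
        · rw [sub_one_mul_eq]
          exact Submodule.add_mem _ (Submodule.add_mem _ hg1 hg1') (zS_le_nS K β hz)
        · rw [sub_one_mul_eq]
          have e : (ρ g - 1) + (ρ g' - 1) + (ρ g - 1) * (ρ g' - 1) - (η + η') =
              ((ρ g - 1) - η) + ((ρ g' - 1) - η') + (ρ g - 1) * (ρ g' - 1) := by abel
          rw [e]
          exact Submodule.add_mem _ (Submodule.add_mem _ hg2 hg2') hz }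
  have hMmem : ∀ η, η ∈ M ↔ ∃ g : G, ρ g - 1 ∈ nS K β ∧ (ρ g - 1) - η ∈ zS K β := fun η => Iff.rfl
  have hMneg : ∀ η ∈ M, -η ∈ M := by
    intro η hη
    have h1 : (p - 1) • η ∈ M := M.nsmul_mem hη _
    have h2 : (p - 1) • η + η = 0 := by
      have hp1 : 1 ≤ p := (Fact.out : p.Prime).one_lt.le
      rw [← succ_nsmul, Nat.sub_add_cancel hp1]
      exact ZModModule.char_nsmul_eq_zero p η
    have h3 : -η = (p - 1) • η := by
      rw [neg_eq_iff_add_eq_zero, add_comm]; exact h2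
    rw [h3]; exact h1
  let 𝔤 : Submodule (ZMod p) (Module.End (ZMod p) V) :=
    AddSubgroup.toZModSubmodule p { M with neg_mem' := fun {η} hη => hMneg η hη }
  have h𝔤mem : ∀ η, η ∈ 𝔤 ↔ ∃ g : G, ρ g - 1 ∈ nS K β ∧ (ρ g - 1) - η ∈ zS K β := fun η => Iff.rfl
  have hg_of : ∀ g : G, ρ g - 1 ∈ nS K β → ρ g - 1 ∈ 𝔤 := by
    intro g hg
    rw [h𝔤mem]
    exact ⟨g, hg, by rw [sub_self]; exact Submodule.zero_mem _⟩
  have hz𝔤 : zS K β ≤ 𝔤 := by
    intro ζ hζ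
    rw [h𝔤mem]
    refine ⟨1, by rw [map_one, sub_self]; exact Submodule.zero_mem _, ?_⟩
    rw [map_one, sub_self, zero_sub]
    exact Submodule.neg_mem _ hζ
  -- (e) the conjugates
  have h2ne : (2 : ZMod p) ≠ 0 := by
    intro h
    have h2 : ((2 : ℕ) : ZMod p) = 0 := by exact_mod_cast h
    rw [ZMod.natCast_eq_zero_iff] at h2
    have := (Nat.prime_dvd_prime_iff_eq (Fact.out : p.Prime) Nat.prime_two).mp h2
    exact hp2 this
  have hα𝔤 : ∀ a ∈ A, ρ a - 1 ∈ 𝔤 := fun a ha => hg_of a (hαn a ha)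
  have hNα : ∀ a ∈ A, nMap β (ρ a - 1) ∈ 𝔤 := by
    intro a ha
    have hn := hαn a ha
    have h1 : ρ (b⁻¹ * a * b) - 1 ∈ 𝔤 := by
      apply hg_of
      rw [conj_expand ρ b a hβ]
      have := nMap_mem_nS hβ hn
      rw [nMap_apply] at this
      have h3 := pMap_mem_nS hβ hn
      rw [pMap_apply] at h3
      have e : (ρ a - 1) + ((ρ a - 1) * β - β * (ρ a - 1)) - β * (ρ a - 1) * β =
          (ρ a - 1) + ((ρ a - 1) * β - β * (ρ a - 1)) + -(β * (ρ a - 1) * β) := by abel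
      rw [e]
      exact Submodule.add_mem _ (Submodule.add_mem _ hn this) h3
    have h2 : ρ (b * a * b⁻¹) - 1 ∈ 𝔤 := by
      apply hg_of
      rw [conj_expand' ρ b a hβ]
      have := nMap_mem_nS hβ hn
      rw [nMap_apply] at this
      have h3 := pMap_mem_nS hβ hn
      rw [pMap_apply] at h3
      have e : (ρ a - 1) - ((ρ a - 1) * β - β * (ρ a - 1)) - β * (ρ a - 1) * β =
          (ρ a - 1) - ((ρ a - 1) * β - β * (ρ a - 1)) + -(β * (ρ a - 1) * β) := by abel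
      rw [e]
      exact Submodule.add_mem _ (Submodule.sub_mem _ hn this) h3
    have h3 : (2 : ZMod p) • nMap β (ρ a - 1) ∈ 𝔤 := by
      have e : (2 : ZMod p) • nMap β (ρ a - 1) =
          (ρ (b⁻¹ * a * b) - 1) - (ρ (b * a * b⁻¹) - 1) := by
        rw [conj_expand ρ b a hβ, conj_expand' ρ b a hβ, nMap_apply, two_smul]
        abel
      rw [e]; exact Submodule.sub_mem _ h1 h2
    have := 𝔤.smul_mem (2 : ZMod p)⁻¹ h3
    rwa [smul_smul, inv_mul_cancel₀ h2ne, one_smul] at this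
  have hPα : ∀ a ∈ A, pMap β (ρ a - 1) ∈ 𝔤 := by
    intro a ha
    have hn := hαn a ha
    have h1 : ρ (b⁻¹ * a * b) - 1 ∈ 𝔤 := by
      apply hg_of
      rw [conj_expand ρ b a hβ]
      have := nMap_mem_nS hβ hn
      rw [nMap_apply] at this
      have h3 := pMap_mem_nS hβ hn
      rw [pMap_apply] at h3
      have e : (ρ a - 1) + ((ρ a - 1) * β - β * (ρ a - 1)) - β * (ρ a - 1) * β =
          (ρ a - 1) + ((ρ a - 1) * β - β * (ρ a - 1)) + -(β * (ρ a - 1) * β) := by abel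
      rw [e]
      exact Submodule.add_mem _ (Submodule.add_mem _ hn this) h3
    have h2 : ρ (b * a * b⁻¹) - 1 ∈ 𝔤 := by
      apply hg_of
      rw [conj_expand' ρ b a hβ]
      have := nMap_mem_nS hβ hn
      rw [nMap_apply] at this
      have h3 := pMap_mem_nS hβ hn
      rw [pMap_apply] at h3
      have e : (ρ a - 1) - ((ρ a - 1) * β - β * (ρ a - 1)) - β * (ρ a - 1) * β =
          (ρ a - 1) - ((ρ a - 1) * β - β * (ρ a - 1)) + -(β * (ρ a - 1) * β) := by abel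
      rw [e]
      exact Submodule.add_mem _ (Submodule.sub_mem _ hn this) h3
    have h3 : (2 : ZMod p) • pMap β (ρ a - 1) ∈ 𝔤 := by
      have e : (2 : ZMod p) • pMap β (ρ a - 1) =
          (ρ (b⁻¹ * a * b) - 1) + (ρ (b * a * b⁻¹) - 1) - (ρ a - 1) - (ρ a - 1) := by
        rw [conj_expand ρ b a hβ, conj_expand' ρ b a hβ, pMap_apply, two_smul]
        abel
      rw [e]
      exact Submodule.sub_mem _ (Submodule.sub_mem _ (Submodule.add_mem _ h1 h2) (hα𝔤 a ha))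
        (hα𝔤 a ha)
    have := 𝔤.smul_mem (2 : ZMod p)⁻¹ h3
    rwa [smul_smul, inv_mul_cancel₀ h2ne, one_smul] at this
  -- (g), (h) the spaces `𝔞` and `𝔞' = 𝔞 ⊔ 𝔷`
  set 𝔞 := logS ρ A hAq with h𝔞
  set 𝔷 := zS K β with h𝔷
  have h𝔞'h : ∀ x ∈ 𝔞 ⊔ 𝔷, x ∈ homS K := by
    intro x hx
    obtain ⟨α, hα, ζ, hζ, rfl⟩ := Submodule.mem_sup.mp hx
    obtain ⟨a, ha, rfl⟩ := hα
    exact Submodule.add_mem _ (hαh a ha) (zS_le_homS K β hζ)
  have h𝔞'g : ∀ x ∈ 𝔞 ⊔ 𝔷, x ∈ 𝔤 := by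
    intro x hx
    obtain ⟨α, hα, ζ, hζ, rfl⟩ := Submodule.mem_sup.mp hx
    obtain ⟨a, ha, rfl⟩ := hα
    exact Submodule.add_mem _ (hα𝔤 a ha) (hz𝔤 hζ)
  have h𝔞'N : ∀ x ∈ 𝔞 ⊔ 𝔷, nMap β x ∈ 𝔤 := by
    intro x hx
    obtain ⟨α, hα, ζ, hζ, rfl⟩ := Submodule.mem_sup.mp hx
    obtain ⟨a, ha, rfl⟩ := hα
    rw [map_add]
    exact Submodule.add_mem _ (hNα a ha) (hz𝔤 (nMap_mem_zS hβ hζ))
  have h𝔞'P : ∀ x ∈ 𝔞 ⊔ 𝔷, pMap β x ∈ 𝔤 := by
    intro x hx
    obtain ⟨α, hα, ζ, hζ, rfl⟩ := Submodule.mem_sup.mp hx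
    obtain ⟨a, ha, rfl⟩ := hα
    rw [map_add]
    exact Submodule.add_mem _ (hPα a ha) (hz𝔤 (pMap_mem_zS hβ hζ))
  -- (i) the target
  set Ks := limS β K with hKs
  set S := TT ρ Ks Ks le_rfl with hS
  have hSq : Quad ρ S := quad_TT ρ Ks Ks le_rfl
  set 𝔰 := logS ρ S hSq with h𝔰
  have hR : ∀ x ∈ 𝔞 ⊔ 𝔷, ∀ y ∈ 𝔞 ⊔ 𝔷, ∀ z ∈ 𝔞 ⊔ 𝔷, nMap β x + pMap β y ∈ 𝔞 ⊔ 𝔷 →
      x + nMap β y + pMap β z ∈ 𝔰 ⊔ 𝔷 := by
    intro x hx y hy z hz hξ
    have hη𝔤 : x + nMap β y + pMap β z ∈ 𝔤 :=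
      Submodule.add_mem _ (Submodule.add_mem _ (h𝔞'g x hx) (h𝔞'N y hy)) (h𝔞'P z hz)
    have hξ' : (x * β - β * x) - β * y * β ∈ homS K := by
      have := h𝔞'h _ hξ
      rw [nMap_apply, pMap_apply, ← sub_eq_add_neg] at this
      exact this
    have hlim := limit_apply hβ (h𝔞'h x hx) (h𝔞'h y hy) (h𝔞'h z hz) hξ'
    have e : x + nMap β y + pMap β z = x + (y * β - β * y) - β * z * β := by
      rw [nMap_apply, pMap_apply, ← sub_eq_add_neg]
    rw [e] at hη𝔤 ⊢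
    obtain ⟨g, hg1, hg2⟩ := (h𝔤mem _).mp hη𝔤
    have hgS : g ∈ S := by
      rw [hS, mem_TT]
      constructor
      · intro v
        have e2 : (ρ g - 1) v = (x + (y * β - β * y) - β * z * β) v +
            ((ρ g - 1) - (x + (y * β - β * y) - β * z * β)) v := by
          rw [← LinearMap.add_apply, add_sub_cancel]
        rw [e2]
        exact Submodule.add_mem _ (hlim.1 v) (kS_le_limS K β (hg2.1 v))
      · intro v hv
        have e2 : (ρ g - 1) v = (x + (y * β - β * y) - β * z * β) v +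
            ((ρ g - 1) - (x + (y * β - β * y) - β * z * β)) v := by
          rw [← LinearMap.add_apply, add_sub_cancel]
        rw [e2, hlim.2 v hv, hg2.2 v (limS_le_uS K β hv), add_zero]
    have e3 : x + (y * β - β * y) - β * z * β =
        (ρ g - 1) + -((ρ g - 1) - (x + (y * β - β * y) - β * z * β)) := by abel
    rw [e3]
    exact Submodule.add_mem _ (Submodule.mem_sup_left ⟨g, hgS, rfl⟩)
      (Submodule.mem_sup_right (Submodule.neg_mem _ hg2))
  have hcount := card_le_limit (nMap β) (pMap β) (𝔞 ⊔ 𝔷) (𝔰 ⊔ 𝔷) hR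
  -- (j) the final count
  have hinf : 𝔰 ⊓ 𝔷 = 𝔞 ⊓ 𝔷 := by
    apply le_antisymm
    · rintro γ ⟨⟨g, hg, rfl⟩, hz⟩
      refine ⟨⟨g, ?_, rfl⟩, hz⟩
      rw [hA.mem_iff ρ]
      exact ⟨fun v => kS_le K β (hz.1 v), fun v hv => hz.2 v (le_uS K β hv)⟩
    · rintro γ ⟨⟨a, ha, rfl⟩, hz⟩
      refine ⟨⟨a, ?_, rfl⟩, hz⟩
      rw [hS, mem_TT]
      exact ⟨fun v => kS_le_limS K β (hz.1 v), fun v hv => hz.2 v (limS_le_uS K β hv)⟩
  have e1 := card_sup_mul_card_inf 𝔰 𝔷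
  have e2 := card_sup_mul_card_inf 𝔞 𝔷
  rw [hinf] at e1
  have hpos1 : 0 < Nat.card ↥(𝔞 ⊓ 𝔷) := Nat.card_pos
  have hpos2 : 0 < Nat.card 𝔷 := Nat.card_pos
  have h1 : Nat.card 𝔞 * Nat.card 𝔷 ≤ Nat.card 𝔰 * Nat.card 𝔷 := by
    rw [← e1, ← e2]
    exact Nat.mul_le_mul_right _ hcount
  have h2 : Nat.card 𝔞 ≤ Nat.card 𝔰 := Nat.le_of_mul_le_mul_right h1 hpos2
  rw [h𝔞, h𝔰, card_logS ρ hρ, card_logS ρ hρ] at h2
  exact h2

end limit

end Cfsg.Agent.Helper24.QOff
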