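import Mathlib
import Cfsg.Agent.Lib.Helper24.QOffBasic
import Cfsg.Agent.Lib.Helper24.QOffLimitLin

/-!
# Quadratic offenders: the socle series and the potential function
-/

set_option autoImplicit false
set_option linter.unusedSectionVars false

namespace Cfsg.Agent.Helper24.QOff

open Submodule LinearMap

section pot

variable {p : ℕ} [Fact p.Prime] {V : Type*} [AddCommGroup V] [Module (ZMod p) V] [Finite V]
variable {G : Type*} [Group G] [Finite G] (ρ : G →* Module.End (ZMod p) V)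

/-- the upper (socle) series of `V` under `G`. -/
def cS : ℕ → Submodule (ZMod p) V
  | 0 => ⊥
  | (i + 1) => ⨅ g : G, (cS i).comap (ρ g - 1)

theorem cS_zero : cS ρ 0 = ⊥ := rfl

theorem mem_cS_succ {i : ℕ} {v : V} : v ∈ cS ρ (i + 1) ↔ ∀ g : G, (ρ g - 1) v ∈ cS ρ i := by
  change v ∈ ⨅ g : G, (cS ρ i).comap (ρ g - 1) ↔ _
  rw [Submodule.mem_iInf]
  rfl

theorem cS_mono (i : ℕ) : cS ρ i ≤ cS ρ (i + 1) := by
  induction i with
  | zero => rw [cS_zero]; exact bot_le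
  | succ i ih =>
    intro v hv
    rw [mem_cS_succ] at hv ⊢
    exact fun g => ih (hv g)

theorem sub_one_mem_cS {i : ℕ} {v : V} (hv : v ∈ cS ρ i) (g : G) : (ρ g - 1) v ∈ cS ρ i := by
  cases i with
  | zero =>
    rw [cS_zero, Submodule.mem_bot] at hv
    rw [hv, map_zero]; exact Submodule.zero_mem _
  | succ i => exact cS_mono ρ i ((mem_cS_succ ρ).mp hv g)

theorem cS_invariant {i : ℕ} {v : V} (hv : v ∈ cS ρ i) (g : G) : ρ g v ∈ cS ρ i := by
  have h1 := sub_one_mem_cS ρ hv g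
  have h2 : ρ g v = (ρ g - 1) v + v := by rw [sub_one_apply]; abel
  rw [h2]; exact Submodule.add_mem _ h1 hv

theorem cS_lt_of_ne_top (hG : IsPGroup p G) (i : ℕ) (h : cS ρ i ≠ ⊤) : cS ρ i < cS ρ (i + 1) := by
  refine lt_of_le_of_ne (cS_mono ρ i) ?_
  intro heq
  obtain ⟨v, hv1, hv2⟩ := exists_fixed_mod hG ρ (cS ρ i)
    (fun g v hv => cS_invariant ρ hv g) h
  apply hv1
  rw [heq, mem_cS_succ]
  intro g
  rw [sub_one_apply]
  exact hv2 g

theorem exists_cS_eq_top (hG : IsPGroup p G) : ∃ n : ℕ, cS ρ n = ⊤ := by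
  by_contra hcon
  push Not at hcon
  have key : ∀ i : ℕ, i < Nat.card (cS ρ i) := by
    intro i
    induction i with
    | zero => exact Nat.card_pos
    | succ i ih =>
      have := card_lt_of_lt (cS_lt_of_ne_top ρ hG i (hcon i))
      omega
  have h1 := key (Nat.card V)
  have h2 : Nat.card (cS ρ (Nat.card V)) ≤ Nat.card V := by
    have := card_le_of_le (le_top : cS ρ (Nat.card V) ≤ ⊤)
    rwa [Nat.card_congr (Submodule.topEquiv (R := ZMod p) (M := V)).toEquiv] at this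
  omega

/-- the potential of a subspace. -/
noncomputable def pot (n : ℕ) (K : Submodule (ZMod p) V) : ℕ :=
  ∑ i ∈ Finset.range (n + 1), Nat.card ↥(K ⊓ cS ρ i)

theorem pot_lt (n : ℕ) (hn : cS ρ n = ⊤) (K : Submodule (ZMod p) V) (b : G)
    (hβ : (ρ b - 1) * (ρ b - 1) = 0) (hnot : ¬ ∀ v ∈ K, (ρ b - 1) v ∈ K) :
    pot ρ n K < pot ρ n (limS (ρ b - 1) K) := by
  classical
  set β := ρ b - 1 with hβdef
  have hinv : ∀ i, ∀ v ∈ cS ρ i, β v ∈ cS ρ i := fun i v hv => sub_one_mem_cS ρ hv b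
  have hle : ∀ i, Nat.card ↥(K ⊓ cS ρ i) ≤ Nat.card ↥(limS β K ⊓ cS ρ i) := by
    intro i
    rw [← card_limS hβ (K ⊓ cS ρ i)]
    exact card_le_of_le (limS_inf_le β K (cS ρ i) (hinv i))
  -- the minimal bad index
  have hex : ∃ i, ¬ ∀ v ∈ K ⊓ cS ρ i, β v ∈ K := by
    refine ⟨n, ?_⟩
    intro h
    apply hnot
    intro v hv
    exact h v ⟨hv, by rw [hn]; trivial⟩
  have hmin : ∀ m, m < Nat.find hex → ¬ ¬ ∀ v ∈ K ⊓ cS ρ m, β v ∈ K := fun m hm => Nat.find_min hex hm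
  have hspec := Nat.find_spec hex
  set i₀ := Nat.find hex with hi₀
  have hi₀n : i₀ ≤ n := Nat.find_min' hex (by
    intro h
    apply hnot
    intro v hv
    exact h v ⟨hv, by rw [hn]; trivial⟩)
  have hi₀0 : i₀ ≠ 0 := by
    intro h0
    apply hspec
    rw [h0, cS_zero]
    rintro v ⟨_, hv⟩
    have hv0 : v = 0 := (Submodule.mem_bot (ZMod p)).mp hv
    rw [hv0, map_zero]; exact K.zero_mem
  obtain ⟨j, hj⟩ := Nat.exists_eq_succ_of_ne_zero hi₀0
  have hjgood : ∀ v ∈ K ⊓ cS ρ j, β v ∈ K := by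
    have := hmin j (by omega)
    exact not_not.mp this
  have hstrict : Nat.card ↥(K ⊓ cS ρ j) < Nat.card ↥(limS β K ⊓ cS ρ j) := by
    have h1 : K ⊓ cS ρ j < (K ⊓ cS ρ j) ⊔ (K ⊓ cS ρ (j + 1)).map β := by
      refine lt_of_le_of_ne le_sup_left ?_
      intro heq
      apply hspec
      rw [hj]
      intro v hv
      have : β v ∈ (K ⊓ cS ρ j) ⊔ (K ⊓ cS ρ (j + 1)).map β :=
        Submodule.mem_sup_right ⟨v, hv, rfl⟩
      rw [← heq] at this
      exact this.1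
    have h2 : (K ⊓ cS ρ j) ⊔ (K ⊓ cS ρ (j + 1)).map β ≤ limS β K ⊓ cS ρ j := by
      apply sup_le
      · intro v hv
        refine ⟨inf_comap_le_limS β K ⟨hv.1, hjgood v hv⟩, hv.2⟩
      · rintro _ ⟨v, hv, rfl⟩
        refine ⟨map_le_limS β K ⟨v, hv.1, rfl⟩, ?_⟩
        exact (mem_cS_succ ρ).mp hv.2 b
    exact lt_of_lt_of_le (card_lt_of_lt h1) (card_le_of_le h2)
  unfold pot
  apply Finset.sum_lt_sum
  · intro i _
    exact hle i
  · exact ⟨j, Finset.mem_range.mpr (by omega), hstrict⟩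

end pot

end Cfsg.Agent.Helper24.QOff
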