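import Mathlib
import Cfsg.Agent.Lib.Helper24.QOffLimit
import Cfsg.Agent.Lib.Helper24.QOffPot
import Cfsg.Agent.Lib.Helper24.QOffChain

/-!
# Quadratic offenders: the main theorem in the linear setting

A finite `p`-group (`p` odd) acting faithfully on a finite `ZMod p`-module with a nontrivial abelian
offender has a nontrivial quadratic offender normalized by all of its conjugates.
-/

set_option autoImplicit false
set_option linter.unusedSectionVars false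

namespace Cfsg.Agent.Helper24.QOff

open Submodule LinearMap

section main

variable {p : ℕ} [Fact p.Prime] {V : Type*} [AddCommGroup V] [Module (ZMod p) V] [Finite V]
variable {G : Type*} [Group G] [Finite G] (ρ : G →* Module.End (ZMod p) V)

theorem main_linear (hp2 : p ≠ 2) (hG : IsPGroup p G) (hρ : Function.Injective ρ)
    (hF : ∃ E : Subgroup G, E ≠ ⊥ ∧ (∀ x ∈ E, ∀ y ∈ E, x * y = y * x) ∧ Nat.card V ≤ meas ρ E) :
    ∃ A : Subgroup G, A ≠ ⊥ ∧ Quad ρ A ∧ Nat.card V ≤ meas ρ A ∧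
      ∀ x : G, ∀ a ∈ A, x * a * x⁻¹ ∈ Subgroup.normalizer (A : Set G) := by
  classical
  obtain ⟨E, hE1, hEc, hEm⟩ := hF
  have hq := exists_quad_offender ρ hG _ E rfl hE1 hEc hEm
  obtain ⟨A₁, hA₁⟩ := exists_isBQ ρ hq
  obtain ⟨n, hn⟩ := exists_cS_eq_top ρ hG
  have : Nonempty {A : Subgroup G // IsBQ ρ A} := ⟨⟨A₁, hA₁⟩⟩
  obtain ⟨⟨A, hA⟩, hmax⟩ :=
    Finite.exists_max (fun A : {A : Subgroup G // IsBQ ρ A} => pot ρ n (fixS ρ A.1))
  have hmax' : ∀ B : Subgroup G, IsBQ ρ B → pot ρ n (fixS ρ B) ≤ pot ρ n (fixS ρ A) :=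
    fun B hB => hmax ⟨B, hB⟩
  refine ⟨A, hA.1, hA.2.1, hA.2.2.1, ?_⟩
  by_contra hcon
  obtain ⟨x, ⟨a₀, ha₀, hb⟩, hx⟩ := exists_conj_chain hG A hcon
  set b := x * a₀ * x⁻¹ with hbdef
  -- `b` acts quadratically
  have hβ : (ρ b - 1) * (ρ b - 1) = 0 := by
    rw [hbdef, conj_sub_one]
    have h1 : ρ x * (ρ a₀ - 1) * ρ x⁻¹ * (ρ x * (ρ a₀ - 1) * ρ x⁻¹) =
        ρ x * ((ρ a₀ - 1) * (ρ x⁻¹ * ρ x) * (ρ a₀ - 1)) * ρ x⁻¹ := by noncomm_ring
    rw [h1, rho_inv_mul, mul_one, hA.2.1 a₀ ha₀ a₀ ha₀, mul_zero, zero_mul]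
  -- the conjugates `b⁻¹ a b` normalize `A`
  have hN : ∀ a ∈ A, ∀ v ∈ fixS ρ A, ρ (b⁻¹ * a * b) v ∈ fixS ρ A := by
    intro a ha
    have h1 := hx a₀⁻¹ (A.inv_mem ha₀) a ha
    have e : x * a₀⁻¹ * x⁻¹ * a * (x * a₀⁻¹ * x⁻¹)⁻¹ = b⁻¹ * a * b := by
      rw [hbdef]; group
    rw [e] at h1
    exact map_fixS_of_mem_normalizer ρ h1
  have hL := card_le_card_TT_limS ρ hp2 hρ hA b hβ hN
  have hcardK : Nat.card (fixS ρ A) ≤ Nat.card (limS (ρ b - 1) (fixS ρ A)) :=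
    (card_limS hβ (fixS ρ A)).ge
  obtain ⟨hS, hfix⟩ := hA.of_card_le ρ (limS (ρ b - 1) (fixS ρ A)) hcardK hL
  have hnot : ¬ ∀ v ∈ fixS ρ A, (ρ b - 1) v ∈ fixS ρ A := by
    intro hall
    apply hb
    apply hA.mem_normalizer ρ b
    intro v hv
    have e : ρ b v = (ρ b - 1) v + v := by rw [sub_one_apply]; abel
    rw [e]
    exact Submodule.add_mem _ (hall v hv) hv
  have hlt := pot_lt ρ n hn (fixS ρ A) b hβ hnot
  have hle := hmax' _ hS
  rw [hfix] at hle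
  omega

end main

end Cfsg.Agent.Helper24.QOff
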