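import Mathlib
import Cfsg.Agent.Lib.Helper24.QOffMain

/-!
# Quadratic offenders: transfer from subgroups of an ambient group to the linear setting
-/

set_option autoImplicit false
set_option linter.unusedSectionVars false

namespace Cfsg.Agent.Helper24.QOff

open scoped IsMulCommutative
open scoped commutatorElement

section powers

variable {p : ℕ} [Fact p.Prime] {V : Type*} [AddCommGroup V] [Module (ZMod p) V]
variable {G : Type*} [Group G] (ρ : G →* Module.End (ZMod p) V)

theorem sub_one_pow_eq (a : G) (h : (ρ a - 1) * (ρ a - 1) = 0) (n : ℕ) :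
    ρ (a ^ n) - 1 = n • (ρ a - 1) := by
  induction n with
  | zero => rw [pow_zero, map_one, sub_self, zero_smul]
  | succ n ih =>
    rw [pow_succ, sub_one_mul_eq, ih, smul_mul_assoc, h, smul_zero, add_zero, succ_nsmul]

theorem Quad.pow_eq_one (hρ : Function.Injective ρ) {A : Subgroup G} (hA : Quad ρ A) {a : G}
    (ha : a ∈ A) : a ^ p = 1 := by
  apply hρ
  have h1 := sub_one_pow_eq ρ a (hA a ha a ha) p
  rw [ZModModule.char_nsmul_eq_zero p, sub_eq_zero] at h1
  rw [h1, map_one]

theorem Quad.comm' (hρ : Function.Injective ρ) {A : Subgroup G} (hA : Quad ρ A) {a a' : G}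
    (ha : a ∈ A) (ha' : a' ∈ A) : a * a' = a' * a :=
  hρ (hA.comm ρ ha ha')

end powers

section bridge

variable {Ω : Type*} [Group Ω] (p : ℕ) [Fact p.Prime] (V G : Subgroup Ω)
  [hVc : IsMulCommutative V] [hVp : Fact (∀ x ∈ V, x ^ p = 1)]

noncomputable instance modV : Module (ZMod p) (Additive V) :=
  AddCommGroup.zmodModule (n := p) (by
    intro x
    apply Additive.toMul.injective
    rw [toMul_nsmul, toMul_zero]
    exact Subtype.ext (by simpa using hVp.out _ (Additive.toMul x).2))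

variable (hGV : G ≤ Subgroup.normalizer (V : Set Ω))

/-- conjugation by an element of `G` on `V`. -/
def conjV (g : G) : V →* V where
  toFun v := ⟨g * v * (g : Ω)⁻¹, (Subgroup.mem_normalizer_iff.mp (hGV g.2) v).mp v.2⟩
  map_one' := by
    apply Subtype.ext
    simp
  map_mul' := by
    intro a b
    apply Subtype.ext
    simp

theorem conjV_coe (g : G) (v : V) : ((conjV V G hGV g v : V) : Ω) = g * v * (g : Ω)⁻¹ := rfl

/-- the linear representation of `G` on `V`. -/
noncomputable def rhoV : G →* Module.End (ZMod p) (Additive V) where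
  toFun g := AddMonoidHom.toZModLinearMap p (MonoidHom.toAdditive (conjV V G hGV g))
  map_one' := by
    apply LinearMap.ext
    intro v
    apply Additive.toMul.injective
    apply Subtype.ext
    simp [conjV]
  map_mul' := by
    intro a b
    apply LinearMap.ext
    intro v
    apply Additive.toMul.injective
    apply Subtype.ext
    simp [conjV, mul_assoc]

theorem rhoV_apply (g : G) (v : Additive V) :
    ((Additive.toMul (rhoV p V G hGV g v) : V) : Ω) = g * (Additive.toMul v : V) * (g : Ω)⁻¹ := rfl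

theorem rhoV_apply_eq_iff (g : G) (v : Additive V) :
    rhoV p V G hGV g v = v ↔ (g : Ω) * (Additive.toMul v : V) = (Additive.toMul v : V) * g := by
  constructor
  · intro h
    have h1 := rhoV_apply p V G hGV g v
    rw [h] at h1
    calc (g : Ω) * (Additive.toMul v : V) = ((g : Ω) * (Additive.toMul v : V) * (g : Ω)⁻¹) * g := by
          group
      _ = (Additive.toMul v : V) * g := by rw [← h1]
  · intro h
    apply Additive.toMul.injective
    apply Subtype.ext
    rw [rhoV_apply, h]; group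

theorem rhoV_injective (hfaith : G ⊓ Subgroup.centralizer (V : Set Ω) = ⊥) :
    Function.Injective (rhoV p V G hGV) := by
  rw [injective_iff_map_eq_one]
  intro g hg
  have hmem : (g : Ω) ∈ G ⊓ Subgroup.centralizer (V : Set Ω) := by
    refine Subgroup.mem_inf.mpr ⟨g.2, ?_⟩
    rw [Subgroup.mem_centralizer_iff]
    intro v hv
    have h1 : rhoV p V G hGV g (Additive.ofMul ⟨v, hv⟩) = Additive.ofMul ⟨v, hv⟩ := by
      rw [hg, Module.End.one_apply]
    have h2 := (rhoV_apply_eq_iff p V G hGV g _).mp h1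
    simpa using h2.symm
  rw [hfaith, Subgroup.mem_bot] at hmem
  exact Subtype.ext hmem

/-- the fixed space corresponds to `V ⊓ C(A)`. -/
theorem card_fixS_rhoV (A' : Subgroup G) :
    Nat.card (fixS (rhoV p V G hGV) A') =
      Nat.card ↥(V ⊓ Subgroup.centralizer ((A'.map G.subtype : Subgroup Ω) : Set Ω)) := by
  apply Nat.card_congr
  refine
    { toFun := fun v => ⟨((Additive.toMul (v : Additive V) : V) : Ω), ?_⟩
      invFun := fun w => ⟨Additive.ofMul ⟨(w : Ω), w.2.1⟩, ?_⟩
      left_inv := ?_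
      right_inv := ?_ }
  · refine Subgroup.mem_inf.mpr ⟨(Additive.toMul (v : Additive V)).2, ?_⟩
    rw [Subgroup.mem_centralizer_iff]
    rintro _ ⟨a, ha, rfl⟩
    have := (rhoV_apply_eq_iff p V G hGV a (v : Additive V)).mp (v.2 a ha)
    simpa using this
  · intro a ha
    rw [rhoV_apply_eq_iff]
    have h1 := Subgroup.mem_centralizer_iff.mp w.2.2 (a : Ω) ⟨a, ha, rfl⟩
    simpa using h1
  · intro v
    rfl
  · intro w
    rfl

theorem coe_toMul_sub_one_apply (a : G) (w : Additive V) :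
    ((Additive.toMul ((rhoV p V G hGV a - 1) w) : V) : Ω) =
      (a : Ω) * (Additive.toMul w : V) * (a : Ω)⁻¹ * ((Additive.toMul w : V) : Ω)⁻¹ := by
  rw [sub_one_apply, toMul_sub, Subgroup.coe_div, rhoV_apply, div_eq_mul_inv]

/-- quadratic action gives `[[V, A], A] = 1`. -/
theorem commutator_eq_bot_of_quad (A' : Subgroup G) (hq : Quad (rhoV p V G hGV) A') :
    ⁅⁅V, A'.map G.subtype⁆, A'.map G.subtype⁆ = ⊥ := by
  rw [Subgroup.commutator_eq_bot_iff_le_centralizer, Subgroup.commutator_le]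
  rintro v hv _ ⟨a', ha', rfl⟩
  rw [Subgroup.mem_centralizer_iff]
  rintro _ ⟨a'', ha'', rfl⟩
  set w : Additive V := Additive.ofMul ⟨v, hv⟩ with hw
  have h1 : (rhoV p V G hGV a'' - 1) ((rhoV p V G hGV a' - 1) w) = 0 := by
    rw [← Module.End.mul_apply, hq a'' ha'' a' ha', LinearMap.zero_apply]
  rw [sub_one_apply, sub_eq_zero] at h1
  have h2 := (rhoV_apply_eq_iff p V G hGV a'' _).mp h1
  rw [coe_toMul_sub_one_apply] at h2
  have hwv : ((Additive.toMul w : V) : Ω) = v := rfl
  rw [hwv] at h2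
  -- `⁅v, a'⁆` is the inverse of `a' v a'⁻¹ v⁻¹`
  have e : ⁅v, (G.subtype a' : Ω)⁆ = ((a' : Ω) * v * (a' : Ω)⁻¹ * v⁻¹)⁻¹ := by
    rw [commutatorElement_def]; simp; group
  rw [e]
  have h3 : (G.subtype a'' : Ω) = (a'' : Ω) := rfl
  rw [h3]
  -- commuting with an element is commuting with its inverse
  have : ∀ x y : Ω, x * y = y * x → x * y⁻¹ = y⁻¹ * x := by
    intro x y hxy
    have : y⁻¹ * (x * y) * y⁻¹ = y⁻¹ * (y * x) * y⁻¹ := by rw [hxy]
    have e1 : y⁻¹ * (x * y) * y⁻¹ = y⁻¹ * x := by group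
    have e2 : y⁻¹ * (y * x) * y⁻¹ = x * y⁻¹ := by group
    rw [e1, e2] at this
    exact this.symm
  exact this _ _ h2

end bridge

/-- **Main theorem** (group form): a `p`-group `G` (`p` odd) acting faithfully on an elementary
abelian `p`-group `V` which is an `F`-module has a nontrivial quadratic offender normalized by all its
`G`-conjugates. -/
theorem exists_quadratic_two_subnormal_offender {Ω : Type*} [Group Ω] [Finite Ω] (p : ℕ)
    [Fact p.Prime] (hp2 : p ≠ 2) (V G : Subgroup Ω) (hVc : IsMulCommutative V)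
    (hVp : ∀ a ∈ V, a ^ p = 1) (hG : IsPGroup p G)
    (hGV : G ≤ Subgroup.normalizer (V : Set Ω))
    (hfaith : G ⊓ Subgroup.centralizer (V : Set Ω) = ⊥)
    (hF : ∃ E : Subgroup Ω, E ≤ G ∧ E ≠ ⊥ ∧ (∀ x ∈ E, ∀ y ∈ E, x * y = y * x) ∧
      Nat.card V ≤ Nat.card E * Nat.card ↥(V ⊓ Subgroup.centralizer (E : Set Ω))) :
    ∃ A : Subgroup Ω, A ≤ G ∧ A ≠ ⊥ ∧ (∀ x ∈ A, ∀ y ∈ A, x * y = y * x) ∧ (∀ a ∈ A, a ^ p = 1) ∧
      Nat.card V ≤ Nat.card A * Nat.card ↥(V ⊓ Subgroup.centralizer (A : Set Ω)) ∧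
      ⁅⁅V, A⁆, A⁆ = ⊥ ∧
      ∀ g ∈ Subgroup.closure {x : Ω | ∃ h ∈ G, ∃ a ∈ A, x = h * a * h⁻¹}, ∀ a ∈ A, g * a * g⁻¹ ∈ A := by
  have : IsMulCommutative V := hVc
  have : Fact (∀ x ∈ V, x ^ p = 1) := ⟨hVp⟩
  set ρ := rhoV p V G hGV with hρdef
  have hρ : Function.Injective ρ := rhoV_injective p V G hGV hfaith
  have hcardV : Nat.card (Additive V) = Nat.card V := rfl
  -- transfer the hypothesis
  obtain ⟨E, hEG, hE1, hEc, hEm⟩ := hF
  have hF' : ∃ E' : Subgroup G, E' ≠ ⊥ ∧ (∀ x ∈ E', ∀ y ∈ E', x * y = y * x) ∧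
      Nat.card (Additive V) ≤ meas ρ E' := by
    refine ⟨E.subgroupOf G, ?_, ?_, ?_⟩
    · intro hbot
      apply hE1
      rw [← Subgroup.map_subgroupOf_eq_of_le hEG, hbot, Subgroup.map_bot]
    · intro x hx y hy
      apply Subtype.ext
      exact hEc x (Subgroup.mem_subgroupOf.mp hx) y (Subgroup.mem_subgroupOf.mp hy)
    · unfold meas
      rw [hcardV, card_fixS_rhoV, Subgroup.map_subgroupOf_eq_of_le hEG]
      have : Nat.card (E.subgroupOf G) = Nat.card E :=
        Nat.card_congr (Subgroup.subgroupOfEquivOfLe hEG).toEquiv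
      rw [this]
      exact hEm
  obtain ⟨A', hA1, hAq, hAm, hAn⟩ := main_linear ρ hp2 hG hρ hF'
  set A := A'.map G.subtype with hAdef
  have hAG : A ≤ G := by
    rintro _ ⟨a, _, rfl⟩
    exact a.2
  refine ⟨A, hAG, ?_, ?_, ?_, ?_, commutator_eq_bot_of_quad p V G hGV A' hAq, ?_⟩
  · intro hbot
    apply hA1
    exact (Subgroup.map_eq_bot_iff_of_injective A' G.subtype_injective).mp hbot
  · rintro _ ⟨x, hx, rfl⟩ _ ⟨y, hy, rfl⟩
    have := hAq.comm' ρ hρ hx hy
    rw [← map_mul, ← map_mul, this]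
  · rintro _ ⟨a, ha, rfl⟩
    rw [← map_pow, hAq.pow_eq_one ρ hρ ha, map_one]
  · unfold meas at hAm
    rw [hcardV, card_fixS_rhoV] at hAm
    rw [hAdef, Subgroup.card_map_of_injective G.subtype_injective]
    exact hAm
  · -- the generators normalize `A`
    have hgen : ∀ x ∈ {x : Ω | ∃ h ∈ G, ∃ a ∈ A, x = h * a * h⁻¹},
        (∀ a ∈ A, x * a * x⁻¹ ∈ A) ∧ ∀ a ∈ A, x⁻¹ * a * x ∈ A := by
      rintro _ ⟨h, hh, _, ⟨a₀, ha₀, rfl⟩, rfl⟩
      set y : G := ⟨h, hh⟩ * a₀ * (⟨h, hh⟩ : G)⁻¹ with hy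
      have hyn := hAn ⟨h, hh⟩ a₀ ha₀
      have hycoe : (y : Ω) = h * G.subtype a₀ * h⁻¹ := rfl
      rw [← hycoe]
      constructor
      · rintro _ ⟨a₁, ha₁, rfl⟩
        exact ⟨y * a₁ * y⁻¹, (Subgroup.mem_normalizer_iff.mp hyn a₁).mp ha₁, rfl⟩
      · rintro _ ⟨a₁, ha₁, rfl⟩
        have hyn' := Subgroup.inv_mem _ hyn
        have := (Subgroup.mem_normalizer_iff.mp hyn' a₁).mp ha₁
        rw [inv_inv] at this
        exact ⟨y⁻¹ * a₁ * y, this, rfl⟩
    intro g hg
    have key : (∀ a ∈ A, g * a * g⁻¹ ∈ A) ∧ ∀ a ∈ A, g⁻¹ * a * g ∈ A := by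
      induction hg using Subgroup.closure_induction with
      | mem x hx => exact hgen x hx
      | one =>
        constructor
        · intro a ha; simpa using ha
        · intro a ha; simpa using ha
      | mul x y _ _ hx hy =>
        constructor
        · intro a ha
          have := hx.1 _ (hy.1 a ha)
          have e : x * y * a * (x * y)⁻¹ = x * (y * a * y⁻¹) * x⁻¹ := by group
          rw [e]; exact this
        · intro a ha
          have := hy.2 _ (hx.2 a ha)
          have e : (x * y)⁻¹ * a * (x * y) = y⁻¹ * (x⁻¹ * a * x) * y := by group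
          rw [e]; exact this
      | inv x _ hx =>
        constructor
        · intro a ha
          have := hx.2 a ha
          rwa [inv_inv]
        · intro a ha
          have := hx.1 a ha
          rwa [inv_inv]
    exact key.1

end Cfsg.Agent.Helper24.QOff
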