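import Mathlib
import Cfsg.Agent.S0639
import Cfsg.Agent.S0636
import Cfsg.Agent.S1453
import Cfsg.Agent.Lib.Helper24.NarrowAut
import Cfsg.Agent.Lib.Helper24.RankThree
import Cfsg.Agent.Lib.Helper49.UniqueOrderP
import Cfsg.Agent.Lib.Helper87.ChainAut

set_option autoImplicit false

/-!
# `p`-groups of rank at most 2 with a fixed-point-free-on-top action of small coprime order

If `P` is a nonabelian `p`-group of rank at most 2 (`p > 3`) and `Γ` is a set of automorphisms of
orders coprime to `p (p - 1)` such that `P = [P, Γ]`, then `|P| = p ^ 3`.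
-/

namespace Cfsg.Agent.Helper24.RankTwoCube

open Cfsg
open Cfsg.Agent.Helper87
open Cfsg.Agent.Helper24.RankThree

variable {P : Type*} [Group P]

/-- an automorphism of order coprime to `p (p - 1)` acts trivially on a quotient of order `p` -/
theorem acts_trivially_on_index_p [Finite P] {p : ℕ} [Fact p.Prime] (hP : IsPGroup p P)
    (K : Subgroup P) [hKn : K.Normal] (hK : K.index = p) (α : MulAut P)
    (hαK : ∀ x, α x ∈ K ↔ x ∈ K) (hord : (orderOf α).Coprime (p * (p - 1))) (r : P) :
    α r * r⁻¹ ∈ K := by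
  have hp : p.Prime := Fact.out
  have hc : CyclicStep K ⊤ := by
    apply Cfsg.Agent.Helper24.NarrowAut.cyclicStep_of_card_le hP K ⊤ le_top
    rw [Subgroup.card_top, ← hK, Subgroup.card_mul_index]
  have hpow := pow_mem_stepStab hP hc (α := α) hαK (fun x => by simp)
  obtain ⟨m, hm⟩ := IsPGroup.iff_card.mp hP
  have hcop : ((p - 1) * Nat.card P).Coprime (orderOf α) := by
    rw [hm]
    apply Nat.Coprime.symm
    apply Nat.Coprime.mul_right
    · exact Nat.Coprime.coprime_dvd_right (Dvd.intro_left p rfl) hord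
    · exact Nat.Coprime.pow_right m (Nat.Coprime.coprime_dvd_right (Dvd.intro (p - 1) rfl) hord)
  obtain ⟨j, hj⟩ := exists_pow_eq_self_of_coprime hcop
  have hmem : α ∈ stepStab K ⊤ := by
    rw [← hj]
    exact Subgroup.pow_mem _ hpow j
  have h1 : r⁻¹ * α r ∈ K := hmem.2.2 r (Subgroup.mem_top r)
  have h2 := hKn.conj_mem _ h1 r
  have h3 : r * (r⁻¹ * α r) * r⁻¹ = α r * r⁻¹ := by group
  rwa [h3] at h2

/-- an automorphism of order coprime to `p (p - 1)` centralizes every cyclic characteristic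
subgroup of a `p`-group -/
theorem fixes_cyclic_char [Finite P] {p : ℕ} [Fact p.Prime] (hP : IsPGroup p P)
    (C : Subgroup P) [hCc : C.Characteristic] (hC : IsCyclic C) (α : MulAut P)
    (hord : (orderOf α).Coprime (p * (p - 1))) (c : P) (hc : c ∈ C) : α c = c := by
  have hp : p.Prime := Fact.out
  have h1 : orderOf (MulAut.characteristic C α) ∣ orderOf α := orderOf_map_dvd _ α
  have h2 : orderOf (MulAut.characteristic C α) ∣ Nat.card (MulAut C) := orderOf_dvd_natCard _
  rw [IsCyclic.card_mulAut] at h2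
  obtain ⟨k, hk⟩ := IsPGroup.iff_card.mp (hP.to_subgroup C)
  have hcop1 : (orderOf (MulAut.characteristic C α)).Coprime (p * (p - 1)) :=
    Nat.Coprime.coprime_dvd_left h1 hord
  have hcopp : (orderOf (MulAut.characteristic C α)).Coprime p :=
    Nat.Coprime.coprime_dvd_right (Dvd.intro (p - 1) rfl) hcop1
  have hcopq : (orderOf (MulAut.characteristic C α)).Coprime (p - 1) :=
    Nat.Coprime.coprime_dvd_right (Dvd.intro_left p rfl) hcop1
  have h3 : orderOf (MulAut.characteristic C α) = 1 := by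
    rw [hk] at h2
    rcases Nat.eq_zero_or_pos k with hk0 | hk0
    · rw [hk0, pow_zero, Nat.totient_one] at h2
      exact Nat.dvd_one.mp h2
    · rw [Nat.totient_prime_pow hp hk0] at h2
      exact Nat.Coprime.eq_one_of_dvd
        (Nat.Coprime.mul_right (Nat.Coprime.pow_right _ hcopp) hcopq) h2
  have h4 : MulAut.characteristic C α = 1 := orderOf_eq_one_iff.mp h3
  have h5 := congrArg (fun σ : MulAut ↥C => ((σ ⟨c, hc⟩ : ↥C) : P)) h4
  exact h5

/-- the main theorem -/
theorem card_eq_cube [Finite P] {p : ℕ} [Fact p.Prime] (hp3 : 3 < p) (hP : IsPGroup p P)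
    (hrk : PRankLE p 2 P) (hnab : ¬ ∀ a b : P, a * b = b * a) (hmeta : ¬ IsMetacyclic P)
    (Γ : Set (MulAut P)) (hΓ : ∀ α ∈ Γ, (orderOf α).Coprime (p * (p - 1)))
    (hNT : ∀ K : Subgroup P, K.Normal → (∀ α ∈ Γ, ∀ r : P, α r * r⁻¹ ∈ K) → K = ⊤) :
    Nat.card P = p ^ 3 := by
  classical
  have hpp : p.Prime := Fact.out
  have hp2 : p ≠ 2 := by omega
  have hp2' : 2 < p := by omega
  have hnil : Group.IsNilpotent P := hP.isNilpotent
  obtain ⟨W, hW⟩ : ∃ W : Subgroup P,
    W = Subgroup.closure {x : P | x ∈ Subgroup.upperCentralSeries P 2 ∧ x ^ p = 1} := ⟨_, rfl⟩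
  obtain ⟨Z, hZ⟩ : ∃ Z : Subgroup P,
    Z = Subgroup.closure {x : P | x ∈ Subgroup.center P ∧ x ^ p = 1} := ⟨_, rfl⟩
  have hZ1 : ∀ x ∈ Z, x ∈ Subgroup.center P ∧ x ^ p = 1 := by
    intro x hx
    rw [hZ] at hx
    induction hx using Subgroup.closure_induction with
    | mem x hx => exact hx
    | one => exact ⟨one_mem _, one_pow _⟩
    | mul x y _ _ hx hy =>
      refine ⟨mul_mem hx.1 hy.1, ?_⟩
      have hc : Commute x y := ((Subgroup.mem_center_iff.mp hx.1) y).symm
      rw [hc.mul_pow, hx.2, hy.2, one_mul]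
    | inv x _ hx => exact ⟨inv_mem hx.1, by rw [inv_pow, hx.2, inv_one]⟩
  have hZcenter : Z ≤ Subgroup.center P := fun x hx => (hZ1 x hx).1
  have hucs1 : Subgroup.upperCentralSeries P 1 = Subgroup.center P :=
    Subgroup.upperCentralSeries_one P
  have hW1 : ∀ x ∈ W, x ∈ Subgroup.upperCentralSeries P 2 ∧ x ^ p = 1 := by
    intro x hx
    rw [hW] at hx
    induction hx using Subgroup.closure_induction with
    | mem x hx => exact hx
    | one => exact ⟨one_mem _, one_pow _⟩
    | mul x y _ _ hx hy =>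
      refine ⟨mul_mem hx.1 hy.1, ?_⟩
      have hc : y * x * y⁻¹ * x⁻¹ ∈ Subgroup.center P := by
        have := (Subgroup.mem_upperCentralSeries_succ_iff (n := 1)).mp hy.1 x
        rw [hucs1, commutatorElement_def] at this
        exact this
      rw [Subgroup.mem_center_iff] at hc
      have hcx : Commute (y * x * y⁻¹ * x⁻¹) x := (hc x).symm
      have hcy : Commute (y * x * y⁻¹ * x⁻¹) y := (hc y).symm
      have h1 := Cfsg.Agent.Helper24.mul_pow_of_commutator_commute x y hcx hcy p
      have h2 := Cfsg.Agent.Helper24.commutator_pow_left_of_commute x y hcy p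
      rw [hy.2] at h2
      have h3 : (y * x * y⁻¹ * x⁻¹) ^ p = 1 := by rw [← h2]; group
      have h4 : p ∣ p.choose 2 := hpp.dvd_choose_self (by norm_num) hp2'
      obtain ⟨m, hm⟩ := h4
      rw [h1, hx.2, hy.2, hm, pow_mul, h3, one_pow, one_mul, one_mul]
    | inv x _ hx => exact ⟨inv_mem hx.1, by rw [inv_pow, hx.2, inv_one]⟩
  have hcommWZ : ∀ w ∈ W, ∀ g : P, w * g * w⁻¹ * g⁻¹ ∈ Z := by
    intro w hw g
    have hc : w * g * w⁻¹ * g⁻¹ ∈ Subgroup.center P := by
      have := (Subgroup.mem_upperCentralSeries_succ_iff (n := 1)).mp (hW1 w hw).1 g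
      rw [hucs1, commutatorElement_def] at this
      exact this
    have hcw : Commute (w * g * w⁻¹ * g⁻¹) w := ((Subgroup.mem_center_iff.mp hc) w).symm
    have h2 := Cfsg.Agent.Helper24.commutator_pow_left_of_commute g w hcw p
    rw [(hW1 w hw).2] at h2
    have h3 : (w * g * w⁻¹ * g⁻¹) ^ p = 1 := by rw [← h2]; group
    rw [hZ]
    exact Subgroup.subset_closure ⟨hc, h3⟩
  have hcommWZ' : ∀ w ∈ W, ∀ g : P, g * w * g⁻¹ * w⁻¹ ∈ Z := by
    intro w hw g
    have h1 := Z.inv_mem (hcommWZ w hw g)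
    have h2 : (w * g * w⁻¹ * g⁻¹)⁻¹ = g * w * g⁻¹ * w⁻¹ := by group
    rwa [h2] at h1
  have hZW : Z ≤ W := by
    rw [hZ, hW]
    apply Subgroup.closure_mono
    rintro x ⟨hx, hx'⟩
    refine ⟨?_, hx'⟩
    rw [← hucs1] at hx
    exact Subgroup.upperCentralSeries_mono P (by norm_num) hx
  have hZelem : IsElementaryAbelian p Z := by
    refine ⟨⟨⟨fun a b => Subtype.ext ?_⟩⟩, fun a ha => (hZ1 a ha).2⟩
    show a.1 * b.1 = b.1 * a.1
    exact (Subgroup.mem_center_iff.mp (hZ1 b.1 b.2).1) a.1
  have hzpow : ∀ u : P, u ^ p = 1 → IsElementaryAbelian p (Subgroup.zpowers u) := by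
    intro u hu
    refine ⟨inferInstance, ?_⟩
    intro a ha
    obtain ⟨k, rfl⟩ := Subgroup.mem_zpowers_iff.mp ha
    rw [← zpow_natCast, ← zpow_mul, mul_comm, zpow_mul, zpow_natCast, hu, one_zpow]
  have hZcent : ∀ K : Subgroup P, Z ≤ Subgroup.centralizer (K : Set P) := fun K =>
    hZcenter.trans (Subgroup.center_le_centralizer _)
  -- Z is nontrivial
  have hPnt : Nontrivial P := by
    by_contra hnt
    rw [not_nontrivial_iff_subsingleton] at hnt
    exact hnab (fun a b => Subsingleton.elim _ _)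
  have hZne : Z ≠ ⊥ := by
    have hcn : Nontrivial (Subgroup.center P) := hP.center_nontrivial
    have hcp : IsPGroup p (Subgroup.center P) := hP.to_subgroup _
    have hdvd : p ∣ Nat.card (Subgroup.center P) := by
      rcases hcp.card_eq_or_dvd with h | h
      · exfalso
        have := Finite.one_lt_card_iff_nontrivial.mpr hcn
        omega
      · exact h
    obtain ⟨x, hx⟩ := exists_prime_orderOf_dvd_card' (G := Subgroup.center P) p hdvd
    intro hbot
    have hxZ : (x : P) ∈ Z := by
      rw [hZ]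
      apply Subgroup.subset_closure
      refine ⟨x.2, ?_⟩
      have := pow_orderOf_eq_one x
      rw [hx] at this
      have h2 := congrArg Subtype.val this
      simpa using h2
    rw [hbot, Subgroup.mem_bot] at hxZ
    have : x = 1 := Subtype.ext hxZ
    rw [this, orderOf_one] at hx
    exact hpp.one_lt.ne hx
  have hZle : Nat.card Z ≤ p ^ 2 := hrk Z hZelem.1 hZelem.2
  -- Step B: |Z| = p
  have hZcard : Nat.card Z = p := by
    obtain ⟨k, hk⟩ := (hP.to_subgroup Z).exists_card_eq
    have hk2 : k ≤ 2 := by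
      rw [hk] at hZle
      exact (Nat.pow_le_pow_iff_right hpp.one_lt).mp hZle
    have hk0 : k ≠ 0 := by
      rintro rfl
      rw [pow_zero] at hk
      exact hZne (Subgroup.card_eq_one.mp hk)
    by_cases hk1 : k = 1
    · rw [hk, hk1, pow_one]
    · exfalso
      have hk2' : k = 2 := by omega
      rw [hk2'] at hk
      apply hmeta
      apply Cfsg.Agent.S0639.result hp3 hP
      have hle : omegaOne p (⊤ : Subgroup P) ≤ Z := by
        unfold omegaOne
        rw [Subgroup.closure_le]
        rintro x ⟨-, hx⟩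
        have h1 := elemAb_sup hZelem (hzpow x hx) (hZcent _)
        have h2 : Nat.card (Z ⊔ Subgroup.zpowers x : Subgroup P) ≤ p ^ 2 := hrk _ h1.1 h1.2
        have h3 : Z = Z ⊔ Subgroup.zpowers x :=
          Subgroup.eq_of_le_of_card_ge le_sup_left (by rw [hk]; exact h2)
        rw [SetLike.mem_coe, h3]
        exact Subgroup.mem_sup_right (Subgroup.mem_zpowers x)
      calc Nat.card (omegaOne p (⊤ : Subgroup P)) ≤ Nat.card Z := Subgroup.card_le_of_le hle
        _ = p ^ 2 := hk
  -- elements of order p commuting with a noncentral element of order p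
  have hU : ∀ u : P, u ^ p = 1 → u ∉ Z → ∀ y : P, y ^ p = 1 → y * u = u * y →
      y ∈ Z ⊔ Subgroup.zpowers u := by
    intro u hu huZ y hy hyu
    have h1 := elemAb_sup hZelem (hzpow u hu) (hZcent _)
    have h2 : Z ⊔ Subgroup.zpowers u ≤ Subgroup.centralizer
        ((Subgroup.zpowers y : Subgroup P) : Set P) := by
      rw [Subgroup.le_centralizer_iff, Subgroup.zpowers_le]
      rw [Subgroup.mem_centralizer_iff]
      intro g hg
      have hle : Z ⊔ Subgroup.zpowers u ≤ Subgroup.centralizer {y} := by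
        apply sup_le
        · exact hZcenter.trans (Subgroup.center_le_centralizer _)
        · rw [Subgroup.zpowers_le, Subgroup.mem_centralizer_singleton_iff]
          exact hyu.symm
      have := hle hg
      rw [Subgroup.mem_centralizer_singleton_iff] at this
      exact this
    have h3 := elemAb_sup h1 (hzpow y hy) h2
    have h4 : Nat.card (Z ⊔ Subgroup.zpowers u ⊔ Subgroup.zpowers y : Subgroup P) ≤ p ^ 2 :=
      hrk _ h3.1 h3.2
    have h5 : p ^ 2 ≤ Nat.card (Z ⊔ Subgroup.zpowers u : Subgroup P) := by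
      obtain ⟨k, hk⟩ := (hP.to_subgroup (Z ⊔ Subgroup.zpowers u)).exists_card_eq
      have hlt : Nat.card Z < Nat.card (Z ⊔ Subgroup.zpowers u : Subgroup P) := by
        by_contra hge
        push Not at hge
        have := Subgroup.eq_of_le_of_card_ge (le_sup_left : Z ≤ Z ⊔ Subgroup.zpowers u) hge
        apply huZ
        rw [this]
        exact Subgroup.mem_sup_right (Subgroup.mem_zpowers u)
      rw [hk, hZcard] at hlt
      have h1k : 1 < k := by
        have : p ^ 1 < p ^ k := by rwa [pow_one]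
        exact (Nat.pow_lt_pow_iff_right hpp.one_lt).mp this
      rw [hk]
      exact Nat.pow_le_pow_right hpp.pos h1k
    have h6 : Z ⊔ Subgroup.zpowers u = Z ⊔ Subgroup.zpowers u ⊔ Subgroup.zpowers y :=
      Subgroup.eq_of_le_of_card_ge le_sup_left (h4.trans h5)
    rw [h6]
    exact Subgroup.mem_sup_right (Subgroup.mem_zpowers y)
  have hcardZu : ∀ u : P, u ^ p = 1 → u ∉ Z →
      Nat.card (Z ⊔ Subgroup.zpowers u : Subgroup P) = p ^ 2 := by
    intro u hu huZ
    have h1 := elemAb_sup hZelem (hzpow u hu) (hZcent _)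
    apply le_antisymm (hrk _ h1.1 h1.2)
    obtain ⟨k, hk⟩ := (hP.to_subgroup (Z ⊔ Subgroup.zpowers u)).exists_card_eq
    have hlt : Nat.card Z < Nat.card (Z ⊔ Subgroup.zpowers u : Subgroup P) := by
      by_contra hge
      push Not at hge
      have := Subgroup.eq_of_le_of_card_ge (le_sup_left : Z ≤ Z ⊔ Subgroup.zpowers u) hge
      apply huZ
      rw [this]
      exact Subgroup.mem_sup_right (Subgroup.mem_zpowers u)
    rw [hk, hZcard] at hlt
    have h1k : 1 < k := by
      have : p ^ 1 < p ^ k := by rwa [pow_one]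
      exact (Nat.pow_lt_pow_iff_right hpp.one_lt).mp this
    rw [hk]
    exact Nat.pow_le_pow_right hpp.pos h1k
  have hmemZ : ∀ x : P, x ∈ Subgroup.center P → x ^ p = 1 → x ∈ Z := by
    intro x hx hx'
    rw [hZ]
    exact Subgroup.subset_closure ⟨hx, hx'⟩
  -- W is characteristic
  have hWchar : W.Characteristic := by
    rw [Subgroup.characteristic_iff_map_le]
    intro ϕ
    rw [hW, MonoidHom.map_closure, Subgroup.closure_le]
    rintro _ ⟨y, ⟨hy, hy'⟩, rfl⟩
    apply Subgroup.subset_closure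
    refine ⟨?_, ?_⟩
    · have := (Subgroup.characteristic_iff_le_comap.mp
        (inferInstance : (Subgroup.upperCentralSeries P 2).Characteristic)) ϕ
      exact this hy
    · change (ϕ y) ^ p = 1
      rw [← map_pow, hy', map_one]
  have hWn : W.Normal := inferInstance
  -- P is not cyclic, so W has order at least p^2
  have hncyc : ¬ IsCyclic (⊤ : Subgroup P) := by
    intro hc
    apply hnab
    intro a b
    have h1 := (IsCyclic.isMulCommutative (α := ↥(⊤ : Subgroup P))).is_comm.comm
      ⟨a, Subgroup.mem_top a⟩ ⟨b, Subgroup.mem_top b⟩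
    exact congrArg Subtype.val h1
  obtain ⟨E₂, -, hE₂n, hE₂, hE₂c⟩ := Cfsg.Agent.S0636.result hp2 hP (⊤ : Subgroup P) hncyc
  have hE₂Z2 : E₂ ≤ Subgroup.upperCentralSeries P 2 := by
    by_cases h1 : E₂ ≤ Subgroup.upperCentralSeries P 1
    · exact h1.trans (Subgroup.upperCentralSeries_mono P (by norm_num))
    · obtain ⟨x2, hx2E, hx2Z2, hx2Z1⟩ := exists_mem_ucs_succ_not_mem E₂ 1 h1
      have h0 : ¬ E₂ ≤ Subgroup.upperCentralSeries P 0 := by
        rw [Subgroup.upperCentralSeries_zero, le_bot_iff]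
        intro hbot
        rw [hbot, Subgroup.card_bot] at hE₂c
        have : 1 < p ^ 2 := Nat.one_lt_pow (by norm_num) hpp.one_lt
        omega
      obtain ⟨x1, hx1E, hx1Z1, hx1Z0⟩ := exists_mem_ucs_succ_not_mem E₂ 0 h0
      rw [Subgroup.upperCentralSeries_zero, Subgroup.mem_bot] at hx1Z0
      have hx1ord : orderOf x1 = p := orderOf_eq_prime (hE₂.2 x1 hx1E) hx1Z0
      have hx1card : Nat.card (Subgroup.zpowers x1) = p := by rw [Nat.card_zpowers, hx1ord]
      have hx1le : Subgroup.zpowers x1 ≤ Subgroup.upperCentralSeries P 1 := by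
        rw [Subgroup.zpowers_le]; exact hx1Z1
      have hsup := Cfsg.Agent.S1453.sup_zpowers_eq hpp
        (by rw [Subgroup.zpowers_le]; exact hx1E : Subgroup.zpowers x1 ≤ E₂) hx1card hE₂c hx2E
        (fun h => hx2Z1 (hx1le h))
      rw [← hsup]
      apply sup_le
      · exact hx1le.trans (Subgroup.upperCentralSeries_mono P (by norm_num))
      · rw [Subgroup.zpowers_le]; exact hx2Z2
  have hE₂W : E₂ ≤ W := by
    intro x hx
    rw [hW]
    exact Subgroup.subset_closure ⟨hE₂Z2 hx, hE₂.2 x hx⟩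
  have hWge : p ^ 2 ≤ Nat.card W := by
    rw [← hE₂c]; exact Subgroup.card_le_of_le hE₂W
  by_cases hWab : ∀ a ∈ W, ∀ b ∈ W, a * b = b * a
  · -- W abelian: impossible
    exfalso
    have hWelem : IsElementaryAbelian p W :=
      ⟨⟨⟨fun a b => Subtype.ext (hWab a.1 a.2 b.1 b.2)⟩⟩, fun a ha => (hW1 a ha).2⟩
    have hWc : Nat.card W = p ^ 2 := le_antisymm (hrk W hWelem.1 hWelem.2) hWge
    have hWZ : ¬ W ≤ Z := by
      intro h
      have := Subgroup.card_le_of_le h
      rw [hWc, hZcard] at this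
      have h2 : p ^ 1 < p ^ 2 := Nat.pow_lt_pow_right hpp.one_lt (by norm_num)
      rw [pow_one] at h2
      omega
    obtain ⟨w, hwW, hwZ⟩ := SetLike.not_le_iff_exists.mp hWZ
    have hWsup : Z ⊔ Subgroup.zpowers w = W :=
      Cfsg.Agent.S1453.sup_zpowers_eq hpp hZW hZcard hWc hwW hwZ
    have hKeq : Subgroup.centralizer (W : Set P) = Subgroup.centralizer {w} := by
      apply le_antisymm
      · exact Subgroup.centralizer_le (Set.singleton_subset_iff.mpr hwW)
      · intro g hg
        rw [Subgroup.mem_centralizer_singleton_iff] at hg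
        rw [Subgroup.mem_centralizer_iff]
        intro y hy
        have hle : Z ⊔ Subgroup.zpowers w ≤ Subgroup.centralizer {g} := by
          apply sup_le
          · exact hZcenter.trans (Subgroup.center_le_centralizer _)
          · rw [Subgroup.zpowers_le, Subgroup.mem_centralizer_singleton_iff]
            exact hg.symm
        rw [← hWsup] at hy
        have := hle hy
        rw [Subgroup.mem_centralizer_singleton_iff] at this
        exact this
    have hKchar : (Subgroup.centralizer (W : Set P)).Characteristic := inferInstance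
    have hKn : (Subgroup.centralizer (W : Set P)).Normal := inferInstance
    have hKidx : (Subgroup.centralizer (W : Set P)).index = p := by
      rw [hKeq]
      obtain ⟨k, hk, hk'⟩ := card_eq_of_commHomC (⊤ : Subgroup P) Z w hZcenter
        (fun g _ => hcommWZ' w hwW g)
      rw [hZcard] at hk
      rw [Subgroup.card_top, top_inf_eq] at hk'
      have h1 := Subgroup.card_mul_index (Subgroup.centralizer {w} : Subgroup P)
      have hpos : 0 < Nat.card (Subgroup.centralizer {w} : Subgroup P) := Nat.card_pos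
      have hidx : (Subgroup.centralizer {w} : Subgroup P).index = k := by
        have : Nat.card (Subgroup.centralizer {w} : Subgroup P) *
            (Subgroup.centralizer {w} : Subgroup P).index
            = Nat.card (Subgroup.centralizer {w} : Subgroup P) * k := by rw [h1, hk']
        exact Nat.eq_of_mul_eq_mul_left hpos this
      rw [hidx]
      rcases (Nat.dvd_prime hpp).mp hk with h | h
      · exfalso
        rw [h] at hidx
        rw [Subgroup.index_eq_one] at hidx
        apply hwZ
        apply hmemZ w _ (hW1 w hwW).2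
        rw [Subgroup.mem_center_iff]
        intro g
        have : g ∈ Subgroup.centralizer {w} := by rw [hidx]; trivial
        rw [Subgroup.mem_centralizer_singleton_iff] at this
        exact this
      · exact h
    have htop := hNT (Subgroup.centralizer (W : Set P)) hKn (fun α hα r =>
      acts_trivially_on_index_p hP _ hKidx α
        (fun x => Cfsg.Agent.Helper24.NarrowAut.char_mem_iff _ α x) (hΓ α hα) r)
    rw [htop, Subgroup.index_top] at hKidx
    exact hpp.one_lt.ne hKidx
  · -- W nonabelian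
    push Not at hWab
    obtain ⟨u, huW, v, hvW, huv⟩ := hWab
    have hu : u ^ p = 1 := (hW1 u huW).2
    have hv : v ^ p = 1 := (hW1 v hvW).2
    have huZ : u ∉ Z := fun h => huv ((Subgroup.mem_center_iff.mp (hZ1 u h).1) v).symm
    have hvZ : v ∉ Z := fun h => huv ((Subgroup.mem_center_iff.mp (hZ1 v h).1) u)
    have hZprime : Fact (Nat.card Z).Prime := ⟨by rw [hZcard]; exact hpp⟩
    let fu : (⊤ : Subgroup P) →* Z := commHomC ⊤ Z u hZcenter (fun g _ => hcommWZ' u huW g)
    let fv : (⊤ : Subgroup P) →* Z := commHomC ⊤ Z v hZcenter (fun g _ => hcommWZ' v hvW g)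
    have hfu_ker : ∀ g : (⊤ : Subgroup P), fu g = 1 ↔ (g : P) * u = u * (g : P) := fun g => by
      rw [← MonoidHom.mem_ker]; exact mem_ker_commHomC ⊤ Z u hZcenter _ g
    have hfv_ker : ∀ g : (⊤ : Subgroup P), fv g = 1 ↔ (g : P) * v = v * (g : P) := fun g => by
      rw [← MonoidHom.mem_ker]; exact mem_ker_commHomC ⊤ Z v hZcenter _ g
    have hfuv : fu ⟨v, Subgroup.mem_top v⟩ ≠ 1 := by
      rw [Ne, hfu_ker]; exact fun h => huv h.symm
    have hfvu : fv ⟨u, Subgroup.mem_top u⟩ ≠ 1 := by
      rw [Ne, hfv_ker]; exact huv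
    have hfuu : fu ⟨u, Subgroup.mem_top u⟩ = 1 := by rw [hfu_ker]
    -- decomposition
    have hdecomp : ∀ r : P, ∃ (k m : ℤ), (r * (v ^ k)⁻¹ * (u ^ m)⁻¹) * u = u * (r * (v ^ k)⁻¹ * (u ^ m)⁻¹) ∧
        (r * (v ^ k)⁻¹ * (u ^ m)⁻¹) * v = v * (r * (v ^ k)⁻¹ * (u ^ m)⁻¹) := by
      intro r
      have h1 : fu ⟨r, Subgroup.mem_top r⟩ ∈ Subgroup.zpowers (fu ⟨v, Subgroup.mem_top v⟩) :=
        mem_zpowers_of_prime_card rfl hfuv
      obtain ⟨k, hk⟩ := Subgroup.mem_zpowers_iff.mp h1
      have h2 : fu (⟨r, Subgroup.mem_top r⟩ * (⟨v, Subgroup.mem_top v⟩ ^ k)⁻¹) = 1 := by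
        rw [map_mul, map_inv, map_zpow, hk, mul_inv_cancel]
      have h3 : fv (⟨r, Subgroup.mem_top r⟩ * (⟨v, Subgroup.mem_top v⟩ ^ k)⁻¹) ∈
          Subgroup.zpowers (fv ⟨u, Subgroup.mem_top u⟩) :=
        mem_zpowers_of_prime_card rfl hfvu
      obtain ⟨m, hm⟩ := Subgroup.mem_zpowers_iff.mp h3
      have h4 : fv (⟨r, Subgroup.mem_top r⟩ * (⟨v, Subgroup.mem_top v⟩ ^ k)⁻¹ *
          (⟨u, Subgroup.mem_top u⟩ ^ m)⁻¹) = 1 := by
        rw [map_mul, map_inv, map_zpow (f := fv) _ m, hm, mul_inv_cancel]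
      have h5 : fu (⟨r, Subgroup.mem_top r⟩ * (⟨v, Subgroup.mem_top v⟩ ^ k)⁻¹ *
          (⟨u, Subgroup.mem_top u⟩ ^ m)⁻¹) = 1 := by
        rw [map_mul, h2, map_inv, map_zpow, hfuu, one_zpow, inv_one, mul_one]
      refine ⟨k, m, ?_, ?_⟩
      · have := (hfu_ker _).mp h5
        simpa using this
      · have := (hfv_ker _).mp h4
        simpa using this
    -- elements of order p centralizing u and v are central
    have hCZ : ∀ y : P, y ^ p = 1 → y * u = u * y → y * v = v * y → y ∈ Z := by
      intro y hy hyu hyv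
      by_contra hyZ
      have h1 := hU u hu huZ y hy hyu
      have h2 := hU v hv hvZ y hy hyv
      have h3 := Cfsg.Agent.S1453.sup_zpowers_eq hpp (le_sup_left : Z ≤ Z ⊔ Subgroup.zpowers u)
        hZcard (hcardZu u hu huZ) h1 hyZ
      have h4 := Cfsg.Agent.S1453.sup_zpowers_eq hpp (le_sup_left : Z ≤ Z ⊔ Subgroup.zpowers v)
        hZcard (hcardZu v hv hvZ) h2 hyZ
      have h5 : v ∈ Z ⊔ Subgroup.zpowers u := by
        rw [← h3, h4]
        exact Subgroup.mem_sup_right (Subgroup.mem_zpowers v)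
      have h6 : u ∈ Z ⊔ Subgroup.zpowers u := Subgroup.mem_sup_right (Subgroup.mem_zpowers u)
      have h7 := (elemAb_sup hZelem (hzpow u hu) (hZcent _)).1.is_comm.comm
        (⟨u, h6⟩ : (Z ⊔ Subgroup.zpowers u : Subgroup P)) ⟨v, h5⟩
      exact huv (congrArg Subtype.val h7)
    -- the centralizer of W
    have hCW : ∀ c : P, c * u = u * c → c * v = v * c → c ∈ Subgroup.centralizer (W : Set P) := by
      intro c hcu hcv
      rw [Subgroup.mem_centralizer_iff]
      intro w hw
      obtain ⟨k, m, h1, h2⟩ := hdecomp w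
      have hcw : w * (v ^ k)⁻¹ * (u ^ m)⁻¹ ∈ W :=
        W.mul_mem (W.mul_mem hw (W.inv_mem (W.zpow_mem hvW k))) (W.inv_mem (W.zpow_mem huW m))
      have hz := hCZ _ (hW1 _ hcw).2 h1 h2
      have hzc := Subgroup.mem_center_iff.mp (hZ1 _ hz).1
      have hcuk : c * u ^ m = u ^ m * c := (Commute.zpow_right (show Commute c u from hcu) m)
      have hcvk : c * v ^ k = v ^ k * c := (Commute.zpow_right (show Commute c v from hcv) k)
      have hweq : w = (w * (v ^ k)⁻¹ * (u ^ m)⁻¹) * u ^ m * v ^ k := by group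
      rw [hweq]
      have h3 := hzc c
      calc (w * (v ^ k)⁻¹ * (u ^ m)⁻¹) * u ^ m * v ^ k * c
          = (w * (v ^ k)⁻¹ * (u ^ m)⁻¹) * u ^ m * (v ^ k * c) := by group
        _ = (w * (v ^ k)⁻¹ * (u ^ m)⁻¹) * u ^ m * (c * v ^ k) := by rw [hcvk]
        _ = (w * (v ^ k)⁻¹ * (u ^ m)⁻¹) * (u ^ m * c) * v ^ k := by group
        _ = (w * (v ^ k)⁻¹ * (u ^ m)⁻¹) * (c * u ^ m) * v ^ k := by rw [hcuk]
        _ = ((w * (v ^ k)⁻¹ * (u ^ m)⁻¹) * c) * u ^ m * v ^ k := by group
        _ = (c * (w * (v ^ k)⁻¹ * (u ^ m)⁻¹)) * u ^ m * v ^ k := by rw [← h3]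
        _ = c * ((w * (v ^ k)⁻¹ * (u ^ m)⁻¹) * u ^ m * v ^ k) := by group
    have hKchar : (Subgroup.centralizer (W : Set P)).Characteristic := inferInstance
    -- the centralizer of W is cyclic
    have hKcyc : IsCyclic (Subgroup.centralizer (W : Set P)) := by
      have hKp : IsPGroup p (Subgroup.centralizer (W : Set P)) := hP.to_subgroup _
      have hUK : ∀ y z : Subgroup.centralizer (W : Set P), orderOf y = p → orderOf z = p →
          z ∈ Subgroup.zpowers y := by
        intro y z hy hz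
        have hyc : ∀ w ∈ W, (y : P) * w = w * (y : P) := fun w hw =>
          ((Subgroup.mem_centralizer_iff.mp y.2) w hw).symm
        have hzc : ∀ w ∈ W, (z : P) * w = w * (z : P) := fun w hw =>
          ((Subgroup.mem_centralizer_iff.mp z.2) w hw).symm
        have hyp : (y : P) ^ p = 1 := by
          have := pow_orderOf_eq_one y
          rw [hy] at this
          have h2 := congrArg Subtype.val this
          rwa [Subgroup.coe_pow, Subgroup.coe_one] at h2
        have hzp : (z : P) ^ p = 1 := by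
          have := pow_orderOf_eq_one z
          rw [hz] at this
          have h2 := congrArg Subtype.val this
          rwa [Subgroup.coe_pow, Subgroup.coe_one] at h2
        have hyZ := hCZ _ hyp (hyc u huW) (hyc v hvW)
        have hzZ := hCZ _ hzp (hzc u huW) (hzc v hvW)
        have hy1 : (⟨(y : P), hyZ⟩ : Z) ≠ 1 := by
          intro h
          have h2 : (y : P) = 1 := congrArg Subtype.val h
          have h3 : y = 1 := Subtype.ext h2
          rw [h3, orderOf_one] at hy
          exact hpp.one_lt.ne hy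
        have h1 : (⟨(z : P), hzZ⟩ : Z) ∈ Subgroup.zpowers (⟨(y : P), hyZ⟩ : Z) :=
          mem_zpowers_of_prime_card rfl hy1
        obtain ⟨k, hk⟩ := Subgroup.mem_zpowers_iff.mp h1
        rw [Subgroup.mem_zpowers_iff]
        refine ⟨k, ?_⟩
        apply Subtype.ext
        have h2 := congrArg Subtype.val hk
        rw [Subgroup.coe_zpow] at h2 ⊢
        exact h2
      have h1 := Cfsg.Agent.Helper49.isCyclic_of_unique_order_p hp2 hUK ⊤
        (hKp.to_subgroup _)
      exact isCyclic_of_surjective (Subgroup.topEquiv : (⊤ : Subgroup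
        (Subgroup.centralizer (W : Set P))) ≃* _) Subgroup.topEquiv.surjective
    -- Γ acts trivially modulo W
    have htop := hNT W hWn (fun α hα r => by
      obtain ⟨k, m, h1, h2⟩ := hdecomp r
      have hc := hCW _ h1 h2
      have hfix := fixes_cyclic_char hP _ hKcyc α (hΓ α hα) _ hc
      have hwW : u ^ m * v ^ k ∈ W := W.mul_mem (W.zpow_mem huW m) (W.zpow_mem hvW k)
      have hαw : α (u ^ m * v ^ k) ∈ W :=
        (Cfsg.Agent.Helper24.NarrowAut.char_mem_iff W α _).mpr hwW
      have hreq : r = (r * (v ^ k)⁻¹ * (u ^ m)⁻¹) * (u ^ m * v ^ k) := by group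
      have h3 : α r * r⁻¹ = (r * (v ^ k)⁻¹ * (u ^ m)⁻¹) *
          (α (u ^ m * v ^ k) * (u ^ m * v ^ k)⁻¹) * (r * (v ^ k)⁻¹ * (u ^ m)⁻¹)⁻¹ := by
        conv_lhs => rw [hreq, map_mul, hfix]
        group
      rw [h3]
      exact hWn.conj_mem _ (W.mul_mem hαw (W.inv_mem hwW)) _)
    -- |W| = p^3
    obtain ⟨k, hk, hk'⟩ := card_eq_of_commHomC W Z u hZcenter (fun g hg => hcommWZ' u huW g)
    rw [hZcard] at hk
    have hWC : (W ⊓ Subgroup.centralizer {u} : Subgroup P) = Z ⊔ Subgroup.zpowers u := by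
      apply le_antisymm
      · intro y hy
        obtain ⟨hyW, hyu⟩ := Subgroup.mem_inf.mp hy
        rw [Subgroup.mem_centralizer_singleton_iff] at hyu
        exact hU u hu huZ y (hW1 y hyW).2 hyu
      · apply sup_le
        · exact le_inf hZW (hZcenter.trans (Subgroup.center_le_centralizer _))
        · rw [Subgroup.zpowers_le]
          refine Subgroup.mem_inf.mpr ⟨huW, ?_⟩
          rw [Subgroup.mem_centralizer_singleton_iff]
    rw [hWC, hcardZu u hu huZ] at hk'
    have hkp : k = p := by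
      rcases (Nat.dvd_prime hpp).mp hk with h | h
      · exfalso
        rw [h, mul_one] at hk'
        have hle : W ≤ Z ⊔ Subgroup.zpowers u := by
          have := Subgroup.eq_of_le_of_card_ge
            (sup_le hZW (by rw [Subgroup.zpowers_le]; exact huW) : Z ⊔ Subgroup.zpowers u ≤ W)
            (by rw [hk', hcardZu u hu huZ])
          rw [this]
        have h5 := hle hvW
        have h6 : u ∈ Z ⊔ Subgroup.zpowers u := Subgroup.mem_sup_right (Subgroup.mem_zpowers u)
        have h7 := (elemAb_sup hZelem (hzpow u hu) (hZcent _)).1.is_comm.comm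
          (⟨u, h6⟩ : (Z ⊔ Subgroup.zpowers u : Subgroup P)) ⟨v, h5⟩
        exact huv (congrArg Subtype.val h7)
      · exact h
    rw [hkp] at hk'
    rw [← Subgroup.card_top (G := P), ← htop, hk']
    ring

end Cfsg.Agent.Helper24.RankTwoCube
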