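import Mathlib
import Cfsg.Agent.Lib.Helper76.RuZDefs

/-!
# RUZ server (helper76, S3174): piece (FREE2) `cyclic_of_norm`

`V = W / F` is elementary abelian of order `2^8` with `T` acting; if the "norm" `nrm x y z w` of `w ∈ W` is not
in `F` then `w` generates `V` as a `T`-module and `(1+z) V` has order at least 16.

Abstract part: a finite commutative group `A` of exponent 2 with a group `G` acting (`c : G →* MulAut A`),
`φ_g v = v * g v`; for a `g`-invariant subgroup `N` with `g g` acting trivially `|φ_g N|^2 ≤ |N|`.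
-/

set_option autoImplicit false

namespace Cfsg.Agent.Helper24.RuZ

open Cfsg.Agent.Helper76.RuZ

section Abs

variable {A : Type*} [CommGroup A] {G : Type*} [Group G]

/-- `1 + g` on the commutative group `A`. -/
def h24phi (c : G →* MulAut A) (g : G) : A →* A where
  toFun v := v * c g v
  map_one' := by simp
  map_mul' u v := by simp [mul_mul_mul_comm]

@[simp] theorem h24phi_apply (c : G →* MulAut A) (g : G) (v : A) : h24phi c g v = v * c g v := rfl

/-- the `G`-submodule generated by `a`. -/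
def h24gcl (c : G →* MulAut A) (a : A) : Subgroup A :=
  Subgroup.closure (Set.range fun t : G => c t a)

theorem h24_mem_gcl (c : G →* MulAut A) (a : A) : a ∈ h24gcl c a := by
  refine Subgroup.subset_closure ⟨1, ?_⟩
  simp

theorem h24_gcl_inv (c : G →* MulAut A) (a : A) (t : G) :
    (h24gcl c a).map (c t).toMonoidHom ≤ h24gcl c a := by
  unfold h24gcl
  rw [MonoidHom.map_closure, Subgroup.closure_le]
  rintro _ ⟨_, ⟨s, rfl⟩, rfl⟩
  refine Subgroup.subset_closure ⟨t * s, ?_⟩
  simp [map_mul]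

/-- the counting lemma. -/
theorem h24_card_map_sq_le [Finite A] (ψ : A →* A) (N : Subgroup A) (hN : N.map ψ ≤ N)
    (hψ : ∀ v ∈ N, ψ (ψ v) = 1) : Nat.card (N.map ψ) ^ 2 ≤ Nat.card N := by
  let ρ : ↥N →* A := ψ.comp N.subtype
  have h1 : Nat.card ρ.ker * Nat.card ρ.range = Nat.card N := by
    rw [← Subgroup.index_ker]
    exact Subgroup.card_mul_index _
  have h2 : ρ.range = N.map ψ := by
    rw [MonoidHom.range_comp, Subgroup.range_subtype]
  have h3 : Nat.card (N.map ψ) ≤ Nat.card ρ.ker := by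
    have hmem : ∀ m : ↥(N.map ψ), (⟨m.1, hN m.2⟩ : ↥N) ∈ ρ.ker := by
      rintro ⟨m, hm⟩
      obtain ⟨v, hv, rfl⟩ := hm
      rw [MonoidHom.mem_ker]
      exact hψ v hv
    refine Nat.card_le_card_of_injective (fun m => (⟨⟨m.1, hN m.2⟩, hmem m⟩ : ↥ρ.ker)) ?_
    intro m m' h
    have := congrArg (fun u : ↥ρ.ker => ((u : ↥N) : A)) h
    exact Subtype.ext this
  rw [h2] at h1
  calc Nat.card (N.map ψ) ^ 2 = Nat.card (N.map ψ) * Nat.card (N.map ψ) := sq _
    _ ≤ Nat.card ρ.ker * Nat.card (N.map ψ) := Nat.mul_le_mul_right _ h3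
    _ = Nat.card N := h1

theorem h24_map_phi_le (c : G →* MulAut A) (g : G) (N : Subgroup A)
    (hN : N.map (c g).toMonoidHom ≤ N) : N.map (h24phi c g) ≤ N := by
  rintro _ ⟨v, hv, rfl⟩
  exact N.mul_mem hv (hN ⟨v, hv, rfl⟩)

theorem h24_phi_phi (h2 : ∀ a : A, a * a = 1) (c : G →* MulAut A) (g : G) (hgg : c (g * g) = 1)
    (v : A) : h24phi c g (h24phi c g v) = 1 := by
  have h : c g (c g v) = v := by
    have := congrArg (fun f : MulAut A => f v) hgg
    simpa [map_mul] using this
  simp only [h24phi_apply, map_mul, h]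
  calc v * c g v * (c g v * v) = (v * v) * (c g v * c g v) := by
        rw [mul_comm (c g v) v, mul_mul_mul_comm]
    _ = 1 := by rw [h2, h2, one_mul]

/-- the abstract statement. -/
theorem h24_abs_main [Finite A] (h2 : ∀ a : A, a * a = 1) (c : G →* MulAut A) (gx gy gz : G)
    (hzz : c (gz * gz) = 1) (hxx : c (gx * gx) = 1) (hyy : c (gy * gy) = 1)
    (hzcent : ∀ t : G, c (t * gz) = c (gz * t))
    (hyx : c (gy * gx) = c (gx * gz * gy))
    (a : A) (ha : h24phi c gy (h24phi c gx (h24phi c gz a)) ≠ 1) :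
    2 ^ 8 ≤ Nat.card (h24gcl c a) ∧ 16 ≤ Nat.card (h24gcl c (a * c gz a)) := by
  -- commutation of `φ_z` with the action
  have hcz : ∀ (t : G) (v : A), c t (c gz v) = c gz (c t v) := by
    intro t v
    have := congrArg (fun f : MulAut A => f v) (hzcent t)
    simpa [map_mul] using this
  have hzfix : ∀ v : A, c gz (h24phi c gz v) = h24phi c gz v := by
    intro v
    have h : c gz (c gz v) = v := by
      have := congrArg (fun f : MulAut A => f v) hzz
      simpa [map_mul] using this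
    simp only [h24phi_apply, map_mul, h]
    exact mul_comm _ _
  have hphiz_comm : ∀ (t : G) (v : A), c t (h24phi c gz v) = h24phi c gz (c t v) := by
    intro t v
    simp only [h24phi_apply, map_mul, hcz]
  have hy_comm : ∀ v : A, c gy (h24phi c gx (h24phi c gz v)) =
      h24phi c gx (h24phi c gz (c gy v)) := by
    intro v
    have h1 : c gy (c gx (h24phi c gz v)) = c gx (h24phi c gz (c gy v)) := by
      have := congrArg (fun f : MulAut A => f (h24phi c gz v)) hyx
      simp only [map_mul, MulAut.mul_apply] at this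
      rw [this, hphiz_comm gy v, hzfix]
    rw [h24phi_apply c gx, map_mul, h1, hphiz_comm gy v]
    rfl
  set N0 := h24gcl c a with hN0
  set N1 := N0.map (h24phi c gz) with hN1
  set N2 := N1.map (h24phi c gx) with hN2
  set N3 := N2.map (h24phi c gy) with hN3
  have hN0inv : ∀ t : G, N0.map (c t).toMonoidHom ≤ N0 := fun t => h24_gcl_inv c a t
  have hN1inv : ∀ t : G, N1.map (c t).toMonoidHom ≤ N1 := by
    intro t
    rintro _ ⟨_, ⟨v, hv, rfl⟩, rfl⟩
    refine ⟨c t v, hN0inv t ⟨v, hv, rfl⟩, ?_⟩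
    exact (hphiz_comm t v).symm
  have hN2inv : N2.map (c gy).toMonoidHom ≤ N2 := by
    rintro _ ⟨_, ⟨_, ⟨v, hv, rfl⟩, rfl⟩, rfl⟩
    refine ⟨h24phi c gz (c gy v), ⟨c gy v, hN0inv gy ⟨v, hv, rfl⟩, rfl⟩, ?_⟩
    exact (hy_comm v).symm
  have c1 : Nat.card N1 ^ 2 ≤ Nat.card N0 :=
    h24_card_map_sq_le _ N0 (h24_map_phi_le c gz N0 (hN0inv gz)) (fun v _ => h24_phi_phi h2 c gz hzz v)
  have c2 : Nat.card N2 ^ 2 ≤ Nat.card N1 :=
    h24_card_map_sq_le _ N1 (h24_map_phi_le c gx N1 (hN1inv gx)) (fun v _ => h24_phi_phi h2 c gx hxx v)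
  have c3 : Nat.card N3 ^ 2 ≤ Nat.card N2 :=
    h24_card_map_sq_le _ N2 (h24_map_phi_le c gy N2 hN2inv) (fun v _ => h24_phi_phi h2 c gy hyy v)
  have c4 : 2 ≤ Nat.card N3 := by
    have hmem : h24phi c gy (h24phi c gx (h24phi c gz a)) ∈ N3 :=
      ⟨_, ⟨_, ⟨a, h24_mem_gcl c a, rfl⟩, rfl⟩, rfl⟩
    have hne : N3 ≠ ⊥ := by
      intro hbot
      rw [hbot, Subgroup.mem_bot] at hmem
      exact ha hmem
    have h1 : Nat.card N3 ≠ 1 := fun h => hne (Subgroup.card_eq_one.mp h)
    have h0 : 0 < Nat.card N3 := Nat.card_pos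
    omega
  have hN1eq : N1 = h24gcl c (a * c gz a) := by
    rw [hN1, hN0]
    unfold h24gcl
    rw [MonoidHom.map_closure]
    congr 1
    ext u
    constructor
    · rintro ⟨_, ⟨t, rfl⟩, rfl⟩
      exact ⟨t, by simp only [h24phi_apply, map_mul, hcz]⟩
    · rintro ⟨t, rfl⟩
      exact ⟨c t a, ⟨t, rfl⟩, by simp only [h24phi_apply, map_mul, hcz]⟩
  rw [← hN1eq]
  have e2 : 4 ≤ Nat.card N2 := by nlinarith
  have e1 : 16 ≤ Nat.card N1 := by nlinarith
  have e0 : 256 ≤ Nat.card N0 := by nlinarith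
  exact ⟨by norm_num; exact e0, e1⟩

end Abs

section Mid

variable {G : Type*} [Group G] [Finite G]

/-- ambient form: `V` a normal elementary abelian 2-subgroup of `G`. -/
theorem h24_mid (V : Subgroup G) [V.Normal] (hab : ∀ a ∈ V, ∀ b ∈ V, a * b = b * a)
    (hsq : ∀ a ∈ V, a * a = 1) (gx gy gz : G)
    (hzz : gz * gz ∈ V) (hxx : gx * gx ∈ V) (hyy : gy * gy ∈ V)
    (hzc : ∀ t : G, t * gz * t⁻¹ * gz⁻¹ ∈ V)
    (hyx : gy * gx * gy⁻¹ * (gx * gz)⁻¹ ∈ V)
    (b : G) (hb : b ∈ V) (hn : nrm gx gy gz b ≠ 1) :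
    2 ^ 8 ≤ Nat.card (Subgroup.normalClosure {b}) ∧
      16 ≤ Nat.card (Subgroup.normalClosure {dz gz b}) := by
  let _ : CommGroup ↥V :=
    { (inferInstance : Group ↥V) with mul_comm := fun a b => Subtype.ext (hab a a.2 b b.2) }
  let c : G →* MulAut ↥V := MulAut.conjNormal
  have hc1 : ∀ u ∈ V, c u = 1 := by
    intro u hu
    ext v
    simp only [c, MulAut.conjNormal_apply, MulAut.one_apply]
    rw [hab u hu v v.2]
    group
  have hcW : ∀ s t : G, s * t⁻¹ ∈ V → c s = c t := by
    intro s t h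
    have e : s = (s * t⁻¹) * t := by group
    rw [e, map_mul, hc1 _ h, one_mul]
  have h2 : ∀ a : ↥V, a * a = 1 := fun a => Subtype.ext (hsq a a.2)
  have hzcent : ∀ t : G, c (t * gz) = c (gz * t) := by
    intro t
    refine hcW _ _ ?_
    have e : t * gz * (gz * t)⁻¹ = t * gz * t⁻¹ * gz⁻¹ := by group
    rw [e]
    exact hzc t
  have hyx' : c (gy * gx) = c (gx * gz * gy) := by
    refine hcW _ _ ?_
    have e : gy * gx * (gx * gz * gy)⁻¹ = gy * gx * gy⁻¹ * (gx * gz)⁻¹ := by group
    rw [e]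
    exact hyx
  have hne : h24phi c gy (h24phi c gx (h24phi c gz (⟨b, hb⟩ : ↥V))) ≠ 1 := by
    intro h
    apply hn
    have := congrArg (fun u : ↥V => (u : G)) h
    simpa [c, MulAut.conjNormal_apply, nrm] using this
  have key := h24_abs_main h2 c gx gy gz (hc1 _ hzz) (hc1 _ hxx) (hc1 _ hyy) hzcent hyx'
    ⟨b, hb⟩ hne
  have hgcl : ∀ (d : G) (hd : d ∈ V),
      (h24gcl c ⟨d, hd⟩).map V.subtype = Subgroup.normalClosure {d} := by
    intro d hd
    unfold h24gcl
    rw [MonoidHom.map_closure]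
    show _ = Subgroup.closure (Group.conjugatesOfSet {d})
    congr 1
    ext u
    constructor
    · rintro ⟨_, ⟨t, rfl⟩, rfl⟩
      rw [Group.mem_conjugatesOfSet_iff]
      refine ⟨d, rfl, ?_⟩
      rw [isConj_iff]
      exact ⟨t, by simp [c, MulAut.conjNormal_apply]⟩
    · intro hu
      rw [Group.mem_conjugatesOfSet_iff] at hu
      obtain ⟨d', hd', hconj⟩ := hu
      rw [Set.mem_singleton_iff] at hd'
      subst hd'
      rw [isConj_iff] at hconj
      obtain ⟨t, rfl⟩ := hconj
      exact ⟨c t ⟨d', hd⟩, ⟨t, rfl⟩, by simp [c, MulAut.conjNormal_apply]⟩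
  have hcard : ∀ (d : G) (hd : d ∈ V),
      Nat.card (h24gcl c ⟨d, hd⟩) = Nat.card (Subgroup.normalClosure {d}) := by
    intro d hd
    rw [← hgcl d hd]
    exact (Subgroup.card_map_of_injective V.subtype_injective).symm
  have hdz : dz gz b ∈ V := by
    unfold dz
    exact V.mul_mem hb (Subgroup.Normal.conj_mem inferInstance b hb gz)
  have e : ((⟨b, hb⟩ : ↥V) * c gz ⟨b, hb⟩) = ⟨dz gz b, hdz⟩ :=
    Subtype.ext (by simp [c, MulAut.conjNormal_apply, dz])
  rw [e, hcard, hcard] at key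
  exact key

end Mid

section Top

variable {T : Type*} [Group T] [Finite T]

omit [Finite T] in
theorem h24_card_map_mk (F H : Subgroup T) [F.Normal] (hFH : F ≤ H) :
    Nat.card (H.map (QuotientGroup.mk' F)) * Nat.card F = Nat.card H := by
  have h1 := Subgroup.relIndex_ker (K := H) (QuotientGroup.mk' F)
  rw [QuotientGroup.ker_mk'] at h1
  rw [← h1]
  have h2 := Subgroup.relIndex_mul_relIndex (⊥ : Subgroup T) F H bot_le hFH
  rw [Subgroup.relIndex_bot_left, Subgroup.relIndex_bot_left] at h2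
  rw [mul_comm]
  exact h2

/-- (FREE2) `w` generates `V = W/F` as a `T`-module, and `(1+z)V` has order `≥ 16`. -/
theorem cyclic_of_norm (W F Z2 : Subgroup T) (x y z : T) (hc : Cfg W F Z2) (hg : Gens W F Z2 x y z)
    (hcardW : Nat.card W = 2 ^ 8 * Nat.card F)
    (w : T) (hw : w ∈ W) (hn : nrm x y z w ∉ F) :
    W ≤ Subgroup.normalClosure {w} ⊔ F ∧
      16 * Nat.card F ≤ Nat.card ↥(Subgroup.normalClosure {dz z w} ⊔ F) := by
  have := hc.nF
  have := hc.nW
  have hπs : Function.Surjective (QuotientGroup.mk' F) := QuotientGroup.mk'_surjective F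
  set π : T →* T ⧸ F := QuotientGroup.mk' F with hπ
  set V : Subgroup (T ⧸ F) := W.map π with hV
  have : V.Normal := Subgroup.Normal.map hc.nW π hπs
  have hFpos : 0 < Nat.card F := Nat.card_pos
  -- `V` is elementary abelian of order `2^8`
  have hcardV : Nat.card V = 2 ^ 8 := by
    have h := h24_card_map_mk F W hc.FW
    rw [hcardW] at h
    exact Nat.eq_of_mul_eq_mul_right hFpos h
  have hab : ∀ a ∈ V, ∀ b ∈ V, a * b = b * a := by
    rintro _ ⟨a, ha, rfl⟩ _ ⟨b, hb, rfl⟩
    rw [← map_mul, ← map_mul]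
    have h := hc.comm a ha b hb
    have e : a * b = (a * b * a⁻¹ * b⁻¹) * (b * a) := by group
    rw [e, map_mul]
    have : π (a * b * a⁻¹ * b⁻¹) = 1 := (QuotientGroup.eq_one_iff _).mpr h
    rw [this, one_mul]
  have hsq : ∀ a ∈ V, a * a = 1 := by
    rintro _ ⟨a, ha, rfl⟩
    rw [← map_mul]
    exact (QuotientGroup.eq_one_iff _).mpr (hc.sq a ha)
  -- `z` is central mod `W`
  have hzc : ∀ t : T, t * z * t⁻¹ * z⁻¹ ∈ W := by
    intro t
    have hρ : ∀ a : T, a ∈ W ↔ (QuotientGroup.mk' W) a = 1 :=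
      fun a => (QuotientGroup.eq_one_iff a).symm
    have hcm : ∀ a b : T, a * b * a⁻¹ * b⁻¹ ∈ W ↔
        Commute ((QuotientGroup.mk' W) a) ((QuotientGroup.mk' W) b) := by
      intro a b
      rw [hρ, ← commutatorElement_eq_one_iff_commute, commutatorElement_def]
      simp only [map_mul, map_inv]
    have hx : Commute ((QuotientGroup.mk' W) x) ((QuotientGroup.mk' W) z) := (hcm x z).mp hg.xz
    have hy : Commute ((QuotientGroup.mk' W) y) ((QuotientGroup.mk' W) z) := (hcm y z).mp hg.yz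
    have hz : Commute ((QuotientGroup.mk' W) z) ((QuotientGroup.mk' W) z) := Commute.refl _
    obtain ⟨g, hgs, hgt⟩ := hg.cover t
    have htg : (QuotientGroup.mk' W) t = (QuotientGroup.mk' W) g := by
      have h := (hρ _).mp hgt
      rw [map_mul, map_inv] at h
      exact (inv_mul_eq_one.mp h).symm
    rw [hcm, htg]
    rcases hgs with rfl | rfl | rfl | rfl | rfl | rfl | rfl | rfl
    · rw [map_one]; exact Commute.one_left _
    · exact hz
    · exact hx
    · rw [map_mul]; exact hx.mul_left hz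
    · exact hy
    · rw [map_mul]; exact hy.mul_left hz
    · rw [map_mul]; exact hy.mul_left hx
    · rw [map_mul, map_mul]; exact (hy.mul_left hx).mul_left hz
  have hmid := h24_mid V hab hsq (π x) (π y) (π z)
    (by rw [← map_mul]; exact Subgroup.mem_map_of_mem _ hg.zsq)
    (by rw [← map_mul]; exact Subgroup.mem_map_of_mem _ hg.xsq)
    (by rw [← map_mul]; exact Subgroup.mem_map_of_mem _ hg.ysq)
    (by
      intro t
      obtain ⟨t, rfl⟩ := hπs t
      rw [← map_mul, ← map_inv, ← map_mul, ← map_inv, ← map_mul]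
      exact Subgroup.mem_map_of_mem _ (hzc t))
    (by
      rw [← map_mul, ← map_inv, ← map_mul, ← map_mul, ← map_inv, ← map_mul]
      exact Subgroup.mem_map_of_mem _ hg.yx)
    (π w) (Subgroup.mem_map_of_mem _ hw)
    (by
      intro h
      apply hn
      have e : nrm (π x) (π y) (π z) (π w) = π (nrm x y z w) := by
        simp only [nrm, map_mul, map_inv]
      rw [e] at h
      exact (QuotientGroup.eq_one_iff _).mp h)
  obtain ⟨h8, h16⟩ := hmid
  have hmapN : ∀ d : T, (Subgroup.normalClosure {d}).map π = Subgroup.normalClosure {π d} := by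
    intro d
    rw [Subgroup.map_normalClosure _ _ hπs, Set.image_singleton]
  constructor
  · -- `V0 = V`
    have hle : Subgroup.normalClosure {π w} ≤ V :=
      Subgroup.normalClosure_le_normal (by
        rw [Set.singleton_subset_iff]; exact Subgroup.mem_map_of_mem _ hw)
    have heq : Subgroup.normalClosure {π w} = V :=
      Subgroup.eq_of_le_of_card_ge hle (by rw [hcardV]; exact h8)
    have h1 : W.map π ≤ (Subgroup.normalClosure {w}).map π := by
      rw [hmapN, heq]
    have h2 := Subgroup.map_le_map_iff.mp h1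
    rw [QuotientGroup.ker_mk'] at h2
    exact h2
  · have h := h24_card_map_mk F (Subgroup.normalClosure {dz z w} ⊔ F) le_sup_right
    rw [Subgroup.map_sup, QuotientGroup.map_mk'_self, sup_bot_eq, hmapN] at h
    have e : π (dz z w) = dz (π z) (π w) := by simp only [dz, map_mul, map_inv]
    rw [e] at h
    rw [← h]
    exact Nat.mul_le_mul_right _ h16

end Top

end Cfsg.Agent.Helper24.RuZ
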