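import Mathlib
import Cfsg.Agent.Lib.Helper76.RuZDefs
import Cfsg.Agent.Lib.Helper24.RuZFREE2

/-!
# RUZ server (helper76, S3174): piece (FREE1) `exists_norm_preimage`

Same frame as `RuZFREE2`: `V = W / F` as a commutative group `A` of exponent 2 and order `2^8` with `c : G →* MulAut A`.
Chain of fixed subgroups `A ≥ Fix(z) ≥ Fix(z,x) ≥ Fix(z,x,y)`; `φ_g : C_i → C_{i+1}` has kernel `C_{i+1}`, so
`|C_i| ≤ |C_{i+1}|^2`; `|Fix(z,x,y)| ≤ 2` forces equality everywhere and all three maps are onto.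
-/

set_option autoImplicit false

namespace Cfsg.Agent.Helper24.RuZ

open Cfsg.Agent.Helper76.RuZ

section Abs

variable {A : Type*} [CommGroup A] {G : Type*} [Group G]

/-- the common fixed points of a set of group elements. -/
def h24fix (c : G →* MulAut A) (S : Set G) : Subgroup A where
  carrier := {v | ∀ g ∈ S, c g v = v}
  one_mem' := fun g _ => map_one _
  mul_mem' := fun {a b} ha hb g hg => by rw [map_mul, ha g hg, hb g hg]
  inv_mem' := fun {a} ha g hg => by rw [map_inv, ha g hg]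

theorem h24_mem_fix (c : G →* MulAut A) (S : Set G) (v : A) :
    v ∈ h24fix c S ↔ ∀ g ∈ S, c g v = v := Iff.rfl

/-- the counting lemma with kernel control. -/
theorem h24_card_le_mul [Finite A] (ψ : A →* A) (N K : Subgroup A)
    (hker : ∀ v ∈ N, ψ v = 1 → v ∈ K) :
    Nat.card N ≤ Nat.card K * Nat.card (N.map ψ) := by
  let ρ : ↥N →* A := ψ.comp N.subtype
  have h1 : Nat.card ρ.ker * Nat.card ρ.range = Nat.card N := by
    rw [← Subgroup.index_ker]
    exact Subgroup.card_mul_index _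
  have h2 : ρ.range = N.map ψ := by
    rw [MonoidHom.range_comp, Subgroup.range_subtype]
  have h3 : Nat.card ρ.ker ≤ Nat.card K := by
    have hmem : ∀ u : ↥ρ.ker, ((u : ↥N) : A) ∈ K := by
      intro u
      have hu : ρ (u : ↥N) = 1 := MonoidHom.mem_ker.mp u.2
      exact hker _ (u : ↥N).2 hu
    refine Nat.card_le_card_of_injective (fun u => (⟨((u : ↥N) : A), hmem u⟩ : ↥K)) ?_
    intro u u' h
    have := congrArg (fun k : ↥K => (k : A)) h
    exact Subtype.ext (Subtype.ext this)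
  rw [h2] at h1
  rw [← h1]
  exact Nat.mul_le_mul_right _ h3

/-- if moreover `|K|^2 ≤ |N|` then `ψ` maps `N` onto `K`. -/
theorem h24_map_eq_of_card [Finite A] (ψ : A →* A) (N K : Subgroup A) (hNK : N.map ψ ≤ K)
    (hker : ∀ v ∈ N, ψ v = 1 → v ∈ K) (hcard : Nat.card K * Nat.card K ≤ Nat.card N) :
    N.map ψ = K := by
  have h := h24_card_le_mul ψ N K hker
  have hK : 0 < Nat.card K := Nat.card_pos
  have h' : Nat.card K ≤ Nat.card (N.map ψ) :=
    Nat.le_of_mul_le_mul_left (le_trans hcard h) hK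
  exact Subgroup.eq_of_le_of_card_ge hNK h'

/-- the abstract statement. -/
theorem h24_abs_free1 [Finite A] (h2 : ∀ a : A, a * a = 1) (c : G →* MulAut A) (gx gy gz : G)
    (hzz : c (gz * gz) = 1) (hxx : c (gx * gx) = 1) (hyy : c (gy * gy) = 1)
    (hzcent : ∀ t : G, c (t * gz) = c (gz * t))
    (hyx : c (gy * gx) = c (gx * gz * gy))
    (hcard : Nat.card A = 2 ^ 8)
    (hfix : Nat.card (h24fix c {gz, gx, gy}) ≤ 2)
    (s : A) (hs : s ∈ h24fix c {gz, gx, gy}) :
    ∃ a : A, h24phi c gy (h24phi c gx (h24phi c gz a)) = s := by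
  have hinv : ∀ v : A, v⁻¹ = v := fun v => inv_eq_of_mul_eq_one_left (h2 v)
  have hsq : ∀ (g : G), c (g * g) = 1 → ∀ v : A, c g (c g v) = v := by
    intro g hg v
    have := congrArg (fun f : MulAut A => f v) hg
    simpa [map_mul] using this
  have hcz : ∀ (t : G) (v : A), c t (c gz v) = c gz (c t v) := by
    intro t v
    have := congrArg (fun f : MulAut A => f v) (hzcent t)
    simpa [map_mul] using this
  have hyxv : ∀ v : A, c gy (c gx v) = c gx (c gz (c gy v)) := by
    intro v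
    have := congrArg (fun f : MulAut A => f v) hyx
    simpa [map_mul] using this
  -- kernel of `φ_g`
  have hkerφ : ∀ (g : G) (v : A), h24phi c g v = 1 → c g v = v := by
    intro g v h
    rw [h24phi_apply] at h
    have : c g v = v⁻¹ := (inv_eq_of_mul_eq_one_right h).symm
    rw [this, hinv]
  -- image of `φ_g` is fixed by `g`
  have hfixφ : ∀ (g : G), c (g * g) = 1 → ∀ v : A, c g (h24phi c g v) = h24phi c g v := by
    intro g hg v
    rw [h24phi_apply, map_mul, hsq g hg]
    exact mul_comm _ _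
  set C1 := h24fix c {gz} with hC1
  set C2 := h24fix c {gz, gx} with hC2
  set C3 := h24fix c {gz, gx, gy} with hC3
  have mem1 : ∀ v, v ∈ C1 ↔ c gz v = v := by
    intro v
    rw [hC1, h24_mem_fix]
    simp
  have mem2 : ∀ v, v ∈ C2 ↔ c gz v = v ∧ c gx v = v := by
    intro v
    rw [hC2, h24_mem_fix]
    simp
  have mem3 : ∀ v, v ∈ C3 ↔ c gz v = v ∧ c gx v = v ∧ c gy v = v := by
    intro v
    rw [hC3, h24_mem_fix]
    simp
  -- step z
  have z1 : (⊤ : Subgroup A).map (h24phi c gz) ≤ C1 := by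
    rintro _ ⟨v, _, rfl⟩
    exact (mem1 _).2 (hfixφ gz hzz v)
  have z2 : ∀ v ∈ (⊤ : Subgroup A), h24phi c gz v = 1 → v ∈ C1 :=
    fun v _ h => (mem1 v).2 (hkerφ gz v h)
  -- step x
  have x1 : C1.map (h24phi c gx) ≤ C2 := by
    rintro _ ⟨v, hv, rfl⟩
    have hvz := (mem1 v).1 hv
    refine (mem2 _).2 ⟨?_, hfixφ gx hxx v⟩
    rw [h24phi_apply, map_mul, ← hcz gx v, hvz]
  have x2 : ∀ v ∈ C1, h24phi c gx v = 1 → v ∈ C2 :=
    fun v hv h => (mem2 v).2 ⟨(mem1 v).1 hv, hkerφ gx v h⟩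
  -- step y
  have y1 : C2.map (h24phi c gy) ≤ C3 := by
    rintro _ ⟨v, hv, rfl⟩
    obtain ⟨hvz, hvx⟩ := (mem2 v).1 hv
    refine (mem3 _).2 ⟨?_, ?_, hfixφ gy hyy v⟩
    · rw [h24phi_apply, map_mul, ← hcz gy v, hvz]
    · have h := hyxv v
      rw [hvx, ← hcz gy v, hvz] at h
      rw [h24phi_apply, map_mul, hvx, ← h]
  have y2 : ∀ v ∈ C2, h24phi c gy v = 1 → v ∈ C3 := by
    intro v hv h
    obtain ⟨hvz, hvx⟩ := (mem2 v).1 hv
    exact (mem3 v).2 ⟨hvz, hvx, hkerφ gy v h⟩
  -- the chain of inequalities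
  have ctop : Nat.card (⊤ : Subgroup A) = 2 ^ 8 := by
    rw [← hcard]; exact Nat.card_congr Subgroup.topEquiv.toEquiv
  have cz := h24_card_le_mul (h24phi c gz) ⊤ C1 z2
  have cx := h24_card_le_mul (h24phi c gx) C1 C2 x2
  have cy := h24_card_le_mul (h24phi c gy) C2 C3 y2
  have iz : Nat.card ((⊤ : Subgroup A).map (h24phi c gz)) ≤ Nat.card C1 := Subgroup.card_le_of_le z1
  have ix : Nat.card (C1.map (h24phi c gx)) ≤ Nat.card C2 := Subgroup.card_le_of_le x1
  have iy : Nat.card (C2.map (h24phi c gy)) ≤ Nat.card C3 := Subgroup.card_le_of_le y1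
  have b3 : Nat.card C3 ≤ 2 := hfix
  have b2 : Nat.card C2 ≤ 4 := by nlinarith
  have b1 : Nat.card C1 ≤ 16 := by nlinarith
  have e1 : Nat.card C1 = 16 := by nlinarith
  have e2 : Nat.card C2 = 4 := by nlinarith
  have e3 : Nat.card C3 = 2 := by nlinarith
  have sz : (⊤ : Subgroup A).map (h24phi c gz) = C1 :=
    h24_map_eq_of_card _ _ _ z1 z2 (by rw [e1, ctop]; norm_num)
  have sx : C1.map (h24phi c gx) = C2 :=
    h24_map_eq_of_card _ _ _ x1 x2 (by rw [e1, e2])
  have sy : C2.map (h24phi c gy) = C3 :=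
    h24_map_eq_of_card _ _ _ y1 y2 (by rw [e2, e3])
  have hs3 : s ∈ C2.map (h24phi c gy) := by rw [sy]; exact hs
  obtain ⟨v2, hv2, rfl⟩ := hs3
  rw [← sx] at hv2
  obtain ⟨v1, hv1, rfl⟩ := hv2
  rw [← sz] at hv1
  obtain ⟨v0, _, rfl⟩ := hv1
  exact ⟨v0, rfl⟩

end Abs

section Mid

variable {G : Type*} [Group G] [Finite G]

/-- ambient form: `V` a normal elementary abelian 2-subgroup of order `2^8` of `G`. -/
theorem h24_mid_free1 (V : Subgroup G) [V.Normal] (hab : ∀ a ∈ V, ∀ b ∈ V, a * b = b * a)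
    (hsq : ∀ a ∈ V, a * a = 1) (gx gy gz : G)
    (hzz : gz * gz ∈ V) (hxx : gx * gx ∈ V) (hyy : gy * gy ∈ V)
    (hzc : ∀ t : G, t * gz * t⁻¹ * gz⁻¹ ∈ V)
    (hyx : gy * gx * gy⁻¹ * (gx * gz)⁻¹ ∈ V)
    (hcover : ∀ t : G, ∃ g : G, (g = 1 ∨ g = gz ∨ g = gx ∨ g = gx * gz ∨ g = gy ∨ g = gy * gz ∨
      g = gy * gx ∨ g = gy * gx * gz) ∧ g⁻¹ * t ∈ V)
    (hcardV : Nat.card V = 2 ^ 8)
    (hcen : Nat.card ↥(V ⊓ Subgroup.center G) ≤ 2)
    (s : G) (hsV : s ∈ V) (hsc : ∀ t : G, t * s * t⁻¹ = s) :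
    ∃ b ∈ V, nrm gx gy gz b = s := by
  let _ : CommGroup ↥V :=
    { (inferInstance : Group ↥V) with mul_comm := fun a b => Subtype.ext (hab a a.2 b b.2) }
  let c : G →* MulAut ↥V := MulAut.conjNormal
  have hc1 : ∀ u ∈ V, c u = 1 := by
    intro u hu
    ext v
    simp only [c, MulAut.conjNormal_apply, MulAut.one_apply]
    rw [hab u hu v v.2]
    group
  have hcW : ∀ s t : G, s * t⁻¹ ∈ V → c s = c t := by
    intro s t h
    have e : s = (s * t⁻¹) * t := by group
    rw [e, map_mul, hc1 _ h, one_mul]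
  have h2 : ∀ a : ↥V, a * a = 1 := fun a => Subtype.ext (hsq a a.2)
  have hzcent : ∀ t : G, c (t * gz) = c (gz * t) := by
    intro t
    refine hcW _ _ ?_
    have e : t * gz * (gz * t)⁻¹ = t * gz * t⁻¹ * gz⁻¹ := by group
    rw [e]
    exact hzc t
  have hyx' : c (gy * gx) = c (gx * gz * gy) := by
    refine hcW _ _ ?_
    have e : gy * gx * (gx * gz * gy)⁻¹ = gy * gx * gy⁻¹ * (gx * gz)⁻¹ := by group
    rw [e]
    exact hyx
  -- points fixed by `gz, gx, gy` are fixed by everything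
  have hall : ∀ v : ↥V, v ∈ h24fix c {gz, gx, gy} → ∀ t : G, c t v = v := by
    intro v hv t
    have hz : c gz v = v := hv gz (by simp)
    have hx : c gx v = v := hv gx (by simp)
    have hy : c gy v = v := hv gy (by simp)
    obtain ⟨g, hgs, hgt⟩ := hcover t
    have e : c t = c g := by
      have e1 : t = g * (g⁻¹ * t) := by group
      rw [e1, map_mul, hc1 _ hgt, mul_one]
    rw [e]
    rcases hgs with rfl | rfl | rfl | rfl | rfl | rfl | rfl | rfl
    · simp
    · exact hz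
    · exact hx
    · rw [map_mul, MulAut.mul_apply, hz, hx]
    · exact hy
    · rw [map_mul, MulAut.mul_apply, hz, hy]
    · rw [map_mul, MulAut.mul_apply, hx, hy]
    · rw [map_mul, map_mul, MulAut.mul_apply, MulAut.mul_apply, hz, hx, hy]
  have hconj : ∀ (t : G) (v : ↥V), ((c t v : ↥V) : G) = t * v * t⁻¹ := fun t v => rfl
  have hfix : Nat.card (h24fix c {gz, gx, gy}) ≤ 2 := by
    refine le_trans ?_ hcen
    have hmem : ∀ v : ↥(h24fix c {gz, gx, gy}), (((v : ↥V) : G)) ∈ V ⊓ Subgroup.center G := by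
      intro v
      refine ⟨(v : ↥V).2, ?_⟩
      show (((v : ↥V) : G)) ∈ Subgroup.center G
      rw [Subgroup.mem_center_iff]
      intro t
      have h := congrArg (fun u : ↥V => (u : G)) (hall v.1 v.2 t)
      simp only [hconj] at h
      calc t * ((v : ↥V) : G) = (t * ((v : ↥V) : G) * t⁻¹) * t := by group
        _ = ((v : ↥V) : G) * t := by rw [h]
    refine Nat.card_le_card_of_injective
      (fun v => (⟨((v : ↥V) : G), hmem v⟩ : ↥(V ⊓ Subgroup.center G))) ?_
    intro v v' h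
    have := congrArg (fun u : ↥(V ⊓ Subgroup.center G) => (u : G)) h
    exact Subtype.ext (Subtype.ext this)
  have hs : (⟨s, hsV⟩ : ↥V) ∈ h24fix c {gz, gx, gy} := by
    intro g _
    exact Subtype.ext (hsc g)
  obtain ⟨a, ha⟩ := h24_abs_free1 h2 c gx gy gz (hc1 _ hzz) (hc1 _ hxx) (hc1 _ hyy) hzcent hyx'
    hcardV hfix ⟨s, hsV⟩ hs
  refine ⟨a.1, a.2, ?_⟩
  have := congrArg (fun u : ↥V => (u : G)) ha
  simpa [c, MulAut.conjNormal_apply, nrm] using this

end Mid

section Top

variable {T : Type*} [Group T] [Finite T]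

omit [Finite T] in
/-- `z` is central mod `W`. -/
theorem h24_z_central (W F Z2 : Subgroup T) (x y z : T) (hc : Cfg W F Z2) (hg : Gens W F Z2 x y z) :
    ∀ t : T, t * z * t⁻¹ * z⁻¹ ∈ W := by
  have := hc.nW
  intro t
  have hρ : ∀ a : T, a ∈ W ↔ (QuotientGroup.mk' W) a = 1 :=
    fun a => (QuotientGroup.eq_one_iff a).symm
  have hcm : ∀ a b : T, a * b * a⁻¹ * b⁻¹ ∈ W ↔
      Commute ((QuotientGroup.mk' W) a) ((QuotientGroup.mk' W) b) := by
    intro a b
    rw [hρ, ← commutatorElement_eq_one_iff_commute, commutatorElement_def]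
    simp only [map_mul, map_inv]
  have hx : Commute ((QuotientGroup.mk' W) x) ((QuotientGroup.mk' W) z) := (hcm x z).mp hg.xz
  have hy : Commute ((QuotientGroup.mk' W) y) ((QuotientGroup.mk' W) z) := (hcm y z).mp hg.yz
  have hz : Commute ((QuotientGroup.mk' W) z) ((QuotientGroup.mk' W) z) := Commute.refl _
  obtain ⟨g, hgs, hgt⟩ := hg.cover t
  have htg : (QuotientGroup.mk' W) t = (QuotientGroup.mk' W) g := by
    have h := (hρ _).mp hgt
    rw [map_mul, map_inv] at h
    exact (inv_mul_eq_one.mp h).symm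
  rw [hcm, htg]
  rcases hgs with rfl | rfl | rfl | rfl | rfl | rfl | rfl | rfl
  · rw [map_one]; exact Commute.one_left _
  · exact hz
  · exact hx
  · rw [map_mul]; exact hx.mul_left hz
  · exact hy
  · rw [map_mul]; exact hy.mul_left hz
  · rw [map_mul]; exact hy.mul_left hx
  · rw [map_mul, map_mul]; exact (hy.mul_left hx).mul_left hz

/-- (FREE1) a preimage of the socle under the norm. -/
theorem exists_norm_preimage (W F Z2 : Subgroup T) (x y z : T) (hc : Cfg W F Z2) (hg : Gens W F Z2 x y z)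
    (hidx : W.index = 8) (hcardW : Nat.card W = 2 ^ 8 * Nat.card F)
    (hfix : ∀ U A : Subgroup T, F ≤ U → U ≤ W → W ≤ A →
      (∀ u ∈ U, ∀ a ∈ A, a * u * a⁻¹ * u⁻¹ ∈ F) → Nat.card U ≤ Nat.card F * 2 ^ A.index)
    (s : T) (hsW : s ∈ W) (hsF : s ∉ F) (hsT : ∀ t : T, t * s * t⁻¹ * s⁻¹ ∈ F) :
    ∃ w ∈ W, nrm x y z w * s⁻¹ ∈ F := by
  have := hc.nF
  have := hc.nW
  have hπs : Function.Surjective (QuotientGroup.mk' F) := QuotientGroup.mk'_surjective F
  set π : T →* T ⧸ F := QuotientGroup.mk' F with hπ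
  set V : Subgroup (T ⧸ F) := W.map π with hV
  have : V.Normal := Subgroup.Normal.map hc.nW π hπs
  have hFpos : 0 < Nat.card F := Nat.card_pos
  have hcardV : Nat.card V = 2 ^ 8 := by
    have h := h24_card_map_mk F W hc.FW
    rw [hcardW] at h
    exact Nat.eq_of_mul_eq_mul_right hFpos h
  have hab : ∀ a ∈ V, ∀ b ∈ V, a * b = b * a := by
    rintro _ ⟨a, ha, rfl⟩ _ ⟨b, hb, rfl⟩
    rw [← map_mul, ← map_mul]
    have h := hc.comm a ha b hb
    have e : a * b = (a * b * a⁻¹ * b⁻¹) * (b * a) := by group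
    rw [e, map_mul]
    have : π (a * b * a⁻¹ * b⁻¹) = 1 := (QuotientGroup.eq_one_iff _).mpr h
    rw [this, one_mul]
  have hsq : ∀ a ∈ V, a * a = 1 := by
    rintro _ ⟨a, ha, rfl⟩
    rw [← map_mul]
    exact (QuotientGroup.eq_one_iff _).mpr (hc.sq a ha)
  have hzc : ∀ t : T, t * z * t⁻¹ * z⁻¹ ∈ W := h24_z_central W F Z2 x y z hc hg
  -- the central part of `V` has order at most 2
  have hcen : Nat.card ↥(V ⊓ Subgroup.center (T ⧸ F)) ≤ 2 := by
    set U : Subgroup T := (V ⊓ Subgroup.center (T ⧸ F)).comap π with hU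
    have hFU : F ≤ U := by
      intro f hf
      rw [hU, Subgroup.mem_comap]
      have : π f = 1 := (QuotientGroup.eq_one_iff _).mpr hf
      rw [this]
      exact one_mem _
    have hUW : U ≤ W := by
      intro u hu
      rw [hU, Subgroup.mem_comap] at hu
      obtain ⟨w, hw, hwu⟩ := hu.1
      have h1 : π (w⁻¹ * u) = 1 := by rw [map_mul, map_inv, hwu, inv_mul_cancel]
      have h2 : w⁻¹ * u ∈ F := (QuotientGroup.eq_one_iff _).mp h1
      have e : u = w * (w⁻¹ * u) := by group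
      rw [e]
      exact W.mul_mem hw (hc.FW h2)
    have hUc : ∀ u ∈ U, ∀ a ∈ (⊤ : Subgroup T), a * u * a⁻¹ * u⁻¹ ∈ F := by
      intro u hu a _
      rw [hU, Subgroup.mem_comap] at hu
      have h1 := (Subgroup.mem_center_iff.mp hu.2) (π a)
      apply (QuotientGroup.eq_one_iff _).mp
      show π (a * u * a⁻¹ * u⁻¹) = 1
      rw [map_mul, map_mul, map_mul, map_inv, map_inv, h1]
      group
    have hb := hfix U ⊤ hFU hUW le_top hUc
    rw [Subgroup.index_top, pow_one] at hb
    have hm := h24_card_map_mk F U hFU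
    have hmap : U.map π = V ⊓ Subgroup.center (T ⧸ F) := by
      rw [hU]
      exact Subgroup.map_comap_eq_self_of_surjective hπs _
    rw [hmap] at hm
    have : Nat.card ↥(V ⊓ Subgroup.center (T ⧸ F)) * Nat.card F ≤ 2 * Nat.card F := by
      rw [hm, mul_comm 2]
      exact hb
    exact Nat.le_of_mul_le_mul_right this hFpos
  have hmid := h24_mid_free1 V hab hsq (π x) (π y) (π z)
    (by rw [← map_mul]; exact Subgroup.mem_map_of_mem _ hg.zsq)
    (by rw [← map_mul]; exact Subgroup.mem_map_of_mem _ hg.xsq)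
    (by rw [← map_mul]; exact Subgroup.mem_map_of_mem _ hg.ysq)
    (by
      intro t
      obtain ⟨t, rfl⟩ := hπs t
      rw [← map_mul, ← map_inv, ← map_mul, ← map_inv, ← map_mul]
      exact Subgroup.mem_map_of_mem _ (hzc t))
    (by
      rw [← map_mul, ← map_inv, ← map_mul, ← map_mul, ← map_inv, ← map_mul]
      exact Subgroup.mem_map_of_mem _ hg.yx)
    (by
      intro t
      obtain ⟨t, rfl⟩ := hπs t
      obtain ⟨g, hgs, hgt⟩ := hg.cover t
      refine ⟨π g, ?_, ?_⟩
      · rcases hgs with rfl | rfl | rfl | rfl | rfl | rfl | rfl | rfl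
        · left; exact map_one _
        · right; left; rfl
        · right; right; left; rfl
        · right; right; right; left; exact map_mul _ _ _
        · right; right; right; right; left; rfl
        · right; right; right; right; right; left; exact map_mul _ _ _
        · right; right; right; right; right; right; left; exact map_mul _ _ _
        · right; right; right; right; right; right; right
          rw [map_mul, map_mul]
      · rw [← map_inv, ← map_mul]
        exact Subgroup.mem_map_of_mem _ hgt)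
    hcardV hcen (π s) (Subgroup.mem_map_of_mem _ hsW)
    (by
      intro t
      obtain ⟨t, rfl⟩ := hπs t
      have h1 : π (t * s * t⁻¹ * s⁻¹) = 1 := (QuotientGroup.eq_one_iff _).mpr (hsT t)
      rw [map_mul, map_mul, map_mul, map_inv, map_inv, mul_inv_eq_one] at h1
      exact h1)
  obtain ⟨b, hbV, hb⟩ := hmid
  obtain ⟨w, hw, rfl⟩ := hbV
  refine ⟨w, hw, ?_⟩
  apply (QuotientGroup.eq_one_iff _).mp
  show π (nrm x y z w * s⁻¹) = 1
  have e : nrm (π x) (π y) (π z) (π w) = π (nrm x y z w) := by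
    simp only [nrm, map_mul, map_inv]
  rw [map_mul, map_inv, ← e, hb, mul_inv_cancel]

end Top

end Cfsg.Agent.Helper24.RuZ
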