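import Mathlib
import Cfsg.Agent.Lib.Helper17.S4017Defs
import Cfsg.Agent.Lib.Helper17.S4017FDefs
import Cfsg.Agent.Lib.Helper17.Counting

/-!
Piece (SO) `no_odd_normal` of helper17's lemma server "S4017F" (row S4017), delivered by helper24.
-/

set_option autoImplicit false

namespace Cfsg.Agent.Helper24.S4017F

open Subgroup Cfsg.Agent.Helper17.S4017

universe u

variable {G : Type u} [Group G] [Finite G] {p q : ℕ}

theorem no_odd_normal (h : Hyp p q G) (hstar : Star p q G) (hK : NoNormalCompl q G) (r : ℕ)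
    (hr : r.Prime) (hrG : r ∣ Nat.card G) (hrp : r ≠ p) (hrq : r ≠ q)
    (hquot : ∀ N : Subgroup G, ∀ _ : N.Normal, N ≠ ⊥ → IsPGroup p N → p ∣ Nat.card (G ⧸ N) →
      Concl p q (G ⧸ N))
    (N : Subgroup G) [N.Normal] (hN1 : N ≠ ⊥) (hN : N ≠ ⊤) (hqN : ¬ q ∣ Nat.card N) : False := by
  classical
  have hp := h.hp
  have hq := h.hq
  have : Fact q.Prime := ⟨hq⟩
  have : Fact p.Prime := ⟨hp⟩
  set a := (Nat.card G).factorization q with ha
  have ha1 : 1 ≤ a := hq.factorization_pos_of_dvd Nat.card_pos.ne' h.hqG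
  obtain ⟨Q⟩ : Nonempty (Sylow q G) := inferInstance
  have hcardQ : Nat.card (Q : Subgroup G) = q ^ a := Q.card_eq_multiplicity
  have hco : (Nat.card (Q : Subgroup G)).Coprime (Nat.card N) := by
    rw [hcardQ]
    exact Nat.Coprime.pow_left a ((Nat.Prime.coprime_iff_not_dvd hq).2 hqN)
  have hsup : Nat.card ↥((Q : Subgroup G) ⊔ N) = Nat.card N * q ^ a := by
    rw [Cfsg.Agent.Helper17.card_sup_of_normal_coprime (Q : Subgroup G) N hco, hcardQ]
  by_cases htop : (Q : Subgroup G) ⊔ N = ⊤
  · rw [htop, Subgroup.card_top] at hsup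
    exact hK N inferInstance hsup.symm
  -- N is a p-group
  have hqM : q ∣ Nat.card ↥((Q : Subgroup G) ⊔ N) := by
    rw [hsup]
    exact Dvd.dvd.mul_left (dvd_pow_self q (by omega)) _
  have hM := hstar _ htop hqM
  have hNM : Nat.card N ∣ Nat.card ↥((Q : Subgroup G) ⊔ N) := by
    rw [hsup]; exact Dvd.intro _ rfl
  have hNpow : Nat.card N = p ^ (Nat.card N).primeFactorsList.length := by
    refine Nat.eq_prime_pow_of_unique_prime_dvd Nat.card_pos.ne' ?_
    intro d hd hdN
    rcases hM d hd (dvd_trans hdN hNM) with h1 | h1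
    · exact h1
    · exact absurd (h1 ▸ hdN) hqN
  set k := (Nat.card N).primeFactorsList.length with hk
  have hNp : IsPGroup p N := IsPGroup.of_card hNpow
  have hrN : ¬ r ∣ Nat.card N := by
    intro hd
    rw [hNpow] at hd
    exact hrp ((Nat.prime_dvd_prime_iff_eq hr hp).1 (hr.dvd_of_dvd_pow hd))
  have hcardG : Nat.card G = Nat.card (G ⧸ N) * Nat.card N :=
    Subgroup.card_eq_card_quotient_mul_card_subgroup N
  by_cases hpq : p ∣ Nat.card (G ⧸ N)
  · have hc := hquot N inferInstance hN1 hNp hpq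
    have hrQ : r ∣ Nat.card (G ⧸ N) := by
      rw [hcardG] at hrG
      rcases (Nat.Prime.dvd_mul hr).1 hrG with h1 | h1
      · exact h1
      · exact absurd h1 hrN
    rcases hc r hr hrQ with h1 | h1
    · exact hrp h1
    · exact hrq h1
  · have hcop : Nat.Coprime (Nat.card N) N.index := by
      rw [hNpow, Subgroup.index_eq_card]
      exact Nat.Coprime.pow_left k ((Nat.Prime.coprime_iff_not_dvd hp).2 hpq)
    obtain ⟨L, hL⟩ := Subgroup.exists_right_complement'_of_coprime hcop
    have hcard : Nat.card N * Nat.card L = Nat.card G := hL.card_mul_card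
    have hLtop : L ≠ ⊤ := by
      intro hLt
      rw [hLt, Subgroup.card_top] at hcard
      have h1 : Nat.card N = 1 := by
        have hpos : 0 < Nat.card G := Nat.card_pos
        exact Nat.eq_of_mul_eq_mul_right hpos (by rw [hcard, one_mul])
      exact hN1 ((Subgroup.card_eq_one).1 h1)
    have hqL : q ∣ Nat.card L := by
      have h1 := h.hqG
      rw [← hcard] at h1
      rcases (Nat.Prime.dvd_mul hq).1 h1 with h2 | h2
      · exact absurd h2 hqN
      · exact h2
    have hrL : r ∣ Nat.card L := by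
      have h1 := hrG
      rw [← hcard] at h1
      rcases (Nat.Prime.dvd_mul hr).1 h1 with h2 | h2
      · exact absurd h2 hrN
      · exact h2
    rcases hstar L hLtop hqL r hr hrL with h1 | h1
    · exact hrp h1
    · exact hrq h1

end Cfsg.Agent.Helper24.S4017F
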