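import Mathlib
import Cfsg.Agent.Lib.Helper62.SUO0
import Cfsg.Agent.Lib.Helper13.SUOA

/-!
# SUO pieces (M3) `to_p`, (M4) `to_e1` (helper24, for helper62's server, S2282)
plus self-contained copies `h24_tv_of_orb`, `h24_QQ_tv` of (A3), (A7).
-/

set_option autoImplicit false
set_option linter.unusedSectionVars false
set_option linter.unusedVariables false
set_option quotPrecheck false

namespace Cfsg.Agent.Helper24.SUO

open Matrix Cfsg Cfsg.Agent.Helper13 Cfsg.Agent.Helper87.PsuA Cfsg.Agent.Helper62.SUO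

section A
variable {F : Type*} [Field F] [Fintype F] {q n : ℕ} (hF : Fintype.card F = q ^ 2)
  {Hs : Subgroup ↥(Cfsg.SU n F q)} {e0 : Fin n → F}

local notation "V" => Fin n → F
local notation "G" => ↥(Cfsg.SU n F q)
local notation "H" => Cfsg.hermForm n F q

include hF

theorem h24_orb_iso (h00 : H e0 e0 = 0) {x : V} (hx : x ∈ Orb Hs e0) : H x x = 0 := by
  obtain ⟨h, _, rfl⟩ := hx
  rw [H_actv]; exact h00

theorem h24_tv_of_orb (h00 : H e0 e0 = 0) {x : V} (hx : x ∈ Orb Hs e0) {c : F}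
    (hc : c ∈ MM hF Hs e0) : eich hF x 0 c ∈ Hs := by
  obtain ⟨h, hh, rfl⟩ := hx
  obtain ⟨hc1, hc2⟩ := hc
  have ha : c + c ^ q + H (0 : V) 0 = 0 := by rw [H_zero_right hF]; linear_combination hc1
  have e1 := eich_conj hF h00 (H_zero_right hF e0) ha h
  rw [actv_zero] at e1
  rw [← e1]
  exact Hs.mul_mem (Hs.mul_mem hh hc2) (Hs.inv_mem hh)

theorem h24_QQ_tv (h00 : H e0 e0 = 0) {w y : V} (hw : w ∈ QQ hF Hs e0) (hy : y ∈ Orb Hs e0)
    (hy0 : H e0 y = 0) {c : F} (hc : c ∈ MM hF Hs e0) :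
    (c * H w y) • y ∈ QQ hF Hs e0 := by
  have hyy : H y y = 0 := h24_orb_iso hF h00 hy
  have hX : eich hF y 0 c ∈ Hs := h24_tv_of_orb hF h00 hy hc
  have ha : c + c ^ q + H (0 : V) 0 = 0 := by rw [H_zero_right hF]; linear_combination hc.1
  have hXe : actv (eich hF y 0 c) e0 = e0 := by
    rw [eich_act hF hyy (H_zero_right hF y) ha, hy0, H_zero_right hF]
    module
  have hXw : actv (eich hF y 0 c) w - w = (c * H w y) • y := by
    rw [eich_act hF hyy (H_zero_right hF y) ha, H_zero_right hF]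
    module
  have := Cfsg.Agent.Helper13.SUOA.A_comm hF Hs h00
    (show w ∈ Cfsg.Agent.Helper13.SUOA.A hF Hs e0 from hw) hX hXe
  rw [hXw] at this
  exact this

end A

section M
variable {F : Type*} [Field F] [Fintype F] {q n : ℕ} (hF : Fintype.card F = q ^ 2)
  {Hs : Subgroup ↥(Cfsg.SU n F q)} {u l : ↥(Cfsg.SU n F q)} {e0 e1 p : Fin n → F} {c γ : F}

local notation "V" => Fin n → F
local notation "G" => ↥(Cfsg.SU n F q)
local notation "H" => Cfsg.hermForm n F q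

include hF

theorem h24_p_orb (hyp : Hyp hF Hs u l e0 e1 p c γ) : p ∈ Orb Hs e0 := by
  refine ⟨l⁻¹, Hs.inv_mem hyp.hl, ?_⟩
  rw [← hyp.lp, actv_inv_actv]

theorem h24_e1_orb (hyp : Hyp hF Hs u l e0 e1 p c γ) : e1 ∈ Orb Hs e0 :=
  ⟨l, hyp.hl, hyp.le0⟩

theorem h24_e0p (hyp : Hyp hF Hs u l e0 e1 p c γ) : H e0 p = 0 := by
  have h1 : H (actv l p) (actv l e0) = 0 := by rw [hyp.lp, hyp.le0]; exact hyp.e0e1
  rw [H_actv] at h1
  exact H_symm_zero hF h1

/-- (M3) A7 with `w = a • e1`, `y = p` -/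
theorem to_p (hyp : Hyp hF Hs u l e0 e1 p c γ) {a m : F} (ha : a • e1 ∈ QQ hF Hs e0)
    (hm : m ∈ MM hF Hs e0) : (m * a * γ) • p ∈ QQ hF Hs e0 := by
  have := h24_QQ_tv hF hyp.e0e0 ha (h24_p_orb hF hyp) (h24_e0p hF hyp) hm
  rw [hermForm_smul_left, hyp.e1p, ← mul_assoc] at this
  exact this

/-- (M4) A7 with `w = a • p`, `y = e1` -/
theorem to_e1 (hyp : Hyp hF Hs u l e0 e1 p c γ) {a m : F} (ha : a • p ∈ QQ hF Hs e0)
    (hm : m ∈ MM hF Hs e0) : (m * a * γ ^ q) • e1 ∈ QQ hF Hs e0 := by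
  have := h24_QQ_tv hF hyp.e0e0 ha (h24_e1_orb hF hyp) hyp.e0e1 hm
  have hpe : H p e1 = γ ^ q := by rw [← hyp.e1p, hermForm_conj hF]
  rw [hermForm_smul_left, hpe, ← mul_assoc] at this
  exact this

end M

end Cfsg.Agent.Helper24.SUO
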