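import Mathlib
import Cfsg.Agent.Lib.Helper62.SUO0
import Cfsg.Agent.Lib.Helper66.SUOA
import Cfsg.Agent.Lib.Helper3.SUOM1
import Cfsg.Agent.Lib.Helper61.SUOM2
import Cfsg.Agent.Lib.Helper74.SUOM8a
import Cfsg.Agent.Lib.Helper70.SUOM57Core
import Cfsg.Agent.Lib.Helper24.SUOM3

/-!
# SUO pieces (M5) `S_top`, (M6) `p_top`, (M7) `QQ_full`, (M8) `MM_top`, (M9) `Q_le`
(helper24, for helper62's server, S2282): the serial tail of block M, VERBATIM, in one file,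
wired from the landed pieces A5 A6 (helper66), M1 (helper3), M2 (helper61), M3 M4 (mine),
M8a (helper74) and helper70's M5 / M7 cores.
-/

set_option autoImplicit false
set_option linter.unusedSectionVars false
set_option linter.unusedVariables false
set_option quotPrecheck false

namespace Cfsg.Agent.Helper24.SUO

open Matrix Cfsg Cfsg.Agent.Helper13 Cfsg.Agent.Helper87.PsuA Cfsg.Agent.Helper62.SUO

section M
variable {F : Type*} [Field F] [Fintype F] {q n : ℕ} (hF : Fintype.card F = q ^ 2)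
  {Hs : Subgroup ↥(Cfsg.SU n F q)} {u l : ↥(Cfsg.SU n F q)} {e0 e1 p : Fin n → F} {c γ : F}

local notation "V" => Fin n → F
local notation "G" => ↥(Cfsg.SU n F q)
local notation "H" => Cfsg.hermForm n F q

include hF

/-- (M5) `S = {a | a • e1 ∈ QQ}` is an additive subgroup (A5) containing `c` (`hyp.hc`) and
`κ = c - c^q` (M1 M2), stable under `κ^2 * (γ * γ^q)` (M3 then M4 with `m = κ`); `hyp.gen` -/
theorem S_top (hyp : Hyp hF Hs u l e0 e1 p c γ) : ∀ a : F, a • e1 ∈ QQ hF Hs e0 :=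
  Cfsg.Agent.Helper70.SUO.h70_S_top_core hF hyp
    (Cfsg.Agent.Helper66.SUO.QQ_addsub hF hyp.e0e0)
    (fun {a} ha => Cfsg.Agent.Helper3.SUO.MM_of_S hF hyp ha)
    (fun {m} hm => Cfsg.Agent.Helper61.SUO.seed hF hyp hm)
    (fun {a m} ha hm => to_p hF hyp ha hm)
    (fun {a m} ha hm => to_e1 hF hyp ha hm)

/-- (M6) M3 with `a / (κ * γ)`, `m = κ` -/
theorem p_top (hyp : Hyp hF Hs u l e0 e1 p c γ) : ∀ a : F, a • p ∈ QQ hF Hs e0 := by
  intro a
  have hκ : c - c ^ q ∈ MM hF Hs e0 := Cfsg.Agent.Helper3.SUO.MM_of_S hF hyp hyp.hc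
  have h1 := to_p hF hyp (S_top hF hyp (a / ((c - c ^ q) * γ))) hκ
  have e : (c - c ^ q) * (a / ((c - c ^ q) * γ)) * γ = a := by
    field_simp [hyp.κ0, hyp.γ0]
  rw [e] at h1
  exact h1

/-- (M7) `{w | ∀ a, a • w ∈ QQ}` is a `u`-stable subspace (A5 A6) containing `p` (M6); `hyp.cyc` -/
theorem QQ_full (hyp : Hyp hF Hs u l e0 e1 p c γ) :
    ∀ w : V, H e0 w = 0 → w ∈ QQ hF Hs e0 :=
  Cfsg.Agent.Helper70.SUO.h70_QQ_full_core hF hyp
    (Cfsg.Agent.Helper66.SUO.QQ_addsub hF hyp.e0e0)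
    (fun {w} hw {h} hh hfix => Cfsg.Agent.Helper66.SUO.QQ_stab hF hyp.e0e0 hw hh hfix)
    (p_top hF hyp)

/-- (M8) M5 M1 M8a -/
theorem MM_top (hyp : Hyp hF Hs u l e0 e1 p c γ) :
    ∀ m : F, m + m ^ q = 0 → m ∈ MM hF Hs e0 := by
  intro m hm
  obtain ⟨a, ha⟩ := Cfsg.Agent.Helper74.SUO.exists_tau hF m hm
  rw [← ha]
  exact Cfsg.Agent.Helper3.SUO.MM_of_S hF hyp (S_top hF hyp a)

/-- (M9) M7 gives some `a'`; `eich e0 w a = eich e0 w a' * eich e0 0 (a - a')` (`eich_mul`), M8 -/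
theorem Q_le (hyp : Hyp hF Hs u l e0 e1 p c γ) :
    ∀ (w : V) (a : F), H e0 w = 0 → a + a ^ q + H w w = 0 → eich hF e0 w a ∈ Hs := by
  intro w a hw ha
  have h00 := hyp.e0e0
  obtain ⟨_, a', ha', hmem⟩ := QQ_full hF hyp w hw
  have hd : (a - a') + (a - a') ^ q = 0 := by
    rw [frob_sub hF]; linear_combination ha - ha'
  obtain ⟨_, hmem2⟩ := MM_top hF hyp (a - a') hd
  have h0 : H e0 (0 : V) = 0 := H_zero_right hF e0
  have hd' : (a - a') + (a - a') ^ q + H (0 : V) 0 = 0 := by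
    rw [H_zero_right hF, add_zero]; exact hd
  have e := eich_mul hF h00 hw ha' h0 hd'
  rw [add_zero, H_zero_left hF, sub_zero, add_sub_cancel] at e
  rw [← e]
  exact Hs.mul_mem hmem hmem2

end M

end Cfsg.Agent.Helper24.SUO
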