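import Mathlib
import Cfsg.Agent.Lib.Helper62.SUO0
import Cfsg.Agent.Lib.Helper57.SUOE6Core
import Cfsg.Agent.Lib.Helper24.SUOM59

/-!
# SUO piece (E6) `core_top` (helper24, for helper62's server, S2282), VERBATIM:
helper57's `h57_core_top_of` applied to (M9) `Q_le`.
-/

set_option autoImplicit false
set_option linter.unusedSectionVars false
set_option linter.unusedVariables false
set_option quotPrecheck false

namespace Cfsg.Agent.Helper24.SUO

open Matrix Cfsg Cfsg.Agent.Helper13 Cfsg.Agent.Helper87.PsuA Cfsg.Agent.Helper62.SUO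

section E
variable {F : Type*} [Field F] [Fintype F] {q n : ℕ} (hF : Fintype.card F = q ^ 2)
  {Hs : Subgroup ↥(Cfsg.SU n F q)}

local notation "V" => Fin n → F
local notation "G" => ↥(Cfsg.SU n F q)
local notation "H" => Cfsg.hermForm n F q

include hF

/-- (E6) M9 + E5 with `t = l * l` (`H (l (l e0)) e0 = H (l e1) (l p) = γ`) -/
theorem core_top (hn : 3 ≤ n) (h32 : ¬(n = 3 ∧ q = 2)) {u l : G} {e0 e1 p : V} {c γ : F}
    (hyp : Hyp hF Hs u l e0 e1 p c γ) : Hs = ⊤ :=
  Cfsg.Agent.Helper57.SUO.h57_core_top_of hF hn h32 hyp (Q_le hF hyp)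

end E

end Cfsg.Agent.Helper24.SUO
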