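import Cfsg.Agent.Lib.Helper39.StbDefs
import Cfsg.Agent.Lib.Helper59.WeylGlue
import Cfsg.Prelude.Def_ParabolicCharacters

/-!
# STB lemma server (helper39, S2327): piece (G3a) `card_parabolic_aux`

The order of a standard parabolic subgroup: `|P_T| = |B| ∑_{w ∈ W_J} q^{n(w)}`.
-/

set_option autoImplicit false
set_option linter.unusedSectionVars false

namespace Cfsg.Agent.Helper24.Stb

open Cfsg Cfsg.Agent.Helper6 Cfsg.Agent.Helper6.Weyl Cfsg.Agent.Helper59.Poincare Cfsg.Agent.Helper39.Stb Matrix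

section Group

variable {G : Type*} [Group G] (P : Cfsg.BNPair G) {l : ℕ} (V : VDatum l)
  (ψ : P.N →* V.Wf)
  (hker : ∀ n : P.N, ψ n = 1 ↔ (n : G) ∈ P.B)
  (hS : ∀ s (hs : s ∈ P.S), ∃ i, ψ ⟨s, P.subset hs⟩ = V.σ i)
  (hS' : ∀ i, ∃ s, ∃ hs : s ∈ P.S, ψ ⟨s, P.subset hs⟩ = V.σ i)
variable (J : Fin l → Prop) [DecidablePred J] (T : Set G) (hT : T ⊆ P.S)

include hker hS hS' in
/-- (G3a) order of a parabolic subgroup -/
theorem card_parabolic_aux [Finite G]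
    (h1 : ∀ n (hn : n ∈ Subgroup.closure T),
      ((ψ ⟨n, closure_le_N P hT hn⟩ : V.Wf) : (Mat l)ˣ) ∈ V.W J)
    (h2 : ∀ w ∈ V.W J, ∃ n, ∃ hn : n ∈ Subgroup.closure T,
      ((ψ ⟨n, closure_le_N P hT hn⟩ : V.Wf) : (Mat l)ˣ) = w)
    {q : ℕ} (hq : ∀ s ∈ P.S, Nat.card (C P s) = q * Nat.card P.B) :
    Nat.card ↥(P.parabolic T) =
      Nat.card P.B * ∑ᶠ w : V.W J, q ^ V.nJ VDatum.allJ ((w : V.W J) : (Mat l)ˣ) := by
  classical
  have := finite_W V J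
  let _ : Fintype (V.W J) := Fintype.ofFinite _
  -- lifts
  choose ν hν hψν using fun w : V.W J => h2 w.1 w.2
  have hνN : ∀ w, ν w ∈ P.N := fun w => closure_le_N P hT (hν w)
  -- same image ⇒ same coset of `B`
  have hsame : ∀ (a b : P.N), ((ψ a : V.Wf) : (Mat l)ˣ) = ((ψ b : V.Wf) : (Mat l)ˣ) →
      (a : G)⁻¹ * (b : G) ∈ P.B := by
    intro a b h
    have h' : ψ (a⁻¹ * b) = 1 := by
      rw [map_mul, map_inv, inv_mul_eq_one]
      exact Subtype.ext h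
    exact (hker _).1 h'
  have hdiff : ∀ (a b : P.N), (a : G)⁻¹ * (b : G) ∈ P.B →
      ((ψ a : V.Wf) : (Mat l)ˣ) = ((ψ b : V.Wf) : (Mat l)ˣ) := by
    intro a b h
    have h' : ψ (a⁻¹ * b) = 1 := (hker _).2 h
    rw [map_mul, map_inv, inv_mul_eq_one] at h'
    rw [h']
  have hmemP : ∀ (w : V.W J) (x : G), x ∈ C P (ν w) → x ∈ P.parabolic T :=
    fun w x hx => (mem_parabolic_iff P hT x).2 ⟨ν w, hν w, hx⟩
  have hbij : Function.Bijective
      (fun p : (Σ w : V.W J, C P (ν w)) => (⟨p.2.1, hmemP p.1 p.2.1 p.2.2⟩ : ↥(P.parabolic T))) := by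
    constructor
    · rintro ⟨w, x, hx⟩ ⟨w', x', hx'⟩ h
      have hxx : x = x' := congrArg Subtype.val h
      subst hxx
      have hB := bruhat_unique P (hνN w) (hνN w') (C_eq_of_mem_of_mem P hx hx')
      have he := hdiff ⟨ν w, hνN w⟩ ⟨ν w', hνN w'⟩ hB
      have hw1 : ((ψ ⟨ν w, hνN w⟩ : V.Wf) : (Mat l)ˣ) = w.1 := hψν w
      have hw2 : ((ψ ⟨ν w', hνN w'⟩ : V.Wf) : (Mat l)ˣ) = w'.1 := hψν w'
      have hww : w = w' := Subtype.ext (by rw [← hw1, ← hw2]; exact he)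
      subst hww
      rfl
    · rintro ⟨g, hg⟩
      obtain ⟨n, hn, hgn⟩ := (mem_parabolic_iff P hT g).1 hg
      let w : V.W J := ⟨_, h1 n hn⟩
      have hw1 : ((ψ ⟨ν w, hνN w⟩ : V.Wf) : (Mat l)ˣ) = w.1 := hψν w
      have hB := hsame ⟨ν w, hνN w⟩ ⟨n, closure_le_N P hT hn⟩ hw1
      refine ⟨⟨w, g, ?_⟩, rfl⟩
      rw [C_congr P hB]
      exact hgn
  have hlen : ∀ w : V.W J, len P (ν w) = V.nJ VDatum.allJ (w : (Mat l)ˣ) := by
    intro w
    have h := Cfsg.Agent.Helper59.WeylGlue.len_eq_nJ P V ψ hker hS hS' ⟨ν w, hνN w⟩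
    have hw1 : ((ψ ⟨ν w, hνN w⟩ : V.Wf) : (Mat l)ˣ) = w.1 := hψν w
    rw [hw1] at h
    exact h
  calc Nat.card ↥(P.parabolic T)
      = Nat.card (Σ w : V.W J, C P (ν w)) := (Nat.card_congr (Equiv.ofBijective _ hbij)).symm
    _ = ∑ w : V.W J, Nat.card (C P (ν w)) := Nat.card_sigma
    _ = ∑ w : V.W J, q ^ V.nJ VDatum.allJ (w : (Mat l)ˣ) * Nat.card P.B :=
        Finset.sum_congr rfl (fun w _ => by
          rw [Cfsg.Agent.Helper59.BNCount.card_C P hq _ _ (hνN w) rfl, hlen w])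
    _ = Nat.card P.B * ∑ w : V.W J, q ^ V.nJ VDatum.allJ (w : (Mat l)ˣ) := by
        rw [Finset.mul_sum]; exact Finset.sum_congr rfl (fun w _ => by ring)
    _ = Nat.card P.B * ∑ᶠ w : V.W J, q ^ V.nJ VDatum.allJ ((w : V.W J) : (Mat l)ˣ) := by
        rw [finsum_eq_sum_of_fintype]

end Group

end Cfsg.Agent.Helper24.Stb
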