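import Cfsg.Agent.Lib.Helper39.StbDefs
import Cfsg.Agent.Lib.Helper59.WeylGlue
import Cfsg.Prelude.Def_ParabolicCharacters

/-!
# STB lemma server (helper39, S2327): piece (G5) `fixedPointCharacter_one`
-/

set_option autoImplicit false
set_option linter.unusedSectionVars false

namespace Cfsg.Agent.Helper24.Stb

open Cfsg Cfsg.Agent.Helper6 Cfsg.Agent.Helper6.Weyl Cfsg.Agent.Helper59.Poincare Cfsg.Agent.Helper39.Stb Matrix

section Group

/-- (G5) the permutation character at `1` is the index -/
theorem fixedPointCharacter_one {G : Type*} [Group G] (H : Subgroup G) :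
    Cfsg.fixedPointCharacter H 1 = (H.index : ℂ) := by
  unfold Cfsg.fixedPointCharacter
  rw [MulAction.fixedBy_one_eq_univ]
  congr 1
  rw [Subgroup.index]
  exact Nat.card_congr (Equiv.Set.univ _)

end Group

end Cfsg.Agent.Helper24.Stb
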