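import Cfsg.Agent.Lib.Helper39.StbDefs
import Cfsg.Agent.Lib.Helper59.WeylGlue
import Cfsg.Prelude.Def_ParabolicCharacters

/-!
# STB lemma server (helper39, S2327): piece (GL) `psi_mem_W`, `exists_lift_W`

`ψ` maps `⟨T⟩` onto `W_J`.
-/

set_option autoImplicit false
set_option linter.unusedSectionVars false

namespace Cfsg.Agent.Helper24.Stb

open Cfsg Cfsg.Agent.Helper6 Cfsg.Agent.Helper6.Weyl Cfsg.Agent.Helper59.Poincare Cfsg.Agent.Helper39.Stb Matrix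

section Group

variable {G : Type*} [Group G] (P : Cfsg.BNPair G) {l : ℕ} (V : VDatum l)
  (ψ : P.N →* V.Wf)
  (hker : ∀ n : P.N, ψ n = 1 ↔ (n : G) ∈ P.B)
  (hS : ∀ s (hs : s ∈ P.S), ∃ i, ψ ⟨s, P.subset hs⟩ = V.σ i)
  (hS' : ∀ i, ∃ s, ∃ hs : s ∈ P.S, ψ ⟨s, P.subset hs⟩ = V.σ i)
variable (J : Fin l → Prop) [DecidablePred J] (T : Set G) (hT : T ⊆ P.S)

/-- (GL1) `ψ` maps `⟨T⟩` into `W_J` (closure induction) -/
theorem psi_mem_W
    (hT1 : ∀ s (hs : s ∈ T), ∃ i, J i ∧ ψ ⟨s, P.subset (hT hs)⟩ = V.σ i)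
    {n : G} (hn : n ∈ Subgroup.closure T) :
    ((ψ ⟨n, closure_le_N P hT hn⟩ : V.Wf) : (Mat l)ˣ) ∈ V.W J := by
  have key : ∀ x ∈ Subgroup.closure T, ∀ hx : x ∈ P.N,
      ((ψ ⟨x, hx⟩ : V.Wf) : (Mat l)ˣ) ∈ V.W J := by
    intro x hx
    induction hx using Subgroup.closure_induction with
    | mem x hxT =>
      intro hx
      obtain ⟨i, hi, h⟩ := hT1 x hxT
      have e : (⟨x, hx⟩ : P.N) = ⟨x, P.subset (hT hxT)⟩ := rfl
      rw [e, h]
      exact V.s_mem_W J hi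
    | one =>
      intro hx
      have e : (⟨1, hx⟩ : P.N) = 1 := rfl
      rw [e, map_one]
      exact one_mem _
    | mul x y hx hy ihx ihy =>
      intro hxy
      have hxN := closure_le_N P hT hx
      have hyN := closure_le_N P hT hy
      have e : (⟨x * y, hxy⟩ : P.N) = ⟨x, hxN⟩ * ⟨y, hyN⟩ := rfl
      rw [e, map_mul, Subgroup.coe_mul]
      exact mul_mem (ihx hxN) (ihy hyN)
    | inv x hx ih =>
      intro hxi
      have hxN := closure_le_N P hT hx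
      have e : (⟨x⁻¹, hxi⟩ : P.N) = (⟨x, hxN⟩ : P.N)⁻¹ := rfl
      rw [e, map_inv, Subgroup.coe_inv]
      exact inv_mem (ih hxN)
  exact key n hn _

/-- (GL2) every element of `W_J` lifts to `⟨T⟩` -/
theorem exists_lift_W
    (hT2 : ∀ i, J i → ∃ s, ∃ hs : s ∈ T, ψ ⟨s, P.subset (hT hs)⟩ = V.σ i)
    {w : (Mat l)ˣ} (hw : w ∈ V.W J) :
    ∃ n, ∃ hn : n ∈ Subgroup.closure T,
      ((ψ ⟨n, closure_le_N P hT hn⟩ : V.Wf) : (Mat l)ˣ) = w := by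
  unfold VDatum.W at hw
  induction hw using Subgroup.closure_induction with
  | mem g hg =>
    obtain ⟨i, hi, rfl⟩ := hg
    obtain ⟨s, hs, h⟩ := hT2 i hi
    refine ⟨s, Subgroup.subset_closure hs, ?_⟩
    have e : (⟨s, closure_le_N P hT (Subgroup.subset_closure hs)⟩ : P.N) = ⟨s, P.subset (hT hs)⟩ :=
      rfl
    rw [e, h]
    rfl
  | one =>
    refine ⟨1, one_mem _, ?_⟩
    have e : (⟨1, closure_le_N P hT (one_mem _)⟩ : P.N) = 1 := rfl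
    rw [e, map_one]
    rfl
  | mul x y _ _ ihx ihy =>
    obtain ⟨n1, hn1, h1⟩ := ihx
    obtain ⟨n2, hn2, h2⟩ := ihy
    refine ⟨n1 * n2, mul_mem hn1 hn2, ?_⟩
    have e : (⟨n1 * n2, closure_le_N P hT (mul_mem hn1 hn2)⟩ : P.N) =
        ⟨n1, closure_le_N P hT hn1⟩ * ⟨n2, closure_le_N P hT hn2⟩ := rfl
    rw [e, map_mul, Subgroup.coe_mul, h1, h2]
  | inv x _ ih =>
    obtain ⟨n1, hn1, h1⟩ := ih
    refine ⟨n1⁻¹, inv_mem hn1, ?_⟩
    have e : (⟨n1⁻¹, closure_le_N P hT (inv_mem hn1)⟩ : P.N) =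
        (⟨n1, closure_le_N P hT hn1⟩ : P.N)⁻¹ := rfl
    rw [e, map_inv, Subgroup.coe_inv, h1]

end Group

end Cfsg.Agent.Helper24.Stb
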