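import Mathlib

/-!
# TH1-COREA sub-server (helper9, S3797): piece (FIB) `fiber_card`

Fibres of the squaring map `Y → W` when `N` is transitive on `W \ {1}` by conjugation.
-/

set_option autoImplicit false

namespace Cfsg.Agent.Helper24.TH1CA

open Subgroup
open scoped commutatorElement

universe u

variable {G : Type u} [Group G] [Finite G]

omit [Finite G] in
theorem h24_conj_fiber (Y N : Subgroup G) (hNY : ∀ g ∈ N, ∀ y ∈ Y, g * y * g⁻¹ ∈ Y)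
    (g : G) (hg : g ∈ N) (w : G) :
    Nat.card {y : G // y ∈ Y ∧ y ^ 2 = w} = Nat.card {y : G // y ∈ Y ∧ y ^ 2 = g * w * g⁻¹} := by
  refine Nat.card_congr ?_
  refine
    { toFun := fun y => ⟨g * y.1 * g⁻¹, hNY g hg _ y.2.1, ?_⟩
      invFun := fun y => ⟨g⁻¹ * y.1 * g, ?_, ?_⟩
      left_inv := ?_
      right_inv := ?_ }
  · rw [conj_pow, y.2.2]
  · have := hNY g⁻¹ (N.inv_mem hg) _ y.2.1
    simpa using this
  · have h : (g⁻¹ * y.1 * g) ^ 2 = g⁻¹ * y.1 ^ 2 * g := by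
      have := conj_pow (a := g⁻¹) (b := y.1) (i := 2)
      simpa using this
    rw [h, y.2.2]
    group
  · intro y
    apply Subtype.ext
    show g⁻¹ * (g * y.1 * g⁻¹) * g = y.1
    group
  · intro y
    apply Subtype.ext
    show g * (g⁻¹ * y.1 * g) * g⁻¹ = y.1
    group

/-- (FIB) fibres of the squaring map `Y → W`. -/
theorem fiber_card (W Y N : Subgroup G) (hWY : W ≤ Y)
    (hNY : ∀ g ∈ N, ∀ y ∈ Y, g * y * g⁻¹ ∈ Y)
    (htr : ∀ w ∈ W, ∀ w' ∈ W, w ≠ 1 → w' ≠ 1 → ∃ g ∈ N, g * w * g⁻¹ = w')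
    (hsq : ∀ y ∈ Y, y ^ 2 ∈ W) (hinv : ∀ y ∈ Y, y ^ 2 = 1 → y ∈ W) (hexp : ∀ w ∈ W, w ^ 2 = 1) :
    ∃ φ : ℕ, (∀ w ∈ W, w ≠ 1 → Nat.card {y : G // y ∈ Y ∧ y ^ 2 = w} = φ) ∧
      ∀ W₀ : Subgroup G, W₀ ≤ W →
        Nat.card {y : G // y ∈ Y ∧ y ^ 2 ∈ W₀} = Nat.card W + (Nat.card W₀ - 1) * φ := by
  classical
  -- the common fibre size
  obtain ⟨φ, hφ⟩ : ∃ φ : ℕ, ∀ w ∈ W, w ≠ 1 → Nat.card {y : G // y ∈ Y ∧ y ^ 2 = w} = φ := by
    by_cases h : ∃ w₀ ∈ W, w₀ ≠ 1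
    · obtain ⟨w₀, hw₀, hw₀1⟩ := h
      refine ⟨Nat.card {y : G // y ∈ Y ∧ y ^ 2 = w₀}, ?_⟩
      intro w hw hw1
      obtain ⟨g, hg, hgw⟩ := htr w₀ hw₀ w hw hw₀1 hw1
      rw [h24_conj_fiber Y N hNY g hg w₀, hgw]
    · refine ⟨0, ?_⟩
      intro w hw hw1
      exact absurd ⟨w, hw, hw1⟩ h
  refine ⟨φ, hφ, ?_⟩
  intro W₀ hW₀
  -- the fibre over `1`
  have hone : Nat.card {y : G // y ∈ Y ∧ y ^ 2 = (1 : G)} = Nat.card W := by
    refine Nat.card_congr ?_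
    refine
      { toFun := fun y => ⟨y.1, hinv y.1 y.2.1 y.2.2⟩
        invFun := fun w => ⟨w.1, hWY w.2, hexp w.1 w.2⟩
        left_inv := fun y => rfl
        right_inv := fun w => rfl }
  -- decompose along the fibres
  let _ : Fintype ↥W₀ := Fintype.ofFinite _
  have hsig : Nat.card {y : G // y ∈ Y ∧ y ^ 2 ∈ W₀} =
      ∑ w : ↥W₀, Nat.card {y : G // y ∈ Y ∧ y ^ 2 = (w : G)} := by
    let f : {y : G // y ∈ Y ∧ y ^ 2 ∈ W₀} → ↥W₀ := fun y => ⟨y.1 ^ 2, y.2.2⟩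
    rw [← Nat.card_congr (Equiv.sigmaFiberEquiv f), Nat.card_sigma]
    refine Finset.sum_congr rfl (fun w _ => Nat.card_congr ?_)
    exact
      { toFun := fun a => ⟨a.1.1, a.1.2.1, congrArg Subtype.val a.2⟩
        invFun := fun y => ⟨⟨y.1, y.2.1, by rw [y.2.2]; exact w.2⟩, Subtype.ext y.2.2⟩
        left_inv := fun a => rfl
        right_inv := fun y => rfl }
  rw [hsig]
  rw [← Finset.add_sum_erase Finset.univ _ (Finset.mem_univ (1 : ↥W₀))]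
  have h1 : Nat.card {y : G // y ∈ Y ∧ y ^ 2 = (((1 : ↥W₀) : G))} = Nat.card W := by
    rw [Subgroup.coe_one]; exact hone
  rw [h1]
  congr 1
  have h2 : ∀ w ∈ (Finset.univ : Finset ↥W₀).erase 1,
      Nat.card {y : G // y ∈ Y ∧ y ^ 2 = (w : G)} = φ := by
    intro w hw
    have hw1 : w ≠ 1 := (Finset.mem_erase.mp hw).1
    refine hφ w.1 (hW₀ w.2) ?_
    intro h
    exact hw1 (Subtype.ext h)
  rw [Finset.sum_congr rfl h2, Finset.sum_const, smul_eq_mul, Finset.card_erase_of_mem (Finset.mem_univ _),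
    Finset.card_univ, Nat.card_eq_fintype_card]

end Cfsg.Agent.Helper24.TH1CA
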