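import Mathlib
import Cfsg.Agent.Lib.Helper98.WR0
import Cfsg.Agent.S0765
import Cfsg.Agent.Lib.Helper42.WRW3

/-!
WR project (helper98 server, S2347): piece W10 `exists_mem_EGrp`.
-/

set_option autoImplicit false

namespace Cfsg.Agent.Helper24.WR

open Matrix Cfsg.Agent.Helper98.SPE Cfsg.Agent.Helper98.WR

universe u v

section WEYL

variable {F : Type*} [Field F] {n : ℕ} (ψ : AddChar F ℂ)

/-- core of W10, with W3 as a hypothesis. -/
theorem h24_exists_mem_EGrp_of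
    (hW3 : ∀ (w : Fin n ⊕ Fin n → F) (c : F),
      ∃ A : (Module.End ℂ ((Fin n → F) → ℂ))ˣ, ∀ v : Fin n ⊕ Fin n → F,
        (A : Module.End ℂ ((Fin n → F) → ℂ)) * wOp ψ v =
          wOp ψ (Cfsg.sympTransvection n w c *ᵥ v) * (A : Module.End ℂ ((Fin n → F) → ℂ)))
    (g : ↥(Matrix.symplecticGroup (Fin n) F)) :
    ∃ A : (Module.End ℂ ((Fin n → F) → ℂ))ˣ, (g, A) ∈ EGrp ψ n := by
  have hle : Subgroup.closure {A : Matrix.symplecticGroup (Fin n) F |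
      ∃ (w : Fin n ⊕ Fin n → F) (c : F),
        (A : Matrix (Fin n ⊕ Fin n) (Fin n ⊕ Fin n) F) = Cfsg.sympTransvection n w c} ≤
      Subgroup.map (MonoidHom.fst _ _) (EGrp ψ n) := by
    rw [Subgroup.closure_le]
    rintro A ⟨w, c, hA⟩
    obtain ⟨B, hB⟩ := hW3 w c
    refine ⟨(A, B), ?_, rfl⟩
    rw [SetLike.mem_coe, mem_EGrp]
    intro v
    change (B : Module.End ℂ ((Fin n → F) → ℂ)) * wOp ψ v =
      wOp ψ ((A : Matrix (Fin n ⊕ Fin n) (Fin n ⊕ Fin n) F) *ᵥ v) *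
        (B : Module.End ℂ ((Fin n → F) → ℂ))
    rw [hA]
    exact hB v
  rw [Cfsg.Agent.S0765.result] at hle
  obtain ⟨e, he, hg⟩ := hle (Subgroup.mem_top g)
  refine ⟨e.2, ?_⟩
  have : (g, e.2) = e := by
    rw [← hg]
    rfl
  rw [this]
  exact he

variable [Fintype F]

theorem exists_mem_EGrp (h2 : (2 : F) ≠ 0) (hψ : ψ 1 ≠ 1)
    (g : ↥(Matrix.symplecticGroup (Fin n) F)) :
    ∃ A : (Module.End ℂ ((Fin n → F) → ℂ))ˣ, (g, A) ∈ EGrp ψ n :=
  h24_exists_mem_EGrp_of ψ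
    (fun w c => Cfsg.Agent.Helper42.WR.exists_transvection_op ψ h2 hψ w c) g

end WEYL

end Cfsg.Agent.Helper24.WR
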