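import Mathlib
import Cfsg.Agent.Lib.Helper98.WR0

/-!
WR project (helper98 server, S2347): piece W14 `exists_odd_moved`.
-/

set_option autoImplicit false

namespace Cfsg.Agent.Helper24.WR

open Matrix Cfsg.Agent.Helper98.SPE Cfsg.Agent.Helper98.WR

universe u v

section WEYL

variable {F : Type*} [Field F] {n : ℕ} (ψ : AddChar F ℂ)

theorem h24_dot_single (i0 : Fin n) (x : Fin n → F) :
    x ⬝ᵥ ((Matrix.single i0 i0 (1 : F)) *ᵥ x) = x i0 * x i0 := by
  classical
  have h : (Matrix.single i0 i0 (1 : F)) *ᵥ x = Pi.single i0 (x i0) := by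
    funext i
    simp only [Matrix.mulVec, dotProduct, Matrix.single_apply, Pi.single_apply]
    by_cases hi : i = i0
    · subst hi
      simp
    · have : ∀ j, ¬ (i0 = i ∧ i0 = j) := fun j hj => hi hj.1.symm
      simp [this, hi]
  rw [h, dotProduct_single]

theorem h24_neg_ne_self (h2 : (2 : F) ≠ 0) (y : Fin n → F) (hy : y ≠ 0) : y ≠ -y := by
  intro h
  apply hy
  funext i
  have hi : y i = - y i := congrFun h i
  have h3 : (2 : F) * y i = 0 := by linear_combination hi
  rcases mul_eq_zero.mp h3 with h4 | h4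
  · exact absurd h4 h2
  · simpa using h4

open Classical in
theorem h24_odd_delta (y : Fin n → F) :
    (fun x : Fin n → F => (if x = y then (1 : ℂ) else 0) - (if x = -y then (1 : ℂ) else 0)) ∈ oddSub F n := by
  classical
  rw [mem_oddSub]
  intro x
  have h1 : (-x = y) ↔ (x = -y) := neg_eq_iff_eq_neg
  have h3 : (-x = -y) ↔ (x = y) := neg_inj
  simp only [h1, h3]
  ring

variable [Fintype F]

theorem exists_odd_moved (hn : 2 ≤ n) (h2 : (2 : F) ≠ 0) (hψ : ψ 1 ≠ 1) (ε : F)
    (hε : ε = 1 ∨ ε = -1) (i0 : Fin n) (c : ℂ) :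
    ∃ f ∈ oddSub F n,
      (c • mulOp (fun x : Fin n → F =>
        ψ (ε * (x ⬝ᵥ ((Matrix.single i0 i0 (1 : F)) *ᵥ x)) / 2))) f ≠ f := by
  classical
  by_contra hcon
  push Not at hcon
  -- key: c * d y = 1 for y ≠ 0
  have key : ∀ y : Fin n → F, y ≠ 0 → c * ψ (ε * (y i0 * y i0) / 2) = 1 := by
    intro y hy
    have h := hcon _ (h24_odd_delta y)
    have h' := congrFun h y
    simp only [LinearMap.smul_apply, Pi.smul_apply, smul_eq_mul, mulOp_apply, h24_dot_single] at h'
    have hne : y ≠ -y := h24_neg_ne_self h2 y hy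
    simp only [if_true, if_neg hne, sub_zero, mul_one] at h'
    exact h'
  -- c = 1
  obtain ⟨i1, hi1⟩ : ∃ i1 : Fin n, i1 ≠ i0 := by
    by_contra hno
    push Not at hno
    have hsub : Subsingleton (Fin n) := ⟨fun a b => (hno a).trans (hno b).symm⟩
    have hcard : Fintype.card (Fin n) ≤ 1 := Fintype.card_le_one_iff_subsingleton.mpr hsub
    rw [Fintype.card_fin] at hcard
    omega
  have hc : c = 1 := by
    have h := key (Pi.single i1 1) (by
      intro h0
      have := congrFun h0 i1
      simp at this)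
    have hz : (Pi.single i1 (1 : F) : Fin n → F) i0 = 0 := by
      simp [hi1.symm]
    rw [hz] at h
    simpa using h
  have hsq : ∀ t : F, ψ (ε * (t * t) / 2) = 1 := by
    intro t
    by_cases ht : t = 0
    · subst ht
      simp
    · have h := key (Pi.single i0 t) (by
        intro h0
        have := congrFun h0 i0
        simp at this
        exact ht this)
      have hz : (Pi.single i0 t : Fin n → F) i0 = t := by simp
      rw [hz, hc, one_mul] at h
      exact h
  have hε0 : ε ≠ 0 := by
    rcases hε with h | h <;> rw [h] <;> simp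
  have hall : ∀ z : F, ψ (ε * z / 2) = 1 := by
    intro z
    have e : ε * z / 2 = ε * (((z + 1) / 2) * ((z + 1) / 2)) / 2 - ε * (((z - 1) / 2) * ((z - 1) / 2)) / 2 := by
      field_simp
      ring
    rw [e, sub_eq_add_neg, AddChar.map_add_eq_mul, AddChar.map_neg_eq_inv, hsq, hsq]
    simp
  apply hψ
  have h := hall (2 / ε)
  have e : ε * (2 / ε) / 2 = 1 := by
    field_simp
  rwa [e] at h

end WEYL

end Cfsg.Agent.Helper24.WR
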